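import Mathlib
import Groth.Prelude.Def_DerCA

set_option autoImplicit false
universe v u v' u'
open CategoryTheory Limits Opposite Pretriangulated

namespace Groth.Agent.Helper3.ProTri

section General

variable {C : Type u} [Category.{v} C]

@[reassoc]
lemma tr_comp (X : ARSys.PS C) {n m k : ℕ} (h₁ : n ≤ m) (h₂ : m ≤ k) :
    ARSys.tr X h₂ ≫ ARSys.tr X h₁ = ARSys.tr X (h₁.trans h₂) := by
  dsimp [ARSys.tr]
  rw [← X.map_comp]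
  rfl

lemma tr_refl (X : ARSys.PS C) (n : ℕ) : ARSys.tr X (le_refl n) = 𝟙 _ := by
  dsimp [ARSys.tr]
  exact X.map_id _

lemma nat_tr {X Y : ARSys.PS C} (f : X ⟶ Y) {n m : ℕ} (h : n ≤ m) :
    ARSys.tr X h ≫ f.app (op n) = f.app (op m) ≫ ARSys.tr Y h :=
  f.naturality _

lemma cone_tr {X : ARSys.PS C} {A : C} (c : (Functor.const ℕᵒᵖ).obj A ⟶ X) {n m : ℕ} (h : n ≤ m) :
    c.app (op m) ≫ ARSys.tr X h = c.app (op n) := by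
  have := c.naturality (homOfLE h).op
  dsimp at this
  rw [Category.id_comp] at this
  exact this.symm

/-- Unpacked essential constancy: uniform for all large indices. -/
lemma essConstant_large {X : ARSys.PS C} {A : C} {c : (Functor.const ℕᵒᵖ).obj A ⟶ X}
    {i : ℕ} {s : X.obj (op i) ⟶ A}
    (h : ∀ j : ℕ, ∃ (k : ℕ) (hi : i ≤ k) (hj : j ≤ k),
      ARSys.tr X hj = ARSys.tr X hi ≫ s ≫ c.app (op j)) (j : ℕ) :
    ∃ k₀ : ℕ, i ≤ k₀ ∧ j ≤ k₀ ∧ ∀ (k : ℕ) (_ : k₀ ≤ k) (hi : i ≤ k) (hj : j ≤ k),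
      ARSys.tr X hj = ARSys.tr X hi ≫ s ≫ c.app (op j) := by
  obtain ⟨k₀, hi₀, hj₀, e⟩ := h j
  refine ⟨k₀, hi₀, hj₀, fun k hk hi hj => ?_⟩
  rw [← tr_comp X hj₀ hk, e, ← tr_comp X hi₀ hk, Category.assoc]

end General

section Tri

variable {D : Type u} [Category.{v} D] [Preadditive D] [HasZeroObject D] [HasShift D ℤ]
  [∀ n : ℤ, (shiftFunctor D n).Additive] [Pretriangulated D]

lemma yoneda_exact₁ (T : Triangle D) (hT : T ∈ distTriang D) {X : D} (α : T.obj₁ ⟶ X)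
    (hα : T.mor₃ ≫ α⟦(1 : ℤ)⟧' = 0) : ∃ β : T.obj₂ ⟶ X, α = T.mor₁ ≫ β := by
  have key : T.invRotate.mor₁ ≫ (show T.invRotate.obj₂ ⟶ X from α) = 0 := by
    have h1 : (T.mor₃ ≫ α⟦(1 : ℤ)⟧')⟦(-1 : ℤ)⟧' = 0 := by rw [hα, Functor.map_zero]
    rw [Functor.map_comp] at h1
    have h2 := (shiftEquiv D (1 : ℤ)).unitIso.inv.naturality α
    dsimp at h2
    change (-(shiftFunctor D (-1 : ℤ)).map T.mor₃ ≫ (shiftEquiv D (1 : ℤ)).unitIso.inv.app T.obj₁) ≫ α = 0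
    rw [Preadditive.neg_comp, neg_eq_zero, Category.assoc]
    erw [← h2]
    change (shiftFunctor D (-1 : ℤ)).map T.mor₃ ≫
      (shiftFunctor D (-1 : ℤ)).map ((shiftFunctor D (1 : ℤ)).map α) ≫ _ = 0
    rw [reassoc_of% h1, zero_comp]
  exact Triangle.yoneda_exact₂ _ (inv_rot_of_distTriang _ hT) _ key

end Tri

section Main

variable {D : Type u} [Category.{v} D] [Preadditive D] [HasZeroObject D] [HasShift D ℤ]
  [∀ n : ℤ, (shiftFunctor D n).Additive] [Pretriangulated D]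

lemma h_nat {X Z : ARSys.PS D} (h : Z ⟶ X ⋙ shiftFunctor D (1 : ℤ)) {n m : ℕ} (hnm : n ≤ m) :
    ARSys.tr Z hnm ≫ h.app (op n) = h.app (op m) ≫ (ARSys.tr X hnm)⟦(1 : ℤ)⟧' :=
  h.naturality _

theorem essConstant_middle
    (X Y Z : ARSys.PS D) (f : X ⟶ Y) (g : Y ⟶ Z) (h : Z ⟶ X ⋙ shiftFunctor D (1 : ℤ))
    (hT : ∀ n : ℕ, Triangle.mk (f.app (op n)) (g.app (op n)) (h.app (op n)) ∈ distTriang D)
    (hX : ∃ (A : D) (cA : (Functor.const ℕᵒᵖ).obj A ⟶ X), DerCA.IsEssConstant X A cA)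
    (hZ : ∃ (C : D) (cC : (Functor.const ℕᵒᵖ).obj C ⟶ Z), DerCA.IsEssConstant Z C cC) :
    ∃ (B : D) (cB : (Functor.const ℕᵒᵖ).obj B ⟶ Y), DerCA.IsEssConstant Y B cB := by
  obtain ⟨A, cA, iA, sA, hsA, hA⟩ := hX
  obtain ⟨C, cC, iC, sC, hsC, hC⟩ := hZ
  -- retractions at all large levels
  have a1 : ∀ (k : ℕ) (hk : iA ≤ k), cA.app (op k) ≫ ARSys.tr X hk ≫ sA = 𝟙 A := fun k hk => by
    rw [← Category.assoc, cone_tr, hsA]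
  have c1 : ∀ (k : ℕ) (hk : iC ≤ k), cC.app (op k) ≫ ARSys.tr Z hk ≫ sC = 𝟙 C := fun k hk => by
    rw [← Category.assoc, cone_tr, hsC]
  -- the connecting map
  obtain ⟨δ, hδ⟩ : ∃ δ : C ⟶ A⟦(1 : ℤ)⟧, δ = cC.app (op iA) ≫ h.app (op iA) ≫ sA⟦(1 : ℤ)⟧' := ⟨_, rfl⟩
  have δ1 : ∀ n : ℕ, δ ≫ (cA.app (op n))⟦(1 : ℤ)⟧' = cC.app (op n) ≫ h.app (op n) := by
    intro n
    obtain ⟨k, hik, hnk, hk⟩ := essConstant_large hA n
    have e := hk k le_rfl hik hnk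
    rw [hδ, ← cone_tr cC hik, ← cone_tr cC hnk]
    simp only [Category.assoc]
    rw [h_nat h hnk, reassoc_of% (h_nat h hik), e]
    simp only [Functor.map_comp]
  obtain ⟨k₁, hk₁C, hk₁A, hk₁⟩ := essConstant_large hC iA
  have δ2 : ∀ (k : ℕ) (_ : k₁ ≤ k) (hkA : iA ≤ k) (hkC : iC ≤ k),
      h.app (op k) ≫ (ARSys.tr X hkA)⟦(1 : ℤ)⟧' ≫ sA⟦(1 : ℤ)⟧' = ARSys.tr Z hkC ≫ sC ≫ δ := by
    intro k hk hkA hkC
    have e := hk₁ k hk hkC hkA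
    rw [hδ, ← reassoc_of% (h_nat h hkA), e]
    simp only [Category.assoc]
  -- the value
  obtain ⟨B, f', g', hT'⟩ := distinguished_cocone_triangle₂ δ
  obtain ⟨b0, hb0f, hb0g⟩ : ∃ b0 : Y.obj (op k₁) ⟶ B,
      f.app (op k₁) ≫ b0 = ARSys.tr X hk₁A ≫ sA ≫ f' ∧
      g.app (op k₁) ≫ ARSys.tr Z hk₁C ≫ sC = b0 ≫ g' := by
    have e : h.app (op k₁) ≫ (ARSys.tr X hk₁A ≫ sA)⟦(1 : ℤ)⟧' = (ARSys.tr Z hk₁C ≫ sC) ≫ δ := by
      rw [Functor.map_comp, Category.assoc]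
      exact δ2 k₁ le_rfl hk₁A hk₁C
    obtain ⟨b0, h1, h2⟩ := complete_distinguished_triangle_morphism₂ _ _ (hT k₁) hT'
      (ARSys.tr X hk₁A ≫ sA) (ARSys.tr Z hk₁C ≫ sC) e
    refine ⟨b0, ?_, ?_⟩
    · rw [← Category.assoc]; exact h1
    · exact h2
  have b1 : ∀ (m : ℕ) (hm : k₁ ≤ m), f.app (op m) ≫ ARSys.tr Y hm ≫ b0 =
      ARSys.tr X (hk₁A.trans hm) ≫ sA ≫ f' := by
    intro m hm
    rw [← reassoc_of% (nat_tr f hm), hb0f, tr_comp_assoc]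
  have b2 : ∀ (m : ℕ) (hm : k₁ ≤ m), ARSys.tr Y hm ≫ b0 ≫ g' =
      g.app (op m) ≫ ARSys.tr Z (hk₁C.trans hm) ≫ sC := by
    intro m hm
    rw [← hb0g, reassoc_of% (nat_tr g hm), tr_comp_assoc]
  -- injectivity
  have inj : ∀ {W : D} (ψ : B ⟶ W) (m : ℕ) (hm : k₁ ≤ m), ARSys.tr Y hm ≫ b0 ≫ ψ = 0 → ψ = 0 := by
    intro W ψ m hm hψ
    have e1 : f' ≫ ψ = 0 := by
      have : f' ≫ ψ = cA.app (op m) ≫ ARSys.tr X (hk₁A.trans hm) ≫ sA ≫ f' ≫ ψ := by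
        rw [reassoc_of% (a1 m (hk₁A.trans hm))]
        erw [Category.id_comp]
      rw [this, ← reassoc_of% (b1 m hm), hψ, comp_zero, comp_zero]
    obtain ⟨χ, hχ⟩ : ∃ χ : C ⟶ W, ψ = g' ≫ χ := Triangle.yoneda_exact₂ _ hT' ψ e1
    have e2 : g.app (op m) ≫ ARSys.tr Z (hk₁C.trans hm) ≫ sC ≫ χ = 0 := by
      rw [← reassoc_of% (b2 m hm), ← hχ, hψ]
    obtain ⟨ω, hω⟩ : ∃ ω : (X.obj (op m))⟦(1 : ℤ)⟧ ⟶ W,
        ARSys.tr Z (hk₁C.trans hm) ≫ sC ≫ χ = h.app (op m) ≫ ω :=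
      Triangle.yoneda_exact₃ _ (hT m) _ e2
    obtain ⟨m', hiAm', hmm', hm'⟩ := essConstant_large hA m
    have e3 := hm' m' le_rfl hiAm' hmm'
    have hk₁m' : k₁ ≤ m' := hm.trans hmm'
    have e4 : ARSys.tr Z (hk₁C.trans hk₁m') ≫ sC ≫ χ =
        ARSys.tr Z (hk₁C.trans hk₁m') ≫ sC ≫ δ ≫ (cA.app (op m))⟦(1 : ℤ)⟧' ≫ ω := by
      rw [← reassoc_of% (δ2 m' hk₁m' hiAm' (hk₁C.trans hk₁m')), ← Functor.map_comp_assoc,
        ← Functor.map_comp_assoc]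
      have : (ARSys.tr X hiAm' ≫ sA) ≫ cA.app (op m) = ARSys.tr X hmm' := by
        rw [e3, Category.assoc]
      rw [this, ← reassoc_of% (h_nat h hmm'), ← hω, tr_comp_assoc]
    have e5 : χ = δ ≫ (cA.app (op m))⟦(1 : ℤ)⟧' ≫ ω := by
      have := congrArg (fun t => cC.app (op m') ≫ t) e4
      beta_reduce at this
      rw [reassoc_of% (c1 m' (hk₁C.trans hk₁m')), reassoc_of% (c1 m' (hk₁C.trans hk₁m'))] at this
      erw [Category.id_comp, Category.id_comp] at this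
      exact this
    rw [hχ, e5]
    have : g' ≫ δ = 0 := comp_distTriang_mor_zero₂₃ _ hT'
    rw [reassoc_of% this, zero_comp]
  -- surjectivity
  have surj : ∀ {W : D} (n : ℕ) (φ : Y.obj (op n) ⟶ W),
      ∃ (m : ℕ) (hm : k₁ ≤ m) (hn : n ≤ m) (ψ : B ⟶ W),
        ARSys.tr Y hn ≫ φ = ARSys.tr Y hm ≫ b0 ≫ ψ := by
    intro W n φ
    have e0 : δ ≫ (cA.app (op n) ≫ f.app (op n) ≫ φ)⟦(1 : ℤ)⟧' = 0 := by
      rw [Functor.map_comp, reassoc_of% (δ1 n), Functor.map_comp]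
      have : h.app (op n) ≫ (f.app (op n))⟦(1 : ℤ)⟧' = 0 := comp_distTriang_mor_zero₃₁ _ (hT n)
      rw [reassoc_of% this, zero_comp, comp_zero]
    obtain ⟨ψ0, hψ0⟩ : ∃ ψ0 : B ⟶ W, cA.app (op n) ≫ f.app (op n) ≫ φ = f' ≫ ψ0 :=
      yoneda_exact₁ _ hT' _ e0
    obtain ⟨m₀, hiAm₀, hnm₀, hm₀⟩ := essConstant_large hA n
    obtain ⟨m₁, hm₁, hk₁m₁⟩ : ∃ m₁ : ℕ, m₀ ≤ m₁ ∧ k₁ ≤ m₁ := ⟨max m₀ k₁, le_max_left _ _, le_max_right _ _⟩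
    have hnm₁ : n ≤ m₁ := hnm₀.trans hm₁
    have e1 := hm₀ m₁ hm₁ (hk₁A.trans hk₁m₁) hnm₁
    have e2 : f.app (op m₁) ≫ (ARSys.tr Y hnm₁ ≫ φ - ARSys.tr Y hk₁m₁ ≫ b0 ≫ ψ0) = 0 := by
      rw [Preadditive.comp_sub, sub_eq_zero, ← reassoc_of% (nat_tr f hnm₁), e1]
      simp only [Category.assoc]
      rw [hψ0, reassoc_of% (b1 m₁ hk₁m₁)]
    obtain ⟨γ, hγ⟩ : ∃ γ : Z.obj (op m₁) ⟶ W,
        ARSys.tr Y hnm₁ ≫ φ - ARSys.tr Y hk₁m₁ ≫ b0 ≫ ψ0 = g.app (op m₁) ≫ γ :=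
      Triangle.yoneda_exact₂ _ (hT m₁) _ e2
    obtain ⟨m₂, hiCm₂, hm₁m₂, hm₂⟩ := essConstant_large hC m₁
    have e3 := hm₂ m₂ le_rfl hiCm₂ hm₁m₂
    have hk₁m₂ : k₁ ≤ m₂ := hk₁m₁.trans hm₁m₂
    refine ⟨m₂, hk₁m₂, hnm₁.trans hm₁m₂, g' ≫ cC.app (op m₁) ≫ γ + ψ0, ?_⟩
    have e4 : ARSys.tr Y hnm₁ ≫ φ = g.app (op m₁) ≫ γ + ARSys.tr Y hk₁m₁ ≫ b0 ≫ ψ0 := by
      rw [← hγ]; abel
    rw [← tr_comp Y hnm₁ hm₁m₂, Category.assoc, e4, Preadditive.comp_add, Preadditive.comp_add,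
      Preadditive.comp_add, reassoc_of% (nat_tr g hm₁m₂), e3, reassoc_of% (b2 m₂ hk₁m₂), tr_comp_assoc]
    simp only [Category.assoc]
  -- the cone
  have ex : ∀ n : ℕ, ∃ c : B ⟶ Y.obj (op n), ∃ (m : ℕ) (hm : k₁ ≤ m) (hn : n ≤ m),
      ARSys.tr Y hm ≫ b0 ≫ c = ARSys.tr Y hn := by
    intro n
    obtain ⟨m, hm, hn, ψ, e⟩ := surj n (𝟙 _)
    exact ⟨ψ, m, hm, hn, by rw [← e, Category.comp_id]⟩
  have uniq : ∀ (n : ℕ) (c c' : B ⟶ Y.obj (op n)),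
      (∃ (m : ℕ) (hm : k₁ ≤ m) (hn : n ≤ m), ARSys.tr Y hm ≫ b0 ≫ c = ARSys.tr Y hn) →
      (∃ (m : ℕ) (hm : k₁ ≤ m) (hn : n ≤ m), ARSys.tr Y hm ≫ b0 ≫ c' = ARSys.tr Y hn) → c = c' := by
    rintro n c c' ⟨m, hm, hn, e⟩ ⟨m', hm', hn', e'⟩
    rw [← sub_eq_zero]
    refine inj (c - c') (max m m') (hm.trans (le_max_left _ _)) ?_
    rw [Preadditive.comp_sub, Preadditive.comp_sub, sub_eq_zero]
    have h1 : ARSys.tr Y (hm.trans (le_max_left m m')) ≫ b0 ≫ c = ARSys.tr Y (hn.trans (le_max_left m m')) := by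
      rw [← tr_comp Y hm (le_max_left m m'), Category.assoc, e, tr_comp]
    have h2 : ARSys.tr Y (hm.trans (le_max_left m m')) ≫ b0 ≫ c' = ARSys.tr Y (hn.trans (le_max_left m m')) := by
      have : ARSys.tr Y (hm.trans (le_max_left m m')) = ARSys.tr Y (hm'.trans (le_max_right m m')) := rfl
      rw [this, ← tr_comp Y hm' (le_max_right m m'), Category.assoc, e', tr_comp]
    rw [h1, h2]
  choose cBn hcBn using ex
  have natB : ∀ (n n' : ℕ) (hnn' : n ≤ n'), cBn n' ≫ ARSys.tr Y hnn' = cBn n := by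
    intro n n' hnn'
    refine uniq n _ _ ?_ (hcBn n)
    obtain ⟨m, hm, hn', e⟩ := hcBn n'
    exact ⟨m, hm, hnn'.trans hn', by rw [reassoc_of% e, tr_comp]⟩
  let cB : (Functor.const ℕᵒᵖ).obj B ⟶ Y :=
    { app := fun n => cBn n.unop
      naturality := by
        intro n n' φ
        have hφ : φ = (homOfLE (leOfHom φ.unop)).op := Subsingleton.elim _ _
        dsimp
        rw [Category.id_comp, hφ]
        exact (natB _ _ (leOfHom φ.unop)).symm }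
  refine ⟨B, cB, k₁, b0, ?_, ?_⟩
  · rw [← sub_eq_zero]
    obtain ⟨m, hm, hn, e⟩ := hcBn k₁
    refine inj _ m hm ?_
    rw [Preadditive.comp_sub, Preadditive.comp_sub, sub_eq_zero, Category.comp_id]
    change ARSys.tr Y hm ≫ b0 ≫ cBn k₁ ≫ b0 = _
    rw [reassoc_of% e]
  · intro j
    obtain ⟨m, hm, hn, e⟩ := hcBn j
    exact ⟨m, hm, hn, e.symm⟩

end Main

end Groth.Agent.Helper3.ProTri
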