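import Mathlib
import Groth.Prelude.Def_DerCA
import Groth.Agent.Lib.Helper3.ProTri
import Groth.Agent.Lib.Helper5.DCat.WayOut

set_option autoImplicit false
universe w v u v' u'
open CategoryTheory Limits Opposite Pretriangulated

namespace Groth.Agent.Helper3.ProTri

section General

variable {C : Type u} [Category.{v} C] {C' : Type u'} [Category.{v'} C']

lemma essConstant_of_isZero [HasZeroMorphisms C] (X : ARSys.PS C)
    (hX : ∀ n : ℕ, IsZero (X.obj (op n))) :
    ∃ (A : C) (c : (Functor.const ℕᵒᵖ).obj A ⟶ X), DerCA.IsEssConstant X A c := by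
  refine ⟨X.obj (op 0), { app := fun n => 0, naturality := fun _ _ _ => by simp }, 0, 𝟙 _,
    (hX 0).eq_of_src _ _, fun j => ⟨j, Nat.zero_le j, le_rfl, (hX j).eq_of_tgt _ _⟩⟩

lemma essConstant_of_iso {X X' : ARSys.PS C} (e : X ≅ X') {A : C}
    {c : (Functor.const ℕᵒᵖ).obj A ⟶ X} (h : DerCA.IsEssConstant X A c) :
    DerCA.IsEssConstant X' A (c ≫ e.hom) := by
  obtain ⟨i, s, hs, hj⟩ := h
  refine ⟨i, e.inv.app (op i) ≫ s, ?_, fun j => ?_⟩
  · rw [NatTrans.comp_app, Category.assoc, Iso.hom_inv_id_app_assoc, hs]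
  · obtain ⟨k, hik, hjk, ek⟩ := hj j
    refine ⟨k, hik, hjk, ?_⟩
    have h1 : ARSys.tr X' hjk = e.inv.app (op k) ≫ ARSys.tr X hjk ≫ e.hom.app (op j) := by
      rw [nat_tr e.hom hjk, ← NatTrans.comp_app_assoc, e.inv_hom_id, NatTrans.id_app,
        Category.id_comp]
    rw [h1, ek]
    simp only [NatTrans.comp_app, Category.assoc]
    rw [reassoc_of% (nat_tr e.inv hik)]

/-- the image cone -/
def mapCone (F : C ⥤ C') {X : ARSys.PS C} {A : C} (c : (Functor.const ℕᵒᵖ).obj A ⟶ X) :
    (Functor.const ℕᵒᵖ).obj (F.obj A) ⟶ X ⋙ F where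
  app n := F.map (c.app n)
  naturality n m φ := by
    have := c.naturality φ
    dsimp at this ⊢
    rw [Category.id_comp] at this ⊢
    rw [this, F.map_comp]

lemma essConstant_map (F : C ⥤ C') {X : ARSys.PS C} {A : C}
    {c : (Functor.const ℕᵒᵖ).obj A ⟶ X} (h : DerCA.IsEssConstant X A c) :
    DerCA.IsEssConstant (X ⋙ F) (F.obj A) (mapCone F c) := by
  obtain ⟨i, s, hs, hj⟩ := h
  refine ⟨i, F.map s, ?_, fun j => ?_⟩
  · change F.map (c.app (op i)) ≫ F.map s = _
    rw [← F.map_comp, hs]
    exact F.map_id A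
  · obtain ⟨k, hik, hjk, ek⟩ := hj j
    refine ⟨k, hik, hjk, ?_⟩
    change F.map (ARSys.tr X hjk) = F.map (ARSys.tr X hik) ≫ F.map s ≫ F.map (c.app (op j))
    rw [← F.map_comp, ← F.map_comp, ek]

end General

section Heart

open DerivedCategory

variable {A : Type u} [Category.{v} A] [Abelian A] [HasDerivedCategory.{w} A]

lemma homology_bijective_of_heart (a : ℤ) (K M : DerivedCategory A)
    [K.IsGE a] [K.IsLE a] [M.IsGE a] [M.IsLE a] :
    Function.Bijective (fun φ : K ⟶ M => (homologyFunctor A a).map φ) := by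
  obtain ⟨K₀, ⟨eK⟩⟩ := exists_iso_singleFunctor_obj_of_isGE_of_isLE K a
  obtain ⟨M₀, ⟨eM⟩⟩ := exists_iso_singleFunctor_obj_of_isGE_of_isLE M a
  constructor
  · intro φ φ' h
    dsimp at h
    rw [← sub_eq_zero]
    apply Helper5.TwoTerm.eq_zero_of_heart a
    rw [Functor.map_sub, h, sub_self]
  · intro φ₀
    let η := singleFunctorCompHomologyFunctorIso A a
    let ψ₀ : K₀ ⟶ M₀ := η.inv.app K₀ ≫ (homologyFunctor A a).map eK.inv ≫ φ₀ ≫
      (homologyFunctor A a).map eM.hom ≫ η.hom.app M₀
    refine ⟨eK.hom ≫ (singleFunctor A a).map ψ₀ ≫ eM.inv, ?_⟩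
    dsimp only
    have h1 : (homologyFunctor A a).map ((singleFunctor A a).map ψ₀) =
        η.hom.app K₀ ≫ ψ₀ ≫ η.inv.app M₀ := by
      have := η.hom.naturality ψ₀
      dsimp at this
      rw [← reassoc_of% this, Iso.hom_inv_id_app]
      dsimp
      rw [Category.comp_id]
    rw [Functor.map_comp, Functor.map_comp, h1]
    dsimp only [ψ₀]
    simp only [Category.assoc, Iso.hom_inv_id_app_assoc, Iso.hom_inv_id_app]
    rw [← Functor.map_comp_assoc, eK.hom_inv_id, CategoryTheory.Functor.map_id, Category.id_comp]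
    erw [Category.id_comp]
    rw [← Functor.map_comp, eM.hom_inv_id, CategoryTheory.Functor.map_id, Category.comp_id]

theorem essConstant_heart (X : ARSys.PS (DerivedCategory A)) (a : ℤ)
    (hGE : ∀ n : ℕ, (X.obj (op n)).IsGE a) (hLE : ∀ n : ℕ, (X.obj (op n)).IsLE a)
    (hH : ∃ (B : A) (c : (Functor.const ℕᵒᵖ).obj B ⟶ X ⋙ homologyFunctor A a),
      DerCA.IsEssConstant (X ⋙ homologyFunctor A a) B c) :
    ∃ (L : DerivedCategory A) (c : (Functor.const ℕᵒᵖ).obj L ⟶ X), DerCA.IsEssConstant X L c := by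
  obtain ⟨B, c0, i, s0, hs0, hj0⟩ := hH
  obtain ⟨L, hL⟩ : ∃ L : DerivedCategory A, L = (singleFunctor A a).obj B := ⟨_, rfl⟩
  have hLGE : L.IsGE a := by rw [hL]; infer_instance
  have hLLE : L.IsLE a := by rw [hL]; infer_instance
  obtain ⟨θ⟩ : Nonempty ((homologyFunctor A a).obj L ≅ B) := by
    rw [hL]; exact ⟨(singleFunctorCompHomologyFunctorIso A a).app B⟩
  have c0_tr : ∀ {n m : ℕ} (h : n ≤ m),
      c0.app (op m) ≫ (homologyFunctor A a).map (ARSys.tr X h) = c0.app (op n) := fun h =>
    cone_tr c0 h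
  have ex : ∀ n : ℕ, ∃ φ : L ⟶ X.obj (op n),
      (homologyFunctor A a).map φ = θ.hom ≫ c0.app (op n) := fun n => by
    have := hGE n
    have := hLE n
    exact (homology_bijective_of_heart a L (X.obj (op n))).2 _
  have injL : ∀ (n : ℕ) (φ φ' : L ⟶ X.obj (op n)),
      (homologyFunctor A a).map φ = (homologyFunctor A a).map φ' → φ = φ' := fun n φ φ' h => by
    have := hGE n
    have := hLE n
    exact (homology_bijective_of_heart a L (X.obj (op n))).1 h
  choose cn hcn using ex
  have natc : ∀ (n n' : ℕ) (hnn' : n ≤ n'), cn n' ≫ ARSys.tr X hnn' = cn n := by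
    intro n n' hnn'
    apply injL
    rw [Functor.map_comp, hcn, hcn, Category.assoc, c0_tr]
  let c : (Functor.const ℕᵒᵖ).obj L ⟶ X :=
    { app := fun n => cn n.unop
      naturality := by
        intro n n' φ
        have hφ : φ = (homOfLE (leOfHom φ.unop)).op := Subsingleton.elim _ _
        dsimp
        rw [Category.id_comp, hφ]
        exact (natc _ _ (leOfHom φ.unop)).symm }
  obtain ⟨s, hs⟩ : ∃ s : X.obj (op i) ⟶ L, (homologyFunctor A a).map s = s0 ≫ θ.inv := by
    have := hGE i
    have := hLE i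
    exact (homology_bijective_of_heart a (X.obj (op i)) L).2 _
  refine ⟨L, c, i, s, ?_, fun j => ?_⟩
  · apply (homology_bijective_of_heart a L L).1
    change (homologyFunctor A a).map (cn i ≫ s) = (homologyFunctor A a).map (𝟙 L)
    rw [Functor.map_comp, hcn, hs, CategoryTheory.Functor.map_id, Category.assoc]
    have : c0.app (op i) ≫ s0 = 𝟙 B := hs0
    rw [reassoc_of% this]
    erw [Category.id_comp]
    rw [θ.hom_inv_id]
  · obtain ⟨k, hik, hjk, ek⟩ := hj0 j
    refine ⟨k, hik, hjk, ?_⟩
    have := hGE k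
    have := hLE k
    have := hGE j
    have := hLE j
    apply (homology_bijective_of_heart a (X.obj (op k)) (X.obj (op j))).1
    change (homologyFunctor A a).map (ARSys.tr X hjk) =
      (homologyFunctor A a).map (ARSys.tr X hik ≫ s ≫ cn j)
    rw [Functor.map_comp, Functor.map_comp, hs, hcn]
    simp only [Category.assoc, Iso.inv_hom_id_assoc]
    exact ek

end Heart

section Bounded

open DerivedCategory Triangulated

variable {A : Type u} [Category.{v} A] [Abelian A] [HasDerivedCategory.{w} A]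

/-- whiskering a system with a natural transformation -/
def whiskerSys {C : Type u} [Category.{v} C] {C' : Type u'} [Category.{v'} C'] (X : ARSys.PS C)
    {F G : C ⥤ C'} (α : F ⟶ G) : X ⋙ F ⟶ X ⋙ G := Functor.whiskerLeft X α

theorem essConstant_bounded (d : ℕ) : ∀ (X : ARSys.PS (DerivedCategory A)) (a b : ℤ),
    b - a < d → (∀ n : ℕ, (X.obj (op n)).IsGE a) → (∀ n : ℕ, (X.obj (op n)).IsLE b) →
    (∀ i : ℤ, ∃ (B : A) (c : (Functor.const ℕᵒᵖ).obj B ⟶ X ⋙ homologyFunctor A i),
      DerCA.IsEssConstant (X ⋙ homologyFunctor A i) B c) →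
    ∃ (L : DerivedCategory A) (c : (Functor.const ℕᵒᵖ).obj L ⟶ X), DerCA.IsEssConstant X L c := by
  induction d with
  | zero =>
    intro X a b hab hGE hLE _
    refine essConstant_of_isZero X (fun n => ?_)
    have := hGE n
    have := hLE n
    exact TStructure.t.isZero (X.obj (op n)) b a (by lia)
  | succ d ih =>
    intro X a b hab hGE hLE hH
    by_cases hba : b < a
    · refine essConstant_of_isZero X (fun n => ?_)
      have := hGE n
      have := hLE n
      exact TStructure.t.isZero (X.obj (op n)) b a hba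
    let t : TStructure (DerivedCategory A) := TStructure.t
    have hTn : ∀ n : ℕ, (t.triangleLTGE b).obj (X.obj (op n)) ∈ distTriang _ := fun n =>
      t.triangleLTGE_distinguished b (X.obj (op n))
    -- the truncated systems
    have hA1 : ∀ n : ℕ, ((t.truncLT b).obj (X.obj (op n))).IsLE (b - 1) := fun n =>
      inferInstanceAs (t.IsLE ((t.truncLT b).obj (X.obj (op n))) (b - 1))
    have hA2 : ∀ n : ℕ, ((t.truncLT b).obj (X.obj (op n))).IsGE a := fun n => by
      have := hGE n
      exact inferInstanceAs (t.IsGE ((t.truncLT b).obj (X.obj (op n))) a)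
    have hB1 : ∀ n : ℕ, ((t.truncGE b).obj (X.obj (op n))).IsGE b := fun n =>
      inferInstanceAs (t.IsGE ((t.truncGE b).obj (X.obj (op n))) b)
    have hB2 : ∀ n : ℕ, ((t.truncGE b).obj (X.obj (op n))).IsLE b := fun n => by
      have := hLE n
      exact inferInstanceAs (t.IsLE ((t.truncGE b).obj (X.obj (op n))) b)
    -- first vertex
    have h1 : ∃ (L : DerivedCategory A) (c : (Functor.const ℕᵒᵖ).obj L ⟶ X ⋙ t.truncLT b),
        DerCA.IsEssConstant (X ⋙ t.truncLT b) L c := by
      refine ih (X ⋙ t.truncLT b) a (b - 1) (by lia) hA2 hA1 (fun i => ?_)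
      by_cases hi : i < b
      · obtain ⟨B, c, hc⟩ := hH i
        have iso : ∀ n : ℕᵒᵖ, IsIso ((homologyFunctor A i).map ((t.truncLTι b).app (X.obj n))) := by
          intro n
          have := hB1 n.unop
          exact Helper5.TwoTerm.isIso_homologyMap_mor₁ _ (hTn n.unop) (i - 1) i (by lia)
            (isZero_of_isGE ((t.truncGE b).obj (X.obj n)) b (i - 1) (by lia))
            (isZero_of_isGE ((t.truncGE b).obj (X.obj n)) b i (by lia))
        let e : (X ⋙ t.truncLT b) ⋙ homologyFunctor A i ≅ X ⋙ homologyFunctor A i :=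
          NatIso.ofComponents
            (fun n => @asIso _ _ _ _ ((homologyFunctor A i).map ((t.truncLTι b).app (X.obj n))) (iso n))
            (by
              intro n m φ
              dsimp
              rw [← Functor.map_comp, ← Functor.map_comp]
              congr 1
              exact (t.truncLTι b).naturality (X.map φ))
        exact ⟨B, _, essConstant_of_iso e.symm hc⟩
      · refine essConstant_of_isZero _ (fun n => ?_)
        have := hA1 n
        exact isZero_of_isLE ((t.truncLT b).obj (X.obj (op n))) (b - 1) i (by lia)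
    -- third vertex
    have h3 : ∃ (L : DerivedCategory A) (c : (Functor.const ℕᵒᵖ).obj L ⟶ X ⋙ t.truncGE b),
        DerCA.IsEssConstant (X ⋙ t.truncGE b) L c := by
      refine essConstant_heart (X ⋙ t.truncGE b) b hB1 hB2 ?_
      obtain ⟨B, c, hc⟩ := hH b
      have iso : ∀ n : ℕᵒᵖ, IsIso ((homologyFunctor A b).map ((t.truncGEπ b).app (X.obj n))) := by
        intro n
        have := hA1 n.unop
        exact Helper5.TwoTerm.isIso_homologyMap_mor₂ _ (hTn n.unop) b (b + 1) rfl
          (isZero_of_isLE ((t.truncLT b).obj (X.obj n)) (b - 1) b (by lia))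
          (isZero_of_isLE ((t.truncLT b).obj (X.obj n)) (b - 1) (b + 1) (by lia))
      let e : X ⋙ homologyFunctor A b ≅ (X ⋙ t.truncGE b) ⋙ homologyFunctor A b :=
        NatIso.ofComponents
          (fun n => @asIso _ _ _ _ ((homologyFunctor A b).map ((t.truncGEπ b).app (X.obj n))) (iso n))
          (by
            intro n m φ
            dsimp
            rw [← Functor.map_comp, ← Functor.map_comp]
            congr 1
            exact (t.truncGEπ b).naturality (X.map φ))
      exact ⟨B, _, essConstant_of_iso e hc⟩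
    exact essConstant_middle (X ⋙ t.truncLT b) X (X ⋙ t.truncGE b)
      (whiskerSys X (t.truncLTι b)) (whiskerSys X (t.truncGEπ b)) (whiskerSys X (t.truncGEδLT b))
      hTn h1 h3

theorem main_S6589 (X : ARSys.PS (DerivedCategory A)) (a b : ℤ)
    (hX : ∀ (n : ℕ) (i : ℤ), i < a ∨ b < i →
      IsZero ((DerivedCategory.homologyFunctor A i).obj (X.obj (op n))))
    (hH : ∀ i : ℤ, ∃ (B : A) (c : (Functor.const ℕᵒᵖ).obj B ⟶ X ⋙ DerivedCategory.homologyFunctor A i),
      DerCA.IsEssConstant (X ⋙ DerivedCategory.homologyFunctor A i) B c) :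
    ∃ (L : DerivedCategory A) (c : (Functor.const ℕᵒᵖ).obj L ⟶ X), DerCA.IsEssConstant X L c :=
  essConstant_bounded ((b - a).toNat + 1) X a b (by lia)
    (fun n => (DerivedCategory.isGE_iff _ _).2 (fun i hi => hX n i (Or.inl hi)))
    (fun n => (DerivedCategory.isLE_iff _ _).2 (fun i hi => hX n i (Or.inr hi))) hH

end Bounded

end Groth.Agent.Helper3.ProTri
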