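import Mathlib
import Groth.Prelude.Def_DerCA
import Groth.Agent.Lib.Helper3.ProTri

set_option autoImplicit false
universe w v u v' u'
open CategoryTheory Limits Opposite Pretriangulated

namespace Groth.Agent.Helper3.ProTri

section General

variable {C : Type u} [Category.{v} C] {C' : Type u'} [Category.{v'} C']

lemma proIso_surj {Y Y' : ARSys.PS C} {v : Y ⟶ Y'} (hv : DerCA.IsProIso v) {W : C} (n : ℕ)
    (φ : Y.obj (op n) ⟶ W) :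
    ∃ (m : ℕ) (hnm : n ≤ m) (ψ : Y'.obj (op m) ⟶ W), v.app (op m) ≫ ψ = ARSys.tr Y hnm ≫ φ := by
  obtain ⟨m, hnm, b, h1, _⟩ := hv n
  exact ⟨m, hnm, b ≫ φ, by rw [reassoc_of% h1]⟩

lemma proIso_inj [Preadditive C] {Y Y' : ARSys.PS C} {v : Y ⟶ Y'} (hv : DerCA.IsProIso v) {W : C}
    (n : ℕ) (ψ : Y'.obj (op n) ⟶ W) (hψ : v.app (op n) ≫ ψ = 0) :
    ∃ (m : ℕ) (hnm : n ≤ m), ARSys.tr Y' hnm ≫ ψ = 0 := by
  obtain ⟨m, hnm, b, _, h2⟩ := hv n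
  exact ⟨m, hnm, by rw [← h2, Category.assoc, hψ, comp_zero]⟩

lemma proIso_of_surj_inj [Preadditive C] {Y Y' : ARSys.PS C} (v : Y ⟶ Y')
    (hs : ∀ {W : C} (n : ℕ) (φ : Y.obj (op n) ⟶ W),
      ∃ (m : ℕ) (hnm : n ≤ m) (ψ : Y'.obj (op m) ⟶ W), v.app (op m) ≫ ψ = ARSys.tr Y hnm ≫ φ)
    (hi : ∀ {W : C} (n : ℕ) (ψ : Y'.obj (op n) ⟶ W), v.app (op n) ≫ ψ = 0 →
      ∃ (m : ℕ) (hnm : n ≤ m), ARSys.tr Y' hnm ≫ ψ = 0) :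
    DerCA.IsProIso v := by
  intro n
  obtain ⟨m, hnm, b, hb⟩ := hs n (𝟙 _)
  rw [Category.comp_id] at hb
  have h0 : v.app (op m) ≫ (b ≫ v.app (op n) - ARSys.tr Y' hnm) = 0 := by
    rw [Preadditive.comp_sub, sub_eq_zero, reassoc_of% hb, nat_tr v hnm]
  obtain ⟨m', hmm', e⟩ := hi m _ h0
  rw [Preadditive.comp_sub, sub_eq_zero, tr_comp] at e
  refine ⟨m', hnm.trans hmm', ARSys.tr Y' hmm' ≫ b, ?_, ?_⟩
  · rw [← reassoc_of% (nat_tr v hmm'), hb, tr_comp]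
  · rw [Category.assoc, e]

lemma proIso_map (F : C ⥤ C') {Y Y' : ARSys.PS C} {v : Y ⟶ Y'} (hv : DerCA.IsProIso v) :
    DerCA.IsProIso (Functor.whiskerRight v F) := by
  intro n
  obtain ⟨m, hnm, b, h1, h2⟩ := hv n
  refine ⟨m, hnm, F.map b, ?_, ?_⟩
  · change F.map (v.app (op m)) ≫ F.map b = F.map (ARSys.tr Y hnm)
    rw [← F.map_comp, h1]
  · change F.map b ≫ F.map (v.app (op n)) = F.map (ARSys.tr Y' hnm)
    rw [← F.map_comp, h2]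

lemma proIso_of_iso {Y Y' : ARSys.PS C} (e : Y ≅ Y') : DerCA.IsProIso e.hom := by
  intro n
  refine ⟨n, le_rfl, e.inv.app (op n), ?_, ?_⟩
  · rw [Iso.hom_inv_id_app, tr_refl]
  · rw [Iso.inv_hom_id_app, tr_refl]

lemma proIso_comp {X Y Z : ARSys.PS C} {u : X ⟶ Y} {v : Y ⟶ Z} (hu : DerCA.IsProIso u)
    (hv : DerCA.IsProIso v) : DerCA.IsProIso (u ≫ v) := by
  intro n
  obtain ⟨m, hnm, b, h1, h2⟩ := hu n
  obtain ⟨m', hmm', b', h1', h2'⟩ := hv m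
  refine ⟨m', hnm.trans hmm', b' ≫ b, ?_, ?_⟩
  · rw [NatTrans.comp_app, Category.assoc, reassoc_of% h1', ← reassoc_of% (nat_tr u hmm'), h1, tr_comp]
  · rw [NatTrans.comp_app, Category.assoc, reassoc_of% h2, nat_tr v hnm, reassoc_of% h2', tr_comp]

lemma proIso_of_isZero [HasZeroMorphisms C] {Y Y' : ARSys.PS C} (v : Y ⟶ Y')
    (hY : ∀ n : ℕ, IsZero (Y.obj (op n))) (hY' : ∀ n : ℕ, IsZero (Y'.obj (op n))) :
    DerCA.IsProIso v := fun n =>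
  ⟨n, le_rfl, 0, (hY n).eq_of_src _ _, (hY' n).eq_of_src _ _⟩

end General

section Five

variable {D : Type u} [Category.{v} D] [Preadditive D] [HasZeroObject D] [HasShift D ℤ]
  [∀ n : ℤ, (shiftFunctor D n).Additive] [Pretriangulated D]

theorem proIso_middle
    (X Y Z X' Y' Z' : ARSys.PS D)
    (f : X ⟶ Y) (g : Y ⟶ Z) (h : Z ⟶ X ⋙ shiftFunctor D (1 : ℤ))
    (f' : X' ⟶ Y') (g' : Y' ⟶ Z') (h' : Z' ⟶ X' ⋙ shiftFunctor D (1 : ℤ))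
    (hT : ∀ n : ℕ, Triangle.mk (f.app (op n)) (g.app (op n)) (h.app (op n)) ∈ distTriang D)
    (hT' : ∀ n : ℕ, Triangle.mk (f'.app (op n)) (g'.app (op n)) (h'.app (op n)) ∈ distTriang D)
    (u : X ⟶ X') (v : Y ⟶ Y') (w : Z ⟶ Z')
    (c1 : ∀ n : ℕ, f.app (op n) ≫ v.app (op n) = u.app (op n) ≫ f'.app (op n))
    (c2 : ∀ n : ℕ, g.app (op n) ≫ w.app (op n) = v.app (op n) ≫ g'.app (op n))
    (c3 : ∀ n : ℕ, h.app (op n) ≫ (u.app (op n))⟦(1 : ℤ)⟧' = w.app (op n) ≫ h'.app (op n))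
    (hu : DerCA.IsProIso u) (hw : DerCA.IsProIso w) : DerCA.IsProIso v := by
  have hu1 : DerCA.IsProIso (Functor.whiskerRight u (shiftFunctor D (1 : ℤ))) := proIso_map _ hu
  refine proIso_of_surj_inj v ?_ ?_
  · intro W n φ
    obtain ⟨m₁, hnm₁, ξ, hξ⟩ := proIso_surj hu n (f.app (op n) ≫ φ)
    have e1 : w.app (op m₁) ≫ h'.app (op m₁) ≫ ξ⟦(1 : ℤ)⟧' = 0 := by
      rw [← reassoc_of% (c3 m₁), ← Functor.map_comp, hξ, Functor.map_comp, Functor.map_comp,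
        ← reassoc_of% (h_nat h hnm₁)]
      have : h.app (op n) ≫ (f.app (op n))⟦(1 : ℤ)⟧' = 0 := comp_distTriang_mor_zero₃₁ _ (hT n)
      rw [reassoc_of% this, zero_comp, comp_zero]
    obtain ⟨m₂, hm₁m₂, e2⟩ := proIso_inj hw m₁ _ e1
    have e3 : h'.app (op m₂) ≫ (ARSys.tr X' hm₁m₂ ≫ ξ)⟦(1 : ℤ)⟧' = 0 := by
      rw [Functor.map_comp, ← reassoc_of% (h_nat h' hm₁m₂)]
      exact e2
    obtain ⟨η, hη⟩ : ∃ η : Y'.obj (op m₂) ⟶ W, ARSys.tr X' hm₁m₂ ≫ ξ = f'.app (op m₂) ≫ η :=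
      yoneda_exact₁ _ (hT' m₂) _ e3
    have hnm₂ : n ≤ m₂ := hnm₁.trans hm₁m₂
    have e4 : f.app (op m₂) ≫ (ARSys.tr Y hnm₂ ≫ φ - v.app (op m₂) ≫ η) = 0 := by
      rw [Preadditive.comp_sub, sub_eq_zero, ← reassoc_of% (nat_tr f hnm₂), reassoc_of% (c1 m₂), ← hη,
        ← reassoc_of% (nat_tr u hm₁m₂), hξ, tr_comp_assoc]
    obtain ⟨γ, hγ⟩ : ∃ γ : Z.obj (op m₂) ⟶ W,
        ARSys.tr Y hnm₂ ≫ φ - v.app (op m₂) ≫ η = g.app (op m₂) ≫ γ :=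
      Triangle.yoneda_exact₂ _ (hT m₂) _ e4
    obtain ⟨m₃, hm₂m₃, ζ, hζ⟩ := proIso_surj hw m₂ γ
    refine ⟨m₃, hnm₂.trans hm₂m₃, g'.app (op m₃) ≫ ζ + ARSys.tr Y' hm₂m₃ ≫ η, ?_⟩
    have e5 : ARSys.tr Y hnm₂ ≫ φ = g.app (op m₂) ≫ γ + v.app (op m₂) ≫ η := by
      rw [← hγ]; abel
    rw [Preadditive.comp_add, ← reassoc_of% (c2 m₃), hζ, ← reassoc_of% (nat_tr v hm₂m₃),
      ← reassoc_of% (nat_tr g hm₂m₃), ← Preadditive.comp_add, ← e5, tr_comp_assoc]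
  · intro W n ψ hψ
    have e1 : u.app (op n) ≫ f'.app (op n) ≫ ψ = 0 := by
      rw [← reassoc_of% (c1 n), hψ, comp_zero]
    obtain ⟨m₁, hnm₁, e2⟩ := proIso_inj hu n _ e1
    have e3 : f'.app (op m₁) ≫ ARSys.tr Y' hnm₁ ≫ ψ = 0 := by
      rw [← reassoc_of% (nat_tr f' hnm₁)]; exact e2
    obtain ⟨χ, hχ⟩ : ∃ χ : Z'.obj (op m₁) ⟶ W, ARSys.tr Y' hnm₁ ≫ ψ = g'.app (op m₁) ≫ χ :=
      Triangle.yoneda_exact₂ _ (hT' m₁) _ e3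
    have e4 : g.app (op m₁) ≫ w.app (op m₁) ≫ χ = 0 := by
      rw [reassoc_of% (c2 m₁), ← hχ, ← reassoc_of% (nat_tr v hnm₁), hψ, comp_zero]
    obtain ⟨ω, hω⟩ : ∃ ω : (X.obj (op m₁))⟦(1 : ℤ)⟧ ⟶ W, w.app (op m₁) ≫ χ = h.app (op m₁) ≫ ω :=
      Triangle.yoneda_exact₃ _ (hT m₁) _ e4
    obtain ⟨m₂, hm₁m₂, ω', hω'⟩ := proIso_surj hu1 m₁ ω
    replace hω' : (u.app (op m₂))⟦(1 : ℤ)⟧' ≫ ω' = (ARSys.tr X hm₁m₂)⟦(1 : ℤ)⟧' ≫ ω := hω'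
    have e5 : w.app (op m₂) ≫ (ARSys.tr Z' hm₁m₂ ≫ χ - h'.app (op m₂) ≫ ω') = 0 := by
      rw [Preadditive.comp_sub, sub_eq_zero, ← reassoc_of% (nat_tr w hm₁m₂), hω,
        ← reassoc_of% (c3 m₂), hω', reassoc_of% (h_nat h hm₁m₂)]
    obtain ⟨m₃, hm₂m₃, e6⟩ := proIso_inj hw m₂ _ e5
    rw [Preadditive.comp_sub, sub_eq_zero, tr_comp_assoc] at e6
    refine ⟨m₃, hnm₁.trans (hm₁m₂.trans hm₂m₃), ?_⟩
    rw [← tr_comp Y' hnm₁ (hm₁m₂.trans hm₂m₃), Category.assoc, hχ,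
      reassoc_of% (nat_tr g' (hm₁m₂.trans hm₂m₃)), e6, reassoc_of% (h_nat h' hm₂m₃)]
    have : g'.app (op m₃) ≫ h'.app (op m₃) = 0 := comp_distTriang_mor_zero₂₃ _ (hT' m₃)
    rw [reassoc_of% this, zero_comp]

end Five

end Groth.Agent.Helper3.ProTri
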