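import Mathlib
import Groth.Prelude.Def_DerCA
import Groth.Agent.Lib.Helper3.ProIso
import Groth.Agent.Lib.Helper3.ProDer

set_option autoImplicit false
universe w v u v' u'
open CategoryTheory Limits Opposite Pretriangulated

namespace Groth.Agent.Helper3.ProTri

section General

variable {C : Type u} [Category.{v} C]

lemma proIso_of_conj {P Q X Y : ARSys.PS C} (eX : P ≅ X) (eY : Q ≅ Y) (p : P ⟶ Q) (f : X ⟶ Y)
    (hc : p ≫ eY.hom = eX.hom ≫ f) (hf : DerCA.IsProIso f) : DerCA.IsProIso p := by
  have : p = eX.hom ≫ f ≫ eY.inv := by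
    rw [← reassoc_of% hc, Iso.hom_inv_id, Category.comp_id]
  rw [this]
  exact proIso_comp (proIso_of_iso eX) (proIso_comp hf (proIso_of_iso eY.symm))

end General

section Bounded

open DerivedCategory Triangulated

variable {A : Type u} [Category.{v} A] [Abelian A] [HasDerivedCategory.{w} A]

theorem proIso_heart (X Y : ARSys.PS (DerivedCategory A)) (f : X ⟶ Y) (a : ℤ)
    (hXGE : ∀ n : ℕ, (X.obj (op n)).IsGE a) (hXLE : ∀ n : ℕ, (X.obj (op n)).IsLE a)
    (hYGE : ∀ n : ℕ, (Y.obj (op n)).IsGE a) (hYLE : ∀ n : ℕ, (Y.obj (op n)).IsLE a)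
    (hH : DerCA.IsProIso (Functor.whiskerRight f (homologyFunctor A a))) : DerCA.IsProIso f := by
  intro n
  obtain ⟨m, hnm, b0, h1, h2⟩ := hH n
  replace h1 : (homologyFunctor A a).map (f.app (op m)) ≫ b0 =
    (homologyFunctor A a).map (ARSys.tr X hnm) := h1
  replace h2 : b0 ≫ (homologyFunctor A a).map (f.app (op n)) =
    (homologyFunctor A a).map (ARSys.tr Y hnm) := h2
  have := hXGE n
  have := hXLE n
  have := hXGE m
  have := hXLE m
  have := hYGE n
  have := hYLE n
  have := hYGE m
  have := hYLE m
  obtain ⟨b, hb⟩ := (homology_bijective_of_heart a (Y.obj (op m)) (X.obj (op n))).2 b0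
  dsimp only at hb
  refine ⟨m, hnm, b, ?_, ?_⟩
  · apply (homology_bijective_of_heart a (X.obj (op m)) (X.obj (op n))).1
    dsimp only
    rw [Functor.map_comp, hb, h1]
  · apply (homology_bijective_of_heart a (Y.obj (op m)) (Y.obj (op n))).1
    dsimp only
    rw [Functor.map_comp, hb, h2]

theorem proIso_bounded (d : ℕ) : ∀ (X Y : ARSys.PS (DerivedCategory A)) (f : X ⟶ Y) (a b : ℤ),
    b - a < d → (∀ n : ℕ, (X.obj (op n)).IsGE a) → (∀ n : ℕ, (X.obj (op n)).IsLE b) →
    (∀ n : ℕ, (Y.obj (op n)).IsGE a) → (∀ n : ℕ, (Y.obj (op n)).IsLE b) →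
    (∀ i : ℤ, DerCA.IsProIso (Functor.whiskerRight f (homologyFunctor A i))) →
    DerCA.IsProIso f := by
  induction d with
  | zero =>
    intro X Y f a b hab hXGE hXLE hYGE hYLE _
    refine proIso_of_isZero f (fun n => ?_) (fun n => ?_)
    · have := hXGE n
      have := hXLE n
      exact TStructure.t.isZero (X.obj (op n)) b a (by lia)
    · have := hYGE n
      have := hYLE n
      exact TStructure.t.isZero (Y.obj (op n)) b a (by lia)
  | succ d ih =>
    intro X Y f a b hab hXGE hXLE hYGE hYLE hH
    by_cases hba : b < a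
    · refine proIso_of_isZero f (fun n => ?_) (fun n => ?_)
      · have := hXGE n
        have := hXLE n
        exact TStructure.t.isZero (X.obj (op n)) b a hba
      · have := hYGE n
        have := hYLE n
        exact TStructure.t.isZero (Y.obj (op n)) b a hba
    let t : TStructure (DerivedCategory A) := TStructure.t
    have hTn : ∀ (W : ARSys.PS (DerivedCategory A)) (n : ℕ),
        (t.triangleLTGE b).obj (W.obj (op n)) ∈ distTriang _ := fun W n =>
      t.triangleLTGE_distinguished b (W.obj (op n))
    have hA1 : ∀ (W : ARSys.PS (DerivedCategory A)) (n : ℕ),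
        ((t.truncLT b).obj (W.obj (op n))).IsLE (b - 1) := fun W n =>
      inferInstanceAs (t.IsLE ((t.truncLT b).obj (W.obj (op n))) (b - 1))
    have hA2 : ∀ (W : ARSys.PS (DerivedCategory A)) (_ : ∀ n : ℕ, (W.obj (op n)).IsGE a) (n : ℕ),
        ((t.truncLT b).obj (W.obj (op n))).IsGE a := fun W hW n => by
      have := hW n
      exact inferInstanceAs (t.IsGE ((t.truncLT b).obj (W.obj (op n))) a)
    have hB1 : ∀ (W : ARSys.PS (DerivedCategory A)) (n : ℕ),
        ((t.truncGE b).obj (W.obj (op n))).IsGE b := fun W n =>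
      inferInstanceAs (t.IsGE ((t.truncGE b).obj (W.obj (op n))) b)
    have hB2 : ∀ (W : ARSys.PS (DerivedCategory A)) (_ : ∀ n : ℕ, (W.obj (op n)).IsLE b) (n : ℕ),
        ((t.truncGE b).obj (W.obj (op n))).IsLE b := fun W hW n => by
      have := hW n
      exact inferInstanceAs (t.IsLE ((t.truncGE b).obj (W.obj (op n))) b)
    have isoLT : ∀ (W : ARSys.PS (DerivedCategory A)) (i : ℤ) (_ : i < b) (n : ℕᵒᵖ),
        IsIso ((homologyFunctor A i).map ((t.truncLTι b).app (W.obj n))) := by
      intro W i hi n
      have := hB1 W n.unop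
      exact Helper5.TwoTerm.isIso_homologyMap_mor₁ _ (hTn W n.unop) (i - 1) i (by lia)
        (isZero_of_isGE ((t.truncGE b).obj (W.obj n)) b (i - 1) (by lia))
        (isZero_of_isGE ((t.truncGE b).obj (W.obj n)) b i (by lia))
    have isoGE : ∀ (W : ARSys.PS (DerivedCategory A)) (n : ℕᵒᵖ),
        IsIso ((homologyFunctor A b).map ((t.truncGEπ b).app (W.obj n))) := by
      intro W n
      have := hA1 W n.unop
      exact Helper5.TwoTerm.isIso_homologyMap_mor₂ _ (hTn W n.unop) b (b + 1) rfl
        (isZero_of_isLE ((t.truncLT b).obj (W.obj n)) (b - 1) b (by lia))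
        (isZero_of_isLE ((t.truncLT b).obj (W.obj n)) (b - 1) (b + 1) (by lia))
    -- first vertex
    have hu : DerCA.IsProIso (Functor.whiskerRight f (t.truncLT b)) := by
      refine ih (X ⋙ t.truncLT b) (Y ⋙ t.truncLT b) _ a (b - 1) (by lia) (hA2 X hXGE) (hA1 X)
        (hA2 Y hYGE) (hA1 Y) (fun i => ?_)
      by_cases hi : i < b
      · let e : ∀ W : ARSys.PS (DerivedCategory A),
            (W ⋙ t.truncLT b) ⋙ homologyFunctor A i ≅ W ⋙ homologyFunctor A i := fun W =>
          NatIso.ofComponents
            (fun n => @asIso _ _ _ _ ((homologyFunctor A i).map ((t.truncLTι b).app (W.obj n)))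
              (isoLT W i hi n))
            (by
              intro n m φ
              dsimp
              rw [← Functor.map_comp, ← Functor.map_comp]
              congr 1
              exact (t.truncLTι b).naturality (W.map φ))
        refine proIso_of_conj (e X) (e Y) _ _ ?_ (hH i)
        ext n
        dsimp [e]
        rw [← Functor.map_comp, ← Functor.map_comp]
        congr 1
        exact (t.truncLTι b).naturality (f.app n)
      · refine proIso_of_isZero _ (fun n => ?_) (fun n => ?_)
        · have := hA1 X n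
          exact isZero_of_isLE ((t.truncLT b).obj (X.obj (op n))) (b - 1) i (by lia)
        · have := hA1 Y n
          exact isZero_of_isLE ((t.truncLT b).obj (Y.obj (op n))) (b - 1) i (by lia)
    -- third vertex
    have hw : DerCA.IsProIso (Functor.whiskerRight f (t.truncGE b)) := by
      refine proIso_heart (X ⋙ t.truncGE b) (Y ⋙ t.truncGE b) _ b (hB1 X) (hB2 X hXLE)
        (hB1 Y) (hB2 Y hYLE) ?_
      let e : ∀ W : ARSys.PS (DerivedCategory A),
          W ⋙ homologyFunctor A b ≅ (W ⋙ t.truncGE b) ⋙ homologyFunctor A b := fun W =>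
        NatIso.ofComponents
          (fun n => @asIso _ _ _ _ ((homologyFunctor A b).map ((t.truncGEπ b).app (W.obj n)))
            (isoGE W n))
          (by
            intro n m φ
            dsimp
            rw [← Functor.map_comp, ← Functor.map_comp]
            congr 1
            exact (t.truncGEπ b).naturality (W.map φ))
      refine proIso_of_conj (e X).symm (e Y).symm _ _ ?_ (hH b)
      rw [Iso.symm_hom, Iso.symm_hom, Iso.comp_inv_eq, Category.assoc, Iso.eq_inv_comp]
      ext n
      dsimp [e]
      rw [← Functor.map_comp, ← Functor.map_comp]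
      congr 1
      exact ((t.truncGEπ b).naturality (f.app n)).symm
    exact proIso_middle (X ⋙ t.truncLT b) X (X ⋙ t.truncGE b)
      (Y ⋙ t.truncLT b) Y (Y ⋙ t.truncGE b)
      (whiskerSys X (t.truncLTι b)) (whiskerSys X (t.truncGEπ b)) (whiskerSys X (t.truncGEδLT b))
      (whiskerSys Y (t.truncLTι b)) (whiskerSys Y (t.truncGEπ b)) (whiskerSys Y (t.truncGEδLT b))
      (hTn X) (hTn Y)
      (Functor.whiskerRight f (t.truncLT b)) f (Functor.whiskerRight f (t.truncGE b))
      (fun n => ((t.truncLTι b).naturality (f.app (op n))).symm)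
      (fun n => ((t.truncGEπ b).naturality (f.app (op n))).symm)
      (fun n => ((t.truncGEδLT b).naturality (f.app (op n))).symm)
      hu hw

theorem main_S6588 (X Y : ARSys.PS (DerivedCategory A)) (f : X ⟶ Y) (a b : ℤ)
    (hX : ∀ (n : ℕ) (i : ℤ), i < a ∨ b < i →
      IsZero ((DerivedCategory.homologyFunctor A i).obj (X.obj (op n))))
    (hY : ∀ (n : ℕ) (i : ℤ), i < a ∨ b < i →
      IsZero ((DerivedCategory.homologyFunctor A i).obj (Y.obj (op n))))
    (hH : ∀ i : ℤ, DerCA.IsProIso (Functor.whiskerRight f (DerivedCategory.homologyFunctor A i))) :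
    DerCA.IsProIso f :=
  proIso_bounded ((b - a).toNat + 1) X Y f a b (by lia)
    (fun n => (DerivedCategory.isGE_iff _ _).2 (fun i hi => hX n i (Or.inl hi)))
    (fun n => (DerivedCategory.isLE_iff _ _).2 (fun i hi => hX n i (Or.inr hi)))
    (fun n => (DerivedCategory.isGE_iff _ _).2 (fun i hi => hY n i (Or.inl hi)))
    (fun n => (DerivedCategory.isLE_iff _ _).2 (fun i hi => hY n i (Or.inr hi))) hH

end Bounded

end Groth.Agent.Helper3.ProTri
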