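import Mathlib

set_option autoImplicit false
universe u
open CategoryTheory CategoryTheory.Limits Opposite

namespace Groth.Agent.Helper3.ProRep

variable {C : Type u} [SmallCategory C] [HasFiniteLimits C] (F : C ⥤ Type u)
  [PreservesFiniteLimits F]

/-- a pair `(X, ξ)` is minimal if `ξ` does not come from a proper subobject -/
def IsMin (X : C) (ξ : F.obj X) : Prop :=
  ∀ (Y : C) (i : Y ⟶ X), Mono i → ∀ η : F.obj Y, F.map i η = ξ → IsIso i

variable {F}

lemma exists_lift_equalizer {X Y : C} (u v : X ⟶ Y) (ξ : F.obj X)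
    (h : F.map u ξ = F.map v ξ) : ∃ ζ : F.obj (equalizer u v), F.map (equalizer.ι u v) ζ = ξ := by
  have hl := isLimitForkMapOfIsLimit F (equalizer.condition u v) (equalizerIsEqualizer u v)
  obtain ⟨ζ, hζ, -⟩ := Types.unique_of_type_equalizer _ _ hl ξ h
  exact ⟨ζ, hζ⟩

lemma map_comp_apply {X Y Z : C} (f : X ⟶ Y) (g : Y ⟶ Z) (x : F.obj X) :
    F.map (f ≫ g) x = F.map g (F.map f x) := by
  rw [F.map_comp]
  rfl

lemma hom_unique {X Y : C} {ξ : F.obj X} (hm : IsMin F X ξ) (u v : X ⟶ Y)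
    (h : F.map u ξ = F.map v ξ) : u = v := by
  obtain ⟨ζ, hζ⟩ := exists_lift_equalizer u v ξ h
  have : IsIso (equalizer.ι u v) := hm _ _ inferInstance ζ hζ
  exact (cancel_epi (equalizer.ι u v)).1 (equalizer.condition u v)

lemma epi_of_isMin {X Y : C} {ξ : F.obj X} (u : X ⟶ Y) (hm : IsMin F Y (F.map u ξ)) : Epi u := by
  constructor
  intro Z a b hab
  have : IsIso (equalizer.ι a b) := by
    refine hm _ _ inferInstance (F.map (equalizer.lift u hab) ξ) ?_
    rw [← map_comp_apply, equalizer.lift_ι]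
  exact (cancel_epi (equalizer.ι a b)).1 (equalizer.condition a b)

lemma exists_min (Y : C) [IsArtinianObject Y] (η : F.obj Y) :
    ∃ (X : C) (i : X ⟶ Y) (ξ : F.obj X), F.map i ξ = η ∧ IsMin F X ξ := by
  let S : Set (Subobject Y) := {P | ∃ ζ : F.obj (P : C), F.map P.arrow ζ = η}
  have hne : S.Nonempty := by
    refine ⟨⊤, F.map (inv (⊤ : Subobject Y).arrow) η, ?_⟩
    rw [← map_comp_apply, IsIso.inv_hom_id, F.map_id]
    rfl
  obtain ⟨P, ⟨ζ, hζ⟩, hPmin⟩ := WellFounded.has_min (wellFounded_lt (α := Subobject Y)) S hne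
  refine ⟨(P : C), P.arrow, ζ, hζ, ?_⟩
  intro Z i hi θ hθ
  have hle : Subobject.mk (i ≫ P.arrow) ≤ P := Subobject.mk_le_of_comm i rfl
  have hmem : Subobject.mk (i ≫ P.arrow) ∈ S := by
    refine ⟨F.map (Subobject.underlyingIso (i ≫ P.arrow)).inv θ, ?_⟩
    rw [← map_comp_apply, Subobject.underlyingIso_arrow, map_comp_apply, hθ, hζ]
  have hnlt : ¬ Subobject.mk (i ≫ P.arrow) < P := hPmin _ hmem
  have hge : P ≤ Subobject.mk (i ≫ P.arrow) := by
    by_contra hc
    exact hnlt (lt_of_le_not_ge hle hc)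
  let k : (P : C) ⟶ Z := Subobject.ofLE _ _ hge ≫ (Subobject.underlyingIso (i ≫ P.arrow)).hom
  have hk : k ≫ i = 𝟙 _ := by
    apply (cancel_mono P.arrow).1
    dsimp only [k]
    rw [Category.assoc, Category.assoc, Subobject.underlyingIso_hom_comp_eq_mk,
      Subobject.ofLE_arrow, Category.id_comp]
  have : IsSplitEpi i := ⟨⟨k, hk⟩⟩
  exact isIso_of_mono_of_isSplitEpi i

end Groth.Agent.Helper3.ProRep

namespace Groth.Agent.Helper3.ProRep

variable {C : Type u} [SmallCategory C] [HasFiniteLimits C] {F : C ⥤ Type u}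
  [PreservesFiniteLimits F]

lemma exists_pair {X Y : C} (ξ : F.obj X) (η : F.obj Y) :
    ∃ ζ : F.obj (X ⨯ Y), F.map prod.fst ζ = ξ ∧ F.map prod.snd ζ = η := by
  have hl := isLimitOfPreserves F (limit.isLimit (pair X Y))
  let s : (pair X Y ⋙ F).sections :=
    ⟨fun j => match j with
      | ⟨WalkingPair.left⟩ => ξ
      | ⟨WalkingPair.right⟩ => η, by
      rintro ⟨j⟩ ⟨j'⟩ ⟨⟨h⟩⟩
      cases h
      cases j <;> (simp; rfl)⟩
  refine ⟨(Types.isLimitEquivSections hl).symm s, ?_, ?_⟩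
  · exact Types.isLimitEquivSections_symm_apply hl s ⟨WalkingPair.left⟩
  · exact Types.isLimitEquivSections_symm_apply hl s ⟨WalkingPair.right⟩

lemma nonempty_terminal : Nonempty (F.obj (⊤_ C)) := by
  have ht : IsTerminal (F.obj (⊤_ C)) := terminalIsTerminal.isTerminalObj F (⊤_ C)
  exact ⟨((Types.isTerminalEquivUnique _) ht).default⟩

variable (F)

/-- the property of being a minimal element -/
def minProp : ObjectProperty F.Elements := fun p => IsMin F p.1 p.2

/-- the index category: minimal elements -/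
abbrev JJ : Type u := (minProp F).FullSubcategory

/-- the pro-object -/
def DD : JJ F ⥤ C := (minProp F).ι ⋙ CategoryOfElements.π F

variable {F}

lemma epi_DD_map {j j' : JJ F} (a : j ⟶ j') : Epi ((DD F).map a) := by
  have h : F.map a.hom.1 j.obj.2 = j'.obj.2 := a.hom.2
  refine epi_of_isMin (ξ := j.obj.2) a.hom.1 ?_
  rw [h]
  exact j'.property

lemma hom_ext_JJ {j j' : JJ F} (a b : j ⟶ j') : a = b := by
  have ha : F.map a.hom.1 j.obj.2 = j'.obj.2 := a.hom.2
  have hb : F.map b.hom.1 j.obj.2 = j'.obj.2 := b.hom.2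
  have : a.hom.1 = b.hom.1 := hom_unique j.property _ _ (ha.trans hb.symm)
  apply ObjectProperty.hom_ext
  exact Subtype.ext this

/-- a minimal element dominating a given one -/
lemma exists_JJ (hart : ∀ X : C, IsArtinianObject X) (Y : C) (η : F.obj Y) :
    ∃ (j : JJ F) (i : (DD F).obj j ⟶ Y), F.map i j.obj.2 = η := by
  have := hart Y
  obtain ⟨X, i, ξ, hξ, hm⟩ := exists_min (F := F) Y η
  exact ⟨⟨⟨X, ξ⟩, hm⟩, i, hξ⟩

lemma isCofiltered_JJ (hart : ∀ X : C, IsArtinianObject X) : IsCofiltered (JJ F) := by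
  have hne : Nonempty (JJ F) := by
    obtain ⟨x⟩ := nonempty_terminal (F := F)
    obtain ⟨j, -, -⟩ := exists_JJ hart _ x
    exact ⟨j⟩
  have : IsCofilteredOrEmpty (JJ F) := by
    constructor
    · intro j j'
      obtain ⟨ζ, h1, h2⟩ := exists_pair j.obj.2 j'.obj.2
      obtain ⟨k, i, hi⟩ := exists_JJ hart _ ζ
      refine ⟨k, ObjectProperty.homMk ⟨i ≫ prod.fst, ?_⟩, ObjectProperty.homMk ⟨i ≫ prod.snd, ?_⟩, trivial⟩
      · change F.map (i ≫ prod.fst) k.obj.2 = j.obj.2
        rw [map_comp_apply, hi, h1]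
      · change F.map (i ≫ prod.snd) k.obj.2 = j'.obj.2
        rw [map_comp_apply, hi, h2]
    · intro j j' a b
      exact ⟨j, 𝟙 j, by rw [hom_ext_JJ a b]⟩
  exact { }

end Groth.Agent.Helper3.ProRep

namespace Groth.Agent.Helper3.ProRep

variable {C : Type u} [SmallCategory C] [HasFiniteLimits C] (F : C ⥤ Type u)
  [PreservesFiniteLimits F]

/-- the cocone exhibiting `F` as the colimit of corepresentables -/
def cocone : Cocone ((DD F).op ⋙ coyoneda) where
  pt := F
  ι :=
    { app := fun j => coyonedaEquiv.symm (j.unop.obj.2)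
      naturality := by
        intro j j' a
        have h : F.map a.unop.hom.1 j'.unop.obj.2 = j.unop.obj.2 := a.unop.hom.2
        ext Y u
        change F.map (a.unop.hom.1 ≫ u) j'.unop.obj.2 = F.map u j.unop.obj.2
        exact (map_comp_apply _ _ _).trans (congrArg (F.map u) h) }

lemma cocone_ι_app (j : (JJ F)ᵒᵖ) (Y : C) (u : (DD F).obj j.unop ⟶ Y) :
    ((cocone F).ι.app j).app Y u = F.map u j.unop.obj.2 := rfl

variable {F}

noncomputable def isColimitCocone (hart : ∀ X : C, IsArtinianObject X) : IsColimit (cocone F) := by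
  have := isCofiltered_JJ (F := F) hart
  apply evaluationJointlyReflectsColimits
  intro Y
  apply Types.FilteredColimit.isColimitOf
  · intro (η : F.obj Y)
    obtain ⟨j, i, hi⟩ := exists_JJ hart Y η
    exact ⟨op j, i, hi.symm⟩
  · intro j j' x x' h
    change F.map x j.unop.obj.2 = F.map x' j'.unop.obj.2 at h
    obtain ⟨k, a, b, -⟩ := IsCofilteredOrEmpty.cone_objs j.unop j'.unop
    refine ⟨op k, a.op, b.op, ?_⟩
    change (DD F).map a ≫ x = (DD F).map b ≫ x'
    have ha : F.map a.hom.1 k.obj.2 = j.unop.obj.2 := a.hom.2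
    have hb : F.map b.hom.1 k.obj.2 = j'.unop.obj.2 := b.hom.2
    refine hom_unique k.property _ _ ?_
    change F.map (a.hom.1 ≫ x) k.obj.2 = F.map (b.hom.1 ≫ x') k.obj.2
    exact (map_comp_apply _ _ _).trans ((congrArg (F.map x) ha).trans (h.trans
      ((congrArg (F.map x') hb).symm.trans (map_comp_apply _ _ _).symm)))

theorem main (hart : ∀ X : C, IsArtinianObject X) :
    ∃ (J : Type u) (_ : SmallCategory J) (_ : IsCofiltered J) (D : J ⥤ C),
      (∀ ⦃j j' : J⦄ (a : j ⟶ j'), Epi (D.map a)) ∧ Nonempty (F ≅ colimit (D.op ⋙ coyoneda)) :=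
  ⟨JJ F, inferInstance, isCofiltered_JJ hart, DD F, fun _ _ a => epi_DD_map a,
    ⟨(isColimitCocone hart).coconePointUniqueUpToIso (colimit.isColimit _)⟩⟩

end Groth.Agent.Helper3.ProRep
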