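import Mathlib
import Groth.Prelude.Def_CohTop

set_option autoImplicit false
universe u
open CategoryTheory Limits Opposite TopologicalSpace

namespace Groth.Agent.Helper3.Prof

variable {X : TopCat.{u}}

/-- restriction of sections -/
noncomputable abbrev rs (F : CohTop.Ab X) {U V : Opens X} (h : V ≤ U) (s : F.obj.obj (op U)) :
    F.obj.obj (op V) := F.obj.map (homOfLE h).op s

lemma rs_rs (F : CohTop.Ab X) {U V W : Opens X} (h : V ≤ U) (h' : W ≤ V) (s : F.obj.obj (op U)) :
    rs F h' (rs F h s) = rs F (h'.trans h) s := by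
  change (F.obj.map (homOfLE h).op ≫ F.obj.map (homOfLE h').op) s = _
  rw [← F.obj.map_comp]
  rfl

lemma rs_app {G H : CohTop.Ab X} (g : G ⟶ H) {U V : Opens X} (h : V ≤ U) (t : G.obj.obj (op U)) :
    g.hom.app (op V) (rs G h t) = rs H h (g.hom.app (op U) t) :=
  ConcreteCategory.congr_hom (g.hom.naturality (homOfLE h).op) t

lemma subsingleton_bot (F : CohTop.Ab X) {U : Opens X} (h : U = ⊥) :
    Subsingleton (F.obj.obj (op U)) := by
  have hz : IsZero (F.obj.obj (op U)) :=
    (IsZero.iff_id_eq_zero _).2 ((TopCat.Sheaf.isTerminalOfEqEmpty F h).hom_ext _ _)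
  exact AddCommGrpCat.subsingleton_of_isZero hz

/-- gluing lifts over two disjoint opens -/
theorem lift_union {G H : CohTop.Ab X} (g : G ⟶ H) (s : H.obj.obj (op ⊤)) (A B : Opens X)
    (hAB : A ⊓ B = ⊥)
    (tA : G.obj.obj (op A)) (htA : g.hom.app _ tA = rs H le_top s)
    (tB : G.obj.obj (op B)) (htB : g.hom.app _ tB = rs H le_top s) :
    ∃ t : G.obj.obj (op (A ⊔ B)), g.hom.app _ t = rs H le_top s := by
  let f : Bool → Opens X := fun b => if b then A else B
  let sf : ∀ b : Bool, G.obj.obj (op (f b)) := fun b =>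
    match b with
    | true => tA
    | false => tB
  have hle : ∀ b, f b ≤ A ⊔ B := by
    intro b
    cases b
    · exact le_sup_right
    · exact le_sup_left
  have hcomp : TopCat.Presheaf.IsCompatible G.obj f sf := by
    intro i j
    cases i <;> cases j
    · rfl
    · have := subsingleton_bot G (U := f false ⊓ f true) (by
        change B ⊓ A = ⊥
        rw [inf_comm]; exact hAB)
      exact Subsingleton.elim _ _
    · have := subsingleton_bot G (U := f true ⊓ f false) hAB
      exact Subsingleton.elim _ _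
    · rfl
  have hcover : A ⊔ B ≤ iSup f := by
    rw [sup_le_iff]
    exact ⟨le_iSup f true, le_iSup f false⟩
  obtain ⟨t, ht, -⟩ := TopCat.Sheaf.existsUnique_gluing' G f (A ⊔ B) (fun b => homOfLE (hle b))
    hcover sf hcomp
  refine ⟨t, ?_⟩
  refine TopCat.Sheaf.eq_of_locally_eq' H f (A ⊔ B) (fun b => homOfLE (hle b)) hcover _ _ ?_
  intro b
  have h1 := rs_app g (hle b) t
  have h2 : rs G (hle b) t = sf b := ht b
  change rs H (hle b) (g.hom.app _ t) = rs H (hle b) (rs H le_top s)
  rw [← h1, h2, rs_rs]
  cases b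
  · exact htB
  · exact htA

/-- on a profinite space, an epimorphism of abelian sheaves is surjective on global sections -/
theorem surjective_of_epi [CompactSpace X] [T2Space X] [TotallyDisconnectedSpace X]
    {G H : CohTop.Ab X} (g : G ⟶ H) [hg : Epi g] : Function.Surjective (g.hom.app (op ⊤)) := by
  intro s
  have hls : TopCat.Presheaf.IsLocallySurjective g.hom :=
    (TopCat.Sheaf.isLocallySurjective_iff_epi g).mpr hg
  rw [TopCat.Presheaf.isLocallySurjective_iff] at hls
  let p : Set X → Prop := fun D => ∃ (W : Opens X), IsClopen (W : Set X) ∧ D ⊆ W ∧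
    ∃ t : G.obj.obj (op W), g.hom.app _ t = rs H le_top s
  have hp : p Set.univ := by
    refine isCompact_univ.induction_on (p := p) ?_ ?_ ?_ ?_
    · refine ⟨⊥, ?_, Set.empty_subset _, 0, ?_⟩
      · rw [Opens.coe_bot]
        exact isClopen_empty
      · have := subsingleton_bot H (U := ⊥) rfl
        exact Subsingleton.elim _ _
    · rintro D D' hDD' ⟨W, hW, hD', t, ht⟩
      exact ⟨W, hW, hDD'.trans hD', t, ht⟩
    · rintro D D' ⟨W, hW, hD, t, ht⟩ ⟨W', hW', hD', t', ht'⟩
      let B : Opens X := ⟨(W' : Set X) \ W, hW'.isOpen.sdiff hW.isClosed⟩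
      have hBW' : B ≤ W' := fun x hx => hx.1
      have hAB : W ⊓ B = ⊥ := by
        ext x
        simp only [Opens.coe_inf, Opens.coe_bot, Set.mem_inter_iff, Set.mem_empty_iff_false,
          iff_false, not_and]
        intro hx hx'
        exact hx'.2 hx
      obtain ⟨t'', ht''⟩ := lift_union g s W B hAB t ht (rs G hBW' t') (by
        rw [rs_app, ht', rs_rs])
      refine ⟨W ⊔ B, ?_, ?_, t'', ht''⟩
      · have : ((W ⊔ B : Opens X) : Set X) = (W : Set X) ∪ W' := by
          ext x
          simp only [Opens.coe_sup, Set.mem_union]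
          constructor
          · rintro (h | h)
            · exact Or.inl h
            · exact Or.inr h.1
          · intro h
            by_cases hx : x ∈ (W : Set X)
            · exact Or.inl hx
            · rcases h with h | h
              · exact Or.inl h
              · exact Or.inr ⟨h, hx⟩
        rw [this]
        exact hW.union hW'
      · intro x hx
        rcases hx with hx | hx
        · exact Or.inl (hD hx)
        · by_cases hxW : x ∈ (W : Set X)
          · exact Or.inl hxW
          · exact Or.inr ⟨hD' hx, hxW⟩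
    · intro x _
      obtain ⟨V, hV, ⟨t, ht⟩, hxV⟩ := hls ⊤ s x trivial
      obtain ⟨C, hC, hxC, hCV⟩ := compact_exists_isClopen_in_isOpen V.isOpen hxV
      let W : Opens X := ⟨C, hC.isOpen⟩
      have hWV : W ≤ V := hCV
      refine ⟨C, mem_nhdsWithin_of_mem_nhds (hC.isOpen.mem_nhds hxC), W, hC, le_rfl,
        rs G hWV t, ?_⟩
      rw [rs_app, ht]
      exact rs_rs H _ _ s
  obtain ⟨W, -, hW, t, ht⟩ := hp
  have hWtop : W = ⊤ := by
    ext x
    simp only [Opens.coe_top, Set.mem_univ, iff_true]
    exact hW (Set.mem_univ x)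
  subst hWtop
  refine ⟨t, ?_⟩
  rw [ht]
  change H.obj.map (homOfLE le_top).op s = s
  have : (homOfLE (le_top : (⊤ : Opens X) ≤ ⊤)).op = 𝟙 _ := rfl
  rw [this, H.obj.map_id]
  rfl

end Groth.Agent.Helper3.Prof
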