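import Mathlib
import Groth.Prelude.Def_Wider
import Groth.Prelude.Def_DDual2
import Groth.Agent.Lib.Helper3.BCDesc2
import Groth.Agent.Lib.Helper3.DualSupp3
import Groth.Agent.Lib.Helper3.BassLem
import Groth.Agent.Lib.Helper3.GorUnit
import Groth.Agent.Lib.Helper3.GorLocus

/-!
# Pointwise dualizing complexes over a Noetherian ring of finite Krull dimension (helper3)
-/

set_option autoImplicit false
universe u w
open CategoryTheory CategoryTheory.Limits Pretriangulated Triangulated TensorProduct DerivedCategory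

attribute [local instance] HasDerivedCategory.standard

namespace Groth.Agent.Helper3.PtDual

open Groth.Agent.Helper3.BCAbs Groth.Agent.Helper3.BCDer Groth.Agent.Helper3.BCDual
  Groth.Agent.Helper5.FlatBC Groth.Agent.Helper3.DualCx Groth.Agent.Helper3.DualSupp
  Groth.Agent.Helper3.BCDesc

section Local

variable {B : Type u} [CommRing B] [IsLocalRing B] [IsNoetherianRing B] {ω : Dual.D B}
  (hω : Dual.IsDualizing B ω)

include hω in
/-- a bound for the degree in which `Ext^i(k, ω)` is nonzero, over a local ring -/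
theorem van_residue_of_bound (d : ℕ) (hd : ringKrullDim B ≤ d) (b₀ : ℤ)
    (hb₀ : ∀ q' : PrimeSpectrum B, q'.asIdeal ∈ minimalPrimes B → ∀ i : ℤ, b₀ < i →
      q' ∉ Module.support B (Dual.HD B ω i)) (i : ℤ) (hi : b₀ + d < i) :
    Van ω i (B ⧸ IsLocalRing.maximalIdeal B) := by
  obtain ⟨j, hj1, hcov⟩ := exists_dimFun hω
  have hmono : ∀ p q : PrimeSpectrum B, p < q → j p < j q :=
    fun p q hpq => strictMono_of_covBy j hcov p.asIdeal p rfl q hpq
  let m : PrimeSpectrum B := IsLocalRing.closedPoint B
  -- a minimal prime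
  obtain ⟨Q, hQ, hQm⟩ := Ideal.exists_minimalPrimes_le (bot_le : (⊥ : Ideal B) ≤ m.asIdeal)
  haveI hQprime : Q.IsPrime := hQ.1.1
  let q' : PrimeSpectrum B := ⟨Q, hQprime⟩
  have hq'm : q' ≤ m := (PrimeSpectrum.asIdeal_le_asIdeal _ _).1 hQm
  -- `q'` is a minimal point of the support of `B`
  have hsupp : q' ∈ Module.support B B := by
    rw [Module.mem_support_iff]
    exact (Groth.Agent.Helper8.Depth.localizedModuleSelfEquiv q'.asIdeal).toEquiv.nontrivial
  have hmin : ∀ q'' : PrimeSpectrum B, q'' ∈ Module.support B B → q'' ≤ q' → q'' = q' := by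
    intro q'' _ hle
    have h1 : q''.asIdeal ≤ Q := (PrimeSpectrum.asIdeal_le_asIdeal _ _).2 hle
    have h2 := hQ.2 ⟨q''.isPrime, bot_le⟩ h1
    exact PrimeSpectrum.ext (le_antisymm h1 h2)
  have h3 := (mem_ES_of_minimal hω j hj1 B q' hsupp hmin).1
  rw [ES_self_eq hω] at h3
  have h4 : j q' ≤ b₀ := by
    by_contra hcon
    push Not at hcon
    exact hb₀ q' hQ (j q') hcon h3
  -- the chain from `q'` to `m`
  have h5 : 0 ≤ j m - j q' := by
    have := mono_of_strictMono j hmono q' m hq'm
    omega
  obtain ⟨l, hl1, -, -⟩ := exists_ltSeries j hmono hcov (j m - j q').toNat q' m hq'm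
    (by rw [Int.toNat_of_nonneg h5])
  have h6 : ((l.length : ℕ) : WithBot ℕ∞) ≤ ringKrullDim B := Order.LTSeries.length_le_krullDim l
  have h7 : (j m - j q').toNat ≤ d := by
    rw [hl1] at h6
    exact_mod_cast h6.trans hd
  have h8 : j m ≤ b₀ + d := by omega
  -- conclude
  have h9 : m ∉ ES ω i (B ⧸ m.asIdeal) := by
    rw [hj1 m i]
    omega
  show Subsingleton (Dual.inD B (B ⧸ IsLocalRing.maximalIdeal B) ⟶ ω⟦i⟧)
  rw [← Module.support_eq_empty_iff (R := B)]
  by_contra hne
  obtain ⟨r, hr⟩ := Set.nonempty_iff_ne_empty.2 hne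
  exact h9 (Module.mem_support_mono (IsLocalRing.le_maximalIdeal r.isPrime.ne_top) hr)

end Local

section Transfer

open Groth.Agent.Helper3.GorLocus

/-- the support of a base change lies over the support -/
theorem comap_mem_support_of_mem_support_tensor (A : Type u) [CommRing A] [IsNoetherianRing A]
    (B : Type u) [CommRing B]
    [Algebra A B] (N : Type u) [AddCommGroup N] [Module A N] (q' : PrimeSpectrum B)
    (h : q' ∈ Module.support B (B ⊗[A] N)) :
    PrimeSpectrum.comap (algebraMap A B) q' ∈ Module.support A N := by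
  have h1 : PrimeSpectrum.comap (algebraMap A B) q' ∈ Module.support A (B ⊗[A] N) :=
    Module.support_subset_preimage_comap (R := A) (A := B) (M := B ⊗[A] N) h
  by_contra hcon
  rw [← subsingleton_tensor_iff] at hcon
  have h2 : Subsingleton (Localization.AtPrime (PrimeSpectrum.comap (algebraMap A B) q').asIdeal
      ⊗[A] (B ⊗[A] N)) :=
    (TensorProduct.leftComm A _ B N).toEquiv.subsingleton
  rw [subsingleton_tensor_iff] at h2
  exact h2 h1

end Transfer

section Main

open Groth.Agent.Helper3.GorLocus Groth.Agent.Helper3.BassLem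

variable (A : Type u) [CommRing A] [IsNoetherianRing A]

/-- the cohomology of the base change to a localization -/
noncomputable def hdEquiv (R : Dual.D A) (p : PrimeSpectrum A) (i : ℤ) :
    Dual.HD (Localization.AtPrime p.asIdeal) ((G (A := A) (Localization.AtPrime p.asIdeal)).obj R) i
      ≃ₗ[Localization.AtPrime p.asIdeal] Localization.AtPrime p.asIdeal ⊗[A] Dual.HD A R i :=
  (homologyGIso (Localization.AtPrime p.asIdeal) R i).toLinearEquiv ≪≫ₗ
    (eqvT (Localization.AtPrime p.asIdeal) (Dual.HD A R i)).symm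

theorem main_S11173 (hdim : ringKrullDim A < ⊤) (R : Dual.D A)
    (hfin : ∀ i : ℤ, Module.Finite A (Dual.HD A R i))
    (hbdd : ∃ a : ℤ, ∀ i : ℤ, i < a → Subsingleton (Dual.HD A R i))
    (h : ∀ p : PrimeSpectrum A,
      ∃ _ : DRing.HasLBaseChange (algebraMap A (Localization.AtPrime p.asIdeal)),
        Dual.IsDualizing (Localization.AtPrime p.asIdeal)
          ((DRing.LBaseChange (algebraMap A (Localization.AtPrime p.asIdeal))).obj R)) :
    Dual.IsDualizing A R := by
  obtain ⟨a, ha⟩ := hbdd
  obtain ⟨d, hd⟩ := Groth.Agent.Helper3.GorBC.exists_nat_ge_of_lt_top hdim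
  have hdual : ∀ p : PrimeSpectrum A, Dual.IsDualizing (Localization.AtPrime p.asIdeal)
      ((G (A := A) (Localization.AtPrime p.asIdeal)).obj R) := by
    intro p
    obtain ⟨hL, hd⟩ := h p
    exact isDualizing_of_iso ((lbcIsoG (A := A) (Localization.AtPrime p.asIdeal)).app R) hd
  have hnoeth : ∀ p : PrimeSpectrum A, IsNoetherianRing (Localization.AtPrime p.asIdeal) :=
    fun p => IsLocalization.isNoetherianRing p.asIdeal.primeCompl _ inferInstance
  -- the base changes are bounded below by `a`
  have hGE : ∀ p : PrimeSpectrum A,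
      ((G (A := A) (Localization.AtPrime p.asIdeal)).obj R).IsGE a := by
    intro p
    rw [DerivedCategory.isGE_iff]
    intro i hi
    haveI := ha i hi
    haveI : Subsingleton (Dual.HD (Localization.AtPrime p.asIdeal)
        ((G (A := A) (Localization.AtPrime p.asIdeal)).obj R) i) :=
      (hdEquiv A R p i).toEquiv.subsingleton
    exact ModuleCat.isZero_of_subsingleton _
  -- the bound at the minimal primes
  have hmin : ∃ b₀ : ℤ, ∀ q : PrimeSpectrum A, q.asIdeal ∈ minimalPrimes A → ∀ i : ℤ, b₀ < i →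
      q ∉ Module.support A (Dual.HD A R i) := by
    have hfinite : (minimalPrimes A).Finite := minimalPrimes.finite_of_isNoetherianRing A
    haveI : Finite (minimalPrimes A) := hfinite.to_subtype
    have hex : ∀ Q : minimalPrimes A, ∃ b : ℤ, ∀ (hQ : Q.1.IsPrime) (i : ℤ), b < i →
        (⟨Q.1, hQ⟩ : PrimeSpectrum A) ∉ Module.support A (Dual.HD A R i) := by
      intro Q
      have hQ : Q.1.IsPrime := Q.2.1.1
      obtain ⟨a', b', h1, h2⟩ := bdd_of_isDualizing (hdual ⟨Q.1, hQ⟩)
      refine ⟨b', fun _ i hi => ?_⟩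
      rw [← subsingleton_tensor_iff]
      have hz := DerivedCategory.isZero_of_isLE
        ((G (A := A) (Localization.AtPrime (⟨Q.1, hQ⟩ : PrimeSpectrum A).asIdeal)).obj R) b' i hi
      haveI := ModuleCat.subsingleton_of_isZero hz
      exact (hdEquiv A R ⟨Q.1, hQ⟩ i).symm.toEquiv.subsingleton
    choose b hb using hex
    obtain ⟨b₀, hb₀⟩ := Finite.exists_le b
    refine ⟨b₀, fun q hq i hi => ?_⟩
    exact hb ⟨q.asIdeal, hq⟩ q.isPrime i (lt_of_le_of_lt (hb₀ ⟨q.asIdeal, hq⟩) hi)
  obtain ⟨b₀, hb₀⟩ := hmin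
  -- uniform injective dimension of the localizations
  have hloc : ∀ (p : PrimeSpectrum A) (N : Type u) [AddCommGroup N]
      [Module (Localization.AtPrime p.asIdeal) N] (i : ℤ), (i < a ∨ b₀ + d < i) →
      Subsingleton (Dual.inD (Localization.AtPrime p.asIdeal) N ⟶
        ((G (A := A) (Localization.AtPrime p.asIdeal)).obj R)⟦i⟧) := by
    intro p N _ _ i hi
    haveI := hnoeth p
    haveI := hGE p
    haveI := hfin
    have hdimp : ringKrullDim (Localization.AtPrime p.asIdeal) ≤ d := by
      rw [IsLocalization.AtPrime.ringKrullDim_eq_height p.asIdeal]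
      exact Ideal.height_le_ringKrullDim_of_isPrime.trans hd
    refine injdim_of_residue ((G (A := A) (Localization.AtPrime p.asIdeal)).obj R) a (b₀ + d)
      (fun i => finite_homology_G (Localization.AtPrime p.asIdeal) R i) ?_ N i hi
    intro i hi
    refine van_residue_of_bound (hdual p) d hdimp b₀ ?_ i hi
    intro q' hq' k hk hmem
    rw [(hdEquiv A R p k).support_eq] at hmem
    have h1 := comap_mem_support_of_mem_support_tensor A (Localization.AtPrime p.asIdeal)
      (Dual.HD A R k) q' hmem
    refine hb₀ _ ?_ k hk h1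
    have h2 := IsLocalization.minimalPrimes_map p.asIdeal.primeCompl
      (Localization.AtPrime p.asIdeal) (⊥ : Ideal A)
    rw [Ideal.map_bot] at h2
    have h3 : q'.asIdeal ∈ (⊥ : Ideal (Localization.AtPrime p.asIdeal)).minimalPrimes := hq'
    rw [h2] at h3
    exact h3
  -- boundedness of `R`
  have hLE : R.IsLE (b₀ + d) := by
    rw [DerivedCategory.isLE_iff]
    intro i hi
    haveI : Subsingleton (Dual.HD A R i) := by
      apply jf_of_prime.{u, u} (A := A)
      intro p
      have h1 : Van ((G (A := A) (Localization.AtPrime p.asIdeal)).obj R) i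
          (Localization.AtPrime p.asIdeal) := hloc p _ i (Or.inr hi)
      rw [van_self_iff] at h1
      exact (hdEquiv A R p i).symm.toEquiv.subsingleton
    exact ModuleCat.isZero_of_subsingleton _
  have hGE' : R.IsGE a := by
    rw [DerivedCategory.isGE_iff]
    intro i hi
    haveI := ha i hi
    exact ModuleCat.isZero_of_subsingleton _
  have hBdd : Bdd R := ⟨a, b₀ + d, hGE', hLE⟩
  have hinj := Groth.Agent.Helper3.GorUnit.injdim_of_family_uniform
    (fun p : PrimeSpectrum A => Localization.AtPrime p.asIdeal) jf_of_prime R hBdd a (b₀ + d)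
    (fun p M _ _ n hn => hloc p M n hn)
  exact isDualizing_of_family (fun p : PrimeSpectrum A => Localization.AtPrime p.asIdeal)
    jf_of_prime jf_of_prime R hBdd hfin ⟨a, b₀ + d, hinj⟩ hdual

end Main

end Groth.Agent.Helper3.PtDual
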