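import Mathlib
import Groth.Prelude.Def_CAlgX
import Groth.Prelude.Def_W4stkadequatePure

set_option autoImplicit false
universe u

namespace Groth.Agent.Helper3.PureLib

open TensorProduct

variable {R : Type u} [CommRing R] {M B : Type u} [AddCommGroup M] [Module R M]
  [AddCommGroup B] [Module R B]

/-- flip of a linear map into a character module -/
def flipChar (φ : M →ₗ[R] CharacterModule B) : B →ₗ[R] CharacterModule M where
  toFun b :=
    { toFun := fun m => φ m b
      map_zero' := by rw [map_zero]; rfl
      map_add' := fun m m' => by rw [map_add]; rfl }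
  map_add' b b' := by
    ext m
    exact map_add (φ m) b b'
  map_smul' r b := by
    ext m
    show φ m (r • b) = φ (r • m) b
    rw [LinearMap.map_smul φ r m, CharacterModule.smul_apply]

theorem dual_flipChar_comp_charEval (φ : M →ₗ[R] CharacterModule B) :
    (CharacterModule.dual (flipChar φ)) ∘ₗ PureExt.charEval R M = φ := by
  ext m b
  rfl

theorem universallyInjective_charEval (R : Type u) [CommRing R] (M : Type u) [AddCommGroup M]
    [Module R M] : CAlgX.UniversallyInjective R (PureExt.charEval R M) := by
  intro Q _ _
  rw [rTensor_injective_iff_lcomp_surjective]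
  intro φ
  exact ⟨CharacterModule.dual (flipChar φ), dual_flipChar_comp_charEval φ⟩

theorem charModule_pureInjective {K L : Type u} [AddCommGroup K] [Module R K] [AddCommGroup L]
    [Module R L] (f : K →ₗ[R] L) (hf : CAlgX.UniversallyInjective R f)
    (φ : K →ₗ[R] CharacterModule B) : ∃ ψ : L →ₗ[R] CharacterModule B, ψ ∘ₗ f = φ := by
  have h := (rTensor_injective_iff_lcomp_surjective (R := R) (B := B) (f := f)).1 (hf B)
  obtain ⟨ψ, hψ⟩ := h φ
  exact ⟨ψ, hψ⟩

end Groth.Agent.Helper3.PureLib
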