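import Mathlib
import Groth.Prelude.Def_CohSite
import Groth.Prelude.Def_CohCx
import Groth.Agent.S0861
import Groth.Agent.Lib.Helper3.CechNerveResU
import Groth.Agent.Lib.Helper3.OverPostProd2
import Groth.Agent.Lib.Helper3.CechInj
import Groth.Agent.Lib.Helper3.CechEdgeE

set_option autoImplicit false
universe u
open CategoryTheory Limits Opposite

namespace Groth.Agent.Helper3.PushAcy

/-- the restriction of an injective sheaf along a continuous functor preserving fibre products is
acyclic on every object (no fibre products needed in the target) -/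
theorem subsingleton_HU_push_injective {C D : Type u} [SmallCategory C] [SmallCategory D]
    [HasPullbacks C] (J : GrothendieckTopology C) (K : GrothendieckTopology D) (u : C ⥤ D)
    [PreservesLimitsOfShape WalkingCospan u] [u.IsContinuous J K]
    (I : Sheaf K AddCommGrpCat.{u}) [Injective I] (U : C) (p : ℕ) :
    Subsingleton (CohSite.HU ((CohSite.push K J u).obj I) (p + 1) U) := by
  refine Groth.Agent.S0861.result J Set.univ
    (fun U ι Y => Sieve.ofArrows (fun i => (Y i).left) (fun i => (Y i).hom) ∈ J U)
    (fun U ι Y hY => ⟨Set.mem_univ _, hY, fun _ _ => Set.mem_univ _⟩)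
    (fun U _ T hT => ⟨CechEdgeE.Idx T, CechEdgeE.fam T, by rw [CechEdgeE.ofArrows_fam]; exact hT,
      fun i => i.2.2⟩)
    ((CohSite.push K J u).obj I) ?_ U (Set.mem_univ _) p
  intro U ι Y _ p
  have := OverPostProd2.preservesFiniteProducts_overPost u U
  exact CechNerveResU.isZero_cech_of_injective u Y I.obj p

end Groth.Agent.Helper3.PushAcy
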