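import Mathlib
import Groth.Prelude.Def_QFDual

namespace Groth.Agent.Helper3.QFD

open TensorProduct

universe u

/-- trace via a "dual basis" for a finite free module. -/
theorem trace_eq_sum_of_dualBasis {K L : Type*} [CommRing K] [AddCommGroup L] [Module K L]
    [Module.Free K L] [Module.Finite K L] {n : ℕ} (l : Fin n → L) (ψ : Fin n → (L →ₗ[K] K))
    (h : ∀ x, ∑ i, ψ i x • l i = x) (f : L →ₗ[K] L) :
    LinearMap.trace K L f = ∑ i, ψ i (f (l i)) := by
  have hf : f = dualTensorHom K L L (∑ i, ψ i ⊗ₜ f (l i)) := by
    ext x
    simp only [map_sum, dualTensorHom_apply, LinearMap.coe_sum, Finset.sum_apply]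
    conv_lhs => rw [← h x]
    simp
  rw [show LinearMap.trace K L f = LinearMap.trace K L (dualTensorHom K L L (∑ i, ψ i ⊗ₜ f (l i)))
    from by rw [← hf], LinearMap.trace_eq_contract_apply]
  simp [contractLeft_apply]

/-- projective dual basis gives membership of trace in A. -/
theorem trace_mem_range_of_projective (A K B L : Type u) [CommRing A] [CommRing K] [CommRing B]
    [CommRing L] [Algebra A K] [Algebra A B] [Algebra B L] [Algebra K L] [Algebra A L]
    [IsScalarTower A K L] [IsScalarTower A B L]
    [Module.Free K L] [Module.Finite K L] [Module.Finite A B] [Module.Projective A B]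
    (hbc : IsBaseChange K (IsScalarTower.toAlgHom A B L).toLinearMap) (b : B) :
    Algebra.trace K L (algebraMap B L b) ∈ (algebraMap A K).range := by
  obtain ⟨n, f, g, -, -, hfg⟩ := Module.Finite.exists_comp_eq_id_of_projective A B
  classical
  let bb : Fin n → B := fun i => f (Pi.single i 1)
  let φ : Fin n → (B →ₗ[A] A) := fun i => LinearMap.proj i ∘ₗ g
  have hB : ∀ x : B, ∑ i, φ i x • bb i = x := by
    intro x
    have h1 : f (g x) = x := by
      have := congrArg (fun t => t x) hfg
      simpa using this
    conv_rhs => rw [← h1]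
    have h2 : g x = ∑ i, (g x i) • (Pi.single i 1 : Fin n → A) := by
      ext j
      simp [Finset.sum_apply, Pi.single_apply]
    conv_rhs => rw [h2]
    simp [φ, bb]
  let ψ : Fin n → (L →ₗ[K] K) := fun i => hbc.lift ((Algebra.linearMap A K) ∘ₗ φ i)
  have hψ : ∀ i (x : B), ψ i (algebraMap B L x) = algebraMap A K (φ i x) := by
    intro i x
    have := hbc.lift_eq ((Algebra.linearMap A K) ∘ₗ φ i) x
    simpa using this
  let l : Fin n → L := fun i => algebraMap B L (bb i)
  have hL : ∀ x : L, ∑ i, ψ i x • l i = x := by
    have hmap : (∑ i, (ψ i).smulRight (l i)) = (LinearMap.id : L →ₗ[K] L) := by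
      apply hbc.algHom_ext
      intro x
      simp only [LinearMap.coe_sum, Finset.sum_apply, LinearMap.smulRight_apply,
        LinearMap.id_apply]
      change ∑ i, ψ i (algebraMap B L x) • l i = algebraMap B L x
      simp only [hψ, l]
      conv_rhs => rw [← hB x]
      rw [map_sum]
      refine Finset.sum_congr rfl fun i _ => ?_
      rw [algebraMap_smul, Algebra.smul_def, Algebra.smul_def, map_mul,
        ← IsScalarTower.algebraMap_apply A B L]
    intro x
    have := congrArg (fun t => t x) hmap
    simpa using this
  rw [Algebra.trace_apply, trace_eq_sum_of_dualBasis l ψ hL]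
  refine ⟨∑ i, φ i (b * bb i), ?_⟩
  rw [map_sum]
  refine Finset.sum_congr rfl fun i _ => ?_
  change algebraMap A K _ = ψ i (algebraMap B L b * algebraMap B L (bb i))
  rw [← map_mul, hψ]

theorem main_S8960 (A K B L : Type u) [CommRing A] [CommRing K] [CommRing B] [CommRing L]
    [Algebra A K] [Algebra A B] [Algebra B L] [Algebra K L] [Algebra A L] [IsScalarTower A K L]
    [IsScalarTower A B L] (h : QFDual.IsDedekindDefined A K B L) [Module.Flat A B] :
    (1 : L) ∈ QFDual.complementary A K B L := by
  haveI := h.isNoetherianRing
  haveI := h.finite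
  haveI := h.free
  haveI := h.finiteKL
  haveI := h.isFractionRing
  haveI := h.isLocalization
  haveI : Module.FinitePresentation A B := Module.finitePresentation_of_finite A B
  haveI : Module.Projective A B := Module.Flat.projective_of_finitePresentation
  have hbc : IsBaseChange K (IsScalarTower.toAlgHom A B L).toLinearMap :=
    IsLocalizedModule.isBaseChange (nonZeroDivisors A) K _
  intro b
  rw [one_mul]
  exact trace_mem_range_of_projective A K B L hbc b

end Groth.Agent.Helper3.QFD
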