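import Mathlib
import Groth.Prelude.Def_QFDual

namespace Groth.Agent.Helper3.QFD

open TensorProduct

universe u

/-- Flat base change of the dual of a finitely presented module. -/
theorem isBaseChange_toDual_of_flat {R V W S : Type u} [CommRing R] [CommRing S] [Algebra R S]
    [AddCommGroup V] [Module R V] [AddCommGroup W] [Module R W] [Module S W] [IsScalarTower R S W]
    [Module.Flat R S] [Module.FinitePresentation R V] {j : V →ₗ[R] W} (ibc : IsBaseChange S j) :
    IsBaseChange S ibc.toDual := by
  have h0 := Module.FinitePresentation.isBaseChange_map R V R S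
  let eN : (S ⊗[R] V →ₗ[S] S ⊗[R] R) ≃ₗ[S] (W →ₗ[S] S) :=
    LinearEquiv.arrowCongr ibc.equiv (AlgebraTensorModule.rid R S S)
  refine (IsBaseChange.iff_of_equiv_comm (LinearEquiv.refl R _) eN ?_).mp h0
  ext φ : 1
  apply ibc.algHom_ext
  intro v
  simp [eN, IsBaseChange.toDual_comp_apply, IsBaseChange.equiv_symm_apply,
    Algebra.algebraMap_eq_smul_one]

section omega

variable {A B' : Type u} [CommRing A] [CommRing B'] [Algebra A B']

/-- The `A`-module structure on `Disc.Omega A B'` through `B'`. -/
@[reducible] noncomputable def omegaModA : Module A (Disc.Omega A B') :=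
  Module.compHom _ (algebraMap A B')

attribute [local instance] omegaModA

theorem omega_smul_def (a : A) (φ : Disc.Omega A B') : a • φ = algebraMap A B' a • φ := rfl

instance omega_isScalarTower : IsScalarTower A B' (Disc.Omega A B') :=
  ⟨fun a b φ => by rw [omega_smul_def, Algebra.smul_def, mul_smul]⟩

/-- `Disc.Omega A B'` is `A`-linearly the dual of `B'`. -/
noncomputable def omegaEquivDual : Disc.Omega A B' ≃ₗ[A] Module.Dual A B' where
  toFun φ := φ.toLinearMap
  invFun f := ⟨f⟩
  map_add' _ _ := rfl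
  map_smul' a φ := by
    ext x
    change φ.toLinearMap (algebraMap A B' a * x) = a • φ.toLinearMap x
    rw [← Algebra.smul_def, map_smul]
  left_inv _ := rfl
  right_inv _ := rfl

@[simp] theorem omegaEquivDual_apply (φ : Disc.Omega A B') :
    omegaEquivDual φ = φ.toLinearMap := rfl

variable {A₁ B'₁ : Type u} [CommRing A₁] [CommRing B'₁]
  [Algebra A A₁] [Algebra B' B'₁] [Algebra A₁ B'₁] [Algebra A B'₁]
  [IsScalarTower A A₁ B'₁] [IsScalarTower A B' B'₁]

/-- The map `B'₁ ⊗_{B'} Ω → Ω₁`. -/
noncomputable def bcT (h : Algebra.IsPushout A A₁ B' B'₁) :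
    B'₁ ⊗[B'] Disc.Omega A B' →ₗ[B'₁] Disc.Omega A₁ B'₁ :=
  (TensorProduct.lid B'₁ (Disc.Omega A₁ B'₁)).toLinearMap ∘ₗ QFDual.omegaBC (B₁ := B'₁) h

theorem bcT_tmul (h : Algebra.IsPushout A A₁ B' B'₁) (b : B'₁) (φ : Disc.Omega A B') :
    bcT h (b ⊗ₜ φ) = b • QFDual.bcFin h φ := by
  simp [bcT]

theorem bcT_bijective [IsNoetherianRing A] [Module.Finite A B'] [Module.Flat A A₁]
    (h : Algebra.IsPushout A A₁ B' B'₁) : Function.Bijective (bcT h) := by
  haveI : Module.FinitePresentation A B' := Module.finitePresentation_of_finite A B'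
  have hE := isBaseChange_toDual_of_flat h.out
  let E := hE.equiv
  haveI : Algebra.IsPushout A A₁ B' B'₁ := h
  let c := Algebra.IsPushout.cancelBaseChange A A₁ B' B'₁ (Disc.Omega A B')
  let d : A₁ ⊗[A] Disc.Omega A B' ≃ₗ[A₁] A₁ ⊗[A] Module.Dual A B' :=
    LinearEquiv.baseChange A A₁ _ _ omegaEquivDual
  have key : ∀ y : A₁ ⊗[A] Disc.Omega A B', (bcT h (c.symm y)).toLinearMap = E (d y) := by
    intro y
    induction y using TensorProduct.induction_on with
    | zero => simp
    | add x y hx hy => simp only [map_add, Disc.Omega.add_toLinearMap, hx, hy]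
    | tmul s φ =>
      simp only [c, Algebra.IsPushout.cancelBaseChange_symm_tmul, bcT_tmul, d, E]
      rw [LinearEquiv.baseChange_tmul, IsBaseChange.equiv_tmul]
      ext x
      simp only [Disc.Omega.smul_toLinearMap_apply, LinearMap.smul_apply, omegaEquivDual_apply]
      rw [← Algebra.smul_def, map_smul]
      rfl
  constructor
  · intro x x' hxx
    have h1 : c x = c x' := by
      apply d.injective
      apply E.injective
      rw [← key, ← key, c.symm_apply_apply, c.symm_apply_apply, hxx]
    exact c.injective h1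
  · intro ψ
    refine ⟨c.symm (d.symm (E.symm ψ.toLinearMap)), ?_⟩
    apply Disc.Omega.ext
    rw [key]
    simp

variable {B₁ : Type u} [CommRing B₁] [Algebra B'₁ B₁] [Algebra B' B₁] [IsScalarTower B' B'₁ B₁]

theorem main_S8958_aux [IsNoetherianRing A] [Module.Finite A B'] [Module.Flat A A₁]
    (h : Algebra.IsPushout A A₁ B' B'₁) :
    Function.Bijective (QFDual.omegaBC (B₁ := B₁) h) := by
  let T : B'₁ ⊗[B'] Disc.Omega A B' ≃ₗ[B'₁] Disc.Omega A₁ B'₁ :=
    LinearEquiv.ofBijective (bcT h) (bcT_bijective h)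
  let c := TensorProduct.AlgebraTensorModule.cancelBaseChange B' B'₁ B₁ B₁ (Disc.Omega A B')
  let L : B₁ ⊗[B'₁] (B'₁ ⊗[B'] Disc.Omega A B') ≃ₗ[B₁] B₁ ⊗[B'₁] Disc.Omega A₁ B'₁ :=
    TensorProduct.AlgebraTensorModule.congr (LinearEquiv.refl B₁ B₁) T
  have key : ∀ y, QFDual.omegaBC (B₁ := B₁) h (c y) = L y := by
    intro y
    induction y using TensorProduct.induction_on with
    | zero => simp
    | add x y hx hy => simp only [map_add, hx, hy]
    | tmul b z =>
      induction z using TensorProduct.induction_on with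
      | zero => simp
      | add x y hx hy => simp only [tmul_add, map_add, hx, hy]
      | tmul b' φ =>
        simp only [c, L, T, TensorProduct.AlgebraTensorModule.cancelBaseChange_tmul,
          QFDual.omegaBC_tmul, TensorProduct.AlgebraTensorModule.congr_tmul,
          LinearEquiv.refl_apply, LinearEquiv.ofBijective_apply, bcT_tmul]
        rw [TensorProduct.smul_tmul]
  have : (QFDual.omegaBC (B₁ := B₁) h : _ → _) = L ∘ c.symm := by
    funext x
    simp [← key]
  rw [this]
  exact L.bijective.comp c.symm.bijective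

end omega

end Groth.Agent.Helper3.QFD
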