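import Mathlib

namespace Groth.Agent.Helper3.TrInt

open Polynomial

universe u

theorem adjoinRoot_of_injective {K : Type u} [CommRing K] (χ : K[X]) (hχ : χ.Monic)
    (hd : 0 < χ.natDegree) : Function.Injective (AdjoinRoot.of χ) := by
  haveI : Nontrivial K := by
    by_contra h
    rw [not_nontrivial_iff_subsingleton] at h
    have : χ.natDegree = 0 := by
      rw [Subsingleton.elim χ 0]; simp
    omega
  intro r r' h
  have h1 := congrArg (AdjoinRoot.modByMonicHom hχ) h
  rw [← AdjoinRoot.mk_C, ← AdjoinRoot.mk_C, AdjoinRoot.modByMonicHom_mk,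
    AdjoinRoot.modByMonicHom_mk] at h1
  have hdeg : ∀ a : K, (C a : K[X]).degree < χ.degree := by
    intro a
    refine lt_of_le_of_lt degree_C_le ?_
    rw [← natDegree_pos_iff_degree_pos]
    exact hd
  rw [(modByMonic_eq_self_iff hχ).mpr (hdeg r), (modByMonic_eq_self_iff hχ).mpr (hdeg r')] at h1
  exact C_injective h1

/-- Splitting ring of a monic polynomial. -/
theorem exists_splitting_ring : ∀ (n : ℕ) (K : Type u) [CommRing K] (χ : K[X]), χ.Monic →
    χ.natDegree = n →
    ∃ (K' : Type u) (_ : CommRing K') (ι : K →+* K'), Function.Injective ι ∧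
      ∃ s : Multiset K', χ.map ι = (s.map (fun a => X - C a)).prod := by
  intro n
  induction n with
  | zero =>
    intro K _ χ hχ hn
    refine ⟨K, inferInstance, RingHom.id K, Function.injective_id, 0, ?_⟩
    rw [hχ.natDegree_eq_zero.mp hn]
    simp
  | succ n ih =>
    intro K _ χ hχ hn
    have hinj := adjoinRoot_of_injective χ hχ (by omega)
    set ι₁ := AdjoinRoot.of χ with hι₁
    set x := AdjoinRoot.root χ with hx
    have hroot : (χ.map ι₁).IsRoot x := by
      rw [IsRoot, eval_map]
      exact AdjoinRoot.eval₂_root χ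
    have hfac := (mul_divByMonic_eq_iff_isRoot (p := χ.map ι₁) (a := x)).mpr hroot
    set χ₁ := χ.map ι₁ /ₘ (X - C x) with hχ₁
    have hm : (χ.map ι₁).Monic := hχ.map ι₁
    have hχ₁m : χ₁.Monic := by
      have : ((X - C x) * χ₁).Monic := by rw [hfac]; exact hm
      exact (monic_X_sub_C x).of_mul_monic_left this
    have hχ₁d : χ₁.natDegree = n := by
      haveI : Nontrivial (AdjoinRoot χ) := by
        by_contra h
        rw [not_nontrivial_iff_subsingleton] at h
        haveI : Subsingleton K := hinj.subsingleton
        have : χ.natDegree = 0 := by rw [Subsingleton.elim χ 0]; simp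
        omega
      rw [hχ₁, natDegree_divByMonic _ (monic_X_sub_C x), natDegree_X_sub_C, hχ.natDegree_map,
        hn]
      rfl
    obtain ⟨K', _, ι₂, hι₂, s, hs⟩ := ih (AdjoinRoot χ) χ₁ hχ₁m hχ₁d
    refine ⟨K', inferInstance, ι₂.comp ι₁, hι₂.comp hinj, ι₂ x ::ₘ s, ?_⟩
    rw [← Polynomial.map_map, ← hfac, Polynomial.map_mul, hs]
    simp

/-- Coefficients of a product of `X - C a` with all `a` in a subring lie in that subring. -/
theorem coeff_prod_X_sub_C_mem {K' : Type u} [CommRing K'] (S : Subring K') (s : Multiset K')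
    (hs : ∀ a ∈ s, a ∈ S) (k : ℕ) : ((s.map (fun a => X - C a)).prod).coeff k ∈ S := by
  induction s using Multiset.induction_on generalizing k with
  | empty =>
    simp only [Multiset.map_zero, Multiset.prod_zero, coeff_one]
    split_ifs
    · exact S.one_mem
    · exact S.zero_mem
  | cons a s ih =>
    rw [Multiset.map_cons, Multiset.prod_cons, sub_mul, coeff_sub, coeff_C_mul]
    have ih' := ih (fun b hb => hs b (Multiset.mem_cons_of_mem hb))
    refine S.sub_mem ?_ (S.mul_mem (hs a (Multiset.mem_cons_self a s)) (ih' k))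
    cases k with
    | zero => simp [S.zero_mem]
    | succ k => rw [coeff_X_mul]; exact ih' k

/-- A monic factor of a monic polynomial with coefficients in `A` has coefficients integral
over `A` (over an arbitrary commutative ring). -/
theorem isIntegral_coeff_of_monic_dvd {A K : Type u} [CommRing A] [CommRing K] [Algebra A K]
    (χ : K[X]) (hχ : χ.Monic) (P : A[X]) (hP : P.Monic) (hd : χ ∣ P.map (algebraMap A K))
    (k : ℕ) : IsIntegral A (χ.coeff k) := by
  obtain ⟨K', _, ι, hι, s, hs⟩ := exists_splitting_ring χ.natDegree K χ hχ rfl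
  letI : Algebra A K' := (ι.comp (algebraMap A K)).toAlgebra
  let ιa : K →ₐ[A] K' := { ι with commutes' := fun _ => rfl }
  have hroot : ∀ a ∈ s, IsIntegral A a := by
    intro a ha
    refine ⟨P, hP, ?_⟩
    have h1 : (χ.map ι).eval a = 0 := by
      rw [hs]
      obtain ⟨t, rfl⟩ := Multiset.exists_cons_of_mem ha
      simp
    have h2 : χ.map ι ∣ (P.map (algebraMap A K)).map ι := Polynomial.map_dvd ι hd
    rw [Polynomial.map_map] at h2
    have h3 : (P.map (ι.comp (algebraMap A K))).eval a = 0 := by
      obtain ⟨q, hq⟩ := h2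
      rw [hq, eval_mul, h1, zero_mul]
    rw [eval_map] at h3
    exact h3
  have h4 := coeff_prod_X_sub_C_mem (integralClosure A K').toSubring s hroot k
  rw [← hs, coeff_map] at h4
  have h5 : IsIntegral A (ιa (χ.coeff k)) := h4
  exact (isIntegral_algHom_iff ιa hι).mp h5

/-- If `P(M) = 0` then the characteristic polynomial of `M` divides `P ^ n`. -/
theorem charpoly_dvd_pow_of_aeval_eq_zero {A K : Type u} [CommRing A] [CommRing K] [Algebra A K]
    {n : Type*} [Fintype n] [DecidableEq n] (M : Matrix n n K) (P : A[X])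
    (hPM : Polynomial.aeval M P = 0) :
    M.charpoly ∣ (P.map (algebraMap A K)) ^ Fintype.card n := by
  set PK : K[X] := P.map (algebraMap A K) with hPK
  -- polynomial in Y over K[X]
  set Q : K[X][X] := PK.map C with hQ
  have hQev : Q.eval (X : K[X]) = PK := by
    rw [hQ, eval_map, eval₂_C_X]
  obtain ⟨G, hG⟩ := X_sub_C_dvd_sub_C_eval (a := (X : K[X])) (p := Q)
  rw [hQev] at hG
  set m : Matrix n n K[X] := (C : K →+* K[X]).mapMatrix M with hm
  have h1 := congrArg (Polynomial.aeval m) hG
  have hQm : Polynomial.aeval m Q = 0 := by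
    have e1 : Q = P.map (algebraMap A K[X]) := by
      rw [hQ, hPK, Polynomial.map_map]
      rfl
    rw [e1, Polynomial.aeval_map_algebraMap]
    let g : Matrix n n K →ₐ[A] Matrix n n K[X] :=
      (IsScalarTower.toAlgHom A K K[X]).mapMatrix
    have e2 : m = g M := rfl
    rw [e2, Polynomial.aeval_algHom_apply, hPM, map_zero]
  rw [map_sub, hQm, map_mul, map_sub, aeval_X, aeval_C, aeval_C] at h1
  have h2 : (algebraMap K[X] (Matrix n n K[X]) PK) = M.charmatrix * (Polynomial.aeval m G) := by
    have : M.charmatrix = algebraMap K[X] (Matrix n n K[X]) X - m := rfl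
    rw [this]
    have h3 : -(algebraMap K[X] (Matrix n n K[X]) PK) =
        (m - algebraMap K[X] (Matrix n n K[X]) X) * (Polynomial.aeval m G) := by
      rw [← h1, zero_sub]
    rw [← neg_neg (algebraMap K[X] (Matrix n n K[X]) PK), h3, ← neg_mul, neg_sub]
  have h4 := congrArg Matrix.det h2
  rw [Matrix.det_mul, Matrix.algebraMap_eq_diagonal, Matrix.det_diagonal] at h4
  simp only [Pi.algebraMap_apply, Algebra.algebraMap_self, RingHom.id_apply, Finset.prod_const,
    Finset.card_univ] at h4
  exact ⟨_, h4⟩

/-- The trace of an element integral over `A` in a finite free algebra over an `A`-algebra `K`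
is integral over `A`. -/
theorem isIntegral_trace {A K L : Type u} [CommRing A] [CommRing K] [CommRing L]
    [Algebra A K] [Algebra K L] [Algebra A L] [IsScalarTower A K L]
    [Module.Free K L] [Module.Finite K L] (y : L) (hy : IsIntegral A y) :
    IsIntegral A (Algebra.trace K L y) := by
  classical
  obtain ⟨P, hP, hPy⟩ := hy
  let b := Module.Free.chooseBasis K L
  rw [Algebra.trace_eq_matrix_trace b y]
  set M := Algebra.leftMulMatrix b y with hM
  by_cases hne : Nonempty (Module.Free.ChooseBasisIndex K L)
  · rw [Matrix.trace_eq_neg_charpoly_coeff]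
    refine IsIntegral.neg ?_
    have hPM : Polynomial.aeval M P = 0 := by
      let g : L →ₐ[A] Matrix _ _ K := (Algebra.leftMulMatrix b).restrictScalars A
      have : M = g y := rfl
      rw [this, Polynomial.aeval_algHom_apply]
      have : Polynomial.aeval y P = 0 := hPy
      rw [this, map_zero]
    have hdvd := charpoly_dvd_pow_of_aeval_eq_zero M P hPM
    rw [← Polynomial.map_pow] at hdvd
    exact isIntegral_coeff_of_monic_dvd M.charpoly (Matrix.charpoly_monic M) _
      (hP.pow _) hdvd _
  · rw [not_nonempty_iff] at hne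
    have : Matrix.trace M = 0 := by
      simp [Matrix.trace]
    rw [this]
    exact isIntegral_zero

end Groth.Agent.Helper3.TrInt
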