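import Mathlib
import Groth.Prelude.Def_QFDual
import Groth.Prelude.Def_EGA4b
import Groth.Agent.Lib.Helper3.TrInt
import Groth.Agent.Lib.Helper6.Normal.IntClosedIn

namespace Groth.Agent.Helper3.QFD

universe u

theorem main_S8961 (A K B L : Type u) [CommRing A] [CommRing K] [CommRing B] [CommRing L]
    [Algebra A K] [Algebra A B] [Algebra B L] [Algebra K L] [Algebra A L] [IsScalarTower A K L]
    [IsScalarTower A B L] (h : QFDual.IsDedekindDefined A K B L) (hA : EGA4.IsNormalRing A) :
    (1 : L) ∈ QFDual.complementary A K B L := by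
  haveI := h.finite
  haveI := h.free
  haveI := h.finiteKL
  haveI := h.isFractionRing
  intro b
  rw [one_mul]
  have hb : IsIntegral A b := IsIntegral.of_finite A b
  have hy : IsIntegral A (algebraMap B L b) := hb.map (IsScalarTower.toAlgHom A B L)
  have ht := Groth.Agent.Helper3.TrInt.isIntegral_trace (K := K) (algebraMap B L b) hy
  obtain ⟨c, hc⟩ := Groth.Agent.Lib.Helper6.Normal.exists_of_isIntegral_of_isNormalRing hA
    (nonZeroDivisors A) le_rfl _ ht
  exact ⟨c, hc⟩

end Groth.Agent.Helper3.QFD
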