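import Mathlib
import Groth.Prelude.Def_QFDual
import Groth.Agent.Lib.Helper1.MiscL

namespace Groth.Agent.Helper3.QFD

open TensorProduct

universe u

section rankOne

variable {R M : Type*} [CommRing R] [AddCommGroup M] [Module R M]

/-- Rank-one identity for invertible modules. -/
theorem invertible_rankOne [Module.Invertible R M] (φ : Module.Dual R M) (x y : M) :
    φ x • y = φ y • x := by
  -- step 1
  have step1 : ∀ (f : Module.Dual R M) (m : M),
      (f m) ^ 4 • (φ x • y - φ y • x) = 0 := by
    intro f m
    obtain ⟨s, hs⟩ := (Module.Invertible.toModuleEnd_bijective R M).surjective (f.smulRight m)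
    have hs' : ∀ z : M, s • z = f z • m := by
      intro z
      have := congrArg (fun g => g z) hs
      simpa using this
    set r := f m with hr
    have h1 : s * r = r * r := by
      have := congrArg f (hs' m)
      simpa [hr] using this
    have h2 : ∀ z : M, (r * r) • z = (r * f z) • m := by
      intro z
      rw [← h1, mul_comm s r, mul_smul, hs', smul_smul]
    have h3 : ∀ z : M, (r * r) * φ z = r * f z * φ m := by
      intro z
      have := congrArg φ (h2 z)
      simpa using this
    have h4 : ∀ z w : M, r ^ 4 • (φ z • w) = (r * f z * φ m * (r * f w)) • m := by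
      intro z w
      have : r ^ 4 • (φ z • w) = ((r * r) * φ z) • ((r * r) • w) := by
        rw [smul_smul, smul_smul]; congr 1; ring
      rw [this, h3, h2, smul_smul]
    rw [smul_sub, h4, h4, sub_eq_zero]
    congr 1; ring
  -- step 2
  set d := φ x • y - φ y • x with hd
  let S : Set R := {r | ∃ (f : Module.Dual R M) (m : M), r = f m}
  have hS : Ideal.span S = ⊤ := by
    rw [Ideal.eq_top_iff_one]
    obtain ⟨z, hz⟩ := (Module.Invertible.bijective (R := R) (M := M)).surjective 1
    rw [← hz]
    clear hz
    induction z using TensorProduct.induction_on with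
    | zero => simp
    | tmul f m =>
      rw [contractLeft_apply]
      exact Ideal.subset_span ⟨f, m, rfl⟩
    | add a b ha hb => rw [map_add]; exact Ideal.add_mem _ ha hb
  have hS4 := Ideal.span_pow_eq_top S hS 4
  have hle : Ideal.span ((fun r => r ^ 4) '' S) ≤ Ideal.torsionOf R M d := by
    rw [Ideal.span_le]
    rintro _ ⟨r, ⟨f, m, rfl⟩, rfl⟩
    exact (Ideal.mem_torsionOf_iff _ _).mpr (step1 f m)
  rw [hS4, top_le_iff] at hle
  have h1 : (1 : R) ∈ Ideal.torsionOf R M d := by rw [hle]; trivial
  rw [Ideal.mem_torsionOf_iff, one_smul] at h1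
  exact sub_eq_zero.mp h1

end rankOne

section diff

variable {R R' M : Type u} [CommRing R] [CommRing R'] [Algebra R R'] [AddCommGroup M] [Module R M]

/-- invariance of the different under linear equivalences -/
theorem different_equiv {P P' : Type*} [AddCommGroup P] [Module R P] [AddCommGroup P']
    [Module R P'] (e : P ≃ₗ[R] P') (t : P) :
    QFDual.different R (e t) = QFDual.different R t := by
  ext r
  rw [QFDual.mem_different_iff, QFDual.mem_different_iff]
  constructor
  · intro h m
    obtain ⟨c, hc⟩ := h (e m)
    refine ⟨c, e.injective ?_⟩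
    rw [map_smul, map_smul, hc]
  · intro h m
    obtain ⟨c, hc⟩ := h (e.symm m)
    refine ⟨c, ?_⟩
    rw [← map_smul, hc, map_smul, e.apply_symm_apply]

/-- the different only grows under base change -/
theorem different_map_le (τ : M) :
    (QFDual.different R τ).map (algebraMap R R') ≤
      QFDual.different R' ((1 : R') ⊗ₜ[R] τ) := by
  rw [Ideal.map_le_iff_le_comap]
  intro r hr
  rw [Ideal.mem_comap, QFDual.mem_different_iff]
  rw [QFDual.mem_different_iff] at hr
  intro z
  induction z using TensorProduct.induction_on with
  | zero => exact ⟨0, by simp⟩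
  | tmul a m =>
    obtain ⟨c, hc⟩ := hr m
    refine ⟨a * algebraMap R R' c, ?_⟩
    rw [TensorProduct.smul_tmul', TensorProduct.smul_tmul', smul_eq_mul, smul_eq_mul, mul_one,
      mul_comm (algebraMap R R' r) a]
    have e1 : a * algebraMap R R' c = c • a := by rw [Algebra.smul_def, mul_comm]
    have e2 : a * algebraMap R R' r = r • a := by rw [Algebra.smul_def, mul_comm]
    rw [e1, e2, TensorProduct.smul_tmul, TensorProduct.smul_tmul, hc]
  | add a b ha hb =>
    obtain ⟨c, hc⟩ := ha
    obtain ⟨c', hc'⟩ := hb
    exact ⟨c + c', by rw [add_smul, hc, hc', smul_add]⟩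

/-- the invertible case -/
theorem different_le_map_of_invertible [Module.Invertible R M] (τ : M) :
    QFDual.different R' ((1 : R') ⊗ₜ[R] τ) ≤
      (QFDual.different R τ).map (algebraMap R R') := by
  -- values of functionals on τ lie in the different
  have hval : ∀ φ : Module.Dual R M, φ τ ∈ QFDual.different R τ := by
    intro φ
    rw [QFDual.mem_different_iff]
    intro m
    exact ⟨φ m, (invertible_rankOne φ τ m).symm⟩
  -- values of functionals of the base change on 1 ⊗ τ
  have hval' : ∀ Φ : Module.Dual R' (R' ⊗[R] M),
      Φ ((1 : R') ⊗ₜ[R] τ) ∈ (QFDual.different R τ).map (algebraMap R R') := by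
    intro Φ
    obtain ⟨n, f, g, -, -, hfg⟩ := Module.Finite.exists_comp_eq_id_of_projective R M
    classical
    have h1 : f (g τ) = τ := by
      have := congrArg (fun t => t τ) hfg
      simpa using this
    have h2 : g τ = ∑ i, (g τ i) • (Pi.single i 1 : Fin n → R) := by
      ext j
      simp [Finset.sum_apply, Pi.single_apply]
    have h3 : τ = ∑ i, (g τ i) • f (Pi.single i 1) := by
      conv_lhs => rw [← h1, h2]
      simp
    have h5 : Φ ((1 : R') ⊗ₜ[R] τ) =
        ∑ i, algebraMap R R' (g τ i) * Φ ((1 : R') ⊗ₜ[R] f (Pi.single i 1)) := by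
      conv_lhs => rw [h3]
      rw [TensorProduct.tmul_sum, map_sum]
      refine Finset.sum_congr rfl fun i _ => ?_
      rw [TensorProduct.tmul_smul, ← algebraMap_smul R', map_smul, smul_eq_mul]
    rw [h5]
    refine Ideal.sum_mem _ fun i _ => ?_
    refine Ideal.mul_mem_right _ _ (Ideal.mem_map_of_mem _ ?_)
    exact hval ((LinearMap.proj i) ∘ₗ g)
  intro b hb
  rw [QFDual.mem_different_iff] at hb
  obtain ⟨z, hz⟩ := (Module.Invertible.bijective (R := R') (M := R' ⊗[R] M)).surjective 1
  have key : ∀ z : Module.Dual R' (R' ⊗[R] M) ⊗[R'] (R' ⊗[R] M),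
      b * contractLeft R' (R' ⊗[R] M) z ∈ (QFDual.different R τ).map (algebraMap R R') := by
    intro z
    induction z using TensorProduct.induction_on with
    | zero => simp
    | tmul Φ p =>
      rw [contractLeft_apply]
      obtain ⟨c, hc⟩ := hb p
      have : b * Φ p = c * Φ ((1 : R') ⊗ₜ[R] τ) := by
        rw [← smul_eq_mul, ← map_smul, ← hc, map_smul, smul_eq_mul]
      rw [this]
      exact Ideal.mul_mem_left _ _ (hval' Φ)
    | add x y hx hy => rw [map_add, mul_add]; exact Ideal.add_mem _ hx hy
  have := key z
  rwa [hz, mul_one] at this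

/-- the surjection `(R' ⊗ M) ⧸ R'(1 ⊗ τ) → R' ⊗ (M ⧸ Rτ)` -/
noncomputable def quotMap (R R' : Type u) {M : Type u} [CommRing R] [CommRing R'] [Algebra R R']
    [AddCommGroup M] [Module R M] (τ : M) :
    ((R' ⊗[R] M) ⧸ (Submodule.span R' {(1 : R') ⊗ₜ[R] τ})) →ₗ[R']
      R' ⊗[R] (M ⧸ Submodule.span R {τ}) :=
  Submodule.liftQ _ ((Submodule.mkQ (Submodule.span R {τ})).baseChange R') (by
    rw [Submodule.span_le, Set.singleton_subset_iff]
    change ((Submodule.mkQ (Submodule.span R {τ})).baseChange R') (1 ⊗ₜ τ) = 0
    rw [LinearMap.baseChange_tmul]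
    have : (Submodule.mkQ (Submodule.span R {τ})) τ = 0 := by
      rw [Submodule.mkQ_apply, Submodule.Quotient.mk_eq_zero]
      exact Submodule.mem_span_singleton_self τ
    rw [this, TensorProduct.tmul_zero])

theorem quotMap_surjective (τ : M) : Function.Surjective (quotMap R R' τ) := by
  intro z
  have hs : Function.Surjective ((Submodule.mkQ (Submodule.span R {τ})).baseChange R') := by
    rw [LinearMap.baseChange_eq_ltensor]
    exact LinearMap.lTensor_surjective R' (Submodule.mkQ_surjective _)
  obtain ⟨y, rfl⟩ := hs z
  exact ⟨Submodule.Quotient.mk y, rfl⟩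

/-- flat base change of annihilators of finite modules -/
theorem annihilator_baseChange_le_of_flat [Module.Flat R R'] (N : Type u) [AddCommGroup N]
    [Module R N] [Module.Finite R N] :
    Module.annihilator R' (R' ⊗[R] N) ≤ (Module.annihilator R N).map (algebraMap R R') := by
  obtain ⟨n, s, hs⟩ := Module.Finite.exists_fin (R := R) (M := N)
  let f : R →ₗ[R] (Fin n → N) := LinearMap.pi (fun i => LinearMap.toSpanSingleton R N (s i))
  have hker : LinearMap.ker f = Module.annihilator R N := by
    ext r
    rw [LinearMap.mem_ker, Module.mem_annihilator]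
    constructor
    · intro h m
      have hm : m ∈ Submodule.span R (Set.range s) := by rw [hs]; trivial
      induction hm using Submodule.span_induction with
      | mem x hx =>
        obtain ⟨i, rfl⟩ := hx
        have := congrFun h i
        simpa [f] using this
      | zero => simp
      | add x y _ _ hx hy => rw [smul_add, hx, hy, add_zero]
      | smul a x _ hx => rw [smul_comm, hx, smul_zero]
    · intro h
      ext i
      simp [f, h (s i)]
  intro r' hr'
  rw [Module.mem_annihilator] at hr'
  have hz : (TensorProduct.AlgebraTensorModule.lTensor R' R' f) (r' ⊗ₜ[R] (1 : R)) = 0 := by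
    rw [TensorProduct.AlgebraTensorModule.lTensor_tmul]
    have h1 : f 1 = ∑ i, LinearMap.single R (fun _ => N) i (s i) := by
      ext j
      simp [f, Finset.sum_apply, Pi.single_apply]
    rw [h1, TensorProduct.tmul_sum]
    refine Finset.sum_eq_zero fun i _ => ?_
    have h2 : r' ⊗ₜ[R] (LinearMap.single R (fun _ => N) i (s i)) =
        (LinearMap.single R (fun _ => N) i).baseChange R' (r' • ((1 : R') ⊗ₜ[R] s i)) := by
      rw [TensorProduct.smul_tmul', smul_eq_mul, mul_one, LinearMap.baseChange_tmul]
    rw [h2, hr', map_zero]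
  have hmem : r' ⊗ₜ[R] (1 : R) ∈
      LinearMap.ker (TensorProduct.AlgebraTensorModule.lTensor R' R' f) := hz
  rw [Module.Flat.ker_lTensor_eq] at hmem
  obtain ⟨w, hw⟩ := hmem
  have key : ∀ w : R' ⊗[R] (LinearMap.ker f),
      TensorProduct.AlgebraTensorModule.rid R R' R'
        ((TensorProduct.AlgebraTensorModule.lTensor R' R' (LinearMap.ker f).subtype) w) ∈
        (Module.annihilator R N).map (algebraMap R R') := by
    intro w
    induction w using TensorProduct.induction_on with
    | zero => simp
    | tmul a k =>
      rw [TensorProduct.AlgebraTensorModule.lTensor_tmul,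
        TensorProduct.AlgebraTensorModule.rid_tmul, Submodule.subtype_apply, Algebra.smul_def]
      refine Ideal.mul_mem_right _ _ (Ideal.mem_map_of_mem _ ?_)
      rw [← hker]
      exact k.2
    | add x y hx hy => rw [map_add, map_add]; exact Ideal.add_mem _ hx hy
  have := key w
  rw [hw, TensorProduct.AlgebraTensorModule.rid_tmul, one_smul] at this
  exact this

theorem different_eq_annihilator {R M : Type*} [CommRing R] [AddCommGroup M] [Module R M]
    (τ : M) : QFDual.different R τ = Module.annihilator R (M ⧸ Submodule.span R {τ}) :=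
  (Submodule.annihilator_quotient).symm

/-- the flat case -/
theorem different_le_map_of_flat [Module.Flat R R'] [Module.Finite R M] (τ : M) :
    QFDual.different R' ((1 : R') ⊗ₜ[R] τ) ≤
      (QFDual.different R τ).map (algebraMap R R') := by
  rw [different_eq_annihilator, different_eq_annihilator]
  refine le_trans (LinearMap.annihilator_le_of_surjective _ (quotMap_surjective (R := R) (R' := R') τ)) ?_
  exact annihilator_baseChange_le_of_flat _

/-- radicals agree -/
theorem different_le_radical_map [Module.Finite R M] (τ : M) :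
    QFDual.different R' ((1 : R') ⊗ₜ[R] τ) ≤
      ((QFDual.different R τ).map (algebraMap R R')).radical := by
  rw [different_eq_annihilator, different_eq_annihilator]
  set N := M ⧸ Submodule.span R {τ}
  set N' := (R' ⊗[R] M) ⧸ (Submodule.span R' {(1 : R') ⊗ₜ[R] τ})
  rw [← PrimeSpectrum.zeroLocus_subset_zeroLocus_iff]
  have h1 : Module.support R' (R' ⊗[R] N) ⊆ Module.support R' N' :=
    Module.support_subset_of_surjective _ (quotMap_surjective (R := R) (R' := R') τ)
  rw [Groth.Agent.Helper1.MiscL.support_baseChange, Module.support_eq_zeroLocus,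
    Module.support_eq_zeroLocus, PrimeSpectrum.preimage_comap_zeroLocus] at h1
  rw [Ideal.map, PrimeSpectrum.zeroLocus_span]
  exact h1

end diff

end Groth.Agent.Helper3.QFD
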