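import Mathlib
import Groth.Prelude.Def_QFDual
import Groth.Agent.Lib.Helper3.QFD2
import Groth.Agent.Lib.Helper3.QFD4

namespace Groth.Agent.Helper3.QFD

open TensorProduct

universe u

section

variable {A B A' B' : Type u} [CommRing A] [CommRing B] [CommRing A'] [CommRing B']
  [Algebra A B] [Algebra A A'] [Algebra B B'] [Algebra A' B'] [Algebra A B']
  [IsScalarTower A A' B'] [IsScalarTower A B B']

attribute [local instance] omegaModA

theorem bcT_bijective_of (h : Algebra.IsPushout A A' B B')
    (hE : IsBaseChange A' h.out.toDual) : Function.Bijective (bcT h) := by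
  let E := hE.equiv
  haveI : Algebra.IsPushout A A' B B' := h
  let c := Algebra.IsPushout.cancelBaseChange A A' B B' (Disc.Omega A B)
  let d : A' ⊗[A] Disc.Omega A B ≃ₗ[A'] A' ⊗[A] Module.Dual A B :=
    LinearEquiv.baseChange A A' _ _ omegaEquivDual
  have key : ∀ y : A' ⊗[A] Disc.Omega A B, (bcT h (c.symm y)).toLinearMap = E (d y) := by
    intro y
    induction y using TensorProduct.induction_on with
    | zero => simp
    | add x y hx hy => simp only [map_add, Disc.Omega.add_toLinearMap, hx, hy]
    | tmul s φ =>
      simp only [c, Algebra.IsPushout.cancelBaseChange_symm_tmul, bcT_tmul, d, E]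
      rw [LinearEquiv.baseChange_tmul, IsBaseChange.equiv_tmul]
      ext x
      simp only [Disc.Omega.smul_toLinearMap_apply, LinearMap.smul_apply, omegaEquivDual_apply]
      rw [← Algebra.smul_def, map_smul]
      rfl
  constructor
  · intro x x' hxx
    have h1 : c x = c x' := by
      apply d.injective
      apply E.injective
      rw [← key, ← key, c.symm_apply_apply, c.symm_apply_apply, hxx]
    exact c.injective h1
  · intro ψ
    refine ⟨c.symm (d.symm (E.symm ψ.toLinearMap)), ?_⟩
    apply Disc.Omega.ext
    rw [key]
    simp

theorem trace_algebraMap_of_isPushout [Module.Free A B] [Module.Finite A B]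
    (h : Algebra.IsPushout A A' B B') (y : B) :
    Algebra.trace A' B' (algebraMap B B' y) = algebraMap A A' (Algebra.trace A B y) := by
  have e1 : Algebra.lmul A' B' (algebraMap B B' y) =
      h.out.equiv.conj ((Algebra.lmul A B y).baseChange A') := by
    apply h.out.algHom_ext
    intro x
    rw [LinearEquiv.conj_apply]
    simp only [LinearMap.coe_comp, LinearEquiv.coe_coe, Function.comp_apply,
      IsBaseChange.equiv_symm_apply, LinearMap.baseChange_tmul, IsBaseChange.equiv_tmul, one_smul]
    simp
  rw [Algebra.trace_apply, e1, LinearMap.trace_conj', LinearMap.trace_baseChange]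
  rfl

theorem bcFin_trace [Module.Free A B] [Module.Finite A B] [Module.Free A' B']
    [Module.Finite A' B'] (h : Algebra.IsPushout A A' B B') :
    QFDual.bcFin h (Disc.Omega.trace A B) = Disc.Omega.trace A' B' := by
  apply Disc.Omega.ext
  apply h.out.algHom_ext
  intro x
  have := QFDual.bcFin_apply_algebraMap h (Disc.Omega.trace A B) x
  change (QFDual.bcFin h (Disc.Omega.trace A B)).toLinearMap (algebraMap B B' x) = _
  rw [this]
  exact (trace_algebraMap_of_isPushout h x).symm

instance omega_finite [Module.Free A B] [Module.Finite A B] : Module.Finite B (Disc.Omega A B) := by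
  haveI : Module.Finite A (Disc.Omega A B) := Module.Finite.equiv omegaEquivDual.symm
  exact Module.Finite.of_restrictScalars_finite A B _

variable [Module.Free A B] [Module.Finite A B] [Module.Free A' B'] [Module.Finite A' B']

theorem different_transfer (h : Algebra.IsPushout A A' B B') :
    QFDual.different B' (Disc.Omega.trace A' B') =
      QFDual.different B' ((1 : B') ⊗ₜ[B] (Disc.Omega.trace A B)) := by
  let e : B' ⊗[B] Disc.Omega A B ≃ₗ[B'] Disc.Omega A' B' :=
    LinearEquiv.ofBijective (bcT h) (bcT_bijective_of h (IsBaseChange.dual h.out))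
  have he : e ((1 : B') ⊗ₜ[B] (Disc.Omega.trace A B)) = Disc.Omega.trace A' B' := by
    change bcT h _ = _
    rw [bcT_tmul, one_smul, bcFin_trace]
  rw [← he, different_equiv]

theorem main_S8966 (h : Algebra.IsPushout A A' B B') :
    Ideal.map (algebraMap B B') (QFDual.different B (Disc.Omega.trace A B)) ≤
        QFDual.different B' (Disc.Omega.trace A' B') ∧
      (Ideal.map (algebraMap B B') (QFDual.different B (Disc.Omega.trace A B))).radical =
        (QFDual.different B' (Disc.Omega.trace A' B')).radical := by
  rw [different_transfer h]
  have h1 := different_map_le (R := B) (R' := B') (Disc.Omega.trace A B)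
  refine ⟨h1, le_antisymm (Ideal.radical_mono h1) ?_⟩
  have h2 := different_le_radical_map (R := B) (R' := B') (Disc.Omega.trace A B)
  calc (QFDual.different B' ((1 : B') ⊗ₜ[B] (Disc.Omega.trace A B))).radical
      ≤ ((Ideal.map (algebraMap B B') (QFDual.different B (Disc.Omega.trace A B))).radical).radical :=
        Ideal.radical_mono h2
    _ = _ := Ideal.radical_idem _

theorem main_S8967 (h : Algebra.IsPushout A A' B B') [Module.Flat A A'] :
    Ideal.map (algebraMap B B') (QFDual.different B (Disc.Omega.trace A B)) =
      QFDual.different B' (Disc.Omega.trace A' B') := by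
  rw [different_transfer h]
  haveI : Module.Flat B B' := Module.Flat.isBaseChange A B A' B' h.symm.out
  exact le_antisymm (different_map_le _) (different_le_map_of_flat _)

theorem main_S8968 (h : Algebra.IsPushout A A' B B') [Module.Invertible B (Disc.Omega A B)] :
    Ideal.map (algebraMap B B') (QFDual.different B (Disc.Omega.trace A B)) =
      QFDual.different B' (Disc.Omega.trace A' B') := by
  rw [different_transfer h]
  exact le_antisymm (different_map_le _) (different_le_map_of_invertible _)

end

end Groth.Agent.Helper3.QFD
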