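import Mathlib
import Groth.Prelude.Def_QFDual

namespace Groth.Agent.Helper3.QFD

open TensorProduct

universe u

section prod

variable {A B' B C' C : Type u} [CommRing A] [CommRing B'] [CommRing B] [CommRing C'] [CommRing C]
  [Algebra A B'] [Algebra B' B] [Algebra A B] [IsScalarTower A B' B]
  [Algebra A C'] [Algebra C' C] [Algebra A C] [IsScalarTower A C' C]
  [Algebra (B' × C') (B × C)] [IsScalarTower A (B' × C') (B × C)]

theorem prod_smul_def (halg : algebraMap (B' × C') (B × C) =
    (algebraMap B' B).prodMap (algebraMap C' C)) (r : B' × C') (q : B × C) :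
    r • q = (r.1 • q.1, r.2 • q.2) := by
  rw [Algebra.smul_def, halg]
  ext
  · simp [Algebra.smul_def]
  · simp [Algebra.smul_def]

/-- restriction of a functional on the product to the first factor -/
def resL (φ : Disc.Omega A (B' × C')) : Disc.Omega A B' :=
  ⟨φ.toLinearMap ∘ₗ LinearMap.inl A B' C'⟩

def resR (φ : Disc.Omega A (B' × C')) : Disc.Omega A C' :=
  ⟨φ.toLinearMap ∘ₗ LinearMap.inr A B' C'⟩

def extL (φ : Disc.Omega A B') : Disc.Omega A (B' × C') :=
  ⟨φ.toLinearMap ∘ₗ LinearMap.fst A B' C'⟩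

def extR (φ : Disc.Omega A C') : Disc.Omega A (B' × C') :=
  ⟨φ.toLinearMap ∘ₗ LinearMap.snd A B' C'⟩

theorem resL_smul (r : B' × C') (φ : Disc.Omega A (B' × C')) : resL (r • φ) = r.1 • resL φ := by
  apply Disc.Omega.ext; ext x
  simp only [resL, LinearMap.coe_comp, Function.comp_apply, LinearMap.inl_apply,
    Disc.Omega.smul_toLinearMap_apply]
  congr 1
  ext <;> simp
theorem resR_smul (r : B' × C') (φ : Disc.Omega A (B' × C')) : resR (r • φ) = r.2 • resR φ := by
  apply Disc.Omega.ext; ext x
  simp only [resR, LinearMap.coe_comp, Function.comp_apply, LinearMap.inr_apply,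
    Disc.Omega.smul_toLinearMap_apply]
  congr 1
  ext <;> simp
theorem resL_add (φ ψ : Disc.Omega A (B' × C')) : resL (φ + ψ) = resL φ + resL ψ := by
  apply Disc.Omega.ext; ext x
  simp [resL]
theorem resR_add (φ ψ : Disc.Omega A (B' × C')) : resR (φ + ψ) = resR φ + resR ψ := by
  apply Disc.Omega.ext; ext x
  simp [resR]
theorem extL_add (φ ψ : Disc.Omega A B') :
    (extL φ : Disc.Omega A (B' × C')) + extL ψ = extL (φ + ψ) := by
  apply Disc.Omega.ext; ext x <;> simp [extL]
theorem extR_add (φ ψ : Disc.Omega A C') :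
    (extR φ : Disc.Omega A (B' × C')) + extR ψ = extR (φ + ψ) := by
  apply Disc.Omega.ext; ext x <;> simp [extR]
theorem extL_smul (b' : B') (φ : Disc.Omega A B') :
    (extL (b' • φ) : Disc.Omega A (B' × C')) = ((b', 0) : B' × C') • extL φ := by
  apply Disc.Omega.ext; ext x <;> simp [extL]
theorem extR_smul (c' : C') (φ : Disc.Omega A C') :
    (extR (c' • φ) : Disc.Omega A (B' × C')) = ((0, c') : B' × C') • extR φ := by
  apply Disc.Omega.ext; ext x <;> simp [extR]
theorem resL_extL (φ : Disc.Omega A B') : resL (extL φ : Disc.Omega A (B' × C')) = φ := by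
  apply Disc.Omega.ext; ext x; simp [resL, extL]
theorem resR_extR (φ : Disc.Omega A C') : resR (extR φ : Disc.Omega A (B' × C')) = φ := by
  apply Disc.Omega.ext; ext x; simp [resR, extR]
theorem extL_resL (φ : Disc.Omega A (B' × C')) :
    extL (resL φ) = ((1, 0) : B' × C') • φ := by
  apply Disc.Omega.ext; ext x <;> simp [resL, extL]
theorem extR_resR (φ : Disc.Omega A (B' × C')) :
    extR (resR φ) = ((0, 1) : B' × C') • φ := by
  apply Disc.Omega.ext; ext x <;> simp [resR, extR]

variable (halg : algebraMap (B' × C') (B × C) = (algebraMap B' B).prodMap (algebraMap C' C))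

/-- forward map -/
noncomputable def fwd :
    (B × C) ⊗[B' × C'] Disc.Omega A (B' × C') →+
      (B ⊗[B'] Disc.Omega A B') × (C ⊗[C'] Disc.Omega A C') :=
  TensorProduct.liftAddHom
    { toFun := fun q =>
        { toFun := fun φ => (q.1 ⊗ₜ[B'] resL φ, q.2 ⊗ₜ[C'] resR φ)
          map_zero' := by
            have h1 : resL (0 : Disc.Omega A (B' × C')) = 0 := by
              apply Disc.Omega.ext; ext x; simp [resL]
            have h2 : resR (0 : Disc.Omega A (B' × C')) = 0 := by
              apply Disc.Omega.ext; ext x; simp [resR]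
            rw [h1, h2]; simp
          map_add' := fun φ ψ => by
            rw [resL_add, resR_add, tmul_add, tmul_add]; rfl }
      map_zero' := by ext φ <;> simp
      map_add' := fun q q' => by
        ext φ
        · simp [add_tmul]
        · simp [add_tmul] }
    (fun r q φ => by
      change ((r • q).1 ⊗ₜ[B'] resL φ, (r • q).2 ⊗ₜ[C'] resR φ) =
        (q.1 ⊗ₜ[B'] resL (r • φ), q.2 ⊗ₜ[C'] resR (r • φ))
      rw [prod_smul_def halg, resL_smul, resR_smul, tmul_smul, tmul_smul, smul_tmul', smul_tmul'])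

theorem fwd_tmul (q : B × C) (φ : Disc.Omega A (B' × C')) :
    fwd halg (q ⊗ₜ φ) = (q.1 ⊗ₜ[B'] resL φ, q.2 ⊗ₜ[C'] resR φ) := rfl

/-- backward maps -/
noncomputable def bwdL :
    (B ⊗[B'] Disc.Omega A B') →+ (B × C) ⊗[B' × C'] Disc.Omega A (B' × C') :=
  TensorProduct.liftAddHom
    { toFun := fun b =>
        { toFun := fun φ => ((b, 0) : B × C) ⊗ₜ[B' × C'] (extL φ : Disc.Omega A (B' × C'))
          map_zero' := by
            have h1 : (extL (0 : Disc.Omega A B') : Disc.Omega A (B' × C')) = 0 := by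
              apply Disc.Omega.ext; ext x <;> simp [extL]
            rw [h1, tmul_zero]
          map_add' := fun φ ψ => by rw [← extL_add, tmul_add] }
      map_zero' := by
        ext φ
        change ((0, 0) : B × C) ⊗ₜ[B' × C'] (extL φ : Disc.Omega A (B' × C')) = 0
        rw [← Prod.zero_eq_mk, zero_tmul]
      map_add' := fun b b' => by
        ext φ
        change ((b + b', 0) : B × C) ⊗ₜ[B' × C'] (extL φ : Disc.Omega A (B' × C')) =
          ((b, 0) : B × C) ⊗ₜ[B' × C'] (extL φ : Disc.Omega A (B' × C')) +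
          ((b', 0) : B × C) ⊗ₜ[B' × C'] (extL φ : Disc.Omega A (B' × C'))
        rw [← add_tmul]; congr 1; ext <;> simp }
    (fun r b φ => by
      change ((r • b, 0) : B × C) ⊗ₜ[B' × C'] (extL φ : Disc.Omega A (B' × C')) =
        ((b, 0) : B × C) ⊗ₜ[B' × C'] (extL (r • φ) : Disc.Omega A (B' × C'))
      rw [extL_smul, tmul_smul, smul_tmul', prod_smul_def halg]
      congr 1; ext <;> simp)

noncomputable def bwdR :
    (C ⊗[C'] Disc.Omega A C') →+ (B × C) ⊗[B' × C'] Disc.Omega A (B' × C') :=
  TensorProduct.liftAddHom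
    { toFun := fun c =>
        { toFun := fun φ => ((0, c) : B × C) ⊗ₜ[B' × C'] (extR φ : Disc.Omega A (B' × C'))
          map_zero' := by
            have h1 : (extR (0 : Disc.Omega A C') : Disc.Omega A (B' × C')) = 0 := by
              apply Disc.Omega.ext; ext x <;> simp [extR]
            rw [h1, tmul_zero]
          map_add' := fun φ ψ => by rw [← extR_add, tmul_add] }
      map_zero' := by
        ext φ
        change ((0, 0) : B × C) ⊗ₜ[B' × C'] (extR φ : Disc.Omega A (B' × C')) = 0
        rw [← Prod.zero_eq_mk, zero_tmul]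
      map_add' := fun c c' => by
        ext φ
        change ((0, c + c') : B × C) ⊗ₜ[B' × C'] (extR φ : Disc.Omega A (B' × C')) =
          ((0, c) : B × C) ⊗ₜ[B' × C'] (extR φ : Disc.Omega A (B' × C')) +
          ((0, c') : B × C) ⊗ₜ[B' × C'] (extR φ : Disc.Omega A (B' × C'))
        rw [← add_tmul]; congr 1; ext <;> simp }
    (fun r c φ => by
      change ((0, r • c) : B × C) ⊗ₜ[B' × C'] (extR φ : Disc.Omega A (B' × C')) =
        ((0, c) : B × C) ⊗ₜ[B' × C'] (extR (r • φ) : Disc.Omega A (B' × C'))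
      rw [extR_smul, tmul_smul, smul_tmul', prod_smul_def halg]
      congr 1; ext <;> simp)

theorem bwdL_tmul (b : B) (φ : Disc.Omega A B') :
    bwdL (C := C) (C' := C') halg (b ⊗ₜ φ) =
      ((b, 0) : B × C) ⊗ₜ[B' × C'] (extL φ : Disc.Omega A (B' × C')) := rfl

theorem bwdR_tmul (c : C) (φ : Disc.Omega A C') :
    bwdR (B := B) (B' := B') halg (c ⊗ₜ φ) =
      ((0, c) : B × C) ⊗ₜ[B' × C'] (extR φ : Disc.Omega A (B' × C')) := rfl

include halg in
theorem main_S8975 :
    ∃ e : QFDual.omega A (B' × C') (B × C) ≃ₗ[A] QFDual.omega A B' B × QFDual.omega A C' C,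
      ∀ (b : B) (c : C) (φ : Disc.Omega A (B' × C')),
        e ((b, c) ⊗ₜ[B' × C'] φ) =
          (b ⊗ₜ[B'] Disc.Omega.mk (φ.toLinearMap ∘ₗ LinearMap.inl A B' C'),
            c ⊗ₜ[C'] Disc.Omega.mk (φ.toLinearMap ∘ₗ LinearMap.inr A B' C')) := by
  let F := fwd (A := A) (B := B) (C := C) halg
  let G : (B ⊗[B'] Disc.Omega A B') × (C ⊗[C'] Disc.Omega A C') →+
      (B × C) ⊗[B' × C'] Disc.Omega A (B' × C') :=
    AddMonoidHom.coprod (bwdL halg) (bwdR halg)
  have hGF : ∀ z, G (F z) = z := by
    intro z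
    induction z using TensorProduct.induction_on with
    | zero => simp
    | add x y hx hy => rw [map_add, map_add, hx, hy]
    | tmul q φ =>
      change G (q.1 ⊗ₜ[B'] resL φ, q.2 ⊗ₜ[C'] resR φ) = _
      rw [AddMonoidHom.coprod_apply, bwdL_tmul, bwdR_tmul, extL_resL, extR_resR, tmul_smul,
        tmul_smul, smul_tmul', smul_tmul', prod_smul_def halg, prod_smul_def halg, ← add_tmul]
      congr 1
      ext <;> simp
  have hFG : ∀ w, F (G w) = w := by
    rintro ⟨x, y⟩
    have h1 : ∀ x, F (bwdL halg x) = (x, 0) := by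
      intro x
      induction x using TensorProduct.induction_on with
      | zero => rw [map_zero, map_zero]; rfl
      | add x y hx hy => rw [map_add, map_add, hx, hy]; simp
      | tmul b φ =>
        rw [bwdL_tmul]
        change ((b ⊗ₜ[B'] resL (extL φ : Disc.Omega A (B' × C'))),
          ((0 : C) ⊗ₜ[C'] resR (extL φ : Disc.Omega A (B' × C')))) = _
        rw [resL_extL, zero_tmul]
    have h2 : ∀ y, F (bwdR halg y) = (0, y) := by
      intro y
      induction y using TensorProduct.induction_on with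
      | zero => rw [map_zero, map_zero]; rfl
      | add x y hx hy => rw [map_add, map_add, hx, hy]; simp
      | tmul c φ =>
        rw [bwdR_tmul]
        change (((0 : B) ⊗ₜ[B'] resL (extR φ : Disc.Omega A (B' × C'))),
          (c ⊗ₜ[C'] resR (extR φ : Disc.Omega A (B' × C')))) = _
        rw [resR_extR, zero_tmul]
    rw [AddMonoidHom.coprod_apply, map_add, h1, h2]
    simp
  have hsmul : ∀ (a : A) z, F (a • z) = a • F z := by
    intro a z
    induction z using TensorProduct.induction_on with
    | zero => simp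
    | add x y hx hy => rw [smul_add, map_add, map_add, hx, hy, smul_add]
    | tmul q φ =>
      rw [smul_tmul']
      change ((a • q).1 ⊗ₜ[B'] resL φ, (a • q).2 ⊗ₜ[C'] resR φ) =
        (a • (q.1 ⊗ₜ[B'] resL φ), a • (q.2 ⊗ₜ[C'] resR φ))
      rw [smul_tmul', smul_tmul']
      rfl
  refine ⟨{ toFun := F, map_add' := map_add F, map_smul' := hsmul, invFun := G,
            left_inv := hGF, right_inv := hFG }, ?_⟩
  intro b c φ
  rfl

end prod

end Groth.Agent.Helper3.QFD
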