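import Mathlib
import Groth.Agent.Lib.Helper3.QFD1

namespace Groth.Agent.Helper3.QFD

open TensorProduct

universe u

section perfect

variable (K L : Type*) [CommRing K] [CommRing L] [Algebra K L] [Module.Free K L] [Module.Finite K L]
  [Algebra.FormallyUnramified K L]

variable {K L}

/-- `x ⊗ y ↦ β y • x` -/
noncomputable def rho (β : L →ₗ[K] K) : L ⊗[K] L →ₗ[K] L :=
  (TensorProduct.rid K L).toLinearMap ∘ₗ (β.lTensor L)

omit [Module.Free K L] [Module.Finite K L] [Algebra.FormallyUnramified K L] in
@[simp] theorem rho_tmul (β : L →ₗ[K] K) (x y : L) : rho β (x ⊗ₜ y) = β y • x := by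
  simp [rho]

/-- `x ⊗ y ↦ ψ x • y` -/
noncomputable def lam (ψ : L →ₗ[K] K) : L ⊗[K] L →ₗ[K] L :=
  (TensorProduct.lid K L).toLinearMap ∘ₗ (ψ.rTensor L)

omit [Module.Free K L] [Module.Finite K L] [Algebra.FormallyUnramified K L] in
@[simp] theorem lam_tmul (ψ : L →ₗ[K] K) (x y : L) : lam ψ (x ⊗ₜ y) = ψ x • y := by
  simp [lam]

omit [Algebra.FormallyUnramified K L] in
theorem trace_eq_sum_coord {ι : Type*} [Fintype ι] (b : Module.Basis ι K L) (w : L) :
    Algebra.trace K L w = ∑ j, b.coord j (w * b j) := by
  classical
  rw [Algebra.trace_eq_matrix_trace b, Matrix.trace]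
  simp [Algebra.leftMulMatrix_eq_repr_mul]

theorem sum_rho_eq (z : L) :
    z = ∑ j, rho ((Module.Free.chooseBasis K L).coord j)
      ((1 ⊗ₜ (z * (Module.Free.chooseBasis K L) j)) * Algebra.FormallyUnramified.elem K L) := by
  classical
  set b := Module.Free.chooseBasis K L with hb
  have S1 : ∀ t : L ⊗[K] L, ∑ j, rho (b.coord j) (((z * b j) ⊗ₜ (1 : L)) * t) =
      z * Algebra.TensorProduct.lmul' K t := by
    intro t
    induction t using TensorProduct.induction_on with
    | zero => simp
    | add x y hx hy => simp only [mul_add, map_add, Finset.sum_add_distrib, hx, hy]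
    | tmul x y =>
      simp only [Algebra.TensorProduct.tmul_mul_tmul, one_mul, rho_tmul,
        Algebra.TensorProduct.lmul'_apply_tmul]
      have : ∀ j, b.coord j y • (z * b j * x) = z * x * (b.coord j y • b j) := by
        intro j
        rw [mul_smul_comm]
        congr 1; ring
      simp only [this]
      rw [← Finset.mul_sum]
      have h2 : ∑ j, b.coord j y • b j = y := by
        simpa using b.sum_repr y
      rw [h2]; ring
  have := S1 (Algebra.FormallyUnramified.elem K L)
  rw [Algebra.FormallyUnramified.lmul_elem, mul_one] at this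
  conv_lhs => rw [← this]
  refine Finset.sum_congr rfl fun j _ => ?_
  rw [Algebra.FormallyUnramified.one_tmul_mul_elem]

theorem sum_rho_tmul (z : L) (t : L ⊗[K] L) :
    ∑ j, rho ((Module.Free.chooseBasis K L).coord j)
      ((1 ⊗ₜ (z * (Module.Free.chooseBasis K L) j)) * t) =
    (TensorProduct.rid K L) (((Algebra.trace K L) ∘ₗ (LinearMap.mulRight K z)).lTensor L t) := by
  classical
  set b := Module.Free.chooseBasis K L with hb
  induction t using TensorProduct.induction_on with
  | zero => simp
  | add x y hx hy => simp only [mul_add, map_add, Finset.sum_add_distrib, hx, hy]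
  | tmul x y =>
    simp only [Algebra.TensorProduct.tmul_mul_tmul, one_mul, rho_tmul, LinearMap.lTensor_tmul,
      LinearMap.coe_comp, Function.comp_apply, LinearMap.mulRight_apply, TensorProduct.rid_tmul]
    rw [← Finset.sum_smul, trace_eq_sum_coord b]
    congr 1
    refine Finset.sum_congr rfl fun j _ => ?_
    congr 1; ring

/-- the trace form of a finite free unramified algebra is nondegenerate -/
theorem eq_zero_of_trace_mul_eq_zero (z : L) (h : ∀ y : L, Algebra.trace K L (y * z) = 0) :
    z = 0 := by
  have h1 := sum_rho_eq (K := K) z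
  rw [sum_rho_tmul] at h1
  have : (Algebra.trace K L) ∘ₗ (LinearMap.mulRight K z) = 0 := by
    ext y; simpa using h y
  rw [this] at h1
  rw [h1]
  simp

/-- every functional is a trace functional -/
theorem exists_trace_mul_eq (ψ : L →ₗ[K] K) :
    ∃ x₀ : L, ∀ z : L, Algebra.trace K L (x₀ * z) = ψ z := by
  refine ⟨lam ψ (Algebra.FormallyUnramified.elem K L), fun z => ?_⟩
  have key : ∀ t : L ⊗[K] L, Algebra.trace K L (lam ψ t * z) =
      ψ ((TensorProduct.rid K L)
        (((Algebra.trace K L) ∘ₗ (LinearMap.mulRight K z)).lTensor L t)) := by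
    intro t
    induction t using TensorProduct.induction_on with
    | zero => simp
    | add x y hx hy => simp only [map_add, add_mul, hx, hy]
    | tmul x y =>
      simp only [lam_tmul, LinearMap.lTensor_tmul, LinearMap.coe_comp, Function.comp_apply,
        LinearMap.mulRight_apply, TensorProduct.rid_tmul, map_smul, smul_eq_mul, smul_mul_assoc]
      ring
  rw [key, ← sum_rho_tmul, ← sum_rho_eq (K := K)]

end perfect

end Groth.Agent.Helper3.QFD
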