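import Mathlib
import Groth.Prelude.Def_QFDual
import Groth.Agent.Lib.Helper3.QFD7

namespace Groth.Agent.Helper3.QFD

open TensorProduct

universe u

section

variable {A K B L : Type u} [CommRing A] [CommRing K] [CommRing B] [CommRing L]
  [Algebra A K] [Algebra A B] [Algebra B L] [Algebra K L] [Algebra A L] [IsScalarTower A K L]
  [IsScalarTower A B L]

/-- the functional `b ↦ Tr(x b)` with values in `K` -/
noncomputable def trK (x : L) : B →ₗ[A] K :=
  ((Algebra.trace K L).restrictScalars A) ∘ₗ ((LinearMap.mulLeft K x).restrictScalars A) ∘ₗ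
    (IsScalarTower.toAlgHom A B L).toLinearMap

theorem trK_apply (x : L) (b : B) : trK (A := A) (K := K) x b =
    Algebra.trace K L (x * algebraMap B L b) := rfl

theorem main_S8962 (h : QFDual.IsDedekindDefined A K B L) :
    ∃ e : QFDual.complementary A K B L ≃ₗ[B] Disc.Omega A B,
      ∀ (x : QFDual.complementary A K B L) (b : B),
        algebraMap A K ((e x).toLinearMap b) =
          Algebra.trace K L ((x : L) * algebraMap B L b) := by
  haveI := h.finite
  haveI := h.free
  haveI := h.finiteKL
  haveI := h.isFractionRing
  haveI := h.isLocalization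
  haveI : Algebra.FormallyUnramified K L := by
    haveI := h.etale
    infer_instance
  have hinj : Function.Injective (algebraMap A K) := IsFractionRing.injective A K
  have hbc : IsBaseChange K (IsScalarTower.toAlgHom A B L).toLinearMap :=
    IsLocalizedModule.isBaseChange (nonZeroDivisors A) K _
  let ι : A ≃ₗ[A] LinearMap.range (Algebra.linearMap A K) :=
    LinearEquiv.ofInjective (Algebra.linearMap A K) hinj
  have hrange : ∀ (x : QFDual.complementary A K B L) (b : B),
      trK (A := A) (K := K) (x : L) b ∈ LinearMap.range (Algebra.linearMap A K) := by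
    intro x b
    obtain ⟨a, ha⟩ := x.2 b
    exact ⟨a, ha⟩
  let φ : QFDual.complementary A K B L → (B →ₗ[A] A) := fun x =>
    ι.symm.toLinearMap ∘ₗ (LinearMap.codRestrict _ (trK (A := A) (K := K) (x : L)) (hrange x))
  have hφ : ∀ x b, algebraMap A K (φ x b) = Algebra.trace K L ((x : L) * algebraMap B L b) := by
    intro x b
    have : (ι (φ x b) : K) = trK (A := A) (K := K) (x : L) b := by
      simp [φ]
    calc algebraMap A K (φ x b) = (ι (φ x b) : K) := rfl
      _ = trK (A := A) (K := K) (x : L) b := this
      _ = _ := rfl
  let e₀ : QFDual.complementary A K B L →ₗ[B] Disc.Omega A B :=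
    { toFun := fun x => ⟨φ x⟩
      map_add' := fun x y => by
        apply Disc.Omega.ext
        ext b
        apply hinj
        simp only [Disc.Omega.add_toLinearMap, LinearMap.add_apply, map_add, hφ,
          Submodule.coe_add, add_mul]
      map_smul' := fun c x => by
        apply Disc.Omega.ext
        ext b
        apply hinj
        simp only [RingHom.id_apply, Disc.Omega.smul_toLinearMap_apply, hφ, Submodule.coe_smul,
          Algebra.smul_def, map_mul]
        congr 1; ring }
  have he₀ : ∀ x b, (e₀ x).toLinearMap b = φ x b := fun _ _ => rfl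
  have hbij : Function.Bijective e₀ := by
    constructor
    · rw [injective_iff_map_eq_zero]
      intro x hx
      have h1 : ∀ b : B, Algebra.trace K L ((x : L) * algebraMap B L b) = 0 := by
        intro b
        rw [← hφ, ← he₀, hx]
        simp
      have h2 : ∀ y : L, Algebra.trace K L (y * (x : L)) = 0 := by
        intro y
        obtain ⟨b, s, rfl⟩ := IsLocalization.exists_mk'_eq
          (Algebra.algebraMapSubmonoid B (nonZeroDivisors A)) y
        obtain ⟨_, a, ha, rfl⟩ := s
        have hu : IsUnit (algebraMap A K a) := IsLocalization.map_units K (⟨a, ha⟩ : nonZeroDivisors A)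
        apply hu.mul_left_cancel
        rw [mul_zero, ← smul_eq_mul, ← map_smul, Algebra.smul_def, ← h1 b]
        congr 1
        have h3 := IsLocalization.mk'_spec L b
          (⟨algebraMap A B a, a, ha, rfl⟩ : Algebra.algebraMapSubmonoid B (nonZeroDivisors A))
        simp only at h3
        rw [← h3, ← IsScalarTower.algebraMap_apply A K L a,
          IsScalarTower.algebraMap_apply A B L a]
        ring
      have h4 := eq_zero_of_trace_mul_eq_zero (K := K) (x : L) h2
      exact Subtype.ext h4
    · intro ω
      let ψ : L →ₗ[K] K := hbc.lift ((Algebra.linearMap A K) ∘ₗ ω.toLinearMap)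
      have hψ : ∀ b : B, ψ (algebraMap B L b) = algebraMap A K (ω.toLinearMap b) := by
        intro b
        have := hbc.lift_eq ((Algebra.linearMap A K) ∘ₗ ω.toLinearMap) b
        simpa using this
      obtain ⟨x₀, hx₀⟩ := exists_trace_mul_eq ψ
      have hmem : x₀ ∈ QFDual.complementary A K B L := by
        intro b
        rw [hx₀, hψ]
        exact ⟨_, rfl⟩
      refine ⟨⟨x₀, hmem⟩, ?_⟩
      apply Disc.Omega.ext
      ext b
      apply hinj
      rw [he₀, hφ]
      change Algebra.trace K L (x₀ * algebraMap B L b) = _
      rw [hx₀, hψ]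
  exact ⟨LinearEquiv.ofBijective e₀ hbij, fun x b => hφ x b⟩

end

end Groth.Agent.Helper3.QFD
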