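import Mathlib
import Groth.Prelude.Def_QFDual
import Groth.Agent.Lib.Helper3.QFD1
import Groth.Agent.Lib.Helper3.QFD5
import Groth.Agent.Lib.Helper3.QFD8

namespace Groth.Agent.Helper3.QFD

open TensorProduct

universe u

theorem main_S8965 (A K B L : Type u) [CommRing A] [CommRing K] [CommRing B] [CommRing L]
    [Algebra A K] [Algebra A B] [Algebra B L] [Algebra K L] [Algebra A L] [IsScalarTower A K L]
    [IsScalarTower A B L] (h : QFDual.IsDedekindDefined A K B L) [Module.Finite A B]
    [Module.Free A B] :
    QFDual.dedekindDifferent A K B L =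
      Submodule.map (Algebra.linearMap B L) (QFDual.different B (Disc.Omega.trace A B)) := by
  haveI := h.free
  haveI := h.finiteKL
  haveI := h.isFractionRing
  haveI := h.isLocalization
  have hinj : Function.Injective (algebraMap A K) := IsFractionRing.injective A K
  have hbc : IsBaseChange K (IsScalarTower.toAlgHom A B L).toLinearMap :=
    IsLocalizedModule.isBaseChange (nonZeroDivisors A) K _
  have hpo : Algebra.IsPushout A K B L := ⟨hbc⟩
  have htr : ∀ b : B, Algebra.trace K L (algebraMap B L b) = algebraMap A K (Algebra.trace A B b) :=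
    fun b => trace_algebraMap_of_isPushout hpo b
  obtain ⟨e, he⟩ := main_S8962 h
  have h1 : (1 : L) ∈ QFDual.complementary A K B L := main_S8960 A K B L h
  -- e of an element of B
  have heB : ∀ (c : B) (hc : algebraMap B L c ∈ QFDual.complementary A K B L),
      e ⟨algebraMap B L c, hc⟩ = c • Disc.Omega.trace A B := by
    intro c hc
    apply Disc.Omega.ext
    ext b'
    apply hinj
    rw [he]
    change Algebra.trace K L (algebraMap B L c * algebraMap B L b') =
      algebraMap A K (Algebra.trace A B (c * b'))
    rw [← map_mul, htr]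
  ext x
  constructor
  · intro hx
    obtain ⟨b, hb⟩ := hx 1 h1
    rw [mul_one] at hb
    refine ⟨b, ?_, hb⟩
    rw [SetLike.mem_coe, QFDual.mem_different_iff]
    intro ω
    obtain ⟨y, rfl⟩ := e.surjective ω
    obtain ⟨c, hc⟩ := hx y y.2
    refine ⟨c, ?_⟩
    rw [← map_smul]
    have hmem : algebraMap B L c ∈ QFDual.complementary A K B L := by
      rw [hc, ← hb, ← Algebra.smul_def]
      exact Submodule.smul_mem _ _ y.2
    rw [← heB c hmem]
    congr 1
    apply Subtype.ext
    change algebraMap B L c = b • (y : L)
    rw [hc, ← hb, Algebra.smul_def]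
  · rintro ⟨b, hb, rfl⟩
    rw [SetLike.mem_coe, QFDual.mem_different_iff] at hb
    intro y hy
    obtain ⟨c, hc⟩ := hb (e ⟨y, hy⟩)
    refine ⟨c, ?_⟩
    -- c • τ = b • e y = e (b • y)
    have hc1 : algebraMap B L c ∈ QFDual.complementary A K B L := by
      have := Submodule.smul_mem (QFDual.complementary A K B L) c h1
      rwa [Algebra.smul_def, mul_one] at this
    have h2 : e ⟨algebraMap B L c, hc1⟩ = e (b • ⟨y, hy⟩) := by
      rw [heB, hc, map_smul]
    have h3 := e.injective h2
    have h4 := congrArg Subtype.val h3
    simp only [Submodule.coe_smul, Algebra.smul_def] at h4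
    rw [h4]
    rfl

end Groth.Agent.Helper3.QFD
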