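import Mathlib
import Groth.Agent.Lib.Helper7.FibTop.Basic

/-! helper3: quasi-finiteness at a point is invariant under arbitrary base change
(using helper7's open surjection between fibres `FibTop.exists_fibre_map`). -/

set_option autoImplicit false
set_option backward.isDefEq.respectTransparency.types false
universe u

namespace Groth.Agent.Helper3.QfAt

open AlgebraicGeometry CategoryTheory CategoryTheory.Limits

variable {X Y : Scheme.{u}} (f : X ⟶ Y)

theorem quasiFiniteAt_iff_isOpen_singleton [LocallyOfFiniteType f] (y : Y) (t : f.fiber y)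
    (x : X) (hx : f.fiberι y t = x) :
    f.QuasiFiniteAt x ↔ IsOpen ({t} : Set (f.fiber y)) := by
  have hy : f x = y := by
    have h1 : x ∈ Set.range (f.fiberι y) := ⟨t, hx⟩
    rw [Scheme.Hom.range_fiberι] at h1
    exact h1
  subst hy
  have ht : t = f.asFiber x := by
    apply (f.fiberι (f x)).isEmbedding.injective
    rw [hx, Scheme.Hom.fiberι_asFiber]
  rw [ht]
  exact Scheme.Hom.quasiFiniteAt_iff_isOpen_singleton_asFiber

theorem exists_open_locallyQuasiFinite_iff [LocallyOfFiniteType f] (x : X) :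
    (∃ W : X.Opens, x ∈ W ∧ LocallyQuasiFinite (W.ι ≫ f)) ↔ f.QuasiFiniteAt x := by
  constructor
  · rintro ⟨W, hxW, hW⟩
    have h1 := (W.ι ≫ f).quasiFiniteAt (⟨x, hxW⟩ : W)
    rwa [Scheme.Hom.quasiFiniteAt_comp_iff_of_isOpenImmersion] at h1
  · intro h
    exact ⟨f.quasiFiniteLocus, h, inferInstance⟩

theorem quasiFiniteAt_iff_of_isPullback {X' Y' : Scheme.{u}} {g' : X' ⟶ X} {f' : X' ⟶ Y'}
    {g : Y' ⟶ Y} (h : IsPullback g' f' f g) [LocallyOfFiniteType f] (z : X') :
    f'.QuasiFiniteAt z ↔ f.QuasiFiniteAt (g' z) := by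
  haveI : LocallyOfFiniteType f' :=
    MorphismProperty.of_isPullback (P := @LocallyOfFiniteType) h inferInstance
  constructor
  · intro hz
    obtain ⟨ψ, hψι, hψo, -⟩ := Groth.Agent.Helper7.FibTop.exists_fibre_map h (f' z)
    have h1 : IsOpen ({f'.asFiber z} : Set (f'.fiber (f' z))) :=
      Scheme.Hom.quasiFiniteAt_iff_isOpen_singleton_asFiber.mp hz
    have h2 : IsOpen ({ψ (f'.asFiber z)} : Set (f.fiber (g (f' z)))) := by
      have := hψo _ h1
      rwa [Set.image_singleton] at this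
    have h3 : f.fiberι (g (f' z)) (ψ (f'.asFiber z)) = g' z := by
      have := congrArg (fun φ => φ.base (f'.asFiber z)) hψι
      simp only [Scheme.Hom.comp_base, TopCat.comp_app] at this
      rw [this]
      congr 1
      exact Scheme.Hom.fiberι_asFiber f' z
    exact (quasiFiniteAt_iff_isOpen_singleton f _ _ _ h3).mpr h2
  · intro hx
    let W : X.Opens := f.quasiFiniteLocus
    have hzW : z ∈ g' ⁻¹ᵁ W := hx
    have pb1 : IsPullback (g' ∣_ W) (g' ⁻¹ᵁ W).ι W.ι g' := isPullback_morphismRestrict g' W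
    have pb2 : IsPullback (g' ∣_ W) ((g' ⁻¹ᵁ W).ι ≫ f') (W.ι ≫ f) g := pb1.paste_vert h
    haveI : LocallyQuasiFinite (W.ι ≫ f) := inferInstance
    haveI : LocallyQuasiFinite ((g' ⁻¹ᵁ W).ι ≫ f') :=
      MorphismProperty.of_isPullback (P := @LocallyQuasiFinite) pb2 inferInstance
    exact (exists_open_locallyQuasiFinite_iff f' z).mp ⟨g' ⁻¹ᵁ W, hzW, inferInstance⟩

end Groth.Agent.Helper3.QfAt
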