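import Mathlib
import Groth.Prelude.Def_AlgGrp
import Groth.Agent.Lib.Helper3.QfAt1
import Groth.Agent.Lib.Helper7.GrpUnram.Main

/-! helper3: for a homomorphism of group schemes locally of finite type, being quasi-finite at a
point is equivalent to being quasi-finite at the unit point of the fibre (translation argument as in
helper7's GrpUnram, with helper6's twist automorphisms); S5315, S5319. -/

set_option autoImplicit false
set_option backward.isDefEq.respectTransparency.types false
universe u

noncomputable section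

namespace Groth.Agent.Helper3.QfAt

open CategoryTheory CategoryTheory.Limits MonoidalCategory CartesianMonoidalCategory MonObj GrpObj
  AlgebraicGeometry
open Groth.Agent.Lib.Helper6.FlatQ

theorem locallyQuasiFinite_iff_forall {X Y : Scheme.{u}} (f : X ⟶ Y) [LocallyOfFiniteType f] :
    LocallyQuasiFinite f ↔ ∀ x : X, f.QuasiFiniteAt x := by
  rw [← Scheme.Hom.quasiFiniteLocus_eq_top_iff]
  constructor
  · intro h x
    have : x ∈ f.quasiFiniteLocus := by rw [h]; trivial
    exact this
  · intro h
    exact top_le_iff.mp fun x _ => h x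

theorem qfAt_comp_iso_right {X Y Y' : Scheme.{u}} (f : X ⟶ Y) (j : Y ⟶ Y') [IsIso j] (x : X) :
    (f ≫ j).QuasiFiniteAt x ↔ f.QuasiFiniteAt x := by
  simp only [Scheme.Hom.QuasiFiniteAt, Scheme.Hom.stalkMap_comp, CommRingCat.hom_comp]
  exact RingHom.QuasiFinite.respectsIso.cancel_left_isIso _ _

theorem qfAt_of_iso_conj {X Y : Scheme.{u}} (f : X ⟶ Y) (θ : X ⟶ X) (θ' : Y ⟶ Y) [IsIso θ]
    [IsIso θ'] (h : θ ≫ f = f ≫ θ') (z : X) : f.QuasiFiniteAt (θ z) ↔ f.QuasiFiniteAt z := by
  rw [← Scheme.Hom.quasiFiniteAt_comp_iff_of_isOpenImmersion (f := θ) (g := f), h,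
    qfAt_comp_iso_right]

variable {S : Scheme.{u}} {G H : Over S} [GrpObj G] [GrpObj H] (u : G ⟶ H) [IsMonHom u]

/-- `u` is quasi-finite at `t` iff it is quasi-finite at the unit point of the fibre through `t` -/
theorem qfAt_iff_qfAt_unit [LocallyOfFiniteType u.left] (t : G.left) :
    u.left.QuasiFiniteAt t ↔
      u.left.QuasiFiniteAt (η[G].left.base ((toUnit G).left.base t)) := by
  have H₀ : IsPullback (snd G G).left (G ◁ u).left u.left (snd G H).left :=
    (isPullback_whiskerLeft_snd u G).map (Over.forget S)
  have i1 : IsIso (twG (𝟙 G)).left := isIso_left _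
  have i2 : IsIso (twG (𝟙 G ≫ u)).left := isIso_left _
  have hθ : (twG (𝟙 G)).left ≫ (G ◁ u).left = (G ◁ u).left ≫ (twG (𝟙 G ≫ u)).left := by
    rw [← Over.comp_left, ← Over.comp_left, whiskerLeft_twG]
  let z : (G ⊗ G).left := (lift (𝟙 G) (toUnit G ≫ η[G])).left.base t
  have h1 := quasiFiniteAt_iff_of_isPullback u.left H₀ z
  have h2 := quasiFiniteAt_iff_of_isPullback u.left H₀ ((twG (𝟙 G)).left.base z)
  have h3 := qfAt_of_iso_conj (G ◁ u).left (twG (𝟙 G)).left (twG (𝟙 G ≫ u)).left hθ z
  have e1 : (snd G G).left.base z = η[G].left.base ((toUnit G).left.base t) := by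
    change ((lift (𝟙 G) (toUnit G ≫ η[G])) ≫ snd G G).left.base t = _
    rw [lift_snd]
    rfl
  have e2 : (snd G G).left.base ((twG (𝟙 G)).left.base z) = t := by
    change ((lift (𝟙 G) (toUnit G ≫ η[G])) ≫ twG (𝟙 G) ≫ snd G G).left.base t = t
    have : (lift (𝟙 G) (toUnit G ≫ η[G])) ≫ twG (𝟙 G) ≫ snd G G = 𝟙 G := by
      rw [twG_snd, id_whiskerRight, Category.id_comp]
      exact MonObj.lift_comp_one_right _ _
    rw [this]
    rfl
  rw [e1] at h1
  rw [e2] at h2
  rw [← h2, h3, h1]

theorem locallyQuasiFinite_overPullback_iff [LocallyOfFiniteType u.left] (s : S) :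
    LocallyQuasiFinite ((Over.pullback (S.fromSpecResidueField s)).map u).left ↔
      u.left.QuasiFiniteAt (η[G].left.base (show ↥(𝟙_ (Over S)).left from s)) := by
  have hpb := Groth.Agent.Helper7.GrpUnram.isPullback_overPullback_map u
    (S.fromSpecResidueField s)
  haveI : LocallyOfFiniteType ((Over.pullback (S.fromSpecResidueField s)).map u).left :=
    MorphismProperty.of_isPullback (P := @LocallyOfFiniteType) hpb inferInstance
  have hη : G.hom.base (η[G].left.base (show ↥(𝟙_ (Over S)).left from s)) = s := by
    have := congrArg (fun φ => φ.base (show ↥(𝟙_ (Over S)).left from s)) (Over.w η[G])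
    exact this
  rw [locallyQuasiFinite_iff_forall]
  constructor
  · intro h
    obtain ⟨z, hz1, -⟩ := Scheme.Pullback.exists_preimage_pullback (f := G.hom)
      (g := S.fromSpecResidueField s) (η[G].left.base (show ↥(𝟙_ (Over S)).left from s))
      (IsLocalRing.closedPoint (S.residueField s))
      (by rw [hη, Scheme.fromSpecResidueField_apply])
    have h1 := (quasiFiniteAt_iff_of_isPullback u.left hpb z).mp (h z)
    rwa [hz1] at h1
  · intro h z
    rw [quasiFiniteAt_iff_of_isPullback u.left hpb z, qfAt_iff_qfAt_unit]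
    have e : (toUnit G).left.base ((pullback.fst G.hom (S.fromSpecResidueField s)) z) = s := by
      change G.hom.base ((pullback.fst G.hom (S.fromSpecResidueField s)) z) = s
      have := congrArg (fun φ => φ.base z)
        (pullback.condition (f := G.hom) (g := S.fromSpecResidueField s))
      simp only [Scheme.Hom.comp_base, TopCat.comp_app] at this
      rw [this, Scheme.fromSpecResidueField_apply]
    rw [e]
    exact h

theorem S5315_main (S : Scheme.{u}) (G H : Over S) [GrpObj G] [GrpObj H] (u : G ⟶ H)
    [IsMonHom u] [LocallyOfFiniteType u.left] :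
    IsOpen {s : S | LocallyQuasiFinite ((Over.pullback (S.fromSpecResidueField s)).map u).left} ∧
    {x : G.left | ∃ W : G.left.Opens, x ∈ W ∧ LocallyQuasiFinite (W.ι ≫ u.left)} =
      G.hom.base ⁻¹' {s : S | LocallyQuasiFinite
        ((Over.pullback (S.fromSpecResidueField s)).map u).left} := by
  have hset : {s : S | LocallyQuasiFinite
      ((Over.pullback (S.fromSpecResidueField s)).map u).left} =
      (fun s : S => η[G].left.base (show ↥(𝟙_ (Over S)).left from s)) ⁻¹'
        {x | u.left.QuasiFiniteAt x} := by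
    ext s
    exact locallyQuasiFinite_overPullback_iff u s
  constructor
  · rw [hset]
    exact u.left.isOpen_quasiFiniteAt.preimage η[G].left.continuous
  · ext x
    simp only [Set.mem_ofPred_eq, Set.mem_preimage]
    rw [exists_open_locallyQuasiFinite_iff, locallyQuasiFinite_overPullback_iff,
      qfAt_iff_qfAt_unit]
    rfl


theorem locallyQuasiFinite_iff_forall_fibre [LocallyOfFiniteType u.left] :
    LocallyQuasiFinite u.left ↔
      ∀ s : S, LocallyQuasiFinite ((Over.pullback (S.fromSpecResidueField s)).map u).left := by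
  constructor
  · intro h s
    rw [locallyQuasiFinite_overPullback_iff]
    exact (locallyQuasiFinite_iff_forall _).mp h _
  · intro h
    rw [locallyQuasiFinite_iff_forall]
    intro x
    rw [qfAt_iff_qfAt_unit]
    exact (locallyQuasiFinite_overPullback_iff u _).mp (h ((toUnit G).left.base x))

theorem locallyQuasiFinite_iff_kernel [LocallyOfFiniteType u.left] (K : Over S) (i : K ⟶ G)
    (hK : AlgGrp.IsKernel i u) : LocallyQuasiFinite u.left ↔ LocallyQuasiFinite K.hom := by
  have hpbK : IsPullback i.left K.hom u.left η[H].left := hK.map (Over.forget S)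
  haveI : LocallyOfFiniteType K.hom :=
    MorphismProperty.of_isPullback (P := @LocallyOfFiniteType) hpbK inferInstance
  constructor
  · intro h
    exact MorphismProperty.of_isPullback (P := @LocallyQuasiFinite) hpbK h
  · intro h
    rw [locallyQuasiFinite_iff_forall]
    intro x
    rw [qfAt_iff_qfAt_unit]
    set s : ↥(𝟙_ (Over S)).left := (toUnit G).left.base x with hs
    have hcomp : u.left.base (η[G].left.base s) = η[H].left.base s := by
      have h1 : η[G] ≫ u = η[H] := IsMonHom.one_hom u
      have := congrArg (fun φ : 𝟙_ (Over S) ⟶ H => φ.left.base s) h1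
      exact this
    obtain ⟨k, hk1, hk2⟩ := exists_preimage_of_isPullback hpbK (η[G].left.base s) s hcomp
    have h2 := (locallyQuasiFinite_iff_forall _).mp h k
    have h3 := (quasiFiniteAt_iff_of_isPullback u.left hpbK k).mp h2
    rwa [hk1] at h3

theorem S5319_main (S : Scheme.{u}) (G H : Over S) [GrpObj G] [GrpObj H] (u : G ⟶ H) [IsMonHom u]
    [LocallyOfFiniteType u.left] (K : Over S) (i : K ⟶ G) (hK : AlgGrp.IsKernel i u) :
    (LocallyQuasiFinite u.left ↔ ∀ s : S, LocallyQuasiFinite
      ((Over.pullback (S.fromSpecResidueField s)).map u).left) ∧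
    (LocallyQuasiFinite u.left ↔ LocallyQuasiFinite K.hom) ∧
    (LocallyQuasiFinite u.left ↔ ∀ s : S, DiscreteTopology ↥(K.hom.base ⁻¹' {s})) := by
  have hpbK : IsPullback i.left K.hom u.left η[H].left := hK.map (Over.forget S)
  haveI : LocallyOfFiniteType K.hom :=
    MorphismProperty.of_isPullback (P := @LocallyOfFiniteType) hpbK inferInstance
  refine ⟨locallyQuasiFinite_iff_forall_fibre u, locallyQuasiFinite_iff_kernel u K i hK, ?_⟩
  rw [locallyQuasiFinite_iff_kernel u K i hK, locallyQuasiFinite_iff_isDiscrete_preimage_singleton]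
  exact forall_congr' fun s => isDiscrete_iff_discreteTopology

end Groth.Agent.Helper3.QfAt
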