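import Groth.Agent.Lib.Helper3.PCohE

/-! Quasi-isomorphisms into complexes with terms in a class `P` of finite codimension. -/

set_option linter.unusedSectionVars false

namespace Groth.Agent.Helper3.QisPA

open CategoryTheory CategoryTheory.Limits HomologicalComplex CochainComplex

universe v u

variable {A : Type u} [Category.{v} A] [Abelian A]

/-- The standing hypotheses on the class `P`. -/
structure Hyp (P : ObjectProperty A) : Prop where
  h1 : ∀ X : A, ∃ (Y : A) (i : X ⟶ Y), P Y ∧ Mono i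
  h2 : ∀ S : ShortComplex A, S.ShortExact → P S.X₁ → (P S.X₂ ↔ P S.X₃)

variable {P : ObjectProperty A}

namespace Hyp

variable (H : Hyp P)
include H

open ZeroObject in
lemma zero {Z : A} (hZ : IsZero Z) : P Z := by
  obtain ⟨Y, _, hY, _⟩ := H.h1 (0 : A)
  have hS : (ShortComplex.mk (𝟙 Y) (0 : Y ⟶ Z) comp_zero).ShortExact :=
    { exact := (ShortComplex.exact_iff_epi _ rfl).2 (by dsimp; infer_instance)
      mono_f := by dsimp; infer_instance
      epi_g := hZ.epi _ }
  exact (H.h2 _ hS hY).1 hY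

open ZeroObject in
lemma iso {X Y : A} (e : X ≅ Y) (hX : P X) : P Y := by
  have hS : (ShortComplex.mk e.hom (0 : Y ⟶ (0 : A)) comp_zero).ShortExact :=
    { exact := (ShortComplex.exact_iff_epi _ rfl).2 (by dsimp; infer_instance)
      mono_f := by dsimp; infer_instance
      epi_g := (isZero_zero A).epi _ }
  exact (H.h2 _ hS hX).2 (H.zero (isZero_zero A))

lemma biprod {X Y : A} (hX : P X) (hY : P Y) : P (X ⊞ Y) :=
  (H.h2 _ (ShortComplex.Splitting.ofHasBinaryBiproduct X Y).shortExact hX).2 hY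

/-- Every complex embeds termwise into a complex with terms in `P`. -/
lemma exists_embedding (X : CochainComplex A ℤ) :
    ∃ (J : CochainComplex A ℤ) (j : X ⟶ J), (∀ n, Mono (j.f n)) ∧ ∀ n, P (J.X n) := by
  choose I i hI hi using H.h1
  let J : CochainComplex A ℤ :=
    CochainComplex.of (fun n => I (X.X n) ⊞ I (X.X (n + 1)))
      (fun n => biprod.snd ≫ biprod.inl) (fun n => by simp)
  have hJd : ∀ n : ℤ, J.d n (n + 1) = biprod.snd ≫ biprod.inl := fun n =>
    CochainComplex.of_d (fun n => I (X.X n) ⊞ I (X.X (n + 1)))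
      (fun n => biprod.snd ≫ biprod.inl) n
  let j : X ⟶ J :=
    { f := fun n => biprod.lift (i (X.X n)) (X.d n (n + 1) ≫ i (X.X (n + 1)))
      comm' := by
        rintro n _ rfl
        rw [hJd]
        apply biprod.hom_ext
        · simp
        · simp }
  refine ⟨J, j, fun n => ?_, fun n => H.biprod (hI _) (hI _)⟩
  have : Mono (j.f n ≫ biprod.fst) := by
    have : j.f n ≫ biprod.fst = i (X.X n) := biprod.lift_fst _ _
    rw [this]
    exact hi _
  exact mono_of_mono (j.f n) biprod.fst

end Hyp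

/-- `Codim P m Y`: every partial coresolution of `Y` by objects of `P` of length `m` ends in `P`. -/
def Codim (P : ObjectProperty A) : ℕ → A → Prop
  | 0, Y => P Y
  | (m + 1), Y => ∀ (J Q : A) (i : Y ⟶ J) (p : J ⟶ Q) (w : i ≫ p = 0),
      (ShortComplex.mk i p w).ShortExact → P J → Codim P m Q

namespace Hyp

variable (H : Hyp P)
include H

/-- Complexes whose terms have finite codimension admit quasi-isomorphisms to complexes with
terms in `P`. -/
theorem exists_qis : ∀ (m : ℕ) (X : CochainComplex A ℤ), (∀ n, Codim P m (X.X n)) →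
    ∃ (L : CochainComplex A ℤ) (f : X ⟶ L), QuasiIso f ∧ ∀ n, P (L.X n)
  | 0, X, hX => ⟨X, 𝟙 X, inferInstance, hX⟩
  | (m + 1), X, hX => by
    obtain ⟨J, j, hj, hJ⟩ := H.exists_embedding X
    have : Mono j := HomologicalComplex.mono_of_mono_f j hj
    let S : ShortComplex (CochainComplex A ℤ) := ShortComplex.mk j (cokernel.π j) (by simp)
    have hS : S.ShortExact :=
      { exact := ShortComplex.exact_of_g_is_cokernel _ (cokernelIsCokernel j) }
    have hQ : ∀ n, Codim P m (S.X₃.X n) := fun n =>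
      hX n _ _ _ _ _ (hS.map_of_exact (HomologicalComplex.eval A (ComplexShape.up ℤ) n)) (hJ n)
    obtain ⟨LQ, g, hg, hLQ⟩ := exists_qis m S.X₃ hQ
    -- the three quasi-isomorphisms
    have q1 : QuasiIso (mappingCone.rotateHomotopyEquiv j).hom := inferInstance
    have hdesc : QuasiIso (mappingCone.descShortComplex S) := mappingCone.quasiIso_descShortComplex hS
    have q2 : QuasiIso (mappingCone.map (mappingCone.inr j) S.g (𝟙 J) (mappingCone.descShortComplex S)
        (by rw [Category.id_comp]; exact mappingCone.inr_descShortComplex S)) := PCohA.quasiIso_cone_map _ _ _ _ _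
    have q3 : QuasiIso (mappingCone.map S.g (S.g ≫ g) (𝟙 J) g (Category.id_comp _).symm) :=
      PCohA.quasiIso_cone_map _ _ _ _ _
    let f' : X⟦(1 : ℤ)⟧ ⟶ mappingCone (S.g ≫ g) :=
      (mappingCone.rotateHomotopyEquiv j).hom ≫
        mappingCone.map (mappingCone.inr j) S.g (𝟙 J) (mappingCone.descShortComplex S)
          (by rw [Category.id_comp]; exact mappingCone.inr_descShortComplex S) ≫ mappingCone.map S.g (S.g ≫ g) (𝟙 J) g (Category.id_comp _).symm
    have hf' : QuasiIso f' := inferInstance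
    let e : X ≅ (X⟦(1 : ℤ)⟧)⟦(-1 : ℤ)⟧ :=
      (shiftEquiv (CochainComplex A ℤ) (1 : ℤ)).unitIso.app X
    refine ⟨(mappingCone (S.g ≫ g))⟦(-1 : ℤ)⟧, e.hom ≫ f'⟦(-1 : ℤ)⟧', ?_, fun n => ?_⟩
    · have : QuasiIso (f'⟦(-1 : ℤ)⟧') := (quasiIso_shift_iff f' (-1)).2 hf'
      infer_instance
    · exact H.iso (PCohE.coneXIso (S.g ≫ g) (n + (-1))).symm (H.biprod (hJ _) (hLQ _))

end Hyp

/-- `Inv P m Y K ε`: `K` is a partial coresolution of `Y` of length `m` with terms
(in degrees `< m`) in `P`. -/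
structure Inv (P : ObjectProperty A) (m : ℕ) (Y : A) (K : CochainComplex A ℕ)
    (ε : Y ⟶ K.X 0) : Prop where
  hP : ∀ i, i < m → P (K.X i)
  hz : ∀ i, m < i → IsZero (K.X i)
  hex : ∀ i, 1 ≤ i → i ≤ m → K.ExactAt i
  w : ε ≫ K.d 0 1 = 0
  ex0 : (ShortComplex.mk ε (K.d 0 1) w).Exact
  mono : Mono ε

lemma exactAt_augment_succ (C : CochainComplex A ℕ) {X : A} (f : X ⟶ C.X 0)
    (w : f ≫ C.d 0 1 = 0) (i : ℕ) (h : C.ExactAt (i + 1)) :
    (CochainComplex.augment C f w).ExactAt (i + 2) := by
  rw [HomologicalComplex.exactAt_iff' _ (i + 1) (i + 2) (i + 3) (by simp) (by simp)]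
  rw [HomologicalComplex.exactAt_iff' _ i (i + 1) (i + 2) (by simp) (by simp)] at h
  exact h

lemma exactAt_augment_one (C : CochainComplex A ℕ) {X : A} (f : X ⟶ C.X 0)
    (w : f ≫ C.d 0 1 = 0) (h : (ShortComplex.mk f (C.d 0 1) w).Exact) :
    (CochainComplex.augment C f w).ExactAt 1 := by
  rw [HomologicalComplex.exactAt_iff' _ 0 1 2 (by simp) (by simp)]
  exact h

open ZeroObject in
lemma codim_of_forall : ∀ (m : ℕ) (Y : A),
    (∀ (K : CochainComplex A ℕ) (ε : Y ⟶ K.X 0), Inv P m Y K ε → P (K.X m)) → Codim P m Y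
  | 0, Y, h => by
    let K : CochainComplex A ℕ :=
      CochainComplex.augment (HomologicalComplex.zero)
        (0 : Y ⟶ (HomologicalComplex.zero : CochainComplex A ℕ).X 0) zero_comp
    have hK : Inv P 0 Y K (𝟙 Y) :=
      { hP := fun i hi => by lia
        hz := fun i hi => by
          obtain ⟨j, rfl⟩ : ∃ j, i = j + 1 := ⟨i - 1, by lia⟩
          exact isZero_zero A
        hex := fun i h1 h2 => by lia
        w := by
          apply (isZero_zero A).eq_of_tgt
        ex0 := by
          refine (ShortComplex.exact_iff_epi _ ?_).2 ?_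
          · apply (isZero_zero A).eq_of_tgt
          · exact (inferInstance : Epi (𝟙 Y))
        mono := (inferInstance : Mono (𝟙 Y)) }
    exact h K (𝟙 Y) hK
  | (m + 1), Y, h => by
    intro J Q i p w hS hJ
    refine codim_of_forall m Q (fun K' ε' hK' => ?_)
    have w' : (p ≫ ε') ≫ K'.d 0 1 = 0 := by rw [Category.assoc, hK'.w, comp_zero]
    let K : CochainComplex A ℕ := CochainComplex.augment K' (p ≫ ε') w'
    have : Epi p := hS.epi_g
    have : Mono ε' := hK'.mono
    have hK : Inv P (m + 1) Y K i :=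
      { hP := fun j hj => by
          rcases j with _ | j
          · exact hJ
          · exact hK'.hP j (by lia)
        hz := fun j hj => by
          obtain ⟨j', rfl⟩ : ∃ j', j = j' + 1 := ⟨j - 1, by lia⟩
          exact hK'.hz j' (by lia)
        hex := fun j h1 h2 => by
          obtain ⟨j', rfl⟩ : ∃ j', j = j' + 1 := ⟨j - 1, by lia⟩
          rcases j' with _ | j'
          · apply exactAt_augment_one
            exact (ShortComplex.exact_iff_of_epi_of_isIso_of_mono
              (ShortComplex.Hom.mk (S₁ := ShortComplex.mk (p ≫ ε') (K'.d 0 1) w')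
                (S₂ := ShortComplex.mk ε' (K'.d 0 1) hK'.w) p (𝟙 _) (𝟙 _)
                (by simp) (by simp))).2 hK'.ex0
          · exact exactAt_augment_succ _ _ _ _ (hK'.hex (j' + 1) (by lia) (by lia))
        w := by
          change i ≫ p ≫ ε' = 0
          rw [← Category.assoc, w, zero_comp]
        ex0 := by
          have w2 : i ≫ p ≫ ε' = 0 := by rw [← Category.assoc, w, zero_comp]
          change (ShortComplex.mk i (p ≫ ε') w2).Exact
          exact (ShortComplex.exact_iff_of_epi_of_isIso_of_mono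
              (ShortComplex.Hom.mk (S₁ := ShortComplex.mk i p w)
                (S₂ := ShortComplex.mk i (p ≫ ε') w2) (𝟙 _) (𝟙 _) ε'
                (by simp) (by simp))).1 hS.exact
        mono := hS.mono_f }
    exact h K i hK

/-- The main theorem. -/
theorem main (P : ObjectProperty A)
    (h1 : ∀ X : A, ∃ (Y : A) (i : X ⟶ Y), P Y ∧ Mono i)
    (h2 : ∀ S : ShortComplex A, S.ShortExact → P S.X₁ → (P S.X₂ ↔ P S.X₃))
    (n : ℕ) (hn : 1 ≤ n)
    (h3 : ∀ K : CochainComplex A ℕ, (∀ i : ℕ, 1 ≤ i → i ≤ n → K.ExactAt i) →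
      (∀ i : ℕ, n < i → IsZero (K.X i)) →
      Epi (K.d (n - 1) n) → (∀ i : ℕ, i < n → P (K.X i)) → P (K.X n))
    (X : CochainComplex A ℤ) :
    ∃ (I : CochainComplex A ℤ) (f : X ⟶ I), QuasiIso f ∧ ∀ k : ℤ, P (I.X k) := by
  have H : Hyp P := ⟨h1, h2⟩
  refine H.exists_qis n X (fun k => codim_of_forall n _ (fun K ε hK => ?_))
  refine h3 K hK.hex hK.hz ?_ hK.hP
  obtain ⟨m, rfl⟩ : ∃ m, n = m + 1 := ⟨n - 1, by lia⟩
  have hex := hK.hex (m + 1) (by lia) le_rfl
  rw [HomologicalComplex.exactAt_iff' _ m (m + 1) (m + 2) (by simp) (by simp)] at hex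
  have := (ShortComplex.exact_iff_epi _ ((hK.hz (m + 2) (by lia)).eq_of_tgt _ _)).1 hex
  exact this

end Groth.Agent.Helper3.QisPA
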