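import Mathlib
import Groth.Prelude.Def_SixF1
import Groth.Agent.Lib.Helper3.KInjD
import Groth.Agent.Lib.Helper5.KInj.Derived
import Groth.Agent.S0481
import Groth.Agent.Lib.Helper5.Misc.LanFlat

set_option autoImplicit false
universe w v u

open CategoryTheory Limits

namespace Groth.Agent.Helper3.RComp

section General

variable {C : Type u} [Category.{v} C] [Abelian C] [HasDerivedCategory.{w} C]
  {H : Type*} [Category H]

open DerivedCategory

/-- Grothendieck abelian categories have K-injective resolutions -/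
theorem hasKInjRes_of_grothendieck (A : Type u) [Category.{v} A] [Abelian A]
    [IsGrothendieckAbelian.{v} A] : Helper5.KInj.HasKInjRes A := by
  intro X
  obtain ⟨I, f, hI, hf, -, -⟩ := Groth.Agent.Helper3.KInjD.exists_kInjective_resolution X
  exact ⟨I, f, hI, hf⟩

/-- the unit of a right derived functor is invertible on objects isomorphic (in the homotopy
category) to K-injective complexes -/
theorem isIso_unit_app_of_iso (hC : Helper5.KInj.HasKInjRes C)
    (F : HomotopyCategory C (ComplexShape.up ℤ) ⥤ H) (RF : DerivedCategory C ⥤ H)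
    (α : F ⟶ Qh ⋙ RF)
    [RF.IsRightDerivedFunctor α (HomotopyCategory.quasiIso C (ComplexShape.up ℤ))]
    (Z : HomotopyCategory C (ComplexShape.up ℤ)) (J : CochainComplex C ℤ) [J.IsKInjective]
    (e : Z ≅ (HomotopyCategory.quotient C (ComplexShape.up ℤ)).obj J) :
    IsIso (α.app Z) := by
  haveI := Helper5.KInj.isIso_app_of_isKInjective F hC RF α J
  exact (NatTrans.isIso_app_iff_of_iso α e).2 inferInstance

/-- every object of the derived category is the image of a K-injective complex -/
theorem exists_kinj_iso (hC : Helper5.KInj.HasKInjRes C) (K : DerivedCategory C) :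
    ∃ (I : CochainComplex C ℤ) (_ : I.IsKInjective), Nonempty (K ≅ Q.obj I) := by
  obtain ⟨I, f, hI, hf⟩ := hC (Q.objPreimage K)
  haveI : QuasiIso f := hf
  exact ⟨I, hI, ⟨(Q.objObjPreimageIso K).symm ≪≫ asIso (Q.map f)⟩⟩

section MapHtpy

variable {V W : Type*} [Category V] [Preadditive V] [Category W] [Preadditive W]
  {ι : Type*} (c : ComplexShape ι)

instance isIso_mapHomotopyCategory {F G : V ⥤ W} [F.Additive] [G.Additive] (α : F ⟶ G)
    [IsIso α] : IsIso (NatTrans.mapHomotopyCategory α c) :=
  ⟨⟨NatTrans.mapHomotopyCategory (inv α) c, by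
    rw [← NatTrans.mapHomotopyCategory_comp, IsIso.hom_inv_id, NatTrans.mapHomotopyCategory_id],
    by rw [← NatTrans.mapHomotopyCategory_comp, IsIso.inv_hom_id,
      NatTrans.mapHomotopyCategory_id]⟩⟩

end MapHtpy

end General

section Et

open AlgebraicGeometry

attribute [local instance] HasDerivedCategory.standard

variable {X Y Z : Scheme.{u}} (f : X ⟶ Y) (g : Y ⟶ Z)

theorem ab5Ab : AB5OfSize.{u, u + 1} AddCommGrpCat.{u + 1} :=
  AB5OfSize_shrink.{u, u + 1, u + 1, u + 1} AddCommGrpCat.{u + 1}

/-- the inverse image of abelian étale sheaves is exact -/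
theorem lexPull : PreservesFiniteLimits (EtCoh.pull f) := by
  have := ab5Ab.{u}
  exact Groth.Agent.Lib.Helper5.Misc.LanFlat.preservesFiniteLimits_sheafPullback
    (EtCoh.bc f) AddCommGrpCat.{u + 1} _ _

theorem isIso_compUnit_app [DCoh.HasRpushEt X f] [DCoh.HasRpushEt Y g]
    (I : CochainComplex (EtCoh.Ab X) ℤ) [I.IsKInjective] :
    IsIso ((EtSix.compUnit f g).app
      ((HomotopyCategory.quotient (EtCoh.Ab X) (ComplexShape.up ℤ)).obj I)) := by
  have hX := hasKInjRes_of_grothendieck (EtCoh.Ab X)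
  have hY := hasKInjRes_of_grothendieck (EtCoh.Ab Y)
  haveI := lexPull f
  haveI : PreservesColimitsOfSize.{0, 0} (EtCoh.pull f) :=
    (EtCoh.pullPushAdj f).leftAdjoint_preservesColimits
  haveI : PreservesFiniteColimits (EtCoh.pull f) :=
    PreservesColimitsOfSize.preservesFiniteColimits _
  haveI : (EtCoh.pull f).Additive := (EtCoh.pullPushAdj f).left_adjoint_additive
  haveI hJ : CochainComplex.IsKInjective
      (((EtCoh.push f).mapHomologicalComplex (ComplexShape.up ℤ)).obj I) :=
    Groth.Agent.S0481.result (EtCoh.push f) (EtCoh.pull f) (EtCoh.pullPushAdj f) I inferInstance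
  haveI h1 : IsIso (((DCoh.pushEtKh X f).totalRightDerivedUnit DerivedCategory.Qh
      (HomotopyCategory.quasiIso (EtCoh.Ab X) (ComplexShape.up ℤ))).app
      ((HomotopyCategory.quotient (EtCoh.Ab X) (ComplexShape.up ℤ)).obj I)) :=
    Helper5.KInj.isIso_app_of_isKInjective _ hX _ _ I
  haveI h2 : IsIso (((DCoh.pushEtKh Y g).totalRightDerivedUnit DerivedCategory.Qh
      (HomotopyCategory.quasiIso (EtCoh.Ab Y) (ComplexShape.up ℤ))).app
      (((EtCoh.push f).mapHomotopyCategory (ComplexShape.up ℤ)).obj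
        ((HomotopyCategory.quotient (EtCoh.Ab X) (ComplexShape.up ℤ)).obj I))) :=
    isIso_unit_app_of_iso hY _ _ _ _
      (((EtCoh.push f).mapHomologicalComplex (ComplexShape.up ℤ)).obj I)
      (((EtCoh.push f).mapHomotopyCategoryFactors (ComplexShape.up ℤ)).app I)
  unfold EtSix.compUnit
  simp only [NatTrans.comp_app, Functor.whiskerRight_app, Functor.whiskerLeft_app,
    Functor.associator_hom_app, Functor.associator_inv_app, Functor.map_comp]
  infer_instance

theorem isIso_compMap [DCoh.HasRpushEt X f] [DCoh.HasRpushEt Y g] [DCoh.HasRpushEt X (f ≫ g)] :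
    IsIso (EtSix.compMap f g) := by
  have hX := hasKInjRes_of_grothendieck (EtCoh.Ab X)
  rw [NatTrans.isIso_iff_isIso_app]
  intro K
  obtain ⟨I, hI, ⟨e⟩⟩ := exists_kinj_iso hX K
  rw [NatTrans.isIso_app_iff_of_iso (EtSix.compMap f g) e]
  haveI h1 : IsIso (((DCoh.pushEtKh X (f ≫ g)).totalRightDerivedUnit DerivedCategory.Qh
      (HomotopyCategory.quasiIso (EtCoh.Ab X) (ComplexShape.up ℤ))).app
      ((HomotopyCategory.quotient (EtCoh.Ab X) (ComplexShape.up ℤ)).obj I)) :=
    Helper5.KInj.isIso_app_of_isKInjective _ hX _ _ I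
  haveI h2 := isIso_compUnit_app f g I
  have fac := congrArg (fun t => t.app ((HomotopyCategory.quotient (EtCoh.Ab X)
      (ComplexShape.up ℤ)).obj I))
    ((DCoh.RpushEt X (f ≫ g)).rightDerived_fac
      ((DCoh.pushEtKh X (f ≫ g)).totalRightDerivedUnit DerivedCategory.Qh
        (HomotopyCategory.quasiIso (EtCoh.Ab X) (ComplexShape.up ℤ)))
      (HomotopyCategory.quasiIso (EtCoh.Ab X) (ComplexShape.up ℤ))
      (DCoh.RpushEt X f ⋙ DCoh.RpushEt Y g) (EtSix.compUnit f g))
  simp only [NatTrans.comp_app, Functor.whiskerLeft_app] at fac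
  have h3 : IsIso ((EtSix.compMap f g).app (DerivedCategory.Qh.obj
      ((HomotopyCategory.quotient (EtCoh.Ab X) (ComplexShape.up ℤ)).obj I))) := by
    refine IsIso.of_isIso_fac_left (f := ((DCoh.pushEtKh X (f ≫ g)).totalRightDerivedUnit
      DerivedCategory.Qh (HomotopyCategory.quasiIso (EtCoh.Ab X) (ComplexShape.up ℤ))).app
      ((HomotopyCategory.quotient (EtCoh.Ab X) (ComplexShape.up ℤ)).obj I))
      (h := (EtSix.compUnit f g).app
        ((HomotopyCategory.quotient (EtCoh.Ab X) (ComplexShape.up ℤ)).obj I)) ?_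
    exact fac
  exact h3

end Et

end Groth.Agent.Helper3.RComp
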