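import Mathlib

set_option autoImplicit false
universe u
open CategoryTheory Limits MonoidalCategory CartesianMonoidalCategory MonObj

namespace Groth.Agent.Helper3.ShGrp

attribute [-instance] ObjectProperty.fullMonoidalSubcategory

variable {C : Type u} [SmallCategory C] (J : GrothendieckTopology C)

noncomputable instance braidedSheafType : BraidedCategory (Sheaf J (Type u)) :=
  .ofCartesianMonoidalCategory

/-- forgetful functor from abelian sheaves to sheaves of sets -/
noncomputable abbrev U : Sheaf J AddCommGrpCat.{u} ⥤ Sheaf J (Type u) :=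
  sheafCompose J (forget AddCommGrpCat.{u})

variable {J}

/-- extensionality for morphisms of sheaves of sets -/
lemma hom_ext_apply {P Q : Sheaf J (Type u)} {f g : P ⟶ Q}
    (h : ∀ (X : Cᵒᵖ) (x : P.obj.obj X), f.hom.app X x = g.hom.app X x) : f = g := by
  apply ObjectProperty.hom_ext
  ext X x
  exact h X x

variable (H : Sheaf J AddCommGrpCat.{u})

/-- the zero section -/
noncomputable def oneHom : 𝟙_ (Sheaf J (Type u)) ⟶ (U J).obj H :=
  ObjectProperty.homMk
    { app := fun X => TypeCat.ofHom (fun _ => (0 : H.obj.obj X))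
      naturality := fun X Y f => by
        ext x
        exact (map_zero (H.obj.map f).hom).symm }

/-- addition -/
noncomputable def mulHom : (U J).obj H ⊗ (U J).obj H ⟶ (U J).obj H :=
  ObjectProperty.homMk
    { app := fun X => TypeCat.ofHom
        (fun (p : (H.obj.obj X) × (H.obj.obj X)) => (p.1 + p.2 : H.obj.obj X))
      naturality := fun X Y f => by
        ext ⟨a, b⟩
        exact (map_add (H.obj.map f).hom _ _).symm }

/-- negation -/
noncomputable def invHom : (U J).obj H ⟶ (U J).obj H :=
  ObjectProperty.homMk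
    { app := fun X => TypeCat.ofHom (fun (a : H.obj.obj X) => (-a : H.obj.obj X))
      naturality := fun X Y f => by
        ext a
        exact (map_neg (H.obj.map f).hom _).symm }

noncomputable instance grpObj : GrpObj ((U J).obj H) where
  one := oneHom H
  mul := mulHom H
  one_mul := by
    apply hom_ext_apply
    rintro X ⟨⟨⟩, a⟩
    exact zero_add (M := H.obj.obj X) a
  mul_one := by
    apply hom_ext_apply
    rintro X ⟨a, ⟨⟩⟩
    exact add_zero (M := H.obj.obj X) a
  mul_assoc := by
    apply hom_ext_apply
    rintro X ⟨⟨a, b⟩, c⟩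
    exact add_assoc (G := H.obj.obj X) a b c
  inv := invHom H
  left_inv := by
    apply hom_ext_apply
    rintro X a
    exact neg_add_cancel (G := H.obj.obj X) a
  right_inv := by
    apply hom_ext_apply
    rintro X a
    exact add_neg_cancel (G := H.obj.obj X) a

/-- the commutative group object attached to an abelian sheaf -/
noncomputable def toCommGrpObj : CommGrp (Sheaf J (Type u)) :=
  { X := (U J).obj H
    grp := grpObj H
    comm := ⟨by
      apply hom_ext_apply
      rintro X ⟨a, b⟩
      exact add_comm (G := H.obj.obj X) b a⟩ }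

@[simp] lemma toCommGrpObj_X : (toCommGrpObj H).X = (U J).obj H := rfl

lemma toCommGrpObj_one : η[(toCommGrpObj H).X] = oneHom H := rfl
lemma toCommGrpObj_mul : μ[(toCommGrpObj H).X] = mulHom H := rfl

variable {H} {H' : Sheaf J AddCommGrpCat.{u}}

/-- the map on group objects induced by a morphism of abelian sheaves -/
noncomputable def toCommGrpMap (φ : H ⟶ H') : toCommGrpObj H ⟶ toCommGrpObj H' :=
  InducedCategory.homMk (Grp.homMk'' ((U J).map φ)
    (by
      apply hom_ext_apply
      rintro X ⟨⟩
      exact map_zero (φ.hom.app X).hom)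
    (by
      apply hom_ext_apply
      rintro X ⟨a, b⟩
      exact map_add (φ.hom.app X).hom _ _))

variable (J) in
/-- The functor from abelian sheaves to commutative group objects in sheaves of sets. -/
noncomputable def Φ : Sheaf J AddCommGrpCat.{u} ⥤ CommGrp (Sheaf J (Type u)) where
  obj H := toCommGrpObj H
  map φ := toCommGrpMap φ
  map_id H := by
    apply CommGrp.hom_ext
    exact (U J).map_id H
  map_comp φ ψ := by
    apply CommGrp.hom_ext
    exact (U J).map_comp φ ψ

instance : (Φ J).Faithful where
  map_injective {H H'} φ ψ h := by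
    apply (U J).map_injective
    exact congrArg (fun g => g.hom.hom.hom) h

section full

variable (g : (Φ J).obj H ⟶ (Φ J).obj H')

/-- the underlying maps on sections -/
noncomputable def ev (X : Cᵒᵖ) : H.obj.obj X → H'.obj.obj X :=
  fun a => g.hom.hom.hom.hom.app X a

lemma ev_zero (X : Cᵒᵖ) : ev g X 0 = 0 := by
  have h := IsMonHom.one_hom (f := g.hom.hom.hom)
  exact congrArg (fun k => k.hom.app X PUnit.unit) h

lemma ev_add (X : Cᵒᵖ) (a b : H.obj.obj X) : ev g X (a + b) = ev g X a + ev g X b := by
  have h := IsMonHom.mul_hom (f := g.hom.hom.hom)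
  exact congrArg (fun k => k.hom.app X (a, b)) h

lemma ev_naturality {X Y : Cᵒᵖ} (f : X ⟶ Y) (a : H.obj.obj X) :
    ev g Y (H.obj.map f a) = H'.obj.map f (ev g X a) :=
  congrArg (fun k => k a) (g.hom.hom.hom.hom.naturality f)

/-- the preimage morphism -/
noncomputable def preim : H ⟶ H' :=
  ObjectProperty.homMk
    { app := fun X => AddCommGrpCat.ofHom
        { toFun := ev g X
          map_zero' := ev_zero g X
          map_add' := ev_add g X }
      naturality := fun X Y f => by
        ext a
        exact ev_naturality g f a }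

lemma Φ_map_preim : (Φ J).map (preim g) = g := by
  apply CommGrp.hom_ext
  apply hom_ext_apply
  intro X a
  rfl

end full

instance : (Φ J).Full where
  map_surjective g := ⟨preim g, Φ_map_preim g⟩

section essSurj

variable (P : CommGrp (Sheaf J (Type u)))

/-- sections of the underlying sheaf of sets -/
abbrev Sec (X : Cᵒᵖ) : Type u := P.X.obj.obj X

/-- pointwise addition -/
noncomputable def padd (X : Cᵒᵖ) (a b : Sec P X) : Sec P X := μ[P.X].hom.app X (a, b)
/-- pointwise zero -/
noncomputable def pzero (X : Cᵒᵖ) : Sec P X := η[P.X].hom.app X PUnit.unit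
/-- pointwise negation -/
noncomputable def pneg (X : Cᵒᵖ) (a : Sec P X) : Sec P X := ι[P.X].hom.app X a

lemma padd_assoc (X : Cᵒᵖ) (a b c : Sec P X) :
    padd P X (padd P X a b) c = padd P X a (padd P X b c) :=
  congrArg (fun k => k.hom.app X ((a, b), c)) (MonObj.mul_assoc P.X)

lemma pzero_add (X : Cᵒᵖ) (a : Sec P X) : padd P X (pzero P X) a = a :=
  congrArg (fun k => k.hom.app X (PUnit.unit, a)) (MonObj.one_mul P.X)

lemma padd_zero (X : Cᵒᵖ) (a : Sec P X) : padd P X a (pzero P X) = a :=
  congrArg (fun k => k.hom.app X (a, PUnit.unit)) (MonObj.mul_one P.X)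

lemma pneg_add (X : Cᵒᵖ) (a : Sec P X) : padd P X (pneg P X a) a = pzero P X :=
  congrArg (fun k => k.hom.app X a) (GrpObj.left_inv P.X)

lemma padd_comm (X : Cᵒᵖ) (a b : Sec P X) : padd P X a b = padd P X b a :=
  congrArg (fun k => k.hom.app X (b, a)) (IsCommMonObj.mul_comm P.X)

/-- the pointwise abelian group structure -/
@[instance_reducible]
noncomputable def secGrp (X : Cᵒᵖ) : AddCommGroup (Sec P X) :=
  letI : Add (Sec P X) := ⟨padd P X⟩
  letI : Zero (Sec P X) := ⟨pzero P X⟩
  letI : Neg (Sec P X) := ⟨pneg P X⟩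
  { AddGroup.ofLeftAxioms (padd_assoc P X) (pzero_add P X) (pneg_add P X) with
    add_comm := padd_comm P X }

lemma padd_naturality {X Y : Cᵒᵖ} (f : X ⟶ Y) (a b : Sec P X) :
    P.X.obj.map f (padd P X a b) = padd P Y (P.X.obj.map f a) (P.X.obj.map f b) :=
  (congrArg (fun k => k (a, b)) (μ[P.X].hom.naturality f)).symm

lemma pzero_naturality {X Y : Cᵒᵖ} (f : X ⟶ Y) :
    P.X.obj.map f (pzero P X) = pzero P Y :=
  (congrArg (fun k => k PUnit.unit) (η[P.X].hom.naturality f)).symm

/-- the presheaf of abelian groups attached to a commutative group object -/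
noncomputable def grpPresheaf : Cᵒᵖ ⥤ AddCommGrpCat.{u} where
  obj X := @AddCommGrpCat.of (Sec P X) (secGrp P X)
  map {X Y} f := @AddCommGrpCat.ofHom (Sec P X) (Sec P Y) (secGrp P X) (secGrp P Y)
    (letI := secGrp P X
     letI := secGrp P Y
     { toFun := fun a => P.X.obj.map f a
       map_zero' := pzero_naturality P f
       map_add' := padd_naturality P f })
  map_id X := by
    refine ConcreteCategory.hom_ext _ _ (fun a => ?_)
    exact congrArg (fun k => k a) (P.X.obj.map_id X)
  map_comp f g := by
    refine ConcreteCategory.hom_ext _ _ (fun a => ?_)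
    exact congrArg (fun k => k a) (P.X.obj.map_comp f g)

/-- forgetting the group structure gives back the sheaf of sets -/
noncomputable def grpPresheafForgetIso : grpPresheaf P ⋙ forget AddCommGrpCat.{u} ≅ P.X.obj :=
  NatIso.ofComponents (fun X => Iso.refl _) (fun f => by
    ext a
    rfl)

lemma grpPresheaf_isSheaf : Presheaf.IsSheaf J (grpPresheaf P) := by
  rw [Presheaf.isSheaf_iff_isSheaf_forget J (grpPresheaf P) (forget AddCommGrpCat.{u})]
  exact (Presheaf.isSheaf_of_iso_iff (grpPresheafForgetIso P)).2 P.X.property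

/-- the abelian sheaf attached to a commutative group object -/
noncomputable def grpSheaf : Sheaf J AddCommGrpCat.{u} := ⟨grpPresheaf P, grpPresheaf_isSheaf P⟩

/-- the underlying sheaf of sets of `grpSheaf P` is that of `P` -/
noncomputable def grpSheafUIso : (U J).obj (grpSheaf P) ≅ P.X :=
  (fullyFaithfulSheafToPresheaf J (Type u)).preimageIso (grpPresheafForgetIso P)

lemma grpSheafUIso_hom_app (X : Cᵒᵖ) (a : Sec P X) :
    (grpSheafUIso P).hom.hom.app X a = a := rfl

/-- `Φ (grpSheaf P) ≅ P` -/
noncomputable def ΦgrpSheafIso : (Φ J).obj (grpSheaf P) ≅ P :=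
  CommGrp.mkIso (grpSheafUIso P)
    (by
      apply hom_ext_apply
      rintro X ⟨⟩
      rfl)
    (by
      apply hom_ext_apply
      rintro X ⟨a, b⟩
      rfl)

end essSurj

instance : (Φ J).EssSurj where
  mem_essImage P := ⟨grpSheaf P, ⟨ΦgrpSheafIso P⟩⟩

instance : (Φ J).IsEquivalence where

end Groth.Agent.Helper3.ShGrp
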