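import Mathlib
import Groth.Agent.Lib.Helper3.ShGrp

set_option autoImplicit false
universe u
open CategoryTheory Limits MonoidalCategory CartesianMonoidalCategory MonObj

namespace Groth.Agent.Helper3.ShGrp

attribute [-instance] ObjectProperty.fullMonoidalSubcategory

variable {C D : Type u} [SmallCategory C] [SmallCategory D]
  (J : GrothendieckTopology C) (K : GrothendieckTopology D) (u : D ⥤ C) [u.IsContinuous K J]

/-- pushforward of sheaves of sets -/
noncomputable abbrev pushSet : Sheaf J (Type u) ⥤ Sheaf K (Type u) :=
  u.sheafPushforwardContinuous (Type u) K J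

/-- pushforward of abelian sheaves -/
noncomputable abbrev pushAb : Sheaf J AddCommGrpCat.{u} ⥤ Sheaf K AddCommGrpCat.{u} :=
  u.sheafPushforwardContinuous AddCommGrpCat.{u} K J

/-- pullback of sheaves of sets -/
noncomputable abbrev pullSet : Sheaf K (Type u) ⥤ Sheaf J (Type u) :=
  u.sheafPullback (Type u) K J

/-- pullback of abelian sheaves -/
noncomputable abbrev pullAb : Sheaf K AddCommGrpCat.{u} ⥤ Sheaf J AddCommGrpCat.{u} :=
  u.sheafPullback AddCommGrpCat.{u} K J

instance : PreservesFiniteProducts (pushSet J K u) := by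
  have : (pushSet J K u).IsRightAdjoint := ⟨_, ⟨u.sheafAdjunctionContinuous (Type u) K J⟩⟩
  infer_instance

noncomputable instance pushSetBraided : (pushSet J K u).Braided := .ofChosenFiniteProducts _

lemma pushSet_μ_app (A B : Sheaf J (Type u)) (Y : Dᵒᵖ)
    (p : ((pushSet J K u).obj A ⊗ (pushSet J K u).obj B).obj.obj Y) :
    (Functor.LaxMonoidal.μ (pushSet J K u) A B).hom.app Y p = p := by
  have h1 := congrArg (fun k => k.hom.app Y p) (Functor.Monoidal.μ_fst (pushSet J K u) A B)
  have h2 := congrArg (fun k => k.hom.app Y p) (Functor.Monoidal.μ_snd (pushSet J K u) A B)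
  exact Prod.ext h1 h2

/-- the underlying sheaves of sets agree -/
noncomputable def pushUIso (H : Sheaf J AddCommGrpCat.{u}) :
    ((Φ K).obj ((pushAb J K u).obj H)).X ≅ ((pushSet J K u).mapCommGrp.obj ((Φ J).obj H)).X :=
  Iso.refl _

/-- compatibility of `Φ` with pushforward, on objects -/
noncomputable def pushΦObjIso (H : Sheaf J AddCommGrpCat.{u}) :
    (Φ K).obj ((pushAb J K u).obj H) ≅ (pushSet J K u).mapCommGrp.obj ((Φ J).obj H) :=
  CommGrp.mkIso (pushUIso J K u H)
    (by
      apply hom_ext_apply
      rintro Y ⟨⟩
      rfl)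
    (by
      apply hom_ext_apply
      rintro Y ⟨a, b⟩
      have h := pushSet_μ_app J K u ((U J).obj H) ((U J).obj H) Y (a, b)
      exact (congrArg (fun q => (mulHom H).hom.app (u.op.obj Y) q) h).symm)

/-- compatibility of `Φ` with pushforward -/
noncomputable def pushΦIso :
    pushAb J K u ⋙ Φ K ≅ Φ J ⋙ (pushSet J K u).mapCommGrp :=
  NatIso.ofComponents (fun H => pushΦObjIso J K u H) (fun {H H'} φ => by
    apply CommGrp.hom_ext
    apply hom_ext_apply
    intro Y a
    rfl)

section exact

variable [PreservesFiniteLimits (pullSet J K u)]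

noncomputable instance pullSetBraided : (pullSet J K u).Braided := .ofChosenFiniteProducts _

/-- the adjunction on commutative group objects -/
noncomputable def adjM : (pullSet J K u).mapCommGrp ⊣ (pushSet J K u).mapCommGrp :=
  (u.sheafAdjunctionContinuous (Type u) K J).mapCommGrp

/-- the candidate for the pullback of abelian sheaves -/
noncomputable def L : Sheaf K AddCommGrpCat.{u} ⥤ Sheaf J AddCommGrpCat.{u} :=
  (Φ K ⋙ (pullSet J K u).mapCommGrp) ⋙ (Φ J).inv

/-- the right adjoint of `L` is the pushforward -/
noncomputable def Riso :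
    Φ J ⋙ (pushSet J K u).mapCommGrp ⋙ (Φ K).inv ≅ pushAb J K u :=
  (Functor.associator _ _ _).symm ≪≫ Functor.isoWhiskerRight (pushΦIso J K u).symm (Φ K).inv ≪≫
    Functor.associator _ _ _ ≪≫ Functor.isoWhiskerLeft _ (Φ K).asEquivalence.unitIso.symm ≪≫
    Functor.rightUnitor _

/-- `L ⊣ u_*` -/
noncomputable def adjL : L J K u ⊣ pushAb J K u :=
  ((((Φ K).asEquivalence.toAdjunction.comp (adjM J K u)).comp
    (Φ J).asEquivalence.symm.toAdjunction)).ofNatIsoRight (Riso J K u)

/-- `L` is the pullback of abelian sheaves -/
noncomputable def Liso : L J K u ≅ pullAb J K u :=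
  (adjL J K u).leftAdjointUniq (u.sheafAdjunctionContinuous AddCommGrpCat.{u} K J)

instance : (U K).PreservesMonomorphisms := by
  have : PreservesLimitsOfSize.{0, 0} (U K) :=
    (Sheaf.adjunction K AddCommGrpCat.adj.{u}).rightAdjoint_preservesLimits
  infer_instance

lemma L_map_mono {F' F : Sheaf K AddCommGrpCat.{u}} (φ : F' ⟶ F) [Mono φ] :
    Mono ((L J K u).map φ) := by
  have h2 : Mono ((pullSet J K u).map ((U K).map φ)) := inferInstance
  have h3 : Mono ((pullSet J K u).mapCommGrp.map ((Φ K).map φ)) := by
    apply (CommGrp.forget (Sheaf J (Type u))).mono_of_mono_map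
    exact h2
  exact inferInstanceAs (Mono ((Φ J).inv.map ((pullSet J K u).mapCommGrp.map ((Φ K).map φ))))

instance : (L J K u).PreservesMonomorphisms where
  preserves φ _ := L_map_mono J K u φ

instance pullAb_preservesMono : (pullAb J K u).PreservesMonomorphisms :=
  Functor.PreservesMonomorphisms.of_iso (Liso J K u)

instance pushAb_additive : (pushAb J K u).Additive where

instance pullAb_additive : (pullAb J K u).Additive :=
  (u.sheafAdjunctionContinuous AddCommGrpCat.{u} K J).left_adjoint_additive

/-- **The pullback of abelian sheaves is exact** when the pullback of sheaves of sets is. -/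
theorem pullAb_preservesFiniteLimits : PreservesFiniteLimits (pullAb J K u) := by
  rw [Functor.preservesFiniteLimits_iff_forall_exact_map_and_mono]
  intro S hS
  have : PreservesFiniteColimits (pullAb J K u) := by
    have := (u.sheafAdjunctionContinuous AddCommGrpCat.{u} K J).leftAdjoint_preservesColimits
    infer_instance
  have h := ((Functor.preservesFiniteColimits_iff_forall_exact_map_and_epi (pullAb J K u)).1
    inferInstance S hS).1
  have := hS.mono_f
  exact ⟨h, inferInstance⟩

/-- The pushforward of abelian sheaves along a morphism of topoi preserves injective objects. -/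
theorem pushAb_preservesInjectiveObjects : (pushAb J K u).PreservesInjectiveObjects :=
  Functor.preservesInjectiveObjects_of_adjunction_of_preservesMonomorphisms
    (u.sheafAdjunctionContinuous AddCommGrpCat.{u} K J)

end exact

end Groth.Agent.Helper3.ShGrp
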