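import Groth.Agent.Lib.Helper3.RTr2
import Groth.Agent.Lib.Helper3.ModLim4
import Groth.Agent.Lib.Helper3.GSS
import Groth.Agent.Lib.Helper3.SpVan
import Groth.Agent.Lib.Helper3.ExtRD
import Groth.Agent.Lib.Helper3.ShGrpPull
import Groth.Agent.Lib.Helper3.ModGroth
import Groth.Agent.Lib.Helper5.Misc.PushTotAcyc
import Groth.Agent.Lib.Helper5.Misc.InjTotAcyc

/-!
# The Leray spectral sequence for a morphism of ringed sites and an object of the target site:
vanishing of `Hⁿ(u(W), F)`
-/

set_option autoImplicit false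
universe u

open CategoryTheory Limits Opposite Abelian

namespace Groth.Agent.Helper3.RTr

open Groth.Agent.Helper3.ModLim

variable {C : Type u} [SmallCategory C] {J : GrothendieckTopology C}
  {D : Type u} [SmallCategory D] {K : GrothendieckTopology D}
  {O_C : Sheaf J CommRingCat.{u}} {O_D : Sheaf K CommRingCat.{u}} (f : ModSite.RMor O_C O_D)

/-- the direct image of an injective module is acyclic over every object -/
lemma subsingleton_ext_push_injective (W : D) (Q : ModSite.Mod O_C) [Injective Q] (q : ℕ) :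
    Subsingleton (Ext (ModSite.freeOn O_D W) (f.push.obj Q) (q + 1)) := by
  haveI : PreservesFiniteLimits (ShGrp.pullSet J K f.fn) := f.exact
  haveI : PreservesFiniteLimits (Groth.Agent.Lib.Helper5.Misc.PushTotAcyc.pull J K f.fn) :=
    ShGrp.pullAb_preservesFiniteLimits J K f.fn
  have h1 : CohCx.IsTotallyAcyclic ((tAb O_C).obj Q) :=
    Groth.Agent.Lib.Helper5.Misc.InjTotAcyc.isTotallyAcyclic_of_injective Q
  have h2 : CohCx.IsTotallyAcyclic ((tAb O_D).obj (f.push.obj Q)) :=
    Groth.Agent.Lib.Helper5.Misc.PushTotAcyc.isTotallyAcyclic_push J K f.fn _ h1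
  refine subsingleton_ext_of_HU O_D W _ (q + 1) ?_
  exact Groth.Agent.Lib.Helper5.Misc.ShriekAb.subsingleton_HU_of_isTotallyAcyclic K _ h2 W q

/-- `tau` as an additive equivalence -/
noncomputable def tauAdd (W : D) (M : ModSite.Mod O_C) :
    (ModSite.freeOn O_D W ⟶ f.push.obj M) ≃+ (ModSite.freeOn O_C (f.fn.obj W) ⟶ M) :=
  AddEquiv.mk' (tau f W M).symm (by
    intro a b
    apply (tau f W M).injective
    rw [tau_add, Equiv.apply_symm_apply, Equiv.apply_symm_apply, Equiv.apply_symm_apply])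

/-- `Hom(j_{W!}O_D, f_* -) ≅ Hom(j_{u(W)!}O_C, -)` -/
noncomputable def pushCoyonedaIso (W : D) :
    f.push ⋙ preadditiveCoyoneda.obj (op (ModSite.freeOn O_D W)) ≅
      preadditiveCoyoneda.obj (op (ModSite.freeOn O_C (f.fn.obj W))) :=
  NatIso.ofComponents (fun M => (AddEquiv.toAddCommGrpIso (tauAdd f W M) :
      AddCommGrpCat.of (ModSite.freeOn O_D W ⟶ f.push.obj M) ≅
        AddCommGrpCat.of (ModSite.freeOn O_C (f.fn.obj W) ⟶ M)))
    (by
      intro M N g
      ext a
      apply (tau f W N).injective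
      change tau f W N ((tau f W N).symm (a ≫ f.push.map g)) =
        tau f W N ((tau f W M).symm a ≫ g)
      rw [tau_comp, Equiv.apply_symm_apply, Equiv.apply_symm_apply])

open scoped ZeroObject in
/-- **Leray vanishing**: if `Hᵖ(W, R^q f_* F) = 0` whenever `p + q = n` then `Hⁿ(u(W), F) = 0` -/
theorem subsingleton_ext_of_leray [HasInjectiveResolutions (ModSite.Mod O_C)]
    (W : D) (F : ModSite.Mod O_C) (n : ℕ)
    (h : ∀ p q : ℕ, p + q = n →
      Subsingleton (Ext (ModSite.freeOn O_D W) ((f.Rpush q).obj F) p)) :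
    Subsingleton (Ext (ModSite.freeOn O_C (f.fn.obj W)) F n) := by
  haveI : HasInjectiveResolutions (ModSite.Mod O_D) := inferInstance
  let S := preadditiveCoyoneda.obj (op (ModSite.freeOn O_D W))
  have hT : ∀ Q : ModSite.Mod O_C, Injective Q → ∀ q : ℕ, 0 < q →
      IsZero ((S.rightDerived q).obj (f.push.obj Q)) := by
    intro Q hQ q hq
    obtain ⟨q', rfl⟩ : ∃ q', q = q' + 1 := ⟨q - 1, by omega⟩
    haveI := subsingleton_ext_push_injective f W Q q'
    refine IsZero.of_iso ?_ (ExtRD.coyonedaRightDerivedIso (ModSite.freeOn O_D W) _ (q' + 1))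
    exact AddCommGrpCat.isZero_of_subsingleton _
  obtain ⟨E, a, hfin, -, hE2⟩ := GSS.main' f.push S hT F
  have hz : IsZero ((fun m : ℤ => if 0 ≤ m then ((f.push ⋙ S).rightDerived m.toNat).obj F else 0)
      (n : ℤ)) := by
    refine SpVan.isZero_abut E a 2 le_rfl (n : ℤ) (hfin _) ?_
    intro p
    obtain ⟨e⟩ := hE2 p ((n : ℤ) - p)
    refine IsZero.of_iso ?_ e
    by_cases hpq : 0 ≤ p ∧ 0 ≤ (n : ℤ) - p
    · rw [if_pos hpq]
      haveI := h p.toNat ((n : ℤ) - p).toNat (by omega)
      refine IsZero.of_iso ?_ (ExtRD.coyonedaRightDerivedIso (ModSite.freeOn O_D W) _ p.toNat)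
      exact AddCommGrpCat.isZero_of_subsingleton _
    · rw [if_neg hpq]
      exact isZero_zero _
  simp only [Int.natCast_nonneg, if_true, Int.toNat_natCast] at hz
  have hz2 : IsZero (AddCommGrpCat.of (Ext (ModSite.freeOn O_C (f.fn.obj W)) F n)) :=
    IsZero.of_iso hz (ExtRD.rightDerivedIsoExt (f.push ⋙ S) _ (pushCoyonedaIso f W) F n).symm
  exact AddCommGrpCat.subsingleton_of_isZero hz2

end Groth.Agent.Helper3.RTr
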