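import Groth.Agent.Lib.Helper3.RTr7

/-!
# Cohomology over `u(W)` of pulled back modules, for a flat morphism of ringed sites whose unit is
invertible on `A'`
-/

set_option autoImplicit false
universe w w' u

open CategoryTheory Limits Opposite DerivedCategory Abelian

namespace Groth.Agent.Helper3.RTr

open Groth.Agent.Helper3.ModLim Groth.Agent.Helper3.TotRD

section HU

variable {C : Type u} [SmallCategory C] {J : GrothendieckTopology C}
  (O : Sheaf J CommRingCat.{u}) [HasDerivedCategory.{w} (ModSite.Mod O)]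

/-- vanishing of `Hᵏ(W, M)` in terms of maps in the derived category -/
lemma subsingleton_HU_iff_hom (W : C) (M : ModSite.Mod O) (k : ℕ) :
    Subsingleton (ModSite.HU O M k W) ↔
      Subsingleton ((singleFunctor (ModSite.Mod O) 0).obj (ModSite.freeOn O W) ⟶
        ((singleFunctor (ModSite.Mod O) 0).obj M)⟦(k : ℤ)⟧) := by
  obtain ⟨e⟩ := nonempty_ext_addEquiv O W M k
  have h1 : Subsingleton (ModSite.HU O M k W) ↔
      Subsingleton (Ext (ModSite.freeOn O W) M k) := by
    constructor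
    · intro h
      haveI : Subsingleton (Ext ((Groth.Agent.Helper6.DRef.Fr J).obj W) ((tAb O).obj M) k) := h
      exact e.subsingleton
    · intro h
      have : Subsingleton (Ext ((Groth.Agent.Helper6.DRef.Fr J).obj W) ((tAb O).obj M) k) :=
        e.symm.subsingleton
      exact this
  rw [h1]
  exact ⟨fun h => Ext.homEquiv.symm.subsingleton, fun h => Ext.homEquiv.subsingleton⟩

end HU

variable {C : Type u} [SmallCategory C] {J : GrothendieckTopology C}
  {D : Type u} [SmallCategory D] {K : GrothendieckTopology D}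
  {O_C : Sheaf J CommRingCat.{u}} {O_D : Sheaf K CommRingCat.{u}} (f : ModSite.RMor O_C O_D)

/-- `j_{u(W)!}O_C ≅ f^* j_{W!}O_D` -/
lemma nonempty_freeOn_iso_pull (W : D) :
    Nonempty (ModSite.freeOn O_C (f.fn.obj W) ≅ f.pull.obj (ModSite.freeOn O_D W)) := by
  let β : ∀ M : ModSite.Mod O_C, (f.pull.obj (ModSite.freeOn O_D W) ⟶ M) ≃
      (ModSite.freeOn O_C (f.fn.obj W) ⟶ M) :=
    fun M => (f.adj.homEquiv (ModSite.freeOn O_D W) M).trans (tau f W M).symm
  have hβ : ∀ {M N : ModSite.Mod O_C} (c : f.pull.obj (ModSite.freeOn O_D W) ⟶ M) (b : M ⟶ N),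
      β N (c ≫ b) = β M c ≫ b := by
    intro M N c b
    apply (tau f W N).injective
    rw [tau_comp]
    simp only [β, Equiv.trans_apply, Equiv.apply_symm_apply]
    exact f.adj.homEquiv_naturality_right c b
  let φ := β _ (𝟙 _)
  have hφ : ∀ (M : ModSite.Mod O_C) (c : f.pull.obj (ModSite.freeOn O_D W) ⟶ M),
      φ ≫ c = β M c := by
    intro M c
    rw [← hβ, Category.id_comp]
  haveI : IsIso φ := by
    refine isIso_of_coyoneda_map_bijective φ (fun M => ?_)
    have : (fun x : f.pull.obj (ModSite.freeOn O_D W) ⟶ M => φ ≫ x) = β M := by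
      funext c; exact hφ M c
    rw [this]
    exact (β M).bijective
  exact ⟨asIso φ⟩

variable [PreservesFiniteLimits f.pull]
  [HasDerivedCategory.{w} (ModSite.Mod O_C)] [HasDerivedCategory.{w'} (ModSite.Mod O_D)]
  {RF : DerivedCategory (ModSite.Mod O_C) ⥤ DerivedCategory (ModSite.Mod O_D)}
  (adj : f.pull.mapDerivedCategory ⊣ RF)

include adj in
/-- `Hᵏ(u(W), f^*F') = 0` if `Hᵏ(W, F') = 0` and the unit is invertible at `F'[k]` -/
lemma subsingleton_HU_pull (W : D) (F' : ModSite.Mod O_D) (k : ℕ)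
    (hu : IsIso (adj.unit.app (((singleFunctor (ModSite.Mod O_D) 0).obj F')⟦(k : ℤ)⟧)))
    (h : Subsingleton (ModSite.HU O_D F' k W)) :
    Subsingleton (ModSite.HU O_C (f.pull.obj F') k (f.fn.obj W)) := by
  rw [subsingleton_HU_iff_hom] at h ⊢
  obtain ⟨e⟩ := nonempty_freeOn_iso_pull f W
  let Φ := f.pull.mapDerivedCategory
  let Y := ((singleFunctor (ModSite.Mod O_D) 0).obj F')⟦(k : ℤ)⟧
  let Z := (singleFunctor (ModSite.Mod O_D) 0).obj (ModSite.freeOn O_D W)
  -- the source
  let e1 : (singleFunctor (ModSite.Mod O_C) 0).obj (ModSite.freeOn O_C (f.fn.obj W)) ≅ Φ.obj Z :=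
    (singleFunctor (ModSite.Mod O_C) 0).mapIso e ≪≫
      ((f.pull.mapDerivedCategorySingleFunctor 0).app (ModSite.freeOn O_D W)).symm
  -- the target
  let e2 : ((singleFunctor (ModSite.Mod O_C) 0).obj (f.pull.obj F'))⟦(k : ℤ)⟧ ≅ Φ.obj Y :=
    (shiftFunctor _ (k : ℤ)).mapIso ((f.pull.mapDerivedCategorySingleFunctor 0).app F').symm ≪≫
      ((Φ.commShiftIso (k : ℤ)).app _).symm
  haveI := hu
  have h1 : Subsingleton (Φ.obj Z ⟶ Φ.obj Y) := by
    have h2 : Subsingleton (Z ⟶ RF.obj (Φ.obj Y)) := by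
      constructor
      intro a b
      have := h.elim (a ≫ inv (adj.unit.app Y)) (b ≫ inv (adj.unit.app Y))
      exact (cancel_mono (inv (adj.unit.app Y))).1 this
    exact (adj.homEquiv Z (Φ.obj Y)).subsingleton
  constructor
  intro a b
  have := h1.elim (e1.inv ≫ a ≫ e2.hom) (e1.inv ≫ b ≫ e2.hom)
  exact (cancel_mono e2.hom).1 ((cancel_epi e1.inv).1 this)

end Groth.Agent.Helper3.RTr
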