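import Mathlib
import Groth.Agent.Lib.Helper3.RComp1
import Groth.Agent.Lib.Helper5.MV.RpushTri

/-!
# Total right derived functors of additive functors on a Grothendieck abelian category

`RF` is computed by `F` on K-injective complexes; `RF` maps distinguished triangles to
distinguished triangles (for a suitable third map).
-/

set_option autoImplicit false
universe w w' v v' u u'

open CategoryTheory Limits Pretriangulated

namespace Groth.Agent.Helper3.TotRD

open Groth.Agent.Lib.Helper5.MV

variable {A : Type u} [Category.{v} A] [Abelian A] [IsGrothendieckAbelian.{v} A]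
  [HasDerivedCategory.{w} A]
  {B : Type u'} [Category.{v'} B] [Abelian B] [HasDerivedCategory.{w'} B]
  (F : A ⥤ B) [F.Additive]

/-- `K(A) ⥤ D(B)` induced by `F` -/
noncomputable abbrev FKh : HomotopyCategory A (ComplexShape.up ℤ) ⥤ DerivedCategory B :=
  F.mapHomotopyCategory (ComplexShape.up ℤ) ⋙ DerivedCategory.Qh

/-- `F` on complexes -/
noncomputable abbrev FC : CochainComplex A ℤ ⥤ CochainComplex B ℤ :=
  F.mapHomologicalComplex (ComplexShape.up ℤ)

variable (RF : DerivedCategory A ⥤ DerivedCategory B) (α : FKh F ⟶ DerivedCategory.Qh ⋙ RF)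
  [RF.IsRightDerivedFunctor α (HomotopyCategory.quasiIso A (ComplexShape.up ℤ))]

lemma isIso_unit (I : CochainComplex A ℤ) [I.IsKInjective] :
    IsIso (α.app ((HomotopyCategory.quotient A (ComplexShape.up ℤ)).obj I)) :=
  RComp.isIso_unit_app_of_iso (RComp.hasKInjRes_of_grothendieck A) (FKh F) RF α _ I (Iso.refl _)

/-- `RF` is computed by `F` on K-injective complexes -/
noncomputable def rfObjIso (I : CochainComplex A ℤ) [I.IsKInjective] :
    RF.obj (DerivedCategory.Q.obj I) ≅ DerivedCategory.Q.obj ((FC F).obj I) :=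
  haveI := isIso_unit F RF α I
  (asIso (α.app ((HomotopyCategory.quotient A (ComplexShape.up ℤ)).obj I))).symm

@[reassoc]
lemma rfObjIso_hom_naturality {I I' : CochainComplex A ℤ} [I.IsKInjective]
    [I'.IsKInjective] (ψ : I ⟶ I') :
    RF.map (DerivedCategory.Q.map ψ) ≫ (rfObjIso F RF α I').hom =
      (rfObjIso F RF α I).hom ≫ DerivedCategory.Q.map ((FC F).map ψ) := by
  have h := α.naturality ((HomotopyCategory.quotient A (ComplexShape.up ℤ)).map ψ)
  haveI := isIso_unit F RF α I
  haveI := isIso_unit F RF α I'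
  exact comp_inv_eq_inv_comp_aux
    (α.app ((HomotopyCategory.quotient A (ComplexShape.up ℤ)).obj I))
    (α.app ((HomotopyCategory.quotient A (ComplexShape.up ℤ)).obj I'))
    _ _ h.symm

/-- every object of `D(A)` is represented by a K-injective complex -/
lemma exists_repr (X : DerivedCategory A) :
    ∃ (I : CochainComplex A ℤ) (_ : I.IsKInjective), Nonempty (X ≅ DerivedCategory.Q.obj I) :=
  RComp.exists_kinj_iso (RComp.hasKInjRes_of_grothendieck A) X

omit [IsGrothendieckAbelian.{v} A] in
/-- morphisms in `D(A)` into a K-injective complex are represented by morphisms of complexes -/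
lemma exists_map_repr {K I : CochainComplex A ℤ} [I.IsKInjective]
    (κ : DerivedCategory.Q.obj K ⟶ DerivedCategory.Q.obj I) :
    ∃ ψ : K ⟶ I, DerivedCategory.Q.map ψ = κ := by
  obtain ⟨g, hg⟩ := (CochainComplex.IsKInjective.Qh_map_bijective
    ((HomotopyCategory.quotient _ _).obj K) I).surjective κ
  obtain ⟨ψ, rfl⟩ := (HomotopyCategory.quotient _ _).map_surjective g
  exact ⟨ψ, hg⟩

include F α in
/-- **`RF` maps distinguished triangles to distinguished triangles** (for a suitable third map) -/
theorem exists_distinguished_rf (T : Triangle (DerivedCategory A))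
    (hT : T ∈ distTriang (DerivedCategory A)) :
    ∃ c : RF.obj T.obj₃ ⟶ (RF.obj T.obj₁)⟦(1 : ℤ)⟧,
      Triangle.mk (RF.map T.mor₁) (RF.map T.mor₂) c ∈ distTriang (DerivedCategory B) := by
  obtain ⟨I, hI, ⟨eI⟩⟩ := exists_repr T.obj₁
  obtain ⟨J, hJ, ⟨eJ⟩⟩ := exists_repr T.obj₂
  haveI := hI
  haveI := hJ
  obtain ⟨ψ, hψ⟩ := exists_map_repr (eI.inv ≫ T.mor₁ ≫ eJ.hom)
  haveI : (CochainComplex.mappingCone ψ).IsKInjective := isKInjective_mappingCone' ψ
  let T' := DerivedCategory.Q.mapTriangle.obj (CochainComplex.mappingCone.triangle ψ)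
  have hT' : T' ∈ distTriang (DerivedCategory A) :=
    DerivedCategory.mappingCone_triangle_distinguished ψ
  have hcomm : T.mor₁ ≫ eJ.hom = eI.hom ≫ T'.mor₁ := by
    show T.mor₁ ≫ eJ.hom = eI.hom ≫ DerivedCategory.Q.map ψ
    rw [hψ, Iso.hom_inv_id_assoc]
  let e : T ≅ T' := isoTriangleOfIso₁₂ T T' hT hT' eI eJ hcomm
  have he₂ : e.hom.hom₂ = eJ.hom := isoTriangleOfIso₁₂_hom_hom₂ T T' hT hT' eI eJ hcomm
  let T₀ := DerivedCategory.Q.mapTriangle.obj
    (CochainComplex.mappingCone.triangle ((FC F).map ψ))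
  have hT₀ : T₀ ∈ distTriang (DerivedCategory B) :=
    DerivedCategory.mappingCone_triangle_distinguished _
  let eA : RF.obj T.obj₁ ≅ T₀.obj₁ := RF.mapIso eI ≪≫ rfObjIso F RF α I
  let eB : RF.obj T.obj₂ ≅ T₀.obj₂ := RF.mapIso eJ ≪≫ rfObjIso F RF α J
  let eC : RF.obj T.obj₃ ≅ T₀.obj₃ :=
    RF.mapIso (Triangle.π₃.mapIso e) ≪≫ rfObjIso F RF α (CochainComplex.mappingCone ψ) ≪≫
      DerivedCategory.Q.mapIso
        (CochainComplex.mappingCone.mapHomologicalComplexIso ψ F)
  refine exists_mor₃_of_isos T₀ hT₀ _ _ eA eB eC ?_ ?_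
  · show RF.map T.mor₁ ≫ RF.map eJ.hom ≫ (rfObjIso F RF α J).hom =
      (RF.map eI.hom ≫ (rfObjIso F RF α I).hom) ≫
        DerivedCategory.Q.map ((FC F).map ψ)
    rw [Category.assoc, ← rfObjIso_hom_naturality, ← Functor.map_comp_assoc,
      ← Functor.map_comp_assoc, hcomm]
    rfl
  · have h2 : T.mor₂ ≫ e.hom.hom₃ = eJ.hom ≫
        DerivedCategory.Q.map (CochainComplex.mappingCone.inr ψ) := by
      have := e.hom.comm₂
      rw [he₂] at this
      exact this
    show RF.map T.mor₂ ≫ RF.map e.hom.hom₃ ≫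
        (rfObjIso F RF α (CochainComplex.mappingCone ψ)).hom ≫
        DerivedCategory.Q.map
          (CochainComplex.mappingCone.mapHomologicalComplexIso ψ F).hom =
      (RF.map eJ.hom ≫ (rfObjIso F RF α J).hom) ≫
        DerivedCategory.Q.map (CochainComplex.mappingCone.inr ((FC F).map ψ))
    rw [← CochainComplex.mappingCone.map_inr ψ F,
      Functor.map_comp, Category.assoc, ← rfObjIso_hom_naturality_assoc,
      ← Functor.map_comp_assoc, ← Functor.map_comp_assoc, h2]
    rfl

section Homology

/-- the cohomology of `RF` on a K-injective complex -/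
noncomputable def hIso (I : CochainComplex A ℤ) [I.IsKInjective] (j : ℤ) :
    (DerivedCategory.homologyFunctor B j).obj (RF.obj (DerivedCategory.Q.obj I)) ≅
      ((FC F).obj I).homology j :=
  (DerivedCategory.homologyFunctor B j).mapIso (rfObjIso F RF α I) ≪≫
    (DerivedCategory.homologyFunctorFactors B j).app ((FC F).obj I)

lemma hIso_hom_naturality {I I' : CochainComplex A ℤ} [I.IsKInjective]
    [I'.IsKInjective] (ψ : I ⟶ I') (j : ℤ) :
    (DerivedCategory.homologyFunctor B j).map (RF.map (DerivedCategory.Q.map ψ)) ≫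
        (hIso F RF α I' j).hom =
      (hIso F RF α I j).hom ≫ HomologicalComplex.homologyMap ((FC F).map ψ) j := by
  dsimp only [hIso, Iso.trans_hom, Functor.mapIso_hom, Iso.app_hom]
  rw [← Category.assoc, ← Functor.map_comp, rfObjIso_hom_naturality, Functor.map_comp,
    Category.assoc, Category.assoc]
  congr 1
  exact (DerivedCategory.homologyFunctorFactors B j).hom.naturality ((FC F).map ψ)

include α in
/-- a morphism of `D(A)` represented by a morphism `ψ` of K-injective complexes induces an
isomorphism on `Hʲ(RF -)` iff `F ψ` induces an isomorphism on `Hʲ` -/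
lemma isIso_homology_map_iff {X X' : DerivedCategory A} (κ : X ⟶ X')
    {I I' : CochainComplex A ℤ} [I.IsKInjective] [I'.IsKInjective]
    (e : X ≅ DerivedCategory.Q.obj I) (e' : X' ≅ DerivedCategory.Q.obj I') (ψ : I ⟶ I')
    (hψ : κ ≫ e'.hom = e.hom ≫ DerivedCategory.Q.map ψ) (j : ℤ) :
    IsIso ((DerivedCategory.homologyFunctor B j).map (RF.map κ)) ↔
      IsIso (HomologicalComplex.homologyMap ((FC F).map ψ) j) := by
  let G := RF ⋙ DerivedCategory.homologyFunctor B j
  have h1 : G.map κ ≫ G.map e'.hom = G.map e.hom ≫ G.map (DerivedCategory.Q.map ψ) := by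
    rw [← Functor.map_comp, ← Functor.map_comp, hψ]
  have h2 := hIso_hom_naturality F RF α ψ j
  have h3 : IsIso (G.map κ) ↔ IsIso (G.map (DerivedCategory.Q.map ψ)) := by
    constructor
    · intro h
      have : G.map (DerivedCategory.Q.map ψ) = inv (G.map e.hom) ≫ G.map κ ≫ G.map e'.hom := by
        rw [h1, IsIso.inv_hom_id_assoc]
      rw [this]
      infer_instance
    · intro h
      have : G.map κ = (G.map e.hom ≫ G.map (DerivedCategory.Q.map ψ)) ≫ inv (G.map e'.hom) := by
        rw [← h1, Category.assoc, IsIso.hom_inv_id, Category.comp_id]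
      rw [this]
      infer_instance
  have h4 : IsIso (G.map (DerivedCategory.Q.map ψ)) ↔
      IsIso (HomologicalComplex.homologyMap ((FC F).map ψ) j) := by
    constructor
    · intro h
      have : HomologicalComplex.homologyMap ((FC F).map ψ) j =
          (hIso F RF α I j).inv ≫ G.map (DerivedCategory.Q.map ψ) ≫ (hIso F RF α I' j).hom := by
        rw [Iso.eq_inv_comp]
        exact h2.symm
      rw [this]
      infer_instance
    · intro h
      have : G.map (DerivedCategory.Q.map ψ) =
          ((hIso F RF α I j).hom ≫ HomologicalComplex.homologyMap ((FC F).map ψ) j) ≫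
            (hIso F RF α I' j).inv := by
        rw [Iso.eq_comp_inv]
        exact h2
      rw [this]
      infer_instance
  exact h3.trans h4

end Homology

end Groth.Agent.Helper3.TotRD
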