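import Mathlib
import Groth.Agent.Lib.Helper3.TotRD1
import Groth.Agent.Lib.Helper3.RDBridge

/-!
# Total right derived functors: shifts and single objects
-/

set_option autoImplicit false
universe w w' v v' u u'

open CategoryTheory Limits Pretriangulated

namespace Groth.Agent.Helper3.TotRD

variable {A : Type u} [Category.{v} A] [Abelian A]
  {B : Type u'} [Category.{v'} B] [Abelian B]
  (F : A ⥤ B) [F.Additive]

/-- `Hᵃ(F(K⟦n⟧)) ≅ H^{a'}(F K)` for `n + a = a'`, naturally in `K` -/
noncomputable def shiftHomologyIso (n a a' : ℤ) (h : n + a = a') :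
    shiftFunctor (CochainComplex A ℤ) n ⋙ FC F ⋙
        HomologicalComplex.homologyFunctor B (ComplexShape.up ℤ) a ≅
      FC F ⋙ HomologicalComplex.homologyFunctor B (ComplexShape.up ℤ) a' :=
  (Functor.associator _ _ _).symm ≪≫
    Functor.isoWhiskerRight (F.mapCochainComplexShiftIso n) _ ≪≫
    Functor.associator _ _ _ ≪≫
    Functor.isoWhiskerLeft (FC F) (CochainComplex.ShiftSequence.shiftIso B n a a' h)

lemma isIso_homologyMap_shift_iff {K K' : CochainComplex A ℤ} (ψ : K ⟶ K') (n a a' : ℤ)
    (h : n + a = a') :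
    IsIso (HomologicalComplex.homologyMap ((FC F).map (ψ⟦n⟧')) a) ↔
      IsIso (HomologicalComplex.homologyMap ((FC F).map ψ) a') :=
  NatIso.isIso_map_iff (shiftHomologyIso F n a a' h) ψ

lemma isZero_homology_shift_iff (K : CochainComplex A ℤ) (n a a' : ℤ) (h : n + a = a') :
    IsZero (((FC F).obj (K⟦n⟧)).homology a) ↔ IsZero (((FC F).obj K).homology a') :=
  ((shiftHomologyIso F n a a' h).app K).isZero_iff

section Single

variable [IsGrothendieckAbelian.{v} A] [HasDerivedCategory.{w} A] [HasDerivedCategory.{w'} B]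
  [HasInjectiveResolutions A]
  (RF : DerivedCategory A ⥤ DerivedCategory B) (α : FKh F ⟶ DerivedCategory.Qh ⋙ RF)
  [RF.IsRightDerivedFunctor α (HomotopyCategory.quasiIso A (ComplexShape.up ℤ))]

/-- a single object in degree `a` is represented by a shifted injective resolution -/
lemma nonempty_single_iso (M : A) (a : ℤ) :
    Nonempty ((DerivedCategory.singleFunctor A a).obj M ≅
      DerivedCategory.Q.obj ((injectiveResolution M).cochainComplex⟦-a⟧)) := by
  let R := injectiveResolution M
  let e0 : (DerivedCategory.singleFunctor A 0).obj M ≅ DerivedCategory.Q.obj R.cochainComplex :=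
    (DerivedCategory.singleFunctorIsoCompQ A 0).app M ≪≫ asIso (DerivedCategory.Q.map R.ι')
  let e1 : (DerivedCategory.singleFunctor A a).obj M ≅
      ((DerivedCategory.singleFunctor A 0).obj M)⟦-a⟧ :=
    (((DerivedCategory.singleFunctors A).shiftIso (-a) a 0 (by omega)).app M).symm
  exact ⟨e1 ≪≫ (shiftFunctor _ (-a)).mapIso e0 ≪≫
    ((DerivedCategory.Q.commShiftIso (-a)).app R.cochainComplex).symm⟩

include α in
/-- the cohomology of `RF` on a single object -/
theorem isZero_homology_rf_single (M : A) (a q : ℤ)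
    (h : ∀ k : ℕ, q = a + k → IsZero ((F.rightDerived k).obj M)) :
    IsZero ((DerivedCategory.homologyFunctor B q).obj
      (RF.obj ((DerivedCategory.singleFunctor A a).obj M))) := by
  let R := injectiveResolution M
  haveI : R.cochainComplex.IsKInjective := CochainComplex.isKInjective_of_injective _ 0
  obtain ⟨e⟩ := nonempty_single_iso M a
  refine IsZero.of_iso ?_ ((DerivedCategory.homologyFunctor B q).mapIso (RF.mapIso e) ≪≫
    hIso F RF α (R.cochainComplex⟦-a⟧) q)
  rw [isZero_homology_shift_iff F R.cochainComplex (-a) q (q - a) (by omega)]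
  by_cases hq : q - a < 0
  · rw [← HomologicalComplex.exactAt_iff_isZero_homology]
    exact HomologicalComplex.exactAt_of_isSupported _ (ComplexShape.embeddingUpIntGE 0) (q - a)
      (by
        intro i
        simp only [ComplexShape.embeddingUpIntGE_f]
        omega)
  · obtain ⟨k, hk⟩ : ∃ k : ℕ, (k : ℤ) = q - a := ⟨(q - a).toNat, Int.toNat_of_nonneg (by omega)⟩
    rw [← hk]
    exact IsZero.of_iso (h k (by omega))
      ((RDBridge.θ F R k).symm ≪≫ (R.isoRightDerivedObj F k).symm)

end Single

end Groth.Agent.Helper3.TotRD
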