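import Mathlib
import Groth.Agent.Lib.Helper3.TotRD2

/-!
# The cohomology of the total right derived functor on a single object
-/

set_option autoImplicit false
universe w w' v v' u u'

open CategoryTheory Limits Pretriangulated

namespace Groth.Agent.Helper3.TotRD

variable {A : Type u} [Category.{v} A] [Abelian A] [IsGrothendieckAbelian.{v} A]
  [HasDerivedCategory.{w} A] [HasInjectiveResolutions A]
  {B : Type u'} [Category.{v'} B] [Abelian B] [HasDerivedCategory.{w'} B]
  (F : A ⥤ B) [F.Additive]
  (RF : DerivedCategory A ⥤ DerivedCategory B) (α : FKh F ⟶ DerivedCategory.Qh ⋙ RF)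
  [RF.IsRightDerivedFunctor α (HomotopyCategory.quasiIso A (ComplexShape.up ℤ))]

include α in
/-- `Hᵏ(RF(M[0])) ≅ RᵏF(M)` -/
theorem nonempty_homology_rf_single_iso (M : A) (k : ℕ) :
    Nonempty ((DerivedCategory.homologyFunctor B (k : ℤ)).obj
      (RF.obj ((DerivedCategory.singleFunctor A 0).obj M)) ≅ (F.rightDerived k).obj M) := by
  let R := injectiveResolution M
  haveI : R.cochainComplex.IsKInjective := CochainComplex.isKInjective_of_injective _ 0
  let e0 : (DerivedCategory.singleFunctor A 0).obj M ≅ DerivedCategory.Q.obj R.cochainComplex :=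
    (DerivedCategory.singleFunctorIsoCompQ A 0).app M ≪≫ asIso (DerivedCategory.Q.map R.ι')
  exact ⟨(DerivedCategory.homologyFunctor B (k : ℤ)).mapIso (RF.mapIso e0) ≪≫
    hIso F RF α R.cochainComplex (k : ℤ) ≪≫
    (RDBridge.θ F R k).symm ≪≫ (R.isoRightDerivedObj F k).symm⟩

end Groth.Agent.Helper3.TotRD
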