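import Mathlib
import Groth.Agent.Lib.Helper3.TotRD4
import Groth.Agent.Lib.Helper3.CohWayOut

/-!
# The total right derived functor maps `D⁺_P` to `D_R` (way-out argument, without assuming that
the derived functor is triangulated)
-/

set_option autoImplicit false
universe w w' v v' u u'

open CategoryTheory Category Limits Pretriangulated DerivedCategory Triangulated ZeroObject

namespace Groth.Agent.Helper3.TotRD

variable {A : Type u} [Category.{v} A] [Abelian A] [IsGrothendieckAbelian.{v} A]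
  [HasDerivedCategory.{w} A]
  {B : Type u'} [Category.{v'} B] [Abelian B] [HasDerivedCategory.{w'} B]
  (F : A ⥤ B) [F.Additive]
  (RF : DerivedCategory A ⥤ DerivedCategory B) (α : FKh F ⟶ DerivedCategory.Qh ⋙ RF)
  [RF.IsRightDerivedFunctor α (HomotopyCategory.quasiIso A (ComplexShape.up ℤ))]

omit [IsGrothendieckAbelian.{v} A] in
/-- every object of `D^{≥ n}` is represented by a complex of injectives in degrees `≥ n` -/
theorem exists_injective_repr [EnoughInjectives A] (X : DerivedCategory A) (n : ℤ) [X.IsGE n] :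
    ∃ (I : CochainComplex A ℤ), I.IsStrictlyGE n ∧ I.IsKInjective ∧
      Nonempty (X ≅ DerivedCategory.Q.obj I) := by
  obtain ⟨K, hK, ⟨e⟩⟩ := DerivedCategory.exists_iso_Q_obj_of_isGE X n
  obtain ⟨L, hL, i, hi⟩ := CochainComplex.Plus.exists_quasiIso_injective ⟨K, n, hK⟩ n
  let I : CochainComplex A ℤ :=
    ((InjectiveObject.ι A).mapHomologicalComplex (ComplexShape.up ℤ)).obj L.obj
  have hI : I.IsStrictlyGE n := by
    dsimp only [I]
    infer_instance
  have hinj : ∀ k : ℤ, Injective (I.X k) := by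
    intro k
    exact (L.obj.X k).property
  have hKI : I.IsKInjective := CochainComplex.isKInjective_of_injective I n
  refine ⟨I, hI, hKI, ⟨e ≪≫ ?_⟩⟩
  have hq : QuasiIso (K := K) (L := I) i.hom := hi
  haveI : IsIso (DerivedCategory.Q.map (X := K) (Y := I) i.hom) :=
    (DerivedCategory.isIso_Q_map_iff_quasiIso _ _).2 hq
  exact asIso (DerivedCategory.Q.map (X := K) (Y := I) i.hom)

include α in
/-- `RF` preserves `D^{≥ n}` -/
theorem rf_isGE (X : DerivedCategory A) (n : ℤ) [X.IsGE n] : (RF.obj X).IsGE n := by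
  haveI : EnoughInjectives A := IsGrothendieckAbelian.enoughInjectives.{v}
  obtain ⟨I, hI, hKI, ⟨e⟩⟩ := exists_injective_repr X n
  haveI := hKI
  haveI := hI
  haveI hJ : ((FC F).obj I).IsStrictlyGE n := by
    dsimp only [FC]
    infer_instance
  exact TStructure.t.isGE_of_iso (RF.mapIso e ≪≫ rfObjIso F RF α I).symm n

include α in
/-- `RF` commutes with shifts, objectwise -/
lemma nonempty_rf_shift_iso (X : DerivedCategory A) (n : ℤ) :
    Nonempty (RF.obj (X⟦n⟧) ≅ (RF.obj X)⟦n⟧) := by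
  obtain ⟨I, hI, ⟨e⟩⟩ := exists_repr X
  haveI := hI
  let e1 : X⟦n⟧ ≅ DerivedCategory.Q.obj (I⟦n⟧) :=
    (shiftFunctor _ n).mapIso e ≪≫ ((DerivedCategory.Q.commShiftIso n).app I).symm
  let e2 : DerivedCategory.Q.obj ((FC F).obj (I⟦n⟧)) ≅ (DerivedCategory.Q.obj ((FC F).obj I))⟦n⟧ :=
    DerivedCategory.Q.mapIso ((F.mapCochainComplexShiftIso n).app I) ≪≫
      (DerivedCategory.Q.commShiftIso n).app ((FC F).obj I)
  exact ⟨RF.mapIso e1 ≪≫ rfObjIso F RF α (I⟦n⟧) ≪≫ e2 ≪≫
    (shiftFunctor _ n).mapIso (RF.mapIso e ≪≫ rfObjIso F RF α I).symm⟩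

section coh

variable (R : ObjectProperty B) [WSerre.IsWeakSerre R]
  (P : ObjectProperty A) [P.IsClosedUnderIsomorphisms]

include α in
/-- bounded case -/
theorem cohIn_rf_of_bounded
    (hP : ∀ M : A, P M → WSerre.cohIn R (RF.obj ((singleFunctor A 0).obj M)))
    (X : DerivedCategory A) (a b : ℤ) [X.IsGE a] [X.IsLE b]
    (hX : ∀ i : ℤ, P ((homologyFunctor A i).obj X)) : WSerre.cohIn R (RF.obj X) := by
  let 𝒬 : ObjectProperty (DerivedCategory A) := fun X => WSerre.cohIn R (RF.obj X)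
  haveI : 𝒬.IsClosedUnderIsomorphisms :=
    ⟨fun e h => CohWayOut.cohIn_of_iso R (RF.mapIso e) h⟩
  refine CohWayOut.prop_of_bounded 𝒬 (fun X n h => ?_) (fun S hS h₁ h₃ => ?_) P hP
    ((b - a).toNat + 1) X a b (by lia) hX
  · obtain ⟨e⟩ := nonempty_rf_shift_iso F RF α X n
    exact CohWayOut.cohIn_of_iso R e.symm (CohWayOut.cohIn_shift R _ n h)
  · obtain ⟨c, hc⟩ := exists_distinguished_rf F RF α S hS
    exact CohWayOut.cohIn_obj₂ R _ hc h₁ h₃

include α in
/-- bounded below case -/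
theorem cohIn_rf_of_isGE
    (hP : ∀ M : A, P M → WSerre.cohIn R (RF.obj ((singleFunctor A 0).obj M)))
    (X : DerivedCategory A) (a : ℤ) [X.IsGE a]
    (hX : ∀ i : ℤ, P ((homologyFunctor A i).obj X)) : WSerre.cohIn R (RF.obj X) := by
  intro n
  let m : ℤ := n + 1
  let t : TStructure (DerivedCategory A) := TStructure.t
  have hD := t.triangleLTGE_distinguished m X
  have hGE : ((t.truncGE m).obj X).IsGE m := inferInstanceAs (t.IsGE ((t.truncGE m).obj X) m)
  have hTGE : (RF.obj ((t.truncGE m).obj X)).IsGE m := rf_isGE F RF α _ m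
  have h0 := Helper5.DCat.prop_of_isZero_of_isGE P X a hX
  have hLE : ((t.truncLT m).obj X).IsLE (m - 1) :=
    inferInstanceAs (t.IsLE ((t.truncLT m).obj X) (m - 1))
  have hGEa : ((t.truncLT m).obj X).IsGE a := inferInstanceAs (t.IsGE ((t.truncLT m).obj X) a)
  have h1 : WSerre.cohIn R (RF.obj ((t.truncLT m).obj X)) :=
    cohIn_rf_of_bounded F RF α R P hP _ a (m - 1)
      (Helper5.DCat.prop_homology_truncLT P X _ hX h0)
  obtain ⟨c, hc⟩ := exists_distinguished_rf F RF α _ hD
  have : IsIso ((homologyFunctor B n).map (RF.map ((t.truncLTι m).app X))) :=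
    Helper5.TwoTerm.isIso_homologyMap_mor₁ _ hc (n - 1) n (by lia)
      (@isZero_of_isGE _ _ _ _ (RF.obj ((t.truncGE m).obj X)) (n + 1) (n - 1) (by lia) hTGE)
      (@isZero_of_isGE _ _ _ _ (RF.obj ((t.truncGE m).obj X)) (n + 1) n (by lia) hTGE)
  exact R.prop_of_iso (asIso ((homologyFunctor B n).map (RF.map ((t.truncLTι m).app X)))) (h1 n)

include α in
/-- a single object -/
theorem cohIn_rf_single [HasInjectiveResolutions A] (M : A)
    (h : ∀ k : ℕ, R ((F.rightDerived k).obj M)) :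
    WSerre.cohIn R (RF.obj ((singleFunctor A 0).obj M)) := by
  intro i
  by_cases hi : 0 ≤ i
  · obtain ⟨k, rfl⟩ : ∃ k : ℕ, i = (k : ℤ) := ⟨i.toNat, by omega⟩
    obtain ⟨e⟩ := nonempty_homology_rf_single_iso F RF α M k
    exact R.prop_of_iso e.symm (h k)
  · exact R.prop_of_isZero (isZero_homology_rf_single F RF α M 0 i (fun k hk => by omega))

end coh

end Groth.Agent.Helper3.TotRD
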