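import Groth.Agent.Lib.Helper3.RTr10
import Groth.Agent.Lib.Helper3.RTr6
import Groth.Agent.Lib.Helper3.RTr8
import Groth.Agent.Lib.Helper3.TotRD5
import Groth.Agent.Lib.Helper3.AdjEquivU

/-!
# Part (b) of S9065: reduction to S9066 via the Leray spectral sequence
-/

set_option autoImplicit false
universe w w' u

open CategoryTheory Limits Opposite Abelian DerivedCategory

namespace Groth.Agent.Helper3.RTr

open Groth.Agent.Helper3.ModLim

section HU

variable {C : Type u} [SmallCategory C] {J : GrothendieckTopology C}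
  (O : Sheaf J CommRingCat.{u})

/-- vanishing of `Hᵏ(W, M)` in terms of `Ext` groups of modules -/
lemma subsingleton_HU_iff_ext (W : C) (M : ModSite.Mod O) (k : ℕ) :
    Subsingleton (ModSite.HU O M k W) ↔
      Subsingleton (Ext (ModSite.freeOn O W) M k) := by
  obtain ⟨e⟩ := nonempty_ext_addEquiv O W M k
  constructor
  · intro h
    haveI : Subsingleton (Ext ((Groth.Agent.Helper6.DRef.Fr J).obj W) ((tAb O).obj M) k) := h
    exact e.subsingleton
  · intro h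
    have : Subsingleton (Ext ((Groth.Agent.Helper6.DRef.Fr J).obj W) ((tAb O).obj M) k) :=
      e.symm.subsingleton
    exact this

end HU

lemma subsingleton_ext_of_isZero_tgt {A : Type*} [Category A] [Abelian A] [HasExt.{w} A]
    (X Y : A) (hY : IsZero Y) (k : ℕ) : Subsingleton (Ext.{w} X Y k) := by
  have h : ∀ e : Ext.{w} X Y k, e = 0 := by
    intro e
    have := Ext.comp_mk₀_id e
    rw [← this, hY.eq_of_src (𝟙 Y) 0, Ext.mk₀_zero, Ext.comp_zero]
  constructor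
  intro a b
  rw [h a, h b]

variable {C : Type u} [SmallCategory C] {J : GrothendieckTopology C}
  {D : Type u} [SmallCategory D] {K : GrothendieckTopology D}
  {O_C : Sheaf J CommRingCat.{u}} {O_D : Sheaf K CommRingCat.{u}} (f : ModSite.RMor O_C O_D)

/-- hypothesis (2) of S9066 from hypotheses (2), (3), (4) of S9065, by the Leray spectral
sequence -/
theorem hA_of_leray [HasInjectiveResolutions (ModSite.Mod O_C)]
    (A : ObjectProperty (ModSite.Mod O_C)) (A' : ObjectProperty (ModSite.Mod O_D)) (B' : Set D)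
    (hA' : ∀ V ∈ B', ∃ d : ℕ, ∀ T ∈ K V, ∃ (ι : Type u) (Y : ι → D) (g : ∀ i, Y i ⟶ V),
      (∀ i, T.arrows (g i)) ∧ Sieve.ofArrows Y g ∈ K V ∧
      ∀ (i : ι) (F : ModSite.Mod O_D), A' F → ∀ k : ℕ, d < k →
        Subsingleton (ModSite.HU O_D F k (Y i)))
    (N : ℤ)
    (h3 : ∀ F : ModSite.Mod O_C, A F → ∀ p : ℕ, A' ((f.Rpush p).obj F))
    (h4 : ∀ F : ModSite.Mod O_C, A F → ∀ p : ℕ, N < (p : ℤ) → IsZero ((f.Rpush p).obj F)) :
    ∀ V ∈ B', ∃ d : ℕ, ∀ T ∈ K V, ∃ (ι : Type u) (Y : ι → D) (g : ∀ i, Y i ⟶ V),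
      (∀ i, T.arrows (g i)) ∧ Sieve.ofArrows Y g ∈ K V ∧
      ∀ (i : ι) (F : ModSite.Mod O_C), A F → ∀ k : ℕ, d < k →
        Subsingleton (ModSite.HU O_C F k (f.fn.obj (Y i))) := by
  intro V hV
  obtain ⟨d, hd⟩ := hA' V hV
  refine ⟨d + N.toNat, fun T hT => ?_⟩
  obtain ⟨ι, Y, g, h1, h2, h5⟩ := hd T hT
  refine ⟨ι, Y, g, h1, h2, fun i F hF k hk => ?_⟩
  rw [subsingleton_HU_iff_ext]
  apply subsingleton_ext_of_leray f (Y i) F k
  intro p q hpq
  by_cases hq : N < (q : ℤ)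
  · exact subsingleton_ext_of_isZero_tgt _ _ (h4 F hF q hq) p
  · have := h5 i ((f.Rpush q).obj F) (h3 F hF q) p (by omega)
    rw [subsingleton_HU_iff_ext] at this
    exact this


section main

open Groth.Agent.Helper3.TotRD

variable [HasInjectiveResolutions (ModSite.Mod O_C)]
  [HasDerivedCategory.{w} (ModSite.Mod O_C)] [HasDerivedCategory.{w'} (ModSite.Mod O_D)]
  (RF : DerivedCategory (ModSite.Mod O_C) ⥤ DerivedCategory (ModSite.Mod O_D))
  (α : FKh f.push ⟶ DerivedCategory.Qh ⋙ RF)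
  [RF.IsRightDerivedFunctor α (HomotopyCategory.quasiIso (ModSite.Mod O_C) (ComplexShape.up ℤ))]

include α in
/-- **S9065** -/
theorem s9065_main (A : ObjectProperty (ModSite.Mod O_C)) [WSerre.IsWeakSerre A]
    (A' : ObjectProperty (ModSite.Mod O_D)) [WSerre.IsWeakSerre A']
    (B : Set C) (B' : Set D)
    (hB : ∀ U : C, ∃ (ι : Type u) (Y : ι → C) (g : ∀ i, Y i ⟶ U),
      Sieve.ofArrows Y g ∈ J U ∧ ∀ i, Y i ∈ B)
    (hA : ∀ V ∈ B, ∃ d : ℕ, ∀ T ∈ J V, ∃ (ι : Type u) (Y : ι → C) (g : ∀ i, Y i ⟶ V),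
      (∀ i, T.arrows (g i)) ∧ Sieve.ofArrows Y g ∈ J V ∧
      ∀ (i : ι) (F : ModSite.Mod O_C), A F → ∀ k : ℕ, d < k →
        Subsingleton (ModSite.HU O_C F k (Y i)))
    (hB' : ∀ U : D, ∃ (ι : Type u) (Y : ι → D) (g : ∀ i, Y i ⟶ U),
      Sieve.ofArrows Y g ∈ K U ∧ ∀ i, Y i ∈ B')
    (hA' : ∀ V ∈ B', ∃ d : ℕ, ∀ T ∈ K V, ∃ (ι : Type u) (Y : ι → D) (g : ∀ i, Y i ⟶ V),
      (∀ i, T.arrows (g i)) ∧ Sieve.ofArrows Y g ∈ K V ∧
      ∀ (i : ι) (F : ModSite.Mod O_D), A' F → ∀ k : ℕ, d < k →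
        Subsingleton (ModSite.HU O_D F k (Y i)))
    (N : ℤ)
    (h3 : ∀ F : ModSite.Mod O_C, A F → ∀ p : ℕ, A' ((f.Rpush p).obj F))
    (h4 : ∀ F : ModSite.Mod O_C, A F → ∀ p : ℕ, N < (p : ℤ) → IsZero ((f.Rpush p).obj F))
    (X : DerivedCategory (ModSite.Mod O_C)) (hX : WSerre.cohIn A X) :
    WSerre.cohIn A' (RF.obj X) ∧
      ∀ (n : ℕ) (j : ℤ), N - (n : ℤ) ≤ j →
        IsIso ((homologyFunctor (ModSite.Mod O_D) j).map
          (RF.map ((DerivedCategory.TStructure.t.truncGEπ (-(n : ℤ))).app X))) := by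
  have hb : ∀ (n : ℕ) (j : ℤ), N - (n : ℤ) ≤ j →
      IsIso ((homologyFunctor (ModSite.Mod O_D) j).map
        (RF.map ((DerivedCategory.TStructure.t.truncGEπ (-(n : ℤ))).app X))) :=
    fun n j hj => s9066_main f RF α A B B' hB hA hB' (hA_of_leray f A A' B' hA' N h3 h4) N h4
      X hX n j hj
  refine ⟨?_, hb⟩
  intro j
  obtain ⟨n, hn⟩ : ∃ n : ℕ, N - (n : ℤ) ≤ j := ⟨(N - j).toNat, by omega⟩
  haveI := hb n j hn
  have hT := AdjEquivU.cohInPlus_truncGE A X hX (-(n : ℤ))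
  haveI : ((DerivedCategory.TStructure.t.truncGE (-(n : ℤ))).obj X).IsGE (-(n : ℤ)) :=
    inferInstanceAs (DerivedCategory.TStructure.t.IsGE _ _)
  have h1 : WSerre.cohIn A' (RF.obj ((DerivedCategory.TStructure.t.truncGE (-(n : ℤ))).obj X)) :=
    cohIn_rf_of_isGE f.push RF α A' A
      (fun M hM => cohIn_rf_single f.push RF α A' M (h3 M hM)) _ (-(n : ℤ)) hT.1
  exact A'.prop_of_iso (asIso ((homologyFunctor (ModSite.Mod O_D) j).map
    (RF.map ((DerivedCategory.TStructure.t.truncGEπ (-(n : ℤ))).app X)))).symm (h1 j)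

end main

end Groth.Agent.Helper3.RTr
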