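import Groth.Agent.Lib.Helper3.RTr6
import Groth.Agent.Lib.Helper3.TotRD4
import Groth.Agent.Lib.Helper3.AdjEquivU
import Groth.Prelude.Def_SiteCmp

/-!
# `f^* : D_{A'}(O_D) → D_A(O_C)` is an equivalence with quasi-inverse `Rf_*` (flat `f`)
-/

set_option autoImplicit false
universe w w' u

open CategoryTheory Limits Opposite DerivedCategory

namespace Groth.Agent.Helper3.RTr

open Groth.Agent.Helper3.ModLim Groth.Agent.Helper3.TotRD

variable {C : Type u} [SmallCategory C] {J : GrothendieckTopology C}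
  {D : Type u} [SmallCategory D] {K : GrothendieckTopology D}
  {O_C : Sheaf J CommRingCat.{u}} {O_D : Sheaf K CommRingCat.{u}} (f : ModSite.RMor O_C O_D)
  [PreservesFiniteLimits f.pull]
  [HasDerivedCategory.{w} (ModSite.Mod O_C)] [HasDerivedCategory.{w'} (ModSite.Mod O_D)]
  (RF : DerivedCategory (ModSite.Mod O_C) ⥤ DerivedCategory (ModSite.Mod O_D))
  (α : FKh f.push ⟶ DerivedCategory.Qh ⋙ RF)
  [RF.IsRightDerivedFunctor α (HomotopyCategory.quasiIso (ModSite.Mod O_C) (ComplexShape.up ℤ))]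
  (adj : f.pull.mapDerivedCategory ⊣ RF)
  (A : ObjectProperty (ModSite.Mod O_C)) [WSerre.IsWeakSerre A]
  (A' : ObjectProperty (ModSite.Mod O_D)) [WSerre.IsWeakSerre A']

include α adj in
/-- the higher direct images of the modules in `A` vanish -/
lemma isZero_rpush [HasInjectiveResolutions (ModSite.Mod O_C)]
    (h2c : ∀ F : ModSite.Mod O_C, A F → ∃ F' : ModSite.Mod O_D, A' F' ∧
      Nonempty (f.pull.obj F' ≅ F))
    (h3 : ∀ F' : ModSite.Mod O_D, A' F' →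
      IsIso (adj.unit.app ((singleFunctor (ModSite.Mod O_D) 0).obj F')))
    (F : ModSite.Mod O_C) (hF : A F) (p : ℕ) (hp : (0 : ℤ) < (p : ℤ)) :
    IsZero ((f.Rpush p).obj F) := by
  obtain ⟨F', hF', ⟨e⟩⟩ := h2c F hF
  obtain ⟨e1⟩ := nonempty_homology_rf_single_iso f.push RF α F p
  refine IsZero.of_iso ?_ e1.symm
  have e2 : f.pull.mapDerivedCategory.obj ((singleFunctor (ModSite.Mod O_D) 0).obj F') ≅
      (singleFunctor (ModSite.Mod O_C) 0).obj F :=
    (f.pull.mapDerivedCategorySingleFunctor 0).app F' ≪≫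
      (singleFunctor (ModSite.Mod O_C) 0).mapIso e
  haveI := h3 F' hF'
  have e3 : (singleFunctor (ModSite.Mod O_D) 0).obj F' ≅
      RF.obj ((singleFunctor (ModSite.Mod O_C) 0).obj F) :=
    asIso (adj.unit.app ((singleFunctor (ModSite.Mod O_D) 0).obj F')) ≪≫ RF.mapIso e2
  refine IsZero.of_iso ?_ ((homologyFunctor (ModSite.Mod O_D) (p : ℤ)).mapIso e3.symm)
  exact ((singleFunctor (ModSite.Mod O_D) 0).obj F').isZero_of_isLE 0 (p : ℤ) hp

include α in
theorem s9080_main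
    (h2a : ∀ F' : ModSite.Mod O_D, A' F' → A (f.pull.obj F'))
    (h2c : ∀ F : ModSite.Mod O_C, A F → ∃ F' : ModSite.Mod O_D, A' F' ∧
      Nonempty (f.pull.obj F' ≅ F))
    (h3 : ∀ F' : ModSite.Mod O_D, A' F' →
      IsIso (adj.unit.app ((singleFunctor (ModSite.Mod O_D) 0).obj F')))
    (B : Set C) (B' : Set D)
    (hB : ∀ U : C, ∃ (ι : Type u) (Y : ι → C) (g : ∀ i, Y i ⟶ U),
      Sieve.ofArrows Y g ∈ J U ∧ ∀ i, Y i ∈ B)
    (hA : ∀ V ∈ B, ∃ d : ℕ, ∀ T ∈ J V, ∃ (ι : Type u) (Y : ι → C) (g : ∀ i, Y i ⟶ V),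
      (∀ i, T.arrows (g i)) ∧ Sieve.ofArrows Y g ∈ J V ∧
      ∀ (i : ι) (F : ModSite.Mod O_C), A F → ∀ k : ℕ, d < k →
        Subsingleton (ModSite.HU O_C F k (Y i)))
    (hB' : ∀ U : D, ∃ (ι : Type u) (Y : ι → D) (g : ∀ i, Y i ⟶ U),
      Sieve.ofArrows Y g ∈ K U ∧ ∀ i, Y i ∈ B')
    (hA' : ∀ V ∈ B', ∃ d : ℕ, ∀ T ∈ K V, ∃ (ι : Type u) (Y : ι → D) (g : ∀ i, Y i ⟶ V),
      (∀ i, T.arrows (g i)) ∧ Sieve.ofArrows Y g ∈ K V ∧
      ∀ (i : ι) (F : ModSite.Mod O_C), A F → ∀ k : ℕ, d < k →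
        Subsingleton (ModSite.HU O_C F k (f.fn.obj (Y i)))) :
    (∀ Y : DerivedCategory (ModSite.Mod O_D), WSerre.cohIn A' Y →
      WSerre.cohIn A (f.pull.mapDerivedCategory.obj Y) ∧ IsIso (adj.unit.app Y)) ∧
    (∀ X : DerivedCategory (ModSite.Mod O_C), WSerre.cohIn A X →
      WSerre.cohIn A' (RF.obj X) ∧ IsIso (adj.counit.app X)) := by
  haveI : HasInjectiveResolutions (ModSite.Mod O_C) := inferInstance
  have hvan := isZero_rpush f RF α adj A A' h2c h3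
  refine AdjEquivU.equiv_unbounded adj A A' h2a h2c h3 ?_
  intro X hX n j hn
  exact s9066_main f RF α A B B' hB hA hB' hA' 0 hvan X hX n j (by omega)

end Groth.Agent.Helper3.RTr
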