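import Mathlib

/-!
# A criterion for the unit of an adjunction to be an isomorphism at an object
-/

set_option autoImplicit false

open CategoryTheory Limits

namespace Groth.Agent.Helper3.UnitIso

section one

variable {𝒟' 𝒟 : Type*} [Category 𝒟'] [Category 𝒟] {L : 𝒟' ⥤ 𝒟} {R : 𝒟 ⥤ 𝒟'} (adj : L ⊣ R)

/-- composition with the unit is the functor `L` followed by the adjunction bijection -/
lemma bijective_comp_unit (T Y : 𝒟')
    (h : Function.Bijective (fun g : T ⟶ Y => L.map g)) :
    Function.Bijective (fun g : T ⟶ Y => g ≫ adj.unit.app Y) := by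
  have h1 : (fun g : T ⟶ Y => g ≫ adj.unit.app Y) =
      (adj.homEquiv T (L.obj Y)) ∘ (fun g : T ⟶ Y => L.map g) := by
    funext g
    dsimp only [Function.comp]
    rw [Adjunction.homEquiv_unit]
    exact (adj.unit.naturality g)
  rw [h1]
  exact (Equiv.bijective _).comp h

/-- a left adjoint is fully faithful on maps into `G F` when the counit at `F` is invertible -/
lemma bijective_map_of_isIso_counit (F : 𝒟) [IsIso (adj.counit.app F)] (M : 𝒟') :
    Function.Bijective (fun x : M ⟶ R.obj F => L.map x) := by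
  have h1 : (fun x : M ⟶ R.obj F => L.map x) =
      (fun y : L.obj M ⟶ F => y ≫ inv (adj.counit.app F)) ∘ (adj.homEquiv M F).symm := by
    funext x
    dsimp only [Function.comp]
    rw [Adjunction.homEquiv_counit, Category.assoc, IsIso.hom_inv_id, Category.comp_id]
  rw [h1]
  refine Function.Bijective.comp ?_ (Equiv.bijective _)
  constructor
  · intro a b hab
    exact (cancel_mono (inv (adj.counit.app F))).1 hab
  · intro c
    exact ⟨c ≫ adj.counit.app F, by
      dsimp only
      rw [Category.assoc, IsIso.hom_inv_id, Category.comp_id]⟩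

end one

section two

variable {𝒜' 𝒜 𝒟' 𝒟 : Type*} [Category 𝒜'] [Category 𝒜] [Category 𝒟'] [Category 𝒟]
  (sD : 𝒜' ⥤ 𝒟') (sC : 𝒜 ⥤ 𝒟) [sD.Full] [sD.Faithful] [sC.Full] [sC.Faithful]
  (L0 : 𝒜' ⥤ 𝒜) (L : 𝒟' ⥤ 𝒟) (ι : sD ⋙ L ≅ L0 ⋙ sC)

include ι in
lemma map_map_eq {M N : 𝒜'} (x : M ⟶ N) :
    L.map (sD.map x) = ι.hom.app M ≫ sC.map (L0.map x) ≫ ι.inv.app N := by
  have h := ι.hom.naturality x
  dsimp only [Functor.comp_map] at h
  rw [← Category.assoc, ← h, Category.assoc, Iso.hom_inv_id_app]
  exact (Category.comp_id _).symm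

include ι in
/-- full faithfulness of `L` on the image of `sD` from that of `L0` -/
lemma bijective_map_of_bijective {M N : 𝒜'}
    (h : Function.Bijective (fun x : M ⟶ N => L0.map x)) :
    Function.Bijective (fun g : sD.obj M ⟶ sD.obj N => L.map g) := by
  constructor
  · intro g1 g2 h12
    dsimp only at h12
    obtain ⟨x1, rfl⟩ := sD.map_surjective g1
    obtain ⟨x2, rfl⟩ := sD.map_surjective g2
    rw [map_map_eq sD sC L0 L ι, map_map_eq sD sC L0 L ι] at h12
    have h3 : sC.map (L0.map x1) = sC.map (L0.map x2) := by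
      have := (cancel_epi (ι.hom.app M)).1 h12
      exact (cancel_mono (ι.inv.app N)).1 this
    have h4 := h.1 (sC.map_injective h3)
    rw [h4]
  · intro k
    obtain ⟨y, hy⟩ := sC.map_surjective (ι.inv.app M ≫ k ≫ ι.hom.app N)
    obtain ⟨x, hx⟩ := h.2 y
    refine ⟨sD.map x, ?_⟩
    dsimp only at hx ⊢
    rw [map_map_eq sD sC L0 L ι, hx, hy]
    simp

/-- a map out of `sD N` to an object isomorphic to some `sD N''` is invertible as soon as it
induces bijections on maps from all `sD M` -/
lemma isIso_of_bijective {N N'' : 𝒜'} {Z : 𝒟'} (η : sD.obj N ⟶ Z) (ρ : Z ≅ sD.obj N'')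
    (h : ∀ M : 𝒜', Function.Bijective (fun g : sD.obj M ⟶ sD.obj N => g ≫ η)) : IsIso η := by
  let θ : N ⟶ N'' := sD.preimage (η ≫ ρ.hom)
  have hθ : sD.map θ = η ≫ ρ.hom := sD.map_preimage _
  haveI : IsIso θ := by
    apply isIso_of_yoneda_map_bijective
    intro M
    constructor
    · intro x1 x2 h12
      dsimp only at h12
      have h1 : sD.map x1 ≫ η = sD.map x2 ≫ η := by
        have := congrArg sD.map h12
        rw [sD.map_comp, sD.map_comp, hθ, ← Category.assoc, ← Category.assoc] at this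
        exact (cancel_mono ρ.hom).1 this
      exact sD.map_injective ((h M).1 h1)
    · intro y
      obtain ⟨g, hg⟩ := (h M).2 (sD.map y ≫ ρ.inv)
      obtain ⟨x, rfl⟩ := sD.map_surjective g
      refine ⟨x, sD.map_injective ?_⟩
      dsimp only at hg ⊢
      rw [sD.map_comp, hθ, ← Category.assoc, hg, Category.assoc, Iso.inv_hom_id,
        Category.comp_id]
  have h2 : η = sD.map θ ≫ ρ.inv := by
    rw [hθ, Category.assoc, Iso.hom_inv_id, Category.comp_id]
  rw [h2]
  infer_instance

end two

end Groth.Agent.Helper3.UnitIso
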