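import Mathlib
import Groth.Prelude.Def_WeakSerre

/-!
# The essential image of a weak Serre subcategory under a fully faithful right adjoint

Let `L ⊣ G` with `L` exact and `G` fully faithful, and let `A` be a weak Serre subcategory of the
source of `G` such that `G` maps epimorphisms with kernel in `A` to epimorphisms. Then the
essential image of `A` under `G` is a weak Serre subcategory.
-/

set_option autoImplicit false
universe v v' u u'

open CategoryTheory Limits

namespace Groth.Agent.Helper3.WSMap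

section closure

variable {ℬ : Type u'} [Category.{v'} ℬ] [Abelian ℬ]
  (P : ObjectProperty ℬ) [P.IsClosedUnderIsomorphisms]

lemma isClosedUnderKernels_of_kernel
    (h : ∀ {X Y : ℬ} (f : X ⟶ Y), P X → P Y → P (kernel f)) : P.IsClosedUnderKernels :=
  ⟨by
    rintro _ ⟨f, k, hk, hf⟩
    exact P.prop_of_iso (IsLimit.conePointUniqueUpToIso (kernelIsKernel f) hk) (h f hf.1 hf.2)⟩

lemma isClosedUnderCokernels_of_cokernel
    (h : ∀ {X Y : ℬ} (f : X ⟶ Y), P X → P Y → P (cokernel f)) : P.IsClosedUnderCokernels :=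
  ⟨by
    rintro _ ⟨f, k, hk, hf⟩
    exact P.prop_of_iso (IsColimit.coconePointUniqueUpToIso (cokernelIsCokernel f) hk)
      (h f hf.1 hf.2)⟩

end closure

variable {𝒜 : Type u} [Category.{v} 𝒜] [Abelian 𝒜] {ℬ : Type u'} [Category.{v'} ℬ] [Abelian ℬ]
  {L : ℬ ⥤ 𝒜} {G : 𝒜 ⥤ ℬ} (adj : L ⊣ G) [L.Additive] [G.Additive]

include adj in
lemma isIso_unit_app_obj [G.Full] [G.Faithful] (F : 𝒜) : IsIso (adj.unit.app (G.obj F)) := by
  have h := adj.right_triangle_components F
  haveI : IsIso (adj.unit.app (G.obj F) ≫ G.map (adj.counit.app F)) := by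
    rw [h]; exact IsIso.id _
  exact IsIso.of_isIso_comp_right (adj.unit.app (G.obj F)) (G.map (adj.counit.app F))

include adj in
lemma isIso_unit_app_of_iso [G.Full] [G.Faithful] {X : ℬ} {F : 𝒜} (e : G.obj F ≅ X) :
    IsIso (adj.unit.app X) := by
  rw [← NatTrans.isIso_app_iff_of_iso adj.unit e]
  exact isIso_unit_app_obj adj F

variable [G.Full] [G.Faithful] [PreservesFiniteLimits L]
  (A : ObjectProperty 𝒜) [WSerre.IsWeakSerre A]
  (hepi : ∀ S : ShortComplex 𝒜, S.ShortExact → A S.X₁ → Epi (G.map S.g))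

include hepi in
omit [L.Additive] [G.Additive] [G.Full] [G.Faithful] [PreservesFiniteLimits L] in
lemma epi_map_of_epi {X Y : 𝒜} (p : X ⟶ Y) [Epi p] (hk : A (kernel p)) : Epi (G.map p) := by
  have hS : (ShortComplex.mk (kernel.ι p) p (kernel.condition p)).ShortExact :=
    ShortComplex.ShortExact.mk'
      (ShortComplex.exact_of_f_is_kernel _ (kernelIsKernel p)) inferInstance inferInstance
  exact hepi _ hS hk

include adj in
omit [L.Additive] [PreservesFiniteLimits L] in
lemma prop_kernel_map {X Y : ℬ} (f : X ⟶ Y) (hX : A.map G X) (hY : A.map G Y) :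
    A.map G (kernel f) := by
  obtain ⟨F, hF, ⟨eX⟩⟩ := hX
  obtain ⟨F', hF', ⟨eY⟩⟩ := hY
  haveI : PreservesLimitsOfSize.{0, 0} G := adj.rightAdjoint_preservesLimits
  let ψ : F ⟶ F' := G.preimage (eX.hom ≫ f ≫ eY.inv)
  have hψ : G.map ψ = eX.hom ≫ f ≫ eY.inv := G.map_preimage _
  refine ⟨kernel ψ, A.prop_kernel ψ hF hF',
    ⟨PreservesKernel.iso G ψ ≪≫ kernel.mapIso (G.map ψ) f eX eY ?_⟩⟩
  rw [hψ]
  simp

include adj hepi in
omit [L.Additive] [PreservesFiniteLimits L] in
lemma prop_cokernel_map {X Y : ℬ} (f : X ⟶ Y) (hX : A.map G X) (hY : A.map G Y) :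
    A.map G (cokernel f) := by
  obtain ⟨F, hF, ⟨eX⟩⟩ := hX
  obtain ⟨F', hF', ⟨eY⟩⟩ := hY
  haveI : PreservesLimitsOfSize.{0, 0} G := adj.rightAdjoint_preservesLimits
  let ψ : F ⟶ F' := G.preimage (eX.hom ≫ f ≫ eY.inv)
  have hψ : G.map ψ = eX.hom ≫ f ≫ eY.inv := G.map_preimage _
  have hQ : A (cokernel ψ) := A.prop_cokernel ψ hF hF'
  have hI : A (Abelian.image ψ) := A.prop_kernel (cokernel.π ψ) hF' hQ
  have hKI : A (kernel (Abelian.factorThruImage ψ)) := A.prop_kernel _ hF hI
  haveI h1 : Epi (G.map (Abelian.factorThruImage ψ)) := epi_map_of_epi A hepi _ hKI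
  haveI h2 : Epi (G.map (cokernel.π ψ)) := epi_map_of_epi A hepi _ hI
  let S1 : ShortComplex 𝒜 := ShortComplex.mk (Abelian.image.ι ψ) (cokernel.π ψ)
    (kernel.condition _)
  have hS1 : S1.Exact := ShortComplex.exact_of_f_is_kernel _ (kernelIsKernel (cokernel.π ψ))
  have hS1G : (S1.map G).Exact :=
    hS1.map_of_mono_of_preservesKernel G (inferInstanceAs (Mono (Abelian.image.ι ψ)))
      inferInstance
  haveI : Epi (S1.map G).g := h2
  have hc := hS1G.gIsCokernel
  have hc' := isCokernelEpiComp hc (G.map (Abelian.factorThruImage ψ)) (hg := h1)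
    (h := G.map ψ) (by
      change G.map ψ = G.map (Abelian.factorThruImage ψ) ≫ G.map (Abelian.image.ι ψ)
      rw [← G.map_comp, Abelian.image.fac])
  refine ⟨cokernel ψ, hQ, ⟨IsColimit.coconePointUniqueUpToIso hc'
    (cokernelIsCokernel (G.map ψ)) ≪≫ cokernel.mapIso (G.map ψ) f eX eY ?_⟩⟩
  rw [hψ]
  simp

include adj hepi in
lemma prop_X₂_map (S : ShortComplex ℬ) (hS : S.ShortExact) (h1 : A.map G S.X₁)
    (h3 : A.map G S.X₃) : A.map G S.X₂ := by
  haveI : PreservesLimitsOfSize.{0, 0} G := adj.rightAdjoint_preservesLimits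
  haveI : PreservesColimitsOfSize.{0, 0} L := adj.leftAdjoint_preservesColimits
  have hSL : (S.map L).ShortExact := hS.map_of_exact L
  have e1 : A (L.obj S.X₁) := by
    obtain ⟨F, hF, ⟨e⟩⟩ := h1
    exact A.prop_of_iso ((asIso (adj.counit.app F)).symm ≪≫ L.mapIso e) hF
  have e3 : A (L.obj S.X₃) := by
    obtain ⟨F, hF, ⟨e⟩⟩ := h3
    exact A.prop_of_iso ((asIso (adj.counit.app F)).symm ≪≫ L.mapIso e) hF
  have e2 : A (L.obj S.X₂) := A.prop_X₂_of_shortExact hSL e1 e3
  have hSLG : ((S.map L).map G).ShortExact := by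
    haveI := hSL.mono_f
    have hex : ((S.map L).map G).Exact :=
      hSL.exact.map_of_mono_of_preservesKernel G hSL.mono_f inferInstance
    have hmono : Mono ((S.map L).map G).f := by
      change Mono (G.map (S.map L).f)
      infer_instance
    have hepi' : Epi ((S.map L).map G).g := hepi (S.map L) hSL e1
    exact ShortComplex.ShortExact.mk' hex hmono hepi'
  let φ : S ⟶ (S.map L).map G :=
    { τ₁ := adj.unit.app S.X₁
      τ₂ := adj.unit.app S.X₂
      τ₃ := adj.unit.app S.X₃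
      comm₁₂ := (adj.unit.naturality S.f).symm
      comm₂₃ := (adj.unit.naturality S.g).symm }
  have i1 : IsIso φ.τ₁ := by
    obtain ⟨F, hF, ⟨e⟩⟩ := h1
    exact isIso_unit_app_of_iso adj e
  have i3 : IsIso φ.τ₃ := by
    obtain ⟨F, hF, ⟨e⟩⟩ := h3
    exact isIso_unit_app_of_iso adj e
  haveI : IsIso φ.τ₂ := ShortComplex.isIso₂_of_shortExact_of_isIso₁₃' φ hS hSLG i1 i3
  exact ⟨L.obj S.X₂, e2, ⟨(asIso φ.τ₂).symm⟩⟩

include adj hepi in
/-- the essential image of `A` under `G` is a weak Serre subcategory -/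
theorem isWeakSerre_map : WSerre.IsWeakSerre (A.map G) := by
  haveI : (A.map G).IsClosedUnderIsomorphisms := inferInstance
  haveI : (A.map G).IsClosedUnderKernels :=
    isClosedUnderKernels_of_kernel _ (fun f hX hY => prop_kernel_map adj A f hX hY)
  haveI : (A.map G).IsClosedUnderCokernels :=
    isClosedUnderCokernels_of_cokernel _ (fun f hX hY => prop_cokernel_map adj A hepi f hX hY)
  haveI : (A.map G).ContainsZero := by
    obtain ⟨Z, hZ, hAZ⟩ := A.exists_prop_of_containsZero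
    exact ⟨⟨G.obj Z, G.map_isZero hZ, A.prop_map_obj G hAZ⟩⟩
  haveI : (A.map G).IsClosedUnderExtensions :=
    ⟨fun {S} hS h1 h3 => prop_X₂_map adj A hepi S hS h1 h3⟩
  exact {}

end Groth.Agent.Helper3.WSMap
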