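import Groth.Agent.Lib.Helper3.RTr11
import Groth.Agent.Lib.Helper3.RTr7
import Groth.Agent.Lib.Helper3.UnitIso
import Groth.Agent.Lib.Helper3.WSMap

/-!
# Morphisms of ringed sites with fully faithful direct image: `D_A` downstairs and upstairs
-/

set_option autoImplicit false
universe w w' u

open CategoryTheory Limits Opposite Abelian DerivedCategory ZeroObject

namespace Groth.Agent.Helper3.RTr

open Groth.Agent.Helper3.ModLim Groth.Agent.Helper3.TotRD

section cover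

variable {C : Type u} [SmallCategory C] (J : GrothendieckTopology C)

/-- if every object is covered by members of `B`, then every covering sieve is refined by a
covering family of members of `B` -/
lemma cofinal_of_cover (B : Set C)
    (hB : ∀ U : C, ∃ (ι : Type u) (Y : ι → C) (g : ∀ i, Y i ⟶ U),
      Sieve.ofArrows Y g ∈ J U ∧ ∀ i, Y i ∈ B) (V : C) (T : Sieve V) (hT : T ∈ J V) :
    ∃ (ι : Type u) (Y : ι → C) (g : ∀ i, Y i ⟶ V),
      (∀ i, T.arrows (g i)) ∧ Sieve.ofArrows Y g ∈ J V ∧ ∀ i, Y i ∈ B := by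
  choose ι Y g hcov hmem using hB
  refine ⟨Σ (W : C) (_ : {k : W ⟶ V // T.arrows k}), ι W, fun x => Y x.1 x.2.2,
    fun x => g x.1 x.2.2 ≫ x.2.1.1, ?_, ?_, ?_⟩
  · intro x
    exact T.downward_closed x.2.1.2 _
  · refine J.transitive hT _ ?_
    intro W k hk
    refine J.superset_covering ?_ (hcov W)
    intro W' a ha
    obtain ⟨i, c, rfl⟩ := (Sieve.mem_ofArrows_iff _ _ a).1 ha
    change (Sieve.ofArrows _ _).arrows ((c ≫ g W i) ≫ k)
    rw [Category.assoc]
    exact Sieve.downward_closed _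
      (Sieve.ofArrows_mk (fun x : Σ (W : C) (_ : {k : W ⟶ V // T.arrows k}), ι W => Y x.1 x.2.2)
        (fun x => g x.1 x.2.2 ≫ x.2.1.1) ⟨W, ⟨k, hk⟩, i⟩) c
  · intro x
    exact hmem _ _

end cover

variable {C : Type u} [SmallCategory C] {J : GrothendieckTopology C}
  {D : Type u} [SmallCategory D] {K : GrothendieckTopology D}
  {O_C : Sheaf J CommRingCat.{u}} {O_D : Sheaf K CommRingCat.{u}} (f : ModSite.RMor O_C O_D)

/-- `f_*` of an epimorphism whose kernel has locally vanishing `H¹` is an epimorphism -/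
theorem epi_push_of_local (S : ShortComplex (ModSite.Mod O_C)) (hS : S.ShortExact)
    (hloc : ∀ V : D, ∃ (ι : Type u) (Y : ι → D) (g : ∀ i, Y i ⟶ V),
      Sieve.ofArrows Y g ∈ K V ∧
        ∀ i, Subsingleton (Ext (ModSite.freeOn O_C (f.fn.obj (Y i))) S.X₁ 1)) :
    Epi (f.push.map S.g) := by
  refine epi_of_free_local _ (fun V b' => ?_)
  obtain ⟨ι, Y, g, hcov, hvan⟩ := hloc V
  refine ⟨Sieve.ofArrows Y g, hcov, ?_⟩
  intro W k hk
  obtain ⟨i, c, rfl⟩ := (Sieve.mem_ofArrows_iff Y g k).1 hk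
  obtain ⟨c', hc'⟩ : ∃ c' : ModSite.freeOn O_C (f.fn.obj (Y i)) ⟶ S.X₃,
      c' = (tau f (Y i) S.X₃).symm (frMap O_D (g i) ≫ b') := ⟨_, rfl⟩
  haveI := hvan i
  obtain ⟨x₂, hx₂⟩ := Ext.covariant_sequence_exact₃ _ hS (Ext.mk₀ c') (rfl : 0 + 1 = 1)
    (Subsingleton.elim _ _)
  obtain ⟨c2, rfl⟩ := (Ext.mk₀_bijective _ _).2 x₂
  rw [Ext.mk₀_comp_mk₀] at hx₂
  have h2 : c2 ≫ S.g = c' := (Ext.mk₀_bijective _ _).1 hx₂
  refine ⟨frMap O_D c ≫ tau f (Y i) S.X₂ c2, ?_⟩
  rw [Category.assoc, ← tau_comp, h2, hc', Equiv.apply_symm_apply, frMap_comp, Category.assoc]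

section derived

variable [HasDerivedCategory.{w} (ModSite.Mod O_C)] [HasDerivedCategory.{w'} (ModSite.Mod O_D)]
  (RF : DerivedCategory (ModSite.Mod O_C) ⥤ DerivedCategory (ModSite.Mod O_D))
  (α : FKh f.push ⟶ DerivedCategory.Qh ⋙ RF)
  [RF.IsRightDerivedFunctor α (HomotopyCategory.quasiIso (ModSite.Mod O_C) (ComplexShape.up ℤ))]

include α in
/-- `Rᵖf_* F = 0` when `Hᵖ(u(V), F)` vanishes for `V` in cofinal systems of coverings -/
theorem isZero_rpush_of_local (F : ModSite.Mod O_C) (p : ℕ) (hp : 0 < p)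
    (hloc : ∀ V : D, ∀ T ∈ K V, ∃ (ι : Type u) (Y : ι → D) (g : ∀ i, Y i ⟶ V),
      (∀ i, T.arrows (g i)) ∧ Sieve.ofArrows Y g ∈ K V ∧
        ∀ i, Subsingleton (ModSite.HU O_C F p (f.fn.obj (Y i)))) :
    IsZero ((f.Rpush p).obj F) := by
  obtain ⟨e1⟩ := nonempty_homology_rf_single_iso f.push RF α F p
  refine IsZero.of_iso ?_ e1.symm
  let X := (singleFunctor (ModSite.Mod O_C) 0).obj F
  let X' := (singleFunctor (ModSite.Mod O_C) 0).obj (0 : ModSite.Mod O_C)
  have hX' : IsZero X' := (singleFunctor (ModSite.Mod O_C) 0).map_isZero (isZero_zero _)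
  have hz : IsZero ((homologyFunctor (ModSite.Mod O_D) (p : ℤ)).obj (RF.obj X')) := by
    refine isZero_homology_rf_single f.push RF α (0 : ModSite.Mod O_C) 0 (p : ℤ) (fun k hk => ?_)
    obtain ⟨k', rfl⟩ : ∃ k', k = k' + 1 := ⟨k - 1, by omega⟩
    exact Functor.isZero_rightDerived_obj_injective_succ f.push k' (0 : ModSite.Mod O_C)
  let κ : X ⟶ X' := 0
  have hall : ∀ (V : D) (b : ModSite.freeOn O_D V ⟶
      (homologyFunctor (ModSite.Mod O_D) (p : ℤ)).obj (RF.obj X)), b = 0 := by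
    intro V b
    refine eq_zero_of_comp_homology_map f RF α κ (p : ℤ) V ?_ b (hz.eq_of_tgt _ _)
    intro T hT
    obtain ⟨ι, Y, g, h1, h2, h3⟩ := hloc V T hT
    refine ⟨ι, Y, g, h1, h2, fun i => ?_⟩
    have hs := (subsingleton_HU_iff_hom O_C (f.fn.obj (Y i)) F p).1 (h3 i)
    have ht : IsZero (X'⟦(p : ℤ)⟧) := (shiftFunctor _ (p : ℤ)).map_isZero hX'
    constructor
    · intro a b _
      exact hs.elim a b
    · intro c
      exact ⟨0, ht.eq_of_tgt _ _⟩
  have hmono : Mono (0 : (homologyFunctor (ModSite.Mod O_D) (p : ℤ)).obj (RF.obj X) ⟶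
      (homologyFunctor (ModSite.Mod O_D) (p : ℤ)).obj (RF.obj X)) :=
    mono_of_free _ (fun U b _ => hall U b)
  exact @IsZero.of_mono_zero _ _ _ _ _ hmono

variable [PreservesFiniteLimits f.pull] (adj : f.pull.mapDerivedCategory ⊣ RF)

include α in
/-- the unit `f_*F ⟶ Rf_* f^* f_*F` is an isomorphism when `ε : f^* f_* F ≅ F` and the higher
direct images of `F` vanish -/
theorem isIso_unit_of_vanishing (F : ModSite.Mod O_C) [IsIso (f.adj.counit.app F)]
    (hvan : ∀ p : ℕ, 0 < p → IsZero ((f.Rpush p).obj F)) :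
    IsIso (adj.unit.app ((singleFunctor (ModSite.Mod O_D) 0).obj (f.push.obj F))) := by
  let sD := singleFunctor (ModSite.Mod O_D) 0
  let sC := singleFunctor (ModSite.Mod O_C) 0
  let L := f.pull.mapDerivedCategory
  let Y := sD.obj (f.push.obj F)
  -- the target of the unit is concentrated in degree zero
  let e0 : RF.obj (L.obj Y) ≅ RF.obj (sC.obj F) :=
    RF.mapIso ((f.pull.mapDerivedCategorySingleFunctor 0).app (f.push.obj F) ≪≫
      sC.mapIso (asIso (f.adj.counit.app F)))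
  haveI hGE0 : (RF.obj (sC.obj F)).IsGE 0 := rf_isGE f.push RF α _ 0
  haveI hLE0 : (RF.obj (sC.obj F)).IsLE 0 := by
    rw [DerivedCategory.isLE_iff]
    intro i hi
    obtain ⟨k, rfl⟩ : ∃ k : ℕ, i = (k : ℤ) := ⟨i.toNat, by omega⟩
    obtain ⟨e1⟩ := nonempty_homology_rf_single_iso f.push RF α F k
    exact IsZero.of_iso (hvan k (by omega)) e1
  haveI hGE : (RF.obj (L.obj Y)).IsGE 0 := TStructure.t.isGE_of_iso e0.symm 0
  haveI hLE : (RF.obj (L.obj Y)).IsLE 0 := TStructure.t.isLE_of_iso e0.symm 0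
  obtain ⟨N'', ⟨ρ⟩⟩ := exists_iso_singleFunctor_obj_of_isGE_of_isLE (RF.obj (L.obj Y)) 0
  refine UnitIso.isIso_of_bijective sD (adj.unit.app Y) ρ (fun M => ?_)
  refine UnitIso.bijective_comp_unit adj (sD.obj M) Y ?_
  exact UnitIso.bijective_map_of_bijective sD sC f.pull L
    (f.pull.mapDerivedCategorySingleFunctor 0)
    (UnitIso.bijective_map_of_isIso_counit f.adj F M)

end derived

end Groth.Agent.Helper3.RTr
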