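import Groth.Agent.Lib.Helper3.RTr12

/-!
# Flat morphisms of ringed sites with fully faithful direct image: `D_A(O_C) ≃ D_{f_*A}(O_D)`
-/

set_option autoImplicit false
universe w w' u

open CategoryTheory Limits Opposite Abelian DerivedCategory ZeroObject

namespace Groth.Agent.Helper3.RTr

open Groth.Agent.Helper3.ModLim Groth.Agent.Helper3.TotRD

variable {C : Type u} [SmallCategory C] {J : GrothendieckTopology C}
  {D : Type u} [SmallCategory D] {K : GrothendieckTopology D}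
  {O_C : Sheaf J CommRingCat.{u}} {O_D : Sheaf K CommRingCat.{u}} (f : ModSite.RMor O_C O_D)
  [PreservesFiniteLimits f.pull]
  [HasDerivedCategory.{w} (ModSite.Mod O_C)] [HasDerivedCategory.{w'} (ModSite.Mod O_D)]
  (RF : DerivedCategory (ModSite.Mod O_C) ⥤ DerivedCategory (ModSite.Mod O_D))
  (α : FKh f.push ⟶ DerivedCategory.Qh ⋙ RF)
  [RF.IsRightDerivedFunctor α (HomotopyCategory.quasiIso (ModSite.Mod O_C) (ComplexShape.up ℤ))]
  (adj : f.pull.mapDerivedCategory ⊣ RF)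
  [f.push.Full] [f.push.Faithful]
  (A : ObjectProperty (ModSite.Mod O_C)) [WSerre.IsWeakSerre A]

include α in
theorem equiv_of_fullyFaithful_push (B : Set C) (B' : Set D)
    (hB : ∀ U : C, ∃ (ι : Type u) (Y : ι → C) (g : ∀ i, Y i ⟶ U),
      Sieve.ofArrows Y g ∈ J U ∧ ∀ i, Y i ∈ B)
    (hv : ∀ V ∈ B, ∀ F : ModSite.Mod O_C, A F → ∀ p : ℕ, 0 < p →
      Subsingleton (ModSite.HU O_C F p V))
    (hB' : ∀ U : D, ∃ (ι : Type u) (Y : ι → D) (g : ∀ i, Y i ⟶ U),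
      Sieve.ofArrows Y g ∈ K U ∧ ∀ i, Y i ∈ B')
    (hv' : ∀ V ∈ B', ∀ F : ModSite.Mod O_C, A F → ∀ p : ℕ, 0 < p →
      Subsingleton (ModSite.HU O_C F p (f.fn.obj V))) :
    WSerre.IsWeakSerre (A.map f.push) ∧
    (∀ Y : DerivedCategory (ModSite.Mod O_D), WSerre.cohIn (A.map f.push) Y →
      WSerre.cohIn A (f.pull.mapDerivedCategory.obj Y) ∧ IsIso (adj.unit.app Y)) ∧
    (∀ X : DerivedCategory (ModSite.Mod O_C), WSerre.cohIn A X →
      WSerre.cohIn (A.map f.push) (RF.obj X) ∧ IsIso (adj.counit.app X)) := by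
  have hepi : ∀ S : ShortComplex (ModSite.Mod O_C), S.ShortExact → A S.X₁ →
      Epi (f.push.map S.g) := by
    intro S hS h1
    refine epi_push_of_local f S hS (fun V => ?_)
    obtain ⟨ι, Y, g, hcov, hmem⟩ := hB' V
    refine ⟨ι, Y, g, hcov, fun i => ?_⟩
    exact (subsingleton_HU_iff_ext O_C _ _ 1).1 (hv' _ (hmem i) _ h1 1 Nat.one_pos)
  haveI hWS : WSerre.IsWeakSerre (A.map f.push) := WSMap.isWeakSerre_map f.adj A hepi
  refine ⟨hWS, ?_⟩
  have hvan : ∀ F : ModSite.Mod O_C, A F → ∀ p : ℕ, 0 < p → IsZero ((f.Rpush p).obj F) := by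
    intro F hF p hp
    refine isZero_rpush_of_local f RF α F p hp (fun V T hT => ?_)
    obtain ⟨ι, Y, g, h1, h2, h3⟩ := cofinal_of_cover K B' hB' V T hT
    exact ⟨ι, Y, g, h1, h2, fun i => hv' _ (h3 i) F hF p hp⟩
  refine s9080_main f RF α adj A (A.map f.push) ?_ ?_ ?_ B B' hB ?_ hB' ?_
  · rintro F' ⟨F, hF, ⟨e⟩⟩
    exact A.prop_of_iso ((asIso (f.adj.counit.app F)).symm ≪≫ f.pull.mapIso e) hF
  · intro F hF
    exact ⟨f.push.obj F, A.prop_map_obj _ hF, ⟨asIso (f.adj.counit.app F)⟩⟩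
  · rintro F' ⟨F, hF, ⟨e⟩⟩
    rw [← NatTrans.isIso_app_iff_of_iso adj.unit
      ((singleFunctor (ModSite.Mod O_D) 0).mapIso e)]
    exact isIso_unit_of_vanishing f RF α adj F (hvan F hF)
  · intro V hV
    refine ⟨0, fun T hT => ?_⟩
    obtain ⟨ι, Y, g, h1, h2, h3⟩ := cofinal_of_cover J B hB V T hT
    exact ⟨ι, Y, g, h1, h2, fun i F hF k hk => hv _ (h3 i) F hF k hk⟩
  · intro V hV
    refine ⟨0, fun T hT => ?_⟩
    obtain ⟨ι, Y, g, h1, h2, h3⟩ := cofinal_of_cover K B' hB' V T hT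
    exact ⟨ι, Y, g, h1, h2, fun i F hF k hk => hv' _ (h3 i) F hF k hk⟩

end Groth.Agent.Helper3.RTr
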