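import Groth.Agent.Lib.Helper3.ModLim1

/-!
# Maps out of free modules and the direct image along a morphism of ringed sites
-/

set_option autoImplicit false
universe u

open CategoryTheory Limits Opposite

namespace Groth.Agent.Helper3.RTr

open Groth.Agent.Helper3.ModLim

variable {C : Type u} [SmallCategory C] {J : GrothendieckTopology C}
  {D : Type u} [SmallCategory D] {K : GrothendieckTopology D}
  {O_C : Sheaf J CommRingCat.{u}} {O_D : Sheaf K CommRingCat.{u}} (f : ModSite.RMor O_C O_D)

/-- sections of `f_* M` over `W` are sections of `M` over `u(W)` -/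
def secPush (W : D) (M : ModSite.Mod O_C) :
    (f.push.obj M).val.obj (op W) ≃ M.val.obj (op (f.fn.obj W)) := Equiv.refl _

/-- maps `j_{u(W)!}O ⟶ M` are maps `j_{W!}O ⟶ f_* M` -/
noncomputable def tau (W : D) (M : ModSite.Mod O_C) :
    (ModSite.freeOn O_C (f.fn.obj W) ⟶ M) ≃ (ModSite.freeOn O_D W ⟶ f.push.obj M) :=
  (sec O_C (f.fn.obj W) M).trans ((secPush f W M).symm.trans (sec O_D W (f.push.obj M)).symm)

lemma tau_comp (W : D) {M N : ModSite.Mod O_C} (a : ModSite.freeOn O_C (f.fn.obj W) ⟶ M)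
    (b : M ⟶ N) : tau f W N (a ≫ b) = tau f W M a ≫ f.push.map b := by
  apply (sec O_D W _).injective
  rw [sec_comp]
  simp only [tau, Equiv.trans_apply, Equiv.apply_symm_apply]
  rw [sec_comp]
  rfl

lemma tau_add (W : D) {M : ModSite.Mod O_C} (a b : ModSite.freeOn O_C (f.fn.obj W) ⟶ M) :
    tau f W M (a + b) = tau f W M a + tau f W M b := by
  apply (sec O_D W _).injective
  rw [sec_add]
  simp only [tau, Equiv.trans_apply, Equiv.apply_symm_apply]
  rw [sec_add]
  rfl

lemma tau_zero (W : D) (M : ModSite.Mod O_C) : tau f W M 0 = 0 := by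
  have := tau_add f W (0 : ModSite.freeOn O_C (f.fn.obj W) ⟶ M) 0
  rw [add_zero] at this
  exact left_eq_add.mp this

lemma tau_map {W W' : D} (h : W' ⟶ W) {M : ModSite.Mod O_C}
    (a : ModSite.freeOn O_C (f.fn.obj W) ⟶ M) :
    tau f W' M (frMap O_C (f.fn.map h) ≫ a) = frMap O_D h ≫ tau f W M a := by
  apply (sec O_D W' _).injective
  rw [sec_map_comp]
  simp only [tau, Equiv.trans_apply, Equiv.apply_symm_apply]
  rw [sec_map_comp]
  rfl

end Groth.Agent.Helper3.RTr
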