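import Groth.Agent.Lib.Helper3.RTr2
import Groth.Agent.Lib.Helper3.TotRD1
import Groth.Agent.Lib.Helper3.KInjProd
import Groth.Agent.Lib.Helper6.DRef.Refine

/-!
# Cocycles of a K-injective complex over objects of the target site, and the cohomology
sheaves of the direct image complex
-/

set_option autoImplicit false
universe w u

open CategoryTheory Limits Opposite HomologicalComplex DerivedCategory

namespace Groth.Agent.Helper3.RTr

open Groth.Agent.Helper3.ModLim Groth.Agent.Helper6.DRef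

section KInj

variable {A : Type*} [Category A] [Abelian A] [HasDerivedCategory.{w} A]

omit [HasDerivedCategory.{w} A] in
lemma ofCycle_sub {P : A} {I : CochainComplex A ℤ} (z z' : P ⟶ I.X 0)
    (hz : z ≫ I.d 0 1 = 0) (hz' : z' ≫ I.d 0 1 = 0) :
    ofCycle (z - z') (by rw [Preadditive.sub_comp, hz, hz', sub_zero]) =
      ofCycle z hz - ofCycle z' hz' := by
  apply from_single_hom_ext
  rw [HomologicalComplex.sub_f_apply, ofCycle_f, ofCycle_f, ofCycle_f, Preadditive.comp_sub]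

/-- every map `P[0] ⟶ I` in the derived category, `I` K-injective, comes from a cocycle -/
lemma exists_cocycle_repr {P : A} {I : CochainComplex A ℤ} [I.IsKInjective]
    (ξ : Q.obj (sgl P) ⟶ Q.obj I) :
    ∃ (z : P ⟶ I.X 0) (hz : z ≫ I.d 0 1 = 0), Q.map (ofCycle z hz) = ξ := by
  obtain ⟨φ, hφ⟩ := KInjProd.exists_Q_map_eq (sgl P) I ξ
  have hz : ((singleObjXSelf (ComplexShape.up ℤ) 0 P).inv ≫ φ.f 0) ≫ I.d 0 1 = 0 := by
    rw [Category.assoc, φ.comm, single_obj_d, zero_comp, comp_zero]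
  refine ⟨(singleObjXSelf (ComplexShape.up ℤ) 0 P).inv ≫ φ.f 0, hz, ?_⟩
  rw [← hφ]
  congr 1
  apply from_single_hom_ext
  rw [ofCycle_f, Iso.hom_inv_id_assoc]

/-- a cocycle of a K-injective complex whose class in the derived category vanishes is a
coboundary -/
lemma exists_bounding {P : A} {I : CochainComplex A ℤ} [I.IsKInjective]
    (z : P ⟶ I.X 0) (hz : z ≫ I.d 0 1 = 0) (h : Q.map (ofCycle z hz) = 0) :
    ∃ y : P ⟶ I.X (-1), z = y ≫ I.d (-1) 0 := by
  obtain ⟨ht⟩ := KInjProd.homotopy_of_Q_map_eq (ofCycle z hz) 0 (by rw [h, Functor.map_zero])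
  refine ⟨(singleObjXSelf (ComplexShape.up ℤ) 0 P).inv ≫ ht.hom 0 (-1), ?_⟩
  have h1 := ht.comm 0
  rw [ofCycle_f, HomologicalComplex.zero_f, add_zero,
    dNext_eq ht.hom (show (ComplexShape.up ℤ).Rel 0 1 by simp),
    prevD_eq ht.hom (show (ComplexShape.up ℤ).Rel (-1) 0 by simp), single_obj_d, zero_comp,
    zero_add] at h1
  rw [Category.assoc, ← h1, Iso.inv_hom_id_assoc]

end KInj

variable {C : Type u} [SmallCategory C] {J : GrothendieckTopology C}
  {D : Type u} [SmallCategory D] {K : GrothendieckTopology D}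
  {O_C : Sheaf J CommRingCat.{u}} {O_D : Sheaf K CommRingCat.{u}} (f : ModSite.RMor O_C O_D)

section Cocyc

variable (I : CochainComplex (ModSite.Mod O_C) ℤ)

/-- the direct image complex -/
noncomputable abbrev pushCx : CochainComplex (ModSite.Mod O_D) ℤ :=
  (TotRD.FC f.push).obj I

/-- `tau` with values in the terms of the direct image complex -/
noncomputable def tauX (W : D) (i : ℤ) :
    (ModSite.freeOn O_C (f.fn.obj W) ⟶ I.X i) ≃ (ModSite.freeOn O_D W ⟶ (pushCx f I).X i) :=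
  tau f W (I.X i)

lemma tauX_d (W : D) (i j : ℤ) (z : ModSite.freeOn O_C (f.fn.obj W) ⟶ I.X i) :
    tauX f I W i z ≫ (pushCx f I).d i j = tauX f I W j (z ≫ I.d i j) :=
  (tau_comp f W z (I.d i j)).symm

lemma tauX_zero (W : D) (i : ℤ) : tauX f I W i 0 = 0 := tau_zero f W _

lemma tauX_add (W : D) (i : ℤ) (a b : ModSite.freeOn O_C (f.fn.obj W) ⟶ I.X i) :
    tauX f I W i (a + b) = tauX f I W i a + tauX f I W i b := tau_add f W a b

lemma tauX_map {W W' : D} (h : W' ⟶ W) (i : ℤ) (a : ModSite.freeOn O_C (f.fn.obj W) ⟶ I.X i) :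
    tauX f I W' i (frMap O_C (f.fn.map h) ≫ a) = frMap O_D h ≫ tauX f I W i a :=
  tau_map f h a

variable {I} in
lemma tauX_postcomp {I' : CochainComplex (ModSite.Mod O_C) ℤ} (ψ : I ⟶ I') (W : D) (i : ℤ)
    (a : ModSite.freeOn O_C (f.fn.obj W) ⟶ I.X i) :
    tauX f I' W i (a ≫ ψ.f i) = tauX f I W i a ≫ ((TotRD.FC f.push).map ψ).f i :=
  tau_comp f W a (ψ.f i)

lemma tau_cocycle (W : D) (z : ModSite.freeOn O_C (f.fn.obj W) ⟶ I.X 0)
    (hz : z ≫ I.d 0 1 = 0) : tauX f I W 0 z ≫ (pushCx f I).d 0 1 = 0 := by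
  rw [tauX_d, hz, tauX_zero]

/-- the class in `H⁰(f_* I)` over `W` of a cocycle of `I` over `u(W)` -/
noncomputable def cocyc (W : D) (z : ModSite.freeOn O_C (f.fn.obj W) ⟶ I.X 0)
    (hz : z ≫ I.d 0 1 = 0) : ModSite.freeOn O_D W ⟶ (pushCx f I).homology 0 :=
  (pushCx f I).liftCycles (tauX f I W 0 z) 1 (by simp) (tau_cocycle f I W z hz) ≫
    (pushCx f I).homologyπ 0

lemma cocyc_congr (W : D) {z z' : ModSite.freeOn O_C (f.fn.obj W) ⟶ I.X 0} (h : z = z')
    (hz : z ≫ I.d 0 1 = 0) : cocyc f I W z hz = cocyc f I W z' (h ▸ hz) := by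
  subst h; rfl

lemma cocyc_eq (W : D) (z : ModSite.freeOn O_C (f.fn.obj W) ⟶ I.X 0)
    (hz : z ≫ I.d 0 1 = 0) (w : ModSite.freeOn O_D W ⟶ (pushCx f I).cycles 0)
    (hw : w ≫ (pushCx f I).iCycles 0 = tauX f I W 0 z) :
    cocyc f I W z hz = w ≫ (pushCx f I).homologyπ 0 := by
  unfold cocyc
  congr 1
  rw [← cancel_mono ((pushCx f I).iCycles 0), liftCycles_i, hw]

lemma cocyc_boundary (W : D) (y : ModSite.freeOn O_C (f.fn.obj W) ⟶ I.X (-1)) :
    cocyc f I W (y ≫ I.d (-1) 0) (by simp) = 0 := by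
  refine (cocyc_eq f I W _ _ (tauX f I W (-1) y ≫ (pushCx f I).toCycles (-1) 0) ?_).trans ?_
  · rw [Category.assoc, toCycles_i, tauX_d]
  · rw [Category.assoc, toCycles_comp_homologyπ, comp_zero]

lemma cocyc_map (W : D) (z : ModSite.freeOn O_C (f.fn.obj W) ⟶ I.X 0)
    (hz : z ≫ I.d 0 1 = 0) {W' : D} (h : W' ⟶ W) :
    cocyc f I W' (frMap O_C (f.fn.map h) ≫ z) (by rw [Category.assoc, hz, comp_zero]) =
      frMap O_D h ≫ cocyc f I W z hz := by
  refine (cocyc_eq f I W' _ _ (frMap O_D h ≫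
    (pushCx f I).liftCycles (tauX f I W 0 z) 1 (by simp) (tau_cocycle f I W z hz)) ?_).trans
    (Category.assoc _ _ _)
  rw [Category.assoc, liftCycles_i, tauX_map]

variable {I} in
lemma cocyc_postcomp {I' : CochainComplex (ModSite.Mod O_C) ℤ} (ψ : I ⟶ I') (W : D)
    (z : ModSite.freeOn O_C (f.fn.obj W) ⟶ I.X 0) (hz : z ≫ I.d 0 1 = 0) :
    cocyc f I' W (z ≫ ψ.f 0) (by rw [Category.assoc, ψ.comm, reassoc_of% hz, zero_comp]) =
      cocyc f I W z hz ≫ homologyMap ((TotRD.FC f.push).map ψ) 0 := by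
  refine (cocyc_eq f I' W _ _ ((pushCx f I).liftCycles (tauX f I W 0 z) 1 (by simp)
    (tau_cocycle f I W z hz) ≫ cyclesMap ((TotRD.FC f.push).map ψ) 0) ?_).trans ?_
  · rw [Category.assoc, cyclesMap_i, liftCycles_i_assoc, tauX_postcomp]
  · unfold cocyc
    rw [Category.assoc, Category.assoc, homologyπ_naturality]

lemma cocyc_sub (W : D) (z z' : ModSite.freeOn O_C (f.fn.obj W) ⟶ I.X 0)
    (hz : z ≫ I.d 0 1 = 0) (hz' : z' ≫ I.d 0 1 = 0) :
    cocyc f I W (z - z') (by rw [Preadditive.sub_comp, hz, hz', sub_zero]) =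
      cocyc f I W z hz - cocyc f I W z' hz' := by
  refine (cocyc_eq f I W _ _ ((pushCx f I).liftCycles (tauX f I W 0 z) 1 (by simp)
    (tau_cocycle f I W z hz) - (pushCx f I).liftCycles (tauX f I W 0 z') 1 (by simp)
    (tau_cocycle f I W z' hz')) ?_).trans ?_
  · rw [Preadditive.sub_comp, liftCycles_i, liftCycles_i]
    have h := tauX_add f I W 0 (z - z') z'
    rw [sub_add_cancel] at h
    rw [h, add_sub_cancel_right]
  · unfold cocyc
    rw [Preadditive.sub_comp]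

/-- cocycles differing by a coboundary have the same class -/
lemma cocyc_eq_of_sub_eq (W : D) (z z' : ModSite.freeOn O_C (f.fn.obj W) ⟶ I.X 0)
    (hz : z ≫ I.d 0 1 = 0) (hz' : z' ≫ I.d 0 1 = 0)
    (y : ModSite.freeOn O_C (f.fn.obj W) ⟶ I.X (-1)) (h : z - z' = y ≫ I.d (-1) 0) :
    cocyc f I W z hz = cocyc f I W z' hz' := by
  have h1 := cocyc_sub f I W z z' hz hz'
  rw [cocyc_congr f I W h, cocyc_boundary] at h1
  exact (sub_eq_zero.1 h1.symm)

/-- every section of `H⁰(f_* I)` is locally the class of a cocycle -/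
theorem exists_local_cocycle (V : D) (b : ModSite.freeOn O_D V ⟶ (pushCx f I).homology 0) :
    ∃ S ∈ K V, ∀ ⦃W : D⦄ (h : W ⟶ V), S h →
      ∃ (z : ModSite.freeOn O_C (f.fn.obj W) ⟶ I.X 0) (hz : z ≫ I.d 0 1 = 0),
        cocyc f I W z hz = frMap O_D h ≫ b := by
  obtain ⟨P', π, hπ, z', hz'⟩ :=
    surjective_up_to_refinements_of_epi ((pushCx f I).homologyπ 0) b
  obtain ⟨S, hS, hlift⟩ := exists_local_lift O_D π
  refine ⟨S, hS, ?_⟩
  intro W h hh
  obtain ⟨t, ht⟩ := hlift h hh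
  let y : ModSite.freeOn O_D W ⟶ (pushCx f I).X 0 := t ≫ z' ≫ (pushCx f I).iCycles 0
  have hy : y ≫ (pushCx f I).d 0 1 = 0 := by
    simp only [y, Category.assoc, iCycles_d, comp_zero]
  let z := (tauX f I W 0).symm y
  have hτ : tauX f I W 0 z = y := Equiv.apply_symm_apply _ _
  have hz : z ≫ I.d 0 1 = 0 := by
    apply (tauX f I W 1).injective
    rw [← tauX_d, hτ, tauX_zero]
    exact hy
  refine ⟨z, hz, ?_⟩
  refine (cocyc_eq f I W z hz (t ≫ z') ?_).trans ?_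
  · rw [hτ, Category.assoc]
  · rw [Category.assoc, ← hz', ← Category.assoc, ht]

/-- a cocycle whose class in `H⁰(f_* I)` vanishes is locally a coboundary -/
theorem exists_local_bounding (W : D) (z : ModSite.freeOn O_C (f.fn.obj W) ⟶ I.X 0)
    (hz : z ≫ I.d 0 1 = 0) (h0 : cocyc f I W z hz = 0) :
    ∃ S ∈ K W, ∀ ⦃W' : D⦄ (h : W' ⟶ W), S h →
      ∃ y : ModSite.freeOn O_C (f.fn.obj W') ⟶ I.X (-1),
        frMap O_C (f.fn.map h) ≫ z = y ≫ I.d (-1) 0 := by
  obtain ⟨P₂, π₂, hπ₂, y₂, hy₂⟩ :=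
    (CokernelCofork.IsColimit.comp_π_eq_zero_iff_up_to_refinements
      ((pushCx f I).homologyIsCokernel (-1) 0 (by simp)) _).1 h0
  have hy' : π₂ ≫ tauX f I W 0 z = y₂ ≫ (pushCx f I).d (-1) 0 := by
    have := hy₂ =≫ (pushCx f I).iCycles 0
    simpa [cocyc] using this
  obtain ⟨S, hS, hlift⟩ := exists_local_lift O_D π₂
  refine ⟨S, hS, ?_⟩
  intro W' h hh
  obtain ⟨t, ht⟩ := hlift h hh
  refine ⟨(tauX f I W' (-1)).symm (t ≫ y₂), ?_⟩
  apply (tauX f I W' 0).injective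
  rw [tauX_map, ← tauX_d, Equiv.apply_symm_apply, ← ht, Category.assoc, hy', Category.assoc]

end Cocyc

end Groth.Agent.Helper3.RTr
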