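import Groth.Agent.Lib.Helper3.RTr3

/-!
# A local criterion for a morphism of K-injective complexes to induce an isomorphism on the
cohomology sheaves of the direct image complexes
-/

set_option autoImplicit false
universe w u

open CategoryTheory Limits Opposite HomologicalComplex DerivedCategory

namespace Groth.Agent.Helper3.RTr

open Groth.Agent.Helper3.ModLim Groth.Agent.Helper6.DRef

section Free

variable {C : Type u} [SmallCategory C] {J : GrothendieckTopology C}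
  (O : Sheaf J CommRingCat.{u})

lemma frMap_comp {U V W : C} (k : W ⟶ V) (h : V ⟶ U) :
    frMap O (k ≫ h) = frMap O k ≫ frMap O h := by
  apply (sec O W _).injective
  rw [sec_map_comp]
  unfold frMap
  rw [Equiv.apply_symm_apply, Equiv.apply_symm_apply, op_comp,
    PresheafOfModules.map_comp_apply]

lemma eq_zero_of_frMap_comp {V : C} {M : ModSite.Mod O} (b : ModSite.freeOn O V ⟶ M)
    {ι : Type u} (Y : ι → C) (g : ∀ i, Y i ⟶ V) (hcov : Sieve.ofArrows Y g ∈ J V)
    (h : ∀ i, frMap O (g i) ≫ b = 0) : b = 0 := by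
  apply (sec O V M).injective
  rw [sec_zero]
  refine eq_zero_of_locally_zero O M _ _ hcov ?_
  intro W k hk
  obtain ⟨i, c, rfl⟩ := (Sieve.mem_ofArrows_iff Y g k).1 hk
  rw [op_comp, PresheafOfModules.map_comp_apply, ← sec_map_comp, h i, sec_zero]
  exact map_zero _

end Free

variable {C : Type u} [SmallCategory C] {J : GrothendieckTopology C}
  {D : Type u} [SmallCategory D] {K : GrothendieckTopology D}
  {O_C : Sheaf J CommRingCat.{u}} {O_D : Sheaf K CommRingCat.{u}} (f : ModSite.RMor O_C O_D)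
  [HasDerivedCategory.{w} (ModSite.Mod O_C)]
  {I I' : CochainComplex (ModSite.Mod O_C) ℤ} (ψ : I ⟶ I')

/-- objects `W` of the target site such that `ψ` induces a bijection on maps out of
`j_{u(W)!}O[0]` in the derived category -/
def IsBij (W : D) : Prop :=
  Function.Bijective (fun ξ : Q.obj (sgl (ModSite.freeOn O_C (f.fn.obj W))) ⟶ Q.obj I =>
    ξ ≫ Q.map ψ)

/-- the sieve of arrows over which `b` is the class of a cocycle whose image is a coboundary -/
def killSieve {V : D} (b : ModSite.freeOn O_D V ⟶ (pushCx f I).homology 0) : Sieve V where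
  arrows W h := ∃ (z : ModSite.freeOn O_C (f.fn.obj W) ⟶ I.X 0) (hz : z ≫ I.d 0 1 = 0),
    cocyc f I W z hz = frMap O_D h ≫ b ∧
      ∃ y : ModSite.freeOn O_C (f.fn.obj W) ⟶ I'.X (-1), z ≫ ψ.f 0 = y ≫ I'.d (-1) 0
  downward_closed := by
    rintro W W' h ⟨z, hz, h1, y, hy⟩ k
    refine ⟨frMap O_C (f.fn.map k) ≫ z, by rw [Category.assoc, hz, comp_zero], ?_, ?_⟩
    · rw [cocyc_map f I W z hz k, h1, frMap_comp, Category.assoc]
    · exact ⟨frMap O_C (f.fn.map k) ≫ y, by rw [Category.assoc, hy, Category.assoc]⟩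

omit [HasDerivedCategory.{w} (ModSite.Mod O_C)] in
lemma killSieve_mem {V : D} (b : ModSite.freeOn O_D V ⟶ (pushCx f I).homology 0)
    (hb : b ≫ homologyMap ((TotRD.FC f.push).map ψ) 0 = 0) : killSieve f ψ b ∈ K V := by
  obtain ⟨S, hS, hloc⟩ := exists_local_cocycle f I V b
  refine K.transitive hS _ ?_
  intro W h hh
  obtain ⟨z, hz, hc⟩ := hloc h hh
  have h0 : cocyc f I' W (z ≫ ψ.f 0)
      (by rw [Category.assoc, ψ.comm, reassoc_of% hz, zero_comp]) = 0 := by
    rw [cocyc_postcomp f ψ W z hz, hc, Category.assoc, hb, comp_zero]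
  obtain ⟨S', hS', hbd⟩ := exists_local_bounding f I' W _ _ h0
  refine K.superset_covering ?_ hS'
  intro W' k hk
  obtain ⟨y, hy⟩ := hbd k hk
  refine ⟨frMap O_C (f.fn.map k) ≫ z, by rw [Category.assoc, hz, comp_zero], ?_, y, ?_⟩
  · rw [cocyc_map f I W z hz k, hc, frMap_comp, Category.assoc]
  · rw [Category.assoc, hy]

variable [I.IsKInjective] [I'.IsKInjective]

/-- injectivity on sections over an object all of whose covering sieves contain a covering
family of objects where `ψ` induces bijections -/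
theorem eq_zero_of_comp_homologyMap (V : D)
    (hgood : ∀ T ∈ K V, ∃ (ι : Type u) (Y : ι → D) (g : ∀ i, Y i ⟶ V),
      (∀ i, T.arrows (g i)) ∧ Sieve.ofArrows Y g ∈ K V ∧ ∀ i, IsBij f ψ (Y i))
    (b : ModSite.freeOn O_D V ⟶ (pushCx f I).homology 0)
    (hb : b ≫ homologyMap ((TotRD.FC f.push).map ψ) 0 = 0) : b = 0 := by
  obtain ⟨ι, Y, g, hg, hcov, hbij⟩ := hgood _ (killSieve_mem f ψ b hb)
  refine eq_zero_of_frMap_comp O_D b Y g hcov ?_
  intro i
  obtain ⟨z, hz, hc, y, hy⟩ := hg i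
  rw [← hc]
  have h1 : Q.map (ofCycle z hz) ≫ Q.map ψ = 0 := by
    rw [← Functor.map_comp, ofCycle_comp, ofCycle_congr hy, Q_map_ofCycle_boundary]
  have h2 : Q.map (ofCycle z hz) = 0 := by
    apply (hbij i).1
    change Q.map (ofCycle z hz) ≫ Q.map ψ = 0 ≫ Q.map ψ
    rw [h1, zero_comp]
  obtain ⟨y', hy'⟩ := exists_bounding z hz h2
  rw [cocyc_congr f I (Y i) hy', cocyc_boundary]

/-- local surjectivity over such an object -/
theorem exists_local_preimage (V : D)
    (hgood : ∀ T ∈ K V, ∃ (ι : Type u) (Y : ι → D) (g : ∀ i, Y i ⟶ V),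
      (∀ i, T.arrows (g i)) ∧ Sieve.ofArrows Y g ∈ K V ∧ ∀ i, IsBij f ψ (Y i))
    (b' : ModSite.freeOn O_D V ⟶ (pushCx f I').homology 0) :
    ∃ (ι : Type u) (Y : ι → D) (g : ∀ i, Y i ⟶ V), Sieve.ofArrows Y g ∈ K V ∧
      ∀ i, ∃ b : ModSite.freeOn O_D (Y i) ⟶ (pushCx f I).homology 0,
        b ≫ homologyMap ((TotRD.FC f.push).map ψ) 0 = frMap O_D (g i) ≫ b' := by
  obtain ⟨S, hS, hloc⟩ := exists_local_cocycle f I' V b'
  obtain ⟨ι, Y, g, hg, hcov, hbij⟩ := hgood S hS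
  refine ⟨ι, Y, g, hcov, fun i => ?_⟩
  obtain ⟨z', hz', hc'⟩ := hloc (g i) (hg i)
  obtain ⟨ξ, hξ⟩ := (hbij i).2 (Q.map (ofCycle z' hz'))
  replace hξ : ξ ≫ Q.map ψ = Q.map (ofCycle z' hz') := hξ
  obtain ⟨z, hz, hzξ⟩ := exists_cocycle_repr ξ
  have hz2 : (z ≫ ψ.f 0) ≫ I'.d 0 1 = 0 := by
    rw [Category.assoc, ψ.comm, reassoc_of% hz, zero_comp]
  have h1 : Q.map (ofCycle (z ≫ ψ.f 0) hz2) = Q.map (ofCycle z' hz') := by
    rw [← hξ, ← hzξ, ← Functor.map_comp, ofCycle_comp]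
  have h2 : Q.map (ofCycle (z ≫ ψ.f 0 - z')
      (by rw [Preadditive.sub_comp, hz2, hz', sub_zero])) = 0 := by
    rw [ofCycle_sub _ _ hz2 hz', Functor.map_sub, h1, sub_self]
  obtain ⟨y, hy⟩ := exists_bounding _ _ h2
  refine ⟨cocyc f I (Y i) z hz, ?_⟩
  rw [← cocyc_postcomp f ψ (Y i) z hz, ← hc']
  exact cocyc_eq_of_sub_eq f I' (Y i) _ _ hz2 hz' y hy

end Groth.Agent.Helper3.RTr
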