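import Mathlib
import Groth.Agent.Lib.Helper3.TotRD2
import Groth.Agent.Lib.Helper3.TrLim1
import Groth.Prelude.Def_CohCx

/-!
# Total right derived functors and the truncation tower
-/

set_option autoImplicit false
universe w w' v v' u u'

open CategoryTheory Limits Pretriangulated DerivedCategory

namespace Groth.Agent.Helper3.TotRD

open Groth.Agent.Helper3.TrLim

section Gen

variable {A : Type u} [Category.{v} A] [Abelian A] [IsGrothendieckAbelian.{v} A]
  [HasDerivedCategory.{w} A] [HasInjectiveResolutions A]
  {B : Type u'} [Category.{v'} B] [Abelian B] [HasDerivedCategory.{w'} B]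
  (F : A ⥤ B) [F.Additive]
  (RF : DerivedCategory A ⥤ DerivedCategory B) (α : FKh F ⟶ DerivedCategory.Qh ⋙ RF)
  [RF.IsRightDerivedFunctor α (HomotopyCategory.quasiIso A (ComplexShape.up ℤ))]

include F α in
/-- if `T` is distinguished and `Hʲ(RF T₁) = 0 = H^{j+1}(RF T₁)` then `Hʲ(RF T₂) ≅ Hʲ(RF T₃)` -/
lemma isIso_homology_rf_mor₂ (T : Triangle (DerivedCategory A))
    (hT : T ∈ distTriang (DerivedCategory A)) (j : ℤ)
    (h1 : IsZero ((homologyFunctor B j).obj (RF.obj T.obj₁)))
    (h2 : IsZero ((homologyFunctor B (j + 1)).obj (RF.obj T.obj₁))) :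
    IsIso ((homologyFunctor B j).map (RF.map T.mor₂)) := by
  obtain ⟨c, hc⟩ := exists_distinguished_rf F RF α T hT
  haveI : Mono ((homologyFunctor B j).map (RF.map T.mor₂)) :=
    (HomologySequence.mono_homologyMap_mor₂_iff _ hc j).2 (h1.eq_of_src _ _)
  haveI : Epi ((homologyFunctor B j).map (RF.map T.mor₂)) :=
    (HomologySequence.epi_homologyMap_mor₂_iff _ hc j (j + 1) rfl).2 (h2.eq_of_tgt _ _)
  exact isIso_of_mono_of_epi _

include F α in
/-- one step of the truncation tower -/
theorem isIso_homology_rf_step (E : DerivedCategory A) (a b : ℤ) (hb : a + 1 = b) (j : ℤ)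
    (hz : ∀ k : ℕ, (j = a + k ∨ j + 1 = a + k) →
      IsZero ((F.rightDerived k).obj ((homologyFunctor A a).obj E))) :
    IsIso ((homologyFunctor B j).map
      (RF.map (((tS (A := A)).natTransTruncGEOfLE a b (by omega)).app E))) := by
  subst hb
  obtain ⟨e⟩ := nonempty_iso_single E a
  have hT := triangle_distinguished E a (a + 1) (by omega)
  refine isIso_homology_rf_mor₂ F RF α _ hT j ?_ ?_
  · refine IsZero.of_iso (isZero_homology_rf_single F RF α _ a j (fun k hk => hz k (Or.inl hk)))
      ((homologyFunctor B j).mapIso (RF.mapIso e))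
  · refine IsZero.of_iso (isZero_homology_rf_single F RF α _ a (j + 1)
      (fun k hk => hz k (Or.inr hk))) ((homologyFunctor B (j + 1)).mapIso (RF.mapIso e))

end Gen

section Tower

variable {A : Type (u + 1)} [Category.{u} A] [Abelian A] [IsGrothendieckAbelian.{u} A]
  [HasDerivedCategory.{w} A] [HasInjectiveResolutions A]
  {B : Type u'} [Category.{v'} B] [Abelian B] [HasDerivedCategory.{w'} B]
  (F : A ⥤ B) [F.Additive]
  (RF : DerivedCategory A ⥤ DerivedCategory B) (α : FKh F ⟶ DerivedCategory.Qh ⋙ RF)
  [RF.IsRightDerivedFunctor α (HomotopyCategory.quasiIso A (ComplexShape.up ℤ))]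

include F α in
/-- the transition maps of the truncation tower induce isomorphisms on `Hʲ(RF -)` for
`j ≥ N - n` when `RᵏF` vanishes for `k > N` on the cohomology objects -/
theorem isIso_homology_rf_truncTowerMap (E : DerivedCategory A) (N : ℤ)
    (hN : ∀ (q : ℤ) (k : ℕ), N < k →
      IsZero ((F.rightDerived k).obj ((homologyFunctor A q).obj E)))
    (n : ℕ) (j : ℤ) (hj : N - n ≤ j) :
    IsIso ((homologyFunctor B j).map (RF.map (CohCx.truncTowerMap E n))) := by
  refine isIso_homology_rf_step F RF α E (-((n + 1 : ℕ) : ℤ)) (-(n : ℤ)) (by push_cast; omega) j ?_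
  intro k hk
  refine hN _ k ?_
  push_cast at hk
  omega

include F α in
theorem isIso_homology_rf_transition (E : DerivedCategory A) (N : ℤ)
    (hN : ∀ (q : ℤ) (k : ℕ), N < k →
      IsZero ((F.rightDerived k).obj ((homologyFunctor A q).obj E)))
    (n : ℕ) (j : ℤ) (hj : N - n ≤ j) (k : ℕ) :
    IsIso ((homologyFunctor B j).map (RF.map
      (CohCx.transition (CohCx.truncTower E) (CohCx.truncTowerMap E) n k))) := by
  induction k with
  | zero =>
    change IsIso ((homologyFunctor B j).map (RF.map (𝟙 _)))
    rw [CategoryTheory.Functor.map_id, CategoryTheory.Functor.map_id]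
    infer_instance
  | succ k ih =>
    change IsIso ((homologyFunctor B j).map (RF.map
      (CohCx.truncTowerMap E (n + k) ≫
        CohCx.transition (CohCx.truncTower E) (CohCx.truncTowerMap E) n k)))
    rw [Functor.map_comp, Functor.map_comp]
    haveI := isIso_homology_rf_truncTowerMap F RF α E N hN (n + k) j (by push_cast; omega)
    infer_instance

omit [IsGrothendieckAbelian.{u} A] [HasInjectiveResolutions A] in
lemma toTruncTower_transition (E : DerivedCategory A) (n k : ℕ) :
    CohCx.toTruncTower E (n + k) ≫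
      CohCx.transition (CohCx.truncTower E) (CohCx.truncTowerMap E) n k =
      CohCx.toTruncTower E n := by
  induction k with
  | zero => exact Category.comp_id _
  | succ k ih =>
    change CohCx.toTruncTower E (n + k + 1) ≫ (CohCx.truncTowerMap E (n + k) ≫
      CohCx.transition (CohCx.truncTower E) (CohCx.truncTowerMap E) n k) = _
    rw [← Category.assoc]
    have h : CohCx.toTruncTower E (n + k + 1) ≫ CohCx.truncTowerMap E (n + k) =
        CohCx.toTruncTower E (n + k) :=
      (tS (A := A)).π_natTransTruncGEOfLE_app _ _ _ E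
    rw [h, ih]

end Tower

end Groth.Agent.Helper3.TotRD
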