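import Groth.Agent.Lib.Helper3.RTr4
import Groth.Agent.Lib.Helper3.TotRD3
import Groth.Agent.Lib.Helper3.ModGroth
import Groth.Agent.Lib.Helper3.ModLimW2

/-!
# The local criterion in the derived category: maps out of `j_{u(W)!}O[0]` control the cohomology
sheaves of the derived direct image
-/

set_option autoImplicit false
universe w w' u

open CategoryTheory Limits Opposite HomologicalComplex DerivedCategory

namespace Groth.Agent.Helper3.RTr

open Groth.Agent.Helper3.ModLim Groth.Agent.Helper6.DRef Groth.Agent.Helper3.TotRD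

section Gen

variable {T : Type*} [Category T]

lemma bijective_postcomp_iff_of_isos {P X X' Y Y' : T} (κ : X ⟶ X') (ψ : Y ⟶ Y')
    (E : X ≅ Y) (E' : X' ≅ Y') (h : κ ≫ E'.hom = E.hom ≫ ψ) :
    Function.Bijective (fun ξ : P ⟶ X => ξ ≫ κ) ↔ Function.Bijective (fun ξ : P ⟶ Y => ξ ≫ ψ) := by
  let a : (P ⟶ X) ≃ (P ⟶ Y) :=
    { toFun := fun ξ => ξ ≫ E.hom
      invFun := fun ξ => ξ ≫ E.inv
      left_inv := fun ξ => by simp
      right_inv := fun ξ => by simp }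
  let a' : (P ⟶ X') ≃ (P ⟶ Y') :=
    { toFun := fun ξ => ξ ≫ E'.hom
      invFun := fun ξ => ξ ≫ E'.inv
      left_inv := fun ξ => by simp
      right_inv := fun ξ => by simp }
  have hsq : (fun ξ : P ⟶ Y => ξ ≫ ψ) ∘ a = a' ∘ (fun ξ : P ⟶ X => ξ ≫ κ) := by
    funext ξ
    change (ξ ≫ E.hom) ≫ ψ = (ξ ≫ κ) ≫ E'.hom
    rw [Category.assoc, Category.assoc, h]
  constructor
  · intro hb
    have h1 : Function.Bijective ((fun ξ : P ⟶ Y => ξ ≫ ψ) ∘ a) := by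
      rw [hsq]; exact a'.bijective.comp hb
    exact (Function.Bijective.of_comp_iff _ a.bijective).1 h1
  · intro hb
    have h1 : Function.Bijective (a' ∘ (fun ξ : P ⟶ X => ξ ≫ κ)) := by
      rw [← hsq]; exact hb.comp a.bijective
    exact (Function.Bijective.of_comp_iff' a'.bijective _).1 h1

end Gen

variable {C : Type u} [SmallCategory C] {J : GrothendieckTopology C}
  {D : Type u} [SmallCategory D] {K : GrothendieckTopology D}
  {O_C : Sheaf J CommRingCat.{u}} {O_D : Sheaf K CommRingCat.{u}} (f : ModSite.RMor O_C O_D)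
  [HasDerivedCategory.{w} (ModSite.Mod O_C)] [HasDerivedCategory.{w'} (ModSite.Mod O_D)]
  (RF : DerivedCategory (ModSite.Mod O_C) ⥤ DerivedCategory (ModSite.Mod O_D))
  (α : FKh f.push ⟶ DerivedCategory.Qh ⋙ RF)
  [RF.IsRightDerivedFunctor α (HomotopyCategory.quasiIso (ModSite.Mod O_C) (ComplexShape.up ℤ))]

section Repr

variable {X X' : DerivedCategory (ModSite.Mod O_C)} (κ : X ⟶ X')
  {I I' : CochainComplex (ModSite.Mod O_C) ℤ} [I.IsKInjective] [I'.IsKInjective]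
  (e : X ≅ Q.obj I) (e' : X' ≅ Q.obj I') (ψ : I ⟶ I')
  (hψ : κ ≫ e'.hom = e.hom ≫ Q.map ψ) (j : ℤ)

include hψ in
omit [I.IsKInjective] [I'.IsKInjective] in
/-- the bijectivity condition passes to shifted representatives -/
lemma isBij_shift (W : D)
    (h : Function.Bijective (Preadditive.rightComp
      ((ModLimW.sg O_C).obj (ModSite.freeOn O_C (f.fn.obj W))) (κ⟦j⟧') :
        ((ModLimW.sg O_C).obj (ModSite.freeOn O_C (f.fn.obj W)) ⟶ X⟦j⟧) →
          ((ModLimW.sg O_C).obj (ModSite.freeOn O_C (f.fn.obj W)) ⟶ X'⟦j⟧))) :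
    IsBij f (ψ⟦j⟧') W := by
  let E : X⟦j⟧ ≅ Q.obj (I⟦j⟧) :=
    (shiftFunctor _ j).mapIso e ≪≫ ((Q.commShiftIso j).app I).symm
  let E' : X'⟦j⟧ ≅ Q.obj (I'⟦j⟧) :=
    (shiftFunctor _ j).mapIso e' ≪≫ ((Q.commShiftIso j).app I').symm
  have hsq : κ⟦j⟧' ≫ E'.hom = E.hom ≫ Q.map (ψ⟦j⟧') := by
    have h1 := (Q.commShiftIso j).hom.naturality ψ
    have h2 : (Q.map ψ)⟦j⟧' ≫ (Q.commShiftIso j).inv.app I' =
        (Q.commShiftIso j).inv.app I ≫ Q.map (ψ⟦j⟧') := by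
      rw [← cancel_mono ((Q.commShiftIso j).hom.app I'), Category.assoc, Iso.inv_hom_id_app,
        Category.assoc]
      erw [h1]
      rw [Iso.inv_hom_id_app_assoc]
      exact Category.comp_id _
    change κ⟦j⟧' ≫ e'.hom⟦j⟧' ≫ (Q.commShiftIso j).inv.app I' =
      (e.hom⟦j⟧' ≫ (Q.commShiftIso j).inv.app I) ≫ Q.map (ψ⟦j⟧')
    rw [← Category.assoc, ← Functor.map_comp, hψ, Functor.map_comp, Category.assoc, h2,
      Category.assoc]
  exact (bijective_postcomp_iff_of_isos (κ⟦j⟧') (Q.map (ψ⟦j⟧')) E E' hsq).1 h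

include α hψ in
/-- the comparison of `Hʲ(RF κ)` with `H⁰(f_* (ψ⟦j⟧))` -/
lemma exists_isos :
    ∃ (u : (homologyFunctor (ModSite.Mod O_D) j).obj (RF.obj X) ≅ (pushCx f (I⟦j⟧)).homology 0)
      (v : (homologyFunctor (ModSite.Mod O_D) j).obj (RF.obj X') ≅
        (pushCx f (I'⟦j⟧)).homology 0),
      (homologyFunctor (ModSite.Mod O_D) j).map (RF.map κ) ≫ v.hom =
        u.hom ≫ homologyMap ((FC f.push).map (ψ⟦j⟧')) 0 := by
  let G := RF ⋙ homologyFunctor (ModSite.Mod O_D) j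
  let s := shiftHomologyIso f.push j 0 j (add_zero j)
  refine ⟨G.mapIso e ≪≫ hIso f.push RF α I j ≪≫ (s.app I).symm,
    G.mapIso e' ≪≫ hIso f.push RF α I' j ≪≫ (s.app I').symm, ?_⟩
  have h1 : G.map κ ≫ G.map e'.hom = G.map e.hom ≫ G.map (Q.map ψ) := by
    rw [← Functor.map_comp, ← Functor.map_comp, hψ]
  have h2 := hIso_hom_naturality f.push RF α ψ j
  have h3 : homologyMap ((FC f.push).map ψ) j ≫ s.inv.app I' =
      s.inv.app I ≫ homologyMap ((FC f.push).map (ψ⟦j⟧')) 0 := s.inv.naturality ψ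
  change G.map κ ≫ G.map e'.hom ≫ (hIso f.push RF α I' j).hom ≫ s.inv.app I' =
    (G.map e.hom ≫ (hIso f.push RF α I j).hom ≫ s.inv.app I) ≫ _
  rw [reassoc_of% h1]
  change G.map e.hom ≫ (homologyFunctor (ModSite.Mod O_D) j).map (RF.map (Q.map ψ)) ≫ _ ≫ _ = _
  rw [reassoc_of% h2, h3]
  rfl

end Repr

include α in
/-- **The local criterion.**  If over the members of suitable covering families of `V` the
morphism `κ` induces bijections on maps out of `j_{u(W)!}O[0]` into the `j`-th shifts, then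
`Hʲ(RF κ)` is injective on sections over `V`. -/
theorem eq_zero_of_comp_homology_map {X X' : DerivedCategory (ModSite.Mod O_C)} (κ : X ⟶ X')
    (j : ℤ) (V : D)
    (hgood : ∀ T ∈ K V, ∃ (ι : Type u) (Y : ι → D) (g : ∀ i, Y i ⟶ V),
      (∀ i, T.arrows (g i)) ∧ Sieve.ofArrows Y g ∈ K V ∧ ∀ i,
        Function.Bijective (Preadditive.rightComp
          ((ModLimW.sg O_C).obj (ModSite.freeOn O_C (f.fn.obj (Y i)))) (κ⟦j⟧') :
            ((ModLimW.sg O_C).obj (ModSite.freeOn O_C (f.fn.obj (Y i))) ⟶ X⟦j⟧) →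
              ((ModLimW.sg O_C).obj (ModSite.freeOn O_C (f.fn.obj (Y i))) ⟶ X'⟦j⟧)))
    (b : ModSite.freeOn O_D V ⟶ (homologyFunctor (ModSite.Mod O_D) j).obj (RF.obj X))
    (hb : b ≫ (homologyFunctor (ModSite.Mod O_D) j).map (RF.map κ) = 0) : b = 0 := by
  obtain ⟨I, hI, ⟨e⟩⟩ := exists_repr X
  obtain ⟨I', hI', ⟨e'⟩⟩ := exists_repr X'
  haveI := hI
  haveI := hI'
  obtain ⟨ψ, hψ'⟩ := exists_map_repr (e.inv ≫ κ ≫ e'.hom)
  have hψ : κ ≫ e'.hom = e.hom ≫ Q.map ψ := by rw [hψ', Iso.hom_inv_id_assoc]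
  obtain ⟨u, v, huv⟩ := exists_isos f RF α κ e e' ψ hψ j
  have h1 : (b ≫ u.hom) ≫ homologyMap ((FC f.push).map (ψ⟦j⟧')) 0 = 0 := by
    rw [Category.assoc, ← huv, reassoc_of% hb, zero_comp]
  have h2 := eq_zero_of_comp_homologyMap f (ψ⟦j⟧') V (by
    intro T hT
    obtain ⟨ι, Y, g, hg, hcov, hbij⟩ := hgood T hT
    exact ⟨ι, Y, g, hg, hcov, fun i => isBij_shift f κ e e' ψ hψ j (Y i) (hbij i)⟩)
    (b ≫ u.hom) h1
  rw [← cancel_mono u.hom, h2, zero_comp]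

include α in
/-- **The local criterion**, local surjectivity. -/
theorem exists_local_preimage_homology_map {X X' : DerivedCategory (ModSite.Mod O_C)}
    (κ : X ⟶ X') (j : ℤ) (V : D)
    (hgood : ∀ T ∈ K V, ∃ (ι : Type u) (Y : ι → D) (g : ∀ i, Y i ⟶ V),
      (∀ i, T.arrows (g i)) ∧ Sieve.ofArrows Y g ∈ K V ∧ ∀ i,
        Function.Bijective (Preadditive.rightComp
          ((ModLimW.sg O_C).obj (ModSite.freeOn O_C (f.fn.obj (Y i)))) (κ⟦j⟧') :
            ((ModLimW.sg O_C).obj (ModSite.freeOn O_C (f.fn.obj (Y i))) ⟶ X⟦j⟧) →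
              ((ModLimW.sg O_C).obj (ModSite.freeOn O_C (f.fn.obj (Y i))) ⟶ X'⟦j⟧)))
    (b' : ModSite.freeOn O_D V ⟶ (homologyFunctor (ModSite.Mod O_D) j).obj (RF.obj X')) :
    ∃ (ι : Type u) (Y : ι → D) (g : ∀ i, Y i ⟶ V), Sieve.ofArrows Y g ∈ K V ∧
      ∀ i, ∃ b : ModSite.freeOn O_D (Y i) ⟶
          (homologyFunctor (ModSite.Mod O_D) j).obj (RF.obj X),
        b ≫ (homologyFunctor (ModSite.Mod O_D) j).map (RF.map κ) = frMap O_D (g i) ≫ b' := by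
  obtain ⟨I, hI, ⟨e⟩⟩ := exists_repr X
  obtain ⟨I', hI', ⟨e'⟩⟩ := exists_repr X'
  haveI := hI
  haveI := hI'
  obtain ⟨ψ, hψ'⟩ := exists_map_repr (e.inv ≫ κ ≫ e'.hom)
  have hψ : κ ≫ e'.hom = e.hom ≫ Q.map ψ := by rw [hψ', Iso.hom_inv_id_assoc]
  obtain ⟨u, v, huv⟩ := exists_isos f RF α κ e e' ψ hψ j
  obtain ⟨ι, Y, g, hcov, hpre⟩ := exists_local_preimage f (ψ⟦j⟧') V (by
    intro T hT
    obtain ⟨ι, Y, g, hg, hcov, hbij⟩ := hgood T hT
    exact ⟨ι, Y, g, hg, hcov, fun i => isBij_shift f κ e e' ψ hψ j (Y i) (hbij i)⟩)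
    (b' ≫ v.hom)
  refine ⟨ι, Y, g, hcov, fun i => ?_⟩
  obtain ⟨b, hb⟩ := hpre i
  refine ⟨b ≫ u.inv, ?_⟩
  rw [← cancel_mono v.hom, Category.assoc, Category.assoc, huv, Iso.inv_hom_id_assoc, hb,
    Category.assoc]

end Groth.Agent.Helper3.RTr
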