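import Groth.Agent.Lib.Helper3.RTr8

/-!
# `f^* : D_{A'}(O_D) → D_A(O_C)` is an equivalence: cohomological dimension hypothesis on the
target site
-/

set_option autoImplicit false
universe w w' u

open CategoryTheory Limits Opposite DerivedCategory Abelian

namespace Groth.Agent.Helper3.RTr

open Groth.Agent.Helper3.ModLim Groth.Agent.Helper3.TotRD Groth.Agent.Helper3.CohWayOut

section HU

variable {C : Type u} [SmallCategory C] {J : GrothendieckTopology C}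
  (O : Sheaf J CommRingCat.{u}) [HasDerivedCategory.{w} (ModSite.Mod O)]

lemma subsingleton_HU_of_iso {M N : ModSite.Mod O} (e : M ≅ N) (W : C) (k : ℕ)
    (h : Subsingleton (ModSite.HU O M k W)) : Subsingleton (ModSite.HU O N k W) := by
  rw [subsingleton_HU_iff_hom] at h ⊢
  let i : ((singleFunctor (ModSite.Mod O) 0).obj N)⟦(k : ℤ)⟧ ≅
      ((singleFunctor (ModSite.Mod O) 0).obj M)⟦(k : ℤ)⟧ :=
    (shiftFunctor _ (k : ℤ)).mapIso ((singleFunctor (ModSite.Mod O) 0).mapIso e.symm)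
  constructor
  intro a b
  have := h.elim (a ≫ i.hom) (b ≫ i.hom)
  exact (cancel_mono i.hom).1 this

end HU

variable {C : Type u} [SmallCategory C] {J : GrothendieckTopology C}
  {D : Type u} [SmallCategory D] {K : GrothendieckTopology D}
  {O_C : Sheaf J CommRingCat.{u}} {O_D : Sheaf K CommRingCat.{u}} (f : ModSite.RMor O_C O_D)
  [PreservesFiniteLimits f.pull]
  [HasDerivedCategory.{w} (ModSite.Mod O_C)] [HasDerivedCategory.{w'} (ModSite.Mod O_D)]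
  (RF : DerivedCategory (ModSite.Mod O_C) ⥤ DerivedCategory (ModSite.Mod O_D))
  (α : FKh f.push ⟶ DerivedCategory.Qh ⋙ RF)
  [RF.IsRightDerivedFunctor α (HomotopyCategory.quasiIso (ModSite.Mod O_C) (ComplexShape.up ℤ))]
  (adj : f.pull.mapDerivedCategory ⊣ RF)
  (A : ObjectProperty (ModSite.Mod O_C)) [WSerre.IsWeakSerre A]
  (A' : ObjectProperty (ModSite.Mod O_D)) [WSerre.IsWeakSerre A']

include α in
theorem s9070_main
    (h2a : ∀ F' : ModSite.Mod O_D, A' F' → A (f.pull.obj F'))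
    (h2c : ∀ F : ModSite.Mod O_C, A F → ∃ F' : ModSite.Mod O_D, A' F' ∧
      Nonempty (f.pull.obj F' ≅ F))
    (h3 : ∀ F' : ModSite.Mod O_D, A' F' →
      IsIso (adj.unit.app ((singleFunctor (ModSite.Mod O_D) 0).obj F')))
    (B : Set C) (B' : Set D)
    (hB : ∀ U : C, ∃ (ι : Type u) (Y : ι → C) (g : ∀ i, Y i ⟶ U),
      Sieve.ofArrows Y g ∈ J U ∧ ∀ i, Y i ∈ B)
    (hA : ∀ V ∈ B, ∃ d : ℕ, ∀ T ∈ J V, ∃ (ι : Type u) (Y : ι → C) (g : ∀ i, Y i ⟶ V),
      (∀ i, T.arrows (g i)) ∧ Sieve.ofArrows Y g ∈ J V ∧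
      ∀ (i : ι) (F : ModSite.Mod O_C), A F → ∀ k : ℕ, d < k →
        Subsingleton (ModSite.HU O_C F k (Y i)))
    (hB' : ∀ U : D, ∃ (ι : Type u) (Y : ι → D) (g : ∀ i, Y i ⟶ U),
      Sieve.ofArrows Y g ∈ K U ∧ ∀ i, Y i ∈ B')
    (hA' : ∀ V ∈ B', ∃ d : ℕ, ∀ T ∈ K V, ∃ (ι : Type u) (Y : ι → D) (g : ∀ i, Y i ⟶ V),
      (∀ i, T.arrows (g i)) ∧ Sieve.ofArrows Y g ∈ K V ∧
      ∀ (i : ι) (F : ModSite.Mod O_D), A' F → ∀ k : ℕ, d < k →
        Subsingleton (ModSite.HU O_D F k (Y i))) :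
    (∀ Y : DerivedCategory (ModSite.Mod O_D), WSerre.cohIn A' Y →
      WSerre.cohIn A (f.pull.mapDerivedCategory.obj Y) ∧ IsIso (adj.unit.app Y)) ∧
    (∀ X : DerivedCategory (ModSite.Mod O_C), WSerre.cohIn A X →
      WSerre.cohIn A' (RF.obj X) ∧ IsIso (adj.counit.app X)) := by
  have hplus := AdjEquivPlus.equiv_plus adj A A' h2a h2c h3
  refine s9080_main f RF α adj A A' h2a h2c h3 B B' hB hA hB' ?_
  intro V hV
  obtain ⟨d, hd⟩ := hA' V hV
  refine ⟨d, fun T hT => ?_⟩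
  obtain ⟨ι, Y, g, hg, hcov, hvan⟩ := hd T hT
  refine ⟨ι, Y, g, hg, hcov, fun i F hF k hk => ?_⟩
  obtain ⟨F', hF', ⟨e⟩⟩ := h2c F hF
  refine subsingleton_HU_of_iso O_C e _ k ?_
  refine subsingleton_HU_pull f adj (Y i) F' k ?_ (hvan i F' hF' k hk)
  refine (hplus.1 _ ⟨cohIn_shift A' _ _ (cohIn_single A' F' hF'), -(k : ℤ), ?_⟩).2
  exact (DerivedCategory.TStructure.t).isGE_shift _ 0 (k : ℤ) (-(k : ℤ)) (by omega)

end Groth.Agent.Helper3.RTr
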