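import Mathlib
import Groth.Prelude.Def_DRing2
import Groth.Agent.Lib.Helper5.DRing.Classes
import Groth.Agent.Lib.Helper8.ABS15

set_option autoImplicit false
universe u
open CategoryTheory CategoryTheory.Limits

attribute [local instance] HasDerivedCategory.standard

namespace Groth.Agent.Helper3.RegPerf

variable {R : Type u} [CommRing R]

/-- a finite projective module placed in degree 0 is perfect -/
lemma perfect_single (P : ModuleCat.{u} R) [Module.Finite R P] [Module.Projective R P] :
    DRing.IsPerfect R ((DerivedCategory.singleFunctor (ModuleCat.{u} R) 0).obj P) := by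
  refine ⟨(HomologicalComplex.single (ModuleCat.{u} R) (ComplexShape.up ℤ) 0).obj P, 0, 0,
    ?_, ?_, ⟨?_⟩⟩
  · intro i hi
    exact HomologicalComplex.isZero_single_obj_X _ _ _ _ (by omega)
  · intro i
    by_cases hi : i = 0
    · subst hi
      let e := (HomologicalComplex.singleObjXSelf (ComplexShape.up ℤ) 0 P).toLinearEquiv
      exact ⟨Module.Finite.equiv e.symm, Module.Projective.of_equiv e.symm⟩
    · have hz := HomologicalComplex.isZero_single_obj_X (ComplexShape.up ℤ) 0 P i hi
      haveI := ModuleCat.subsingleton_of_isZero hz
      exact ⟨inferInstance, Module.Projective.of_free⟩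
  · exact ((DerivedCategory.singleFunctorIsoCompQ (ModuleCat.{u} R) 0).app P).symm

section Noeth
variable [IsNoetherianRing R]

theorem perfect_of_pdLE (n : ℕ) :
    ∀ (M : Type u) [AddCommGroup M] [Module R M] [Module.Finite R M],
      HasProjectiveDimensionLE (ModuleCat.of R M) n → DRing.IsPerfectModule R M := by
  induction n with
  | zero =>
    intro M _ _ _ h
    have hproj : Projective (ModuleCat.of R M) := projective_iff_hasProjectiveDimensionLT_one.2 h
    haveI : Module.Projective R M := (IsProjective.iff_projective M).2 hproj
    exact perfect_single (ModuleCat.of R M)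
  | succ n ih =>
    intro M _ _ _ h
    obtain ⟨P, _, _, _, _, f, surjf⟩ := Module.exists_finite_presentation R M
    have hS := LinearMap.shortExact_shortComplexKer surjf
    have proj : Projective (f.shortComplexKer).X₂ :=
      ModuleCat.projective_of_categoryTheory_projective _
    have hK : HasProjectiveDimensionLE (ModuleCat.of R (LinearMap.ker f)) n :=
      (hS.hasProjectiveDimensionLT_X₃_iff n proj).1 h
    have h1 : DRing.IsPerfectModule R (LinearMap.ker f) := ih _ hK
    have h2 : DRing.IsPerfectModule R P := perfect_single (ModuleCat.of R P)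
    have hT := hS.singleTriangle_distinguished
    exact (Groth.Agent.Helper5.DRingCone.perfect_two_of_three _ hT).1 h1 h2

/-- the locus where the localization has projective dimension `≤ n` -/
def pdLocus (M : Type u) [AddCommGroup M] [Module R M] (n : ℕ) : Set (PrimeSpectrum R) :=
  {p | HasProjectiveDimensionLE ((ModuleCat.of R M).localizedModule p.asIdeal.primeCompl) n}

lemma pdLocus_zero (M : Type u) [AddCommGroup M] [Module R M] [Module.Finite R M] :
    pdLocus M 0 = Module.freeLocus R M := by
  ext p
  simp only [pdLocus, Set.mem_setOf_eq, Module.mem_freeLocus]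
  let S := p.asIdeal.primeCompl
  let e : Shrink.{u} (LocalizedModule S M) ≃ₗ[Localization.AtPrime p.asIdeal] LocalizedModule S M :=
    Shrink.linearEquiv (Localization.AtPrime p.asIdeal) (LocalizedModule S M)
  constructor
  · intro h
    have hproj : Projective ((ModuleCat.of R M).localizedModule S) :=
      projective_iff_hasProjectiveDimensionLT_one.2 h
    have h1 : Module.Projective (Localization.AtPrime p.asIdeal)
        (Shrink.{u} (LocalizedModule S M)) :=
      (IsProjective.iff_projective (R := Localization.AtPrime p.asIdeal)
        (Shrink.{u} (LocalizedModule S M))).2 hproj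
    haveI : Module.Projective (Localization.AtPrime p.asIdeal) (LocalizedModule S M) :=
      Module.Projective.of_equiv e
    exact Module.free_of_flat_of_isLocalRing
  · intro h
    haveI : Module.Free (Localization.AtPrime p.asIdeal) (LocalizedModule S M) := h
    have h1 : Module.Projective (Localization.AtPrime p.asIdeal)
        (Shrink.{u} (LocalizedModule S M)) :=
      Module.Projective.of_equiv e.symm
    have hproj : Projective ((ModuleCat.of R M).localizedModule S) :=
      (IsProjective.iff_projective (R := Localization.AtPrime p.asIdeal)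
        (Shrink.{u} (LocalizedModule S M))).1 h1
    exact projective_iff_hasProjectiveDimensionLT_one.1 hproj

theorem isOpen_pdLocus (n : ℕ) :
    ∀ (M : Type u) [AddCommGroup M] [Module R M] [Module.Finite R M], IsOpen (pdLocus (R := R) M n) := by
  induction n with
  | zero =>
    intro M _ _ _
    rw [pdLocus_zero]
    haveI : Module.FinitePresentation R M := Module.finitePresentation_of_finite R M
    exact Module.isOpen_freeLocus
  | succ n ih =>
    intro M _ _ _
    obtain ⟨P, _, _, _, _, f, surjf⟩ := Module.exists_finite_presentation R M
    have hS := LinearMap.shortExact_shortComplexKer surjf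
    have proj : Projective (f.shortComplexKer).X₂ :=
      ModuleCat.projective_of_categoryTheory_projective _
    have heq : pdLocus (R := R) M (n + 1) = pdLocus (R := R) (LinearMap.ker f) n := by
      ext p
      have hSp : (f.shortComplexKer.map
          (ModuleCat.localizedModuleFunctor p.asIdeal.primeCompl)).ShortExact :=
        hS.map_of_exact (ModuleCat.localizedModuleFunctor p.asIdeal.primeCompl)
      have projp : Projective (f.shortComplexKer.map
          (ModuleCat.localizedModuleFunctor p.asIdeal.primeCompl)).X₂ :=
        (ModuleCat.localizedModuleFunctor.{u} p.asIdeal.primeCompl).projective_obj_of_projective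
          proj
      exact hSp.hasProjectiveDimensionLT_X₃_iff n projp
    rw [heq]
    exact ih _

lemma pdLocus_mono (M : Type u) [AddCommGroup M] [Module R M] : Monotone (pdLocus (R := R) M) := by
  intro n m hnm p hp
  simp only [pdLocus, Set.mem_setOf_eq] at hp ⊢
  haveI := hp
  exact hasProjectiveDimensionLT_of_ge _ (n + 1) (m + 1) (by omega)

theorem exists_pdLE (hreg : ∀ p : PrimeSpectrum R, IsRegularLocalRing (Localization.AtPrime p.asIdeal))
    (M : Type u) [AddCommGroup M] [Module R M] [Module.Finite R M] :
    ∃ n : ℕ, HasProjectiveDimensionLE (ModuleCat.of R M) n := by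
  have hcover : (Set.univ : Set (PrimeSpectrum R)) ⊆ ⋃ n, pdLocus M n := by
    intro p _
    haveI := hreg p
    obtain ⟨N, -, hN⟩ := Groth.Agent.Helper8.ABS.exists_hasProjectiveDimensionLT_of_regular
      (Localization.AtPrime p.asIdeal) (LocalizedModule p.asIdeal.primeCompl M)
    refine Set.mem_iUnion.2 ⟨N, ?_⟩
    simp only [pdLocus, Set.mem_setOf_eq]
    let e : ((ModuleCat.of R M).localizedModule p.asIdeal.primeCompl) ≅
        ModuleCat.of (Localization.AtPrime p.asIdeal) (LocalizedModule p.asIdeal.primeCompl M) :=
      (Shrink.linearEquiv (Localization p.asIdeal.primeCompl)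
        (LocalizedModule p.asIdeal.primeCompl M)).toModuleIso
    exact hasProjectiveDimensionLT_of_iso e.symm (N + 1)
  obtain ⟨n, hn⟩ := isCompact_univ.elim_directed_cover (pdLocus M)
    (fun n => isOpen_pdLocus n M) hcover (pdLocus_mono M).directed_le
  refine ⟨n, ?_⟩
  rw [ModuleCat.hasProjectiveDimensionLE_iff_forall_primeSpectrum]
  intro p
  exact hn (Set.mem_univ p)

theorem finite_of_perfect (M : Type u) [AddCommGroup M] [Module R M]
    (h : DRing.IsPerfectModule R M) : Module.Finite R M := by
  obtain ⟨E, a, b, hE, hfp, ⟨e⟩⟩ := h
  haveI := (hfp 0).1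
  haveI : IsNoetherian R (E.X 0) := isNoetherian_of_isNoetherianRing_of_finite R _
  haveI : Module.Finite R (E.cycles 0) :=
    Module.Finite.of_injective (E.iCycles 0).hom ((ModuleCat.mono_iff_injective _).1 inferInstance)
  haveI : Module.Finite R (E.homology 0) :=
    Module.Finite.of_surjective (E.homologyπ 0).hom ((ModuleCat.epi_iff_surjective _).1 inferInstance)
  let i1 : ModuleCat.of R M ≅ (DerivedCategory.homologyFunctor (ModuleCat.{u} R) 0).obj (Dual.inD R M) :=
    ((DerivedCategory.singleFunctorCompHomologyFunctorIso (ModuleCat.{u} R) 0).app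
      (ModuleCat.of R M)).symm
  let i2 := (DerivedCategory.homologyFunctor (ModuleCat.{u} R) 0).mapIso e.symm
  let i3 := (DerivedCategory.homologyFunctorFactors (ModuleCat.{u} R) 0).app E
  have hfin : Module.Finite R
      ((HomologicalComplex.homologyFunctor (ModuleCat.{u} R) (ComplexShape.up ℤ) 0).obj E) :=
    inferInstanceAs (Module.Finite R (E.homology 0))
  exact Module.Finite.equiv (i1 ≪≫ i2 ≪≫ i3).toLinearEquiv.symm

theorem main_S6962 (R : Type u) [CommRing R] [IsNoetherianRing R]
    (hreg : ∀ p : PrimeSpectrum R, IsRegularLocalRing (Localization.AtPrime p.asIdeal))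
    (M : Type u) [AddCommGroup M] [Module R M] :
    DRing.IsPerfectModule R M ↔ Module.Finite R M := by
  constructor
  · exact finite_of_perfect M
  · intro _
    obtain ⟨n, hn⟩ := exists_pdLE hreg M
    exact perfect_of_pdLE n M hn

end Noeth

end Groth.Agent.Helper3.RegPerf
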