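import Mathlib
import Groth.Prelude.Def_DRing2
import Groth.Agent.Lib.Helper3.RegPerf
import Groth.Agent.Lib.Helper5.DRing.Classes2

set_option autoImplicit false
universe u
open CategoryTheory CategoryTheory.Limits

attribute [local instance] HasDerivedCategory.standard

namespace Groth.Agent.Helper3.RegPerf2

variable {R : Type u} [CommRing R]

/-- the cohomology of a complex of modules vanishes where the terms vanish -/
lemma subsingleton_HD_of_isZero_X (E : DRing.Cx R) (i : ℤ) (h : IsZero (E.X i)) :
    Subsingleton (Dual.HD R (DRing.toD E) i) := by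
  have hz : IsZero (E.homology i) := by
    have : IsZero (E.sc i).X₂ := h
    exact (E.sc i).exact_iff_isZero_homology.1 ((E.sc i).exact_of_isZero_X₂ this)
  have e := (DerivedCategory.homologyFunctorFactors (ModuleCat.{u} R) i).app E
  exact ModuleCat.subsingleton_of_isZero (hz.of_iso e)

lemma finite_HD_of_finite_X [IsNoetherianRing R] (E : DRing.Cx R) (i : ℤ)
    (h : Module.Finite R (E.X i)) : Module.Finite R (Dual.HD R (DRing.toD E) i) := by
  haveI := h
  haveI : IsNoetherian R (E.X i) := isNoetherian_of_isNoetherianRing_of_finite R _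
  haveI : Module.Finite R (E.cycles i) :=
    Module.Finite.of_injective (E.iCycles i).hom ((ModuleCat.mono_iff_injective _).1 inferInstance)
  haveI : Module.Finite R (E.homology i) :=
    Module.Finite.of_surjective (E.homologyπ i).hom
      ((ModuleCat.epi_iff_surjective _).1 inferInstance)
  let i3 := (DerivedCategory.homologyFunctorFactors (ModuleCat.{u} R) i).app E
  have hfin : Module.Finite R
      ((HomologicalComplex.homologyFunctor (ModuleCat.{u} R) (ComplexShape.up ℤ) i).obj E) :=
    inferInstanceAs (Module.Finite R (E.homology i))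
  exact Module.Finite.equiv i3.toLinearEquiv.symm

theorem main_S7031 (R : Type u) [CommRing R] [IsNoetherianRing R]
    (hreg : ∀ p : PrimeSpectrum R, IsRegularLocalRing (Localization.AtPrime p.asIdeal))
    (K : Dual.D R) :
    DRing.IsPerfect R K ↔
      (∃ a b : ℤ, ∀ i : ℤ, (i < a ∨ b < i) → Subsingleton (Dual.HD R K i)) ∧
        ∀ i : ℤ, Module.Finite R (Dual.HD R K i) := by
  constructor
  · rintro ⟨E, a, b, hE, hfp, ⟨e⟩⟩
    refine ⟨⟨a, b, fun i hi => ?_⟩, fun i => ?_⟩
    · haveI := subsingleton_HD_of_isZero_X E i (hE i hi)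
      exact ((DerivedCategory.homologyFunctor (ModuleCat.{u} R) i).mapIso
        e).toLinearEquiv.symm.subsingleton
    · haveI := finite_HD_of_finite_X E i (hfp i).1
      exact Module.Finite.equiv
        ((DerivedCategory.homologyFunctor (ModuleCat.{u} R) i).mapIso e).toLinearEquiv
  · rintro ⟨⟨a, b, hab⟩, hfin⟩
    refine Groth.Agent.Helper5.DRingCone.perfect_of_homology K a b hab fun i => ?_
    haveI := hfin i
    exact (Groth.Agent.Helper3.RegPerf.main_S6962 R hreg _).2 inferInstance

end Groth.Agent.Helper3.RegPerf2
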