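import Mathlib
import Groth.Prelude.Def_W4c1bouilletffgsL3

set_option autoImplicit false
universe u

namespace Groth.Agent.Helper3.RegSeq9

open Polynomial

/-- `x` is a nonzerodivisor modulo the ideal `J`. -/
def NZD {R : Type*} [CommRing R] (J : Ideal R) (x : R) : Prop := ∀ m, x * m ∈ J → m ∈ J

section general
variable {R : Type*} [CommRing R]

lemma NZD.neg {J : Ideal R} {x : R} (h : NZD J x) : NZD J (-x) := by
  intro m hm
  apply h m
  have : x * m = -((-x) * m) := by ring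
  rw [this]
  exact J.neg_mem hm

lemma NZD.swap {J : Ideal R} {x y : R} (hy : NZD J y) (hx : NZD (J ⊔ Ideal.span {y}) x) :
    NZD (J ⊔ Ideal.span {x}) y := by
  intro m hm
  obtain ⟨j, hj, z, hz, hjz⟩ := Submodule.mem_sup.mp hm
  obtain ⟨n, rfl⟩ := Ideal.mem_span_singleton'.mp hz
  have h1 : x * n ∈ J ⊔ Ideal.span {y} := by
    have : x * n = -j + m * y := by linear_combination hjz
    rw [this]
    exact Submodule.add_mem_sup (J.neg_mem hj) (Ideal.mem_span_singleton'.mpr ⟨m, rfl⟩)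
  obtain ⟨j', hj', z', hz', hjz'⟩ := Submodule.mem_sup.mp (hx n h1)
  obtain ⟨n', rfl⟩ := Ideal.mem_span_singleton'.mp hz'
  have h2 : y * (m - n' * x) ∈ J := by
    have : y * (m - n' * x) = j + j' * x := by
      linear_combination (-1 : R) * hjz - x * hjz'
    rw [this]
    exact J.add_mem hj (J.mul_mem_right _ hj')
  have h3 := hy _ h2
  have : m = (m - n' * x) + n' * x := by ring
  rw [this]
  exact Submodule.add_mem_sup h3 (Ideal.mem_span_singleton'.mpr ⟨n', rfl⟩)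

lemma NZD.swap0 {x y : R} (hy : NZD (⊥ : Ideal R) y) (hx : NZD (Ideal.span {y}) x) :
    NZD (Ideal.span {x}) y := by
  have := NZD.swap (J := ⊥) hy (by rwa [bot_sup_eq])
  rwa [bot_sup_eq] at this

lemma NZD.linear {J : Ideal R} {α : R} (h : NZD J α) (β : R) :
    NZD (J.map (C : R →+* R[X])) (C α * X + C β) := by
  intro P hP
  rw [Ideal.mem_map_C_iff] at hP ⊢
  have key : ∀ d n, P.natDegree < n + d → P.coeff n ∈ J := by
    intro d
    induction d with
    | zero =>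
      intro n hn
      rw [Polynomial.coeff_eq_zero_of_natDegree_lt (by simpa using hn)]
      exact J.zero_mem
    | succ d ih =>
      intro n hn
      have h1 : P.coeff (n + 1) ∈ J := ih (n + 1) (by omega)
      have h2 := hP (n + 1)
      have h3 : ((C α * X + C β) * P).coeff (n + 1) = α * P.coeff n + β * P.coeff (n + 1) := by
        rw [add_mul, Polynomial.coeff_add, mul_assoc, Polynomial.coeff_C_mul,
          Polynomial.coeff_X_mul, Polynomial.coeff_C_mul]
      rw [h3] at h2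
      apply h
      have : α * P.coeff n = (α * P.coeff n + β * P.coeff (n + 1)) - β * P.coeff (n + 1) := by
        ring
      rw [this]
      exact J.sub_mem h2 (J.mul_mem_left _ h1)
  intro n
  exact key (P.natDegree + 1) n (by omega)

lemma NZD.const {J : Ideal R} {α : R} (h : NZD J α) :
    NZD (J.map (C : R →+* R[X])) (C α) := by
  intro P hP
  rw [Ideal.mem_map_C_iff] at hP ⊢
  intro n
  apply h
  have := hP n
  rwa [Polynomial.coeff_C_mul] at this

lemma NZD.linear_bot {α : R} (h : NZD (⊥ : Ideal R) α) (β : R) :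
    NZD (⊥ : Ideal R[X]) (C α * X + C β) := by
  have := h.linear β
  rwa [Ideal.map_bot] at this

lemma NZD.linear_span1 {x α : R} (h : NZD (Ideal.span {x}) α) (β : R) :
    NZD (Ideal.span {C x}) (C α * X + C β) := by
  have := h.linear β
  rwa [Ideal.map_span, Set.image_singleton] at this

lemma NZD.linear_span2 {x y α : R} (h : NZD (Ideal.span {x} ⊔ Ideal.span {y}) α) (β : R) :
    NZD (Ideal.span {C x} ⊔ Ideal.span {C y}) (C α * X + C β) := by
  have := h.linear β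
  rwa [Ideal.map_sup, Ideal.map_span, Ideal.map_span, Set.image_singleton,
    Set.image_singleton] at this

lemma NZD.const_bot {α : R} (h : NZD (⊥ : Ideal R) α) :
    NZD (⊥ : Ideal R[X]) (C α) := by
  have := h.const
  rwa [Ideal.map_bot] at this

lemma NZD.const_span1 {x α : R} (h : NZD (Ideal.span {x}) α) :
    NZD (Ideal.span {C x}) (C α) := by
  have := h.const
  rwa [Ideal.map_span, Set.image_singleton] at this

lemma NZD.const_span2 {x y α : R} (h : NZD (Ideal.span {x} ⊔ Ideal.span {y}) α) :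
    NZD (Ideal.span {C x} ⊔ Ideal.span {C y}) (C α) := by
  have := h.const
  rwa [Ideal.map_sup, Ideal.map_span, Ideal.map_span, Set.image_singleton,
    Set.image_singleton] at this

lemma comap_map_of_retraction {T : Type*} [CommRing T] (Φ : R →+* T) (Ψ : T →+* R)
    (h : ∀ p, Ψ (Φ p) = p) (I : Ideal R) : (I.map Φ).comap Φ = I := by
  have hc : Ψ.comp Φ = RingHom.id R := RingHom.ext h
  apply le_antisymm
  · intro m hm
    have h1 : Ψ (Φ m) ∈ (I.map Φ).map Ψ := Ideal.mem_map_of_mem Ψ hm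
    rw [Ideal.map_map, hc, Ideal.map_id] at h1
    rwa [h] at h1
  · exact Ideal.le_comap_map

lemma NZD.pullback {T : Type*} [CommRing T] (Φ : R →+* T) (Ψ : T →+* R)
    (h : ∀ p, Ψ (Φ p) = p) {I : Ideal R} {r : R} (hn : NZD (I.map Φ) (Φ r)) : NZD I r := by
  intro m hm
  have h1 : Φ m ∈ I.map Φ := hn (Φ m) (by rw [← map_mul]; exact Ideal.mem_map_of_mem Φ hm)
  have h2 : m ∈ (I.map Φ).comap Φ := h1
  rwa [comap_map_of_retraction Φ Ψ h] at h2

lemma smul_top_eq (I : Ideal R) : (I • (⊤ : Submodule R R)) = I := by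
  rw [Ideal.smul_eq_mul, Ideal.mul_top]

lemma isWeaklyRegular_three {r1 r2 r3 : R} (h1 : NZD ⊥ r1) (h2 : NZD (Ideal.span {r1}) r2)
    (h3 : NZD (Ideal.span {r1} ⊔ Ideal.span {r2}) r3) :
    RingTheory.Sequence.IsWeaklyRegular R [r1, r2, r3] := by
  rw [RingTheory.Sequence.isWeaklyRegular_iff]
  intro i hi
  have hi' : i < 3 := by simpa using hi
  rw [isSMulRegular_quotient_iff_mem_of_smul_mem, smul_top_eq]
  interval_cases i
  · simpa [NZD] using h1
  · simpa [NZD] using h2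
  · simpa [NZD] using h3

lemma top_ne_of_hom {A : Type*} [CommRing A] [Nontrivial A] (φ : R →+* A) (rs : List R)
    (h : ∀ r ∈ rs, φ r = 0) : (⊤ : Submodule R R) ≠ Ideal.ofList rs • ⊤ := by
  rw [smul_top_eq]
  intro htop
  have h1 : (1 : R) ∈ Ideal.ofList rs := htop ▸ Submodule.mem_top
  have h2 : Ideal.ofList rs ≤ RingHom.ker φ := by
    rw [Ideal.span_le]
    intro r hr
    exact (RingHom.mem_ker).mpr (h r hr)
  have := h2 h1
  rw [RingHom.mem_ker, map_one] at this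
  exact one_ne_zero this

end general

section vars
variable {σ : Type*} {A : Type*} [CommRing A]

lemma nzd_X (s : Set σ) (j : σ) (hj : j ∉ s) :
    NZD (Ideal.span (MvPolynomial.X '' s : Set (MvPolynomial σ A))) (MvPolynomial.X j) := by
  classical
  intro m hm
  rw [MvPolynomial.mem_ideal_span_X_image] at hm ⊢
  intro μ hμ
  have h1 : Finsupp.single j 1 + μ ∈ (MvPolynomial.X j * m).support := by
    rw [MvPolynomial.mem_support_iff, MvPolynomial.coeff_X_mul]
    exact MvPolynomial.mem_support_iff.mp hμ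
  obtain ⟨i, hi, hne⟩ := hm _ h1
  refine ⟨i, hi, ?_⟩
  have hij : i ≠ j := fun h => hj (h ▸ hi)
  rw [Finsupp.add_apply, Finsupp.single_apply, if_neg (Ne.symm hij), zero_add] at hne
  exact hne

lemma nzd_X0 (j : σ) : NZD (⊥ : Ideal (MvPolynomial σ A)) (MvPolynomial.X j) := by
  have := nzd_X (A := A) (∅ : Set σ) j (by simp)
  simpa using this

lemma nzd_X1 (i j : σ) (h : j ≠ i) :
    NZD (Ideal.span {(MvPolynomial.X i : MvPolynomial σ A)}) (MvPolynomial.X j) := by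
  have := nzd_X (A := A) ({i} : Set σ) j (by simpa using h)
  rwa [Set.image_singleton] at this

lemma nzd_X2 (i k j : σ) (h1 : j ≠ i) (h2 : j ≠ k) :
    NZD (Ideal.span {(MvPolynomial.X i : MvPolynomial σ A)} ⊔ Ideal.span {MvPolynomial.X k})
      (MvPolynomial.X j) := by
  have := nzd_X (A := A) ({i, k} : Set σ) j (by simp [h1, h2])
  rwa [Set.image_pair, Ideal.span_insert] at this

end vars

section generic
variable {B : Type*} [CommRing B]

/-- six elements of a ring with the nonzerodivisor conditions we need. -/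
structure Dat (B : Type*) [CommRing B] where
  (a b d u v w : B)
  hu0 : NZD ⊥ u
  hw0 : NZD ⊥ w
  hv0 : NZD ⊥ v
  huw : NZD (Ideal.span {u}) w
  huv : NZD (Ideal.span {u}) v
  hwv : NZD (Ideal.span {w}) v
  huwv : NZD (Ideal.span {u} ⊔ Ideal.span {w}) v
  hwu : NZD (Ideal.span {w}) u
  hwuv : NZD (Ideal.span {w} ⊔ Ideal.span {u}) v

variable (P : Dat B)

noncomputable abbrev q3 : B[X] := C P.v * X + C (-(P.b * P.w) - P.a * P.u)
noncomputable abbrev q2 : B[X][X] :=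
  C (C P.w) * X + C (C (P.b * P.v - P.u * P.v + P.u * P.d))
noncomputable abbrev Q1' : B[X][X][X] :=
  C (-(C (C P.u))) * X + C (C (C (P.a * P.v + P.d * P.w)))
noncomputable abbrev Q2' : B[X][X][X] := C (q2 P)
noncomputable abbrev Q3' : B[X][X][X] := C (C (q3 P))

lemma F2a : NZD ⊥ (q3 P) := P.hv0.linear_bot _
lemma F2b : NZD (Ideal.span {C P.u}) (q3 P) := P.huv.linear_span1 _
lemma F2c : NZD (Ideal.span {C P.w}) (q3 P) := P.hwv.linear_span1 _
lemma F2d : NZD (Ideal.span {C P.u} ⊔ Ideal.span {C P.w}) (q3 P) := P.huwv.linear_span2 _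
lemma F2e3 : NZD ⊥ (C P.u) := P.hu0.const_bot
lemma F2e5 : NZD ⊥ (C P.w) := P.hw0.const_bot
lemma F2f : NZD (Ideal.span {C P.u}) (C P.w) := P.huw.const_span1
lemma F2g : NZD (Ideal.span {q3 P}) (C P.u) := NZD.swap0 (F2e3 P) (F2b P)
lemma F2h : NZD (Ideal.span {q3 P}) (C P.w) := NZD.swap0 (F2e5 P) (F2c P)
lemma F2i : NZD (Ideal.span {C P.u} ⊔ Ideal.span {q3 P}) (C P.w) :=
  NZD.swap (F2f P) (F2d P)

lemma F3a : NZD ⊥ (q2 P) := (F2e5 P).linear_bot _
lemma F3b : NZD (Ideal.span {C (q3 P)}) (q2 P) := (F2h P).linear_span1 _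
lemma F3c : NZD (Ideal.span {C (C P.u)}) (q2 P) := (F2f P).linear_span1 _
lemma F3d : NZD (Ideal.span {C (C P.u)} ⊔ Ideal.span {C (q3 P)}) (q2 P) :=
  (F2i P).linear_span2 _
lemma F3e : NZD ⊥ (C (C P.u)) := (F2e3 P).const_bot
lemma F3f : NZD (Ideal.span {C (q3 P)}) (C (C P.u)) := (F2g P).const_span1
lemma F3g : NZD (Ideal.span {q2 P}) (C (C P.u)) := NZD.swap0 (F3e P) (F3c P)
lemma F3h : NZD (Ideal.span {C (q3 P)} ⊔ Ideal.span {q2 P}) (C (C P.u)) :=
  NZD.swap (F3f P) (by rw [sup_comm]; exact F3d P)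

lemma G1 : NZD ⊥ (Q1' P) := (F3e P).neg.linear_bot _
lemma G2 : NZD (Ideal.span {Q2' P}) (Q1' P) := (F3g P).neg.linear_span1 _
lemma G3 : NZD (Ideal.span {Q3' P}) (Q1' P) := (F3f P).neg.linear_span1 _
lemma G4 : NZD (Ideal.span {Q3' P} ⊔ Ideal.span {Q2' P}) (Q1' P) := (F3h P).neg.linear_span2 _
lemma G5 : NZD ⊥ (Q2' P) := (F3a P).const_bot
lemma G6 : NZD ⊥ (Q3' P) := (F2a P).const_bot.const_bot
lemma G7 : NZD (Ideal.span {Q3' P}) (Q2' P) := (F3b P).const_span1
lemma H2 : NZD (Ideal.span {Q1' P}) (Q2' P) := NZD.swap0 (G5 P) (G2 P)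
lemma Hb : NZD (Ideal.span {Q1' P}) (Q3' P) := NZD.swap0 (G6 P) (G3 P)
lemma Hc : NZD (Ideal.span {Q3' P} ⊔ Ideal.span {Q1' P}) (Q2' P) := NZD.swap (G7 P) (G4 P)
lemma H3 : NZD (Ideal.span {Q1' P} ⊔ Ideal.span {Q2' P}) (Q3' P) :=
  NZD.swap (Hb P) (by rw [sup_comm]; exact Hc P)

/-- the embedding `B → B[X][X][X]`. -/
noncomputable abbrev iota : B →+* B[X][X][X] :=
  (C : B[X][X] →+* B[X][X][X]).comp ((C : B[X] →+* B[X][X]).comp (C : B →+* B[X]))

lemma K1 : NZD ⊥ (iota (-P.w)) := P.hw0.neg.const_bot.const_bot.const_bot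
lemma K2 : NZD (Ideal.span {iota (-P.w)}) (iota P.u) := by
  have h : NZD (Ideal.span {-P.w}) P.u := by
    rw [Ideal.span_singleton_neg]; exact P.hwu
  exact h.const_span1.const_span1.const_span1
lemma K3 : NZD (Ideal.span {iota (-P.w)} ⊔ Ideal.span {iota P.u}) (iota P.v) := by
  have h : NZD (Ideal.span {-P.w} ⊔ Ideal.span {P.u}) P.v := by
    rw [Ideal.span_singleton_neg]; exact P.hwuv
  exact h.const_span2.const_span2.const_span2

variable {A : Type*} [CommRing A] [Algebra A B]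

/-- The change of variables. -/
noncomputable def Phi : MvPolynomial (Fin 9) A →ₐ[A] B[X][X][X] :=
  MvPolynomial.aeval ![iota P.a, iota P.b, C (C X), iota P.d, C X,
    iota (P.u - P.b), X, iota (P.v - P.d), iota (P.w + P.a)]

noncomputable def Psi (ψ1 : B →ₐ[A] MvPolynomial (Fin 9) A) :
    B[X][X][X] →+* MvPolynomial (Fin 9) A :=
  eval₂RingHom (eval₂RingHom (eval₂RingHom ψ1.toRingHom (MvPolynomial.X 2)) (MvPolynomial.X 4))
    (MvPolynomial.X 6)

/-- the conditions on the retraction. -/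
structure Retr (ψ1 : B →ₐ[A] MvPolynomial (Fin 9) A) : Prop where
  ha : ψ1 P.a = MvPolynomial.X 0
  hb : ψ1 P.b = MvPolynomial.X 1
  hd : ψ1 P.d = MvPolynomial.X 3
  hu : ψ1 P.u = MvPolynomial.X 1 + MvPolynomial.X 5
  hv : ψ1 P.v = MvPolynomial.X 3 + MvPolynomial.X 7
  hw : ψ1 P.w = MvPolynomial.X 8 - MvPolynomial.X 0

variable {P}

lemma Psi_Phi {ψ1 : B →ₐ[A] MvPolynomial (Fin 9) A} (hψ : Retr P ψ1)
    (p : MvPolynomial (Fin 9) A) : Psi ψ1 (Phi (A := A) P p) = p := by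
  have : (Psi ψ1).comp (Phi (A := A) P).toRingHom = RingHom.id _ := by
    apply MvPolynomial.ringHom_ext
    · intro r
      simp [Psi, Phi, Polynomial.algebraMap_apply, MvPolynomial.algebraMap_eq]
    · intro k
      fin_cases k <;> simp [Psi, Phi, hψ.ha, hψ.hb, hψ.hd, hψ.hu, hψ.hv, hψ.hw]
  exact RingHom.congr_fun this p

variable (P)

lemma Phi_Q1 : Phi (A := A) P (Lie3Mod.Q1 A) = Q1' P := by
  simp only [Lie3Mod.Q1, Lie3Mod.va, Lie3Mod.vb, Lie3Mod.vc, Lie3Mod.vd, Lie3Mod.ve, Lie3Mod.vf,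
    Lie3Mod.vg, Lie3Mod.vh, Lie3Mod.vi, Phi, map_sub, map_add, map_mul, map_neg,
    MvPolynomial.aeval_X, Q1']
  simp only [RingHom.comp_apply, map_sub, map_add, map_mul, map_neg]
  simp
  try simp only [map_sub, map_add, map_mul, map_neg]
  ring

lemma Phi_Q2 : Phi (A := A) P (Lie3Mod.Q2 A) = Q2' P := by
  simp only [Lie3Mod.Q2, Lie3Mod.va, Lie3Mod.vb, Lie3Mod.vc, Lie3Mod.vd, Lie3Mod.ve, Lie3Mod.vf,
    Lie3Mod.vg, Lie3Mod.vh, Lie3Mod.vi, Phi, map_sub, map_add, map_mul, map_neg,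
    MvPolynomial.aeval_X, Q2', q2]
  simp only [RingHom.comp_apply, map_sub, map_add, map_mul, map_neg]
  simp
  try simp only [map_sub, map_add, map_mul, map_neg]
  ring

lemma Phi_Q3 : Phi (A := A) P (Lie3Mod.Q3 A) = Q3' P := by
  simp only [Lie3Mod.Q3, Lie3Mod.va, Lie3Mod.vb, Lie3Mod.vc, Lie3Mod.vd, Lie3Mod.ve, Lie3Mod.vf,
    Lie3Mod.vg, Lie3Mod.vh, Lie3Mod.vi, Phi, map_sub, map_add, map_mul, map_neg,
    MvPolynomial.aeval_X, Q3', q3]
  simp only [RingHom.comp_apply, map_sub, map_add, map_mul, map_neg]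
  simp
  try simp only [map_sub, map_add, map_mul, map_neg]
  ring

lemma Phi_L1 : Phi (A := A) P (Lie3Mod.L1 A) = iota (-P.w) := by
  simp only [Lie3Mod.L1, Lie3Mod.va, Lie3Mod.vi, Phi, map_sub, MvPolynomial.aeval_X]
  simp
  ring

lemma Phi_L2 : Phi (A := A) P (Lie3Mod.L2 A) = iota P.u := by
  simp only [Lie3Mod.L2, Lie3Mod.vb, Lie3Mod.vf, Phi, map_add, MvPolynomial.aeval_X]
  simp

lemma Phi_L3 : Phi (A := A) P (Lie3Mod.L3 A) = iota P.v := by
  simp only [Lie3Mod.L3, Lie3Mod.vd, Lie3Mod.vh, Phi, map_add, MvPolynomial.aeval_X]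
  simp

theorem isRegular_generic [Nontrivial A] {ψ1 : B →ₐ[A] MvPolynomial (Fin 9) A}
    (hψ : Retr P ψ1) :
    RingTheory.Sequence.IsRegular (Lie3Mod.D A) [Lie3Mod.L1 A, Lie3Mod.L2 A, Lie3Mod.L3 A] ∧
      RingTheory.Sequence.IsRegular (Lie3Mod.D A)
        [Lie3Mod.Q1 A, Lie3Mod.Q2 A, Lie3Mod.Q3 A] := by
  have hr : ∀ p, Psi ψ1 ((Phi (A := A) P).toRingHom p) = p := fun p => Psi_Phi hψ p
  have pb0 : ∀ r, NZD ⊥ (Phi (A := A) P r) → NZD (⊥ : Ideal (MvPolynomial (Fin 9) A)) r := by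
    intro r h
    refine NZD.pullback (R := MvPolynomial (Fin 9) A) (T := B[X][X][X])
      (Φ := (Phi (A := A) P).toRingHom) (Ψ := Psi ψ1) hr ?_
    rw [Ideal.map_bot]
    exact h
  have pb1 : ∀ r1 r, NZD (Ideal.span {Phi (A := A) P r1}) (Phi (A := A) P r) →
      NZD (Ideal.span {r1}) r := by
    intro r1 r h
    refine NZD.pullback (R := MvPolynomial (Fin 9) A) (T := B[X][X][X])
      (Φ := (Phi (A := A) P).toRingHom) (Ψ := Psi ψ1) hr ?_
    rw [Ideal.map_span, Set.image_singleton]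
    exact h
  have pb2 : ∀ r1 r2 r, NZD (Ideal.span {Phi (A := A) P r1} ⊔ Ideal.span {Phi (A := A) P r2})
      (Phi (A := A) P r) → NZD (Ideal.span {r1} ⊔ Ideal.span {r2}) r := by
    intro r1 r2 r h
    refine NZD.pullback (R := MvPolynomial (Fin 9) A) (T := B[X][X][X])
      (Φ := (Phi (A := A) P).toRingHom) (Ψ := Psi ψ1) hr ?_
    rw [Ideal.map_sup, Ideal.map_span, Ideal.map_span, Set.image_singleton, Set.image_singleton]
    exact h
  constructor
  · refine ⟨isWeaklyRegular_three (pb0 _ ?_) (pb1 _ _ ?_) (pb2 _ _ _ ?_), ?_⟩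
    · rw [Phi_L1]; exact K1 P
    · rw [Phi_L1, Phi_L2]; exact K2 P
    · rw [Phi_L1, Phi_L2, Phi_L3]; exact K3 P
    · apply top_ne_of_hom (MvPolynomial.constantCoeff (R := A) (σ := Fin 9))
      intro r hr
      simp only [List.mem_cons, List.not_mem_nil, or_false] at hr
      rcases hr with rfl | rfl | rfl <;>
        simp [Lie3Mod.L1, Lie3Mod.L2, Lie3Mod.L3, Lie3Mod.va, Lie3Mod.vb, Lie3Mod.vd, Lie3Mod.vf,
          Lie3Mod.vh, Lie3Mod.vi]
  · refine ⟨isWeaklyRegular_three (pb0 _ ?_) (pb1 _ _ ?_) (pb2 _ _ _ ?_), ?_⟩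
    · rw [Phi_Q1]; exact G1 P
    · rw [Phi_Q1, Phi_Q2]; exact H2 P
    · rw [Phi_Q1, Phi_Q2, Phi_Q3]; exact H3 P
    · apply top_ne_of_hom (MvPolynomial.constantCoeff (R := A) (σ := Fin 9))
      intro r hr
      simp only [List.mem_cons, List.not_mem_nil, or_false] at hr
      rcases hr with rfl | rfl | rfl <;>
        simp [Lie3Mod.Q1, Lie3Mod.Q2, Lie3Mod.Q3, Lie3Mod.va, Lie3Mod.vb, Lie3Mod.vc, Lie3Mod.vd,
          Lie3Mod.ve, Lie3Mod.vf, Lie3Mod.vg, Lie3Mod.vh, Lie3Mod.vi]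

end generic

section final
variable (A : Type u) [CommRing A]

noncomputable def stdDat : Dat (MvPolynomial (Fin 6) A) where
  a := MvPolynomial.X 0
  b := MvPolynomial.X 1
  d := MvPolynomial.X 2
  u := MvPolynomial.X 3
  v := MvPolynomial.X 4
  w := MvPolynomial.X 5
  hu0 := nzd_X0 3
  hw0 := nzd_X0 5
  hv0 := nzd_X0 4
  huw := nzd_X1 3 5 (by decide)
  huv := nzd_X1 3 4 (by decide)
  hwv := nzd_X1 5 4 (by decide)
  huwv := nzd_X2 3 5 4 (by decide) (by decide)
  hwu := nzd_X1 5 3 (by decide)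
  hwuv := nzd_X2 5 3 4 (by decide) (by decide)

noncomputable def stdPsi1 : MvPolynomial (Fin 6) A →ₐ[A] MvPolynomial (Fin 9) A :=
  MvPolynomial.aeval ![MvPolynomial.X 0, MvPolynomial.X 1, MvPolynomial.X 3,
    MvPolynomial.X 1 + MvPolynomial.X 5, MvPolynomial.X 3 + MvPolynomial.X 7,
    MvPolynomial.X 8 - MvPolynomial.X 0]

lemma stdRetr : Retr (stdDat A) (stdPsi1 A) := by
  constructor <;> simp [stdDat, stdPsi1]

theorem s13087 [Nontrivial A] :
    RingTheory.Sequence.IsRegular (Lie3Mod.D A) [Lie3Mod.L1 A, Lie3Mod.L2 A, Lie3Mod.L3 A] ∧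
      RingTheory.Sequence.IsRegular (Lie3Mod.D A)
        [Lie3Mod.Q1 A, Lie3Mod.Q2 A, Lie3Mod.Q3 A] :=
  isRegular_generic (stdDat A) (stdRetr A)

end final

end Groth.Agent.Helper3.RegSeq9
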