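import Mathlib
import Groth.Prelude.Def_DRing2
import Groth.Agent.Lib.Helper3.RegGlDim
import Groth.Agent.Lib.Helper3.RegPerf2
import Groth.Agent.Lib.Helper5.DRing.Dev

/-!
# Splitting a perfect complex over a regular ring of finite dimension along a cohomological gap
-/

set_option autoImplicit false
universe u
open CategoryTheory CategoryTheory.Limits Pretriangulated Triangulated

attribute [local instance] HasDerivedCategory.standard

namespace Groth.Agent.Helper3.RegSplit

open DerivedCategory Groth.Agent.Helper3.RegGlDim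

section Abstract

variable {C : Type*} [Category C] [Preadditive C] [HasZeroObject C] [HasShift C ℤ]
  [∀ n : ℤ, (shiftFunctor C n).Additive] [Pretriangulated C]

set_option backward.defeqAttrib.useBackward true in
/-- splitting of a distinguished triangle with zero third map, for an arbitrary chosen
biproduct -/
lemma exists_iso_biprod (T : Triangle C) (hT : T ∈ distTriang C) (zero : T.mor₃ = 0)
    [hI : HasBinaryBiproduct T.obj₁ T.obj₃] :
    ∃ (e : T.obj₂ ≅ T.obj₁ ⊞ T.obj₃), T.mor₁ ≫ e.hom = biprod.inl ∧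
      e.hom ≫ biprod.snd = T.mor₂ := by
  have := T.epi₂ hT zero
  have := isSplitEpi_of_epi T.mor₂
  obtain ⟨fst, hfst⟩ := T.coyoneda_exact₂ hT (𝟙 T.obj₂ - T.mor₂ ≫ section_ T.mor₂) (by simp)
  let d := binaryBiproductData _ hT zero (section_ T.mor₂) (by simp) fst
    (by simp only [← hfst, sub_add_cancel])
  refine ⟨biprod.uniqueUpToIso _ _ d.isBilimit, ⟨?_, by simp [d]⟩⟩
  ext
  · simpa [d] using d.bicone.inl_fst
  · simpa [d] using d.bicone.inl_snd

end Abstract

section Main

variable {R : Type u} [CommRing R]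

lemma isLE_of_perfect (K : Dual.D R) (hK : DRing.IsPerfect R K) : ∃ b : ℤ, K.IsLE b := by
  obtain ⟨E, a, b, hE, -, ⟨e⟩⟩ := hK
  refine ⟨b, isLE_of_subsingleton K b fun i hi => ?_⟩
  haveI := Groth.Agent.Helper3.RegPerf2.subsingleton_HD_of_isZero_X E i (hE i (Or.inr hi))
  exact ((DerivedCategory.homologyFunctor (ModuleCat.{u} R) i).mapIso
    e).toLinearEquiv.symm.subsingleton

theorem split_of_gap (d : ℕ) (hd1 : 1 ≤ d)
    (hgl : ∀ M : ModuleCat.{u} R, HasProjectiveDimensionLT M (d + 1))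
    (K : Dual.D R) (b : ℤ) [K.IsLE b] (k : ℤ)
    (hgap : ∀ i : ℤ, k - d + 2 ≤ i → i ≤ k → Subsingleton (Dual.HD R K i))
    [HasBinaryBiproduct
      (((DerivedCategory.TStructure.t : Triangulated.TStructure (Dual.D R)).truncLT (k - d + 2)).obj K)
      (((DerivedCategory.TStructure.t : Triangulated.TStructure (Dual.D R)).truncGE (k + 1)).obj K)] :
    ∃ e : K ≅
      ((DerivedCategory.TStructure.t : Triangulated.TStructure (Dual.D R)).truncLT (k - d + 2)).obj K ⊞
        ((DerivedCategory.TStructure.t : Triangulated.TStructure (Dual.D R)).truncGE (k + 1)).obj K,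
      ((DerivedCategory.TStructure.t : Triangulated.TStructure (Dual.D R)).truncLTι (k - d + 2)).app K ≫ e.hom =
          biprod.inl ∧
        e.hom ≫ biprod.snd =
          ((DerivedCategory.TStructure.t : Triangulated.TStructure (Dual.D R)).truncGEπ (k + 1)).app K := by
  let t : TStructure (Dual.D R) := TStructure.t
  let a : ℤ := k - d + 2
  let T₁ := (t.triangleLTGE a).obj K
  let T₂ := (t.triangleLTGE (k + 1)).obj K
  have hT₁ : T₁ ∈ distTriang _ := t.triangleLTGE_distinguished a K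
  have hT₂ : T₂ ∈ distTriang _ := t.triangleLTGE_distinguished (k + 1) K
  -- the third vertex of `T₁` lies in `D^{≥ k+1}`
  have hA : t.IsLE T₁.obj₁ (a - 1) := inferInstance
  have hAk : t.IsLE T₁.obj₁ k := t.isLE_of_le _ (a - 1) k (by simp only [a]; omega)
  have hC : t.IsGE T₁.obj₃ (k + 1) := by
    have hCa : (T₁.obj₃).IsGE a := inferInstanceAs (t.IsGE T₁.obj₃ a)
    have hA' : (T₁.obj₁).IsLE (a - 1) := hA
    show (T₁.obj₃).IsGE (k + 1)
    rw [DerivedCategory.isGE_iff]
    intro i hi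
    by_cases hia : i < a
    · exact isZero_of_isGE T₁.obj₃ a i hia
    · have hiso : IsIso ((homologyFunctor (ModuleCat.{u} R) i).map T₁.mor₂) :=
        Groth.Agent.Helper5.Devissage.isIso_homologyMap_mor₂ T₁ hT₁ i
          (isZero_of_isLE T₁.obj₁ (a - 1) i (by omega))
          (isZero_of_isLE T₁.obj₁ (a - 1) (i + 1) (by omega))
      haveI := hgap i (by simp only [a] at hia; omega) (by omega)
      have hz : IsZero ((homologyFunctor (ModuleCat.{u} R) i).obj K) :=
        ModuleCat.isZero_of_subsingleton _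
      exact hz.of_iso (asIso ((homologyFunctor (ModuleCat.{u} R) i).map T₁.mor₂)).symm
  obtain ⟨e', he'⟩ := t.triangle_iso_exists hT₁ hT₂ (Iso.refl K) k (k + 1) hAk hC
    (by dsimp [T₂]; exact t.isLE_of_le _ (k + 1 - 1) k (by omega)) (by dsimp [T₂]; infer_instance)
  -- the triangle `τ_{<a} K ⟶ K ⟶ τ_{≥ k+1} K ⟶`
  let δ : (t.truncGE (k + 1)).obj K ⟶ ((t.truncLT (k - d + 2)).obj K)⟦(1 : ℤ)⟧ :=
    e'.inv.hom₃ ≫ T₁.mor₃
  let T : Triangle (Dual.D R) :=
    Triangle.mk ((t.truncLTι (k - d + 2)).app K) ((t.truncGEπ (k + 1)).app K) δ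
  have h33 : e'.hom.hom₃ ≫ e'.inv.hom₃ = 𝟙 _ := by
    have := congrArg TriangleMorphism.hom₃ e'.hom_inv_id
    simpa using this
  have hc2 : T₁.mor₂ ≫ e'.hom.hom₃ = (t.truncGEπ (k + 1)).app K := by
    have h1 : T₁.mor₂ ≫ e'.hom.hom₃ = e'.hom.hom₂ ≫ T₂.mor₂ := e'.hom.comm₂
    have h2 : e'.hom.hom₂ ≫ T₂.mor₂ = T₂.mor₂ := by
      rw [he']
      exact Category.id_comp _
    exact h1.trans h2
  let φ : T₁ ≅ T := Triangle.isoMk T₁ T (Iso.refl _) (Iso.refl _) (Triangle.π₃.mapIso e')
    ((Category.comp_id _).trans (Category.id_comp _).symm)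
    (hc2.trans (Category.id_comp _).symm)
    (by
      show T₁.mor₃ ≫ (shiftFunctor (Dual.D R) (1 : ℤ)).map (𝟙 T₁.obj₁) =
        e'.hom.hom₃ ≫ (e'.inv.hom₃ ≫ T₁.mor₃)
      rw [CategoryTheory.Functor.map_id, ← Category.assoc, h33]
      exact (Category.comp_id _).trans (Category.id_comp _).symm)
  have hT : T ∈ distTriang _ := isomorphic_distinguished _ hT₁ _ φ.symm
  -- the connecting map vanishes
  have hB1 : ((t.truncGE (k + 1)).obj K).IsGE (k + 1) :=
    inferInstanceAs (t.IsGE ((t.truncGE (k + 1)).obj K) (k + 1))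
  have hA1 : t.IsLE (((t.truncLT (k - d + 2)).obj K)⟦(1 : ℤ)⟧) (k - d) :=
    t.isLE_shift _ (k - d + 2 - 1) 1 (k - d) (by omega)
  have hA1' : (((t.truncLT (k - d + 2)).obj K)⟦(1 : ℤ)⟧).IsLE (k - d) := hA1
  have hB2 : ((t.truncGE (k + 1)).obj K).IsLE (k + ((b - k).toNat : ℕ)) := by
    have hK' : t.IsLE K (k + ((b - k).toNat : ℕ)) := t.isLE_of_le K b _ (by omega)
    have h1 : t.IsLE T.rotate.obj₁ (k + ((b - k).toNat : ℕ)) := hK'
    haveI h3' : t.IsLE T.rotate.obj₃ (k - d) := hA1
    have h3 : t.IsLE T.rotate.obj₃ (k + ((b - k).toNat : ℕ)) :=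
      t.isLE_of_le _ (k - d) _ (by omega)
    exact t.isLE₂ T.rotate (rot_of_distTriang _ hT) _ h1 h3
  haveI hsub : Subsingleton ((t.truncGE (k + 1)).obj K ⟶ ((t.truncLT (k - d + 2)).obj K)⟦(1 : ℤ)⟧) :=
    subsingleton_hom_of_bounded d hgl k _ (b - k).toNat _
  have zero : T.mor₃ = 0 := hsub.elim _ _
  exact exists_iso_biprod T hT zero

theorem main_S6995 (R : Type u) [CommRing R] [IsNoetherianRing R]
    (hreg : ∀ p : PrimeSpectrum R, IsRegularLocalRing (Localization.AtPrime p.asIdeal)) (d : ℕ) (hd1 : 1 ≤ d)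
    (hd : ringKrullDim R = d) (K : Dual.D R) (hK : DRing.IsPerfect R K) (k : ℤ)
    (hgap : ∀ i : ℤ, k - d + 2 ≤ i → i ≤ k → Subsingleton (Dual.HD R K i))
    [HasBinaryBiproduct
      (((DerivedCategory.TStructure.t : Triangulated.TStructure (Dual.D R)).truncLT (k - d + 2)).obj K)
      (((DerivedCategory.TStructure.t : Triangulated.TStructure (Dual.D R)).truncGE (k + 1)).obj K)] :
    ∃ e : K ≅
      ((DerivedCategory.TStructure.t : Triangulated.TStructure (Dual.D R)).truncLT (k - d + 2)).obj K ⊞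
        ((DerivedCategory.TStructure.t : Triangulated.TStructure (Dual.D R)).truncGE (k + 1)).obj K,
      ((DerivedCategory.TStructure.t : Triangulated.TStructure (Dual.D R)).truncLTι (k - d + 2)).app K ≫ e.hom =
          biprod.inl ∧
        e.hom ≫ biprod.snd =
          ((DerivedCategory.TStructure.t : Triangulated.TStructure (Dual.D R)).truncGEπ (k + 1)).app K := by
  obtain ⟨b, hb⟩ := isLE_of_perfect K hK
  exact split_of_gap d hd1 (pdLT_of_regular hreg d hd) K b k hgap

end Main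

end Groth.Agent.Helper3.RegSplit
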