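import Mathlib
import Groth.Agent.Lib.Helper1.LocalCrit
import Groth.Agent.Lib.Lead.FO1

/-!
# Flatness from flatness of a Cartier divisor (module form, Noetherian case)
-/

set_option autoImplicit false
universe u v w w'

namespace Groth.Agent.Helper3.RelCart

open TensorProduct

/-- Core lemma, module form: `S` Noetherian `A`-algebra, `N` a finite `S`-module, `t` in the
Jacobson radical, `N`-regular, with `N / t N` flat over `A`. Then `N` is flat over `A`. -/
theorem flat_of_flat_quotient_regular {A : Type u} {S : Type v} [CommRing A] [CommRing S]
    [Algebra A S] [IsNoetherianRing S] {N : Type w} {N' : Type w'} [AddCommGroup N] [Module S N]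
    [Module A N] [IsScalarTower A S N] [Module.Finite S N] [AddCommGroup N'] [Module S N']
    [Module A N'] [IsScalarTower A S N']
    (t : S) (hj : t ∈ Ideal.jacobson (⊥ : Ideal S)) (hreg : IsSMulRegular N t)
    (π : N →ₗ[S] N') (hπ : Function.Surjective π)
    (hex : Function.Exact (LinearMap.lsmul S N t) π)
    [Module.Flat A N'] : Module.Flat A N := by
  rw [Module.Flat.iff_lTensor_injective]
  intro I hI
  let μ : N ⊗[A] I →ₗ[S] N ⊗[A] A := AlgebraTensorModule.lTensor S N I.subtype
  have hμ : ∀ z, μ z = (I.subtype.lTensor N) z := fun z => rfl
  let T : Submodule S (N ⊗[A] I) := LinearMap.ker μ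
  have : Module.Finite A I := Module.Finite.of_fg hI
  have hfin : Module.Finite S (N ⊗[A] I) := Groth.Agent.Helper1.LocalCrit.finite_tensorProduct N I
  have hTfg : T.FG := IsNoetherian.noetherian T
  let mh : N →ₗ[A] N := (LinearMap.lsmul S N t).restrictScalars A
  let πA : N →ₗ[A] N' := π.restrictScalars A
  have hex' : Function.Exact mh πA := hex
  have hex2 := rTensor_exact I hex' hπ
  have hmh : ∀ z : N ⊗[A] I, mh.rTensor I z = t • z := by
    intro z
    induction z using TensorProduct.induction_on with
    | zero => simp
    | tmul b i => simp [mh, TensorProduct.smul_tmul']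
    | add x y hx hy => rw [map_add, hx, hy, smul_add]
  have hflatC : Function.Injective (I.subtype.lTensor N') :=
    Module.Flat.lTensor_preserves_injective_linearMap _ Subtype.val_injective
  have hTle : T ≤ Ideal.span {t} • T := by
    intro z hz
    have hz0 : (I.subtype.lTensor N) z = 0 := hz
    have h1 : (I.subtype.lTensor N') (πA.rTensor I z) = 0 := by
      have : (I.subtype.lTensor N') (πA.rTensor I z) =
          πA.rTensor A ((I.subtype.lTensor N) z) := by
        rw [← LinearMap.comp_apply, ← LinearMap.comp_apply, LinearMap.lTensor_comp_rTensor,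
          LinearMap.rTensor_comp_lTensor]
      rw [this, hz0, map_zero]
    have h2 : πA.rTensor I z = 0 := hflatC (by rw [h1, map_zero])
    obtain ⟨z', hz'⟩ := (hex2 z).mp h2
    rw [hmh] at hz'
    have hz'T : z' ∈ T := by
      show μ z' = 0
      have h3 : t • μ z' = 0 := by
        rw [← map_smul, hz']
        exact hz
      have h4 : (TensorProduct.rid A N) (t • μ z') = t • (TensorProduct.rid A N) (μ z') := by
        generalize μ z' = w
        induction w using TensorProduct.induction_on with
        | zero => simp
        | tmul b a =>
          rw [TensorProduct.smul_tmul', TensorProduct.rid_tmul, TensorProduct.rid_tmul, smul_comm]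
        | add x y hx hy => rw [smul_add, map_add, map_add, hx, hy, smul_add]
      rw [h3, map_zero] at h4
      have h5 : (TensorProduct.rid A N) (μ z') = 0 :=
        hreg (show t • (TensorProduct.rid A N) (μ z') = t • 0 by rw [← h4, smul_zero])
      exact (TensorProduct.rid A N).injective (by rw [h5, map_zero])
    rw [← hz']
    exact Submodule.smul_mem_smul (Ideal.mem_span_singleton_self t) hz'T
  have hTbot : T = ⊥ :=
    Submodule.eq_bot_of_le_smul_of_le_jacobson_bot _ _ hTfg hTle
      ((Ideal.span_singleton_le_iff_mem _).mpr hj)
  rw [injective_iff_map_eq_zero]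
  intro z hz
  have : z ∈ T := hz
  rw [hTbot] at this
  exact this

end Groth.Agent.Helper3.RelCart
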