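import Mathlib
import Groth.Agent.Lib.Helper3.RelCart1

/-!
# Flatness near a relative Cartier divisor: Noetherian case
-/

set_option autoImplicit false
universe u

namespace Groth.Agent.Helper3.RelCart

open TensorProduct

/-- `S` a Noetherian `A`-algebra, `h` a nonzerodivisor with `S / h S` (presented abstractly as
`P`) flat over `A`. Then `S_q` is flat over `A` for every prime `q ∋ h`. -/
theorem flat_localizedModule_of_flat_quotient {A S : Type u} [CommRing A] [CommRing S]
    [Algebra A S] [IsNoetherianRing S] (h : S) (hreg : IsSMulRegular S h)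
    {P : Type u} [AddCommGroup P] [Module S P] [Module A P] [IsScalarTower A S P]
    (π₀ : S →ₗ[S] P) (hπ₀ : Function.Surjective π₀)
    (hex : Function.Exact (LinearMap.lsmul S S h) π₀)
    [Module.Flat A P] (q : Ideal S) [q.IsPrime] (hq : h ∈ q) :
    Module.Flat A (LocalizedModule q.primeCompl S) := by
  haveI : IsNoetherianRing (Localization.AtPrime q) :=
    IsLocalization.isNoetherianRing q.primeCompl _ inferInstance
  haveI : Module.Flat A (LocalizedModule q.primeCompl P) :=
    Groth.Agent.Lead.FO.flat_of_isLocalizedModule_algebra (R := A) q.primeCompl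
      (LocalizedModule.mkLinearMap q.primeCompl P)
  let π : LocalizedModule q.primeCompl S →ₗ[Localization.AtPrime q]
      LocalizedModule q.primeCompl P :=
    IsLocalizedModule.mapExtendScalars q.primeCompl (LocalizedModule.mkLinearMap q.primeCompl S)
      (LocalizedModule.mkLinearMap q.primeCompl P) (Localization.AtPrime q) π₀
  have hπ_eq : ∀ x, π x = LocalizedModule.map q.primeCompl π₀ x := fun x => rfl
  have hsm : ∀ x : LocalizedModule q.primeCompl S,
      LocalizedModule.map q.primeCompl (LinearMap.lsmul S S h) x =
        (algebraMap S (Localization.AtPrime q) h) • x := by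
    intro x
    rw [algebraMap_smul]
    induction x using LocalizedModule.induction_on with
    | h m s =>
      rw [LocalizedModule.map_mk, LocalizedModule.smul'_mk]
      rfl
  refine flat_of_flat_quotient_regular (A := A) (S := Localization.AtPrime q)
    (N := LocalizedModule q.primeCompl S) (N' := LocalizedModule q.primeCompl P)
    (algebraMap S (Localization.AtPrime q) h) ?_ ?_ π ?_ ?_
  · rw [IsLocalRing.jacobson_eq_maximalIdeal ⊥ bot_ne_top]
    exact (IsLocalization.AtPrime.to_map_mem_maximal_iff _ q h).mpr hq
  · intro x y hxy
    have hinj := LocalizedModule.map_injective q.primeCompl (LinearMap.lsmul S S h) hreg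
    apply hinj
    rw [hsm, hsm]
    exact hxy
  · intro y
    obtain ⟨x, hx⟩ := LocalizedModule.map_surjective q.primeCompl π₀ hπ₀ y
    exact ⟨x, hx⟩
  · have hE := LocalizedModule.map_exact q.primeCompl (LinearMap.lsmul S S h) π₀ hex
    intro y
    constructor
    · intro hy
      obtain ⟨x, hx⟩ := (hE y).mp hy
      refine ⟨x, ?_⟩
      rw [← hx]
      exact (hsm x).symm
    · rintro ⟨x, rfl⟩
      apply (hE _).mpr
      exact ⟨x, hsm x⟩

end Groth.Agent.Helper3.RelCart
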