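import Mathlib

/-! Descent of a finitely presented algebra with an element to a finitely generated subring. -/

set_option autoImplicit false
universe u
namespace Groth.Agent.Helper3.RelCart

open TensorProduct

attribute [local instance] Algebra.TensorProduct.rightAlgebra

variable (R S : Type u) [CommRing R] [CommRing S] [Algebra R S]
  [Algebra.FinitePresentation R S]

/-- a finitely presented algebra with an element descends to a finitely generated subring -/
theorem exists_model_elt (t : S) :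
    ∃ (R₀ : Subalgebra ℤ R), R₀.FG ∧ ∃ (S₀ : Type u) (_ : CommRing S₀) (_ : Algebra R₀ S₀)
      (_ : Algebra S₀ S) (_ : IsScalarTower R₀ S₀ S) (t₀ : S₀),
      Algebra.FinitePresentation R₀ S₀ ∧ Algebra.IsPushout R₀ R S₀ S ∧ algebraMap S₀ S t₀ = t := by
  classical
  let P := Algebra.Presentation.ofFinitePresentation R S
  have hsurj : Function.Surjective (MvPolynomial.aeval (R := R) P.val) := by
    intro x
    obtain ⟨y, hy⟩ := P.toGenerators.algebraMap_surjective x
    exact ⟨y, by rw [← hy, Algebra.Generators.algebraMap_apply]⟩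
  obtain ⟨p, hp⟩ := hsurj t
  let s : Set R := P.coeffs ∪ (p.coeffs : Set R)
  have hsfin : s.Finite := P.finite_coeffs.union (Finset.finite_toSet _)
  let R₀ : Subalgebra ℤ R := Algebra.adjoin ℤ s
  have hR₀ : R₀.FG := ⟨hsfin.toFinset, by simp [R₀]⟩
  have hrange : s ⊆ Set.range (algebraMap R₀ R) := by
    intro x hx
    exact ⟨⟨x, Algebra.subset_adjoin hx⟩, rfl⟩
  haveI : P.HasCoeffs R₀ := ⟨fun x hx => hrange (Or.inl hx)⟩
  let S₀ := P.ModelOfHasCoeffs R₀
  let e := P.tensorModelOfHasCoeffsEquiv R₀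
  letI algS₀S : Algebra S₀ S :=
    (e.toAlgHom.toRingHom.comp
      (Algebra.TensorProduct.includeRight : S₀ →ₐ[R₀] R ⊗[R₀] S₀).toRingHom).toAlgebra
  have halg : ∀ x : MvPolynomial _ R₀, algebraMap S₀ S (Ideal.Quotient.mk _ x) =
      MvPolynomial.aeval P.val x := by
    intro x
    show e ((1 : R) ⊗ₜ[R₀] (Ideal.Quotient.mk _ x)) = _
    rw [Algebra.Presentation.tensorModelOfHasCoeffsEquiv_tmul, map_one, one_mul]
  haveI : IsScalarTower R₀ S₀ S := IsScalarTower.of_algebraMap_eq (R := R₀) (S := S₀) (A := S) (fun r => by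
    have : algebraMap R₀ S₀ r = Ideal.Quotient.mk _ (MvPolynomial.C r) := rfl
    rw [this, halg, MvPolynomial.aeval_C])
  have hp0 : ∃ q : MvPolynomial _ R₀, MvPolynomial.map (algebraMap R₀ R) q = p := by
    have : p ∈ Set.range (MvPolynomial.map (algebraMap R₀ R)) := by
      rw [MvPolynomial.mem_range_map_iff_coeffs_subset]
      exact fun x hx => hrange (Or.inr hx)
    exact this
  obtain ⟨p0, hp0⟩ := hp0
  refine ⟨R₀, hR₀, S₀, inferInstance, inferInstance, algS₀S, inferInstance,
    Ideal.Quotient.mk _ p0, inferInstance, ?_, ?_⟩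
  · haveI : IsScalarTower R₀ S₀ (R ⊗[R₀] S₀) := Algebra.TensorProduct.right_isScalarTower
    haveI : Algebra.IsPushout R₀ R S₀ (R ⊗[R₀] S₀) := TensorProduct.isPushout
    exact Algebra.IsPushout.of_equiv (R := R₀) (R' := R) (S := S₀) (S' := R ⊗[R₀] S₀) e rfl
  · rw [halg, ← MvPolynomial.aeval_map_algebraMap R, hp0, hp]

end Groth.Agent.Helper3.RelCart
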