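import Mathlib

/-! Base change of a principal quotient, and propagation of regularity along a base change
when the quotient is flat. -/

set_option autoImplicit false
universe u
namespace Groth.Agent.Helper3.RelCart

open TensorProduct

section Quot

variable {A₀ : Type u} [CommRing A₀] (C : Type u) [CommRing C] [Algebra A₀ C]
  {B₀ : Type u} [CommRing B₀] [Algebra A₀ B₀] (g₀ : B₀)

theorem lTensor_mulLeft_apply (x : C ⊗[A₀] B₀) :
    (LinearMap.mulLeft A₀ g₀).lTensor C x = ((1 : C) ⊗ₜ[A₀] g₀) * x := by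
  induction x using TensorProduct.induction_on with
  | zero => simp
  | tmul c b => simp
  | add x y hx hy => rw [map_add, hx, hy, mul_add]

/-- the `C`-linear map `C ⊗ B₀ → C ⊗ B₀/g₀` -/
noncomputable def quotMap : C ⊗[A₀] B₀ →ₗ[C] C ⊗[A₀] (B₀ ⧸ Ideal.span {g₀}) :=
  AlgebraTensorModule.lTensor C C (Ideal.Quotient.mkₐ A₀ (Ideal.span {g₀})).toLinearMap

theorem quotMap_surjective : Function.Surjective (quotMap (A₀ := A₀) C g₀) := by
  have : Function.Surjective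
      ((Ideal.Quotient.mkₐ A₀ (Ideal.span {g₀})).toLinearMap.lTensor C) :=
    LinearMap.lTensor_surjective C (Ideal.Quotient.mkₐ_surjective A₀ _)
  exact this

theorem ker_quotMap :
    LinearMap.ker (quotMap (A₀ := A₀) C g₀) =
      (Ideal.span {(1 : C) ⊗ₜ[A₀] g₀} : Ideal (C ⊗[A₀] B₀)).restrictScalars C := by
  have hex₀ : Function.Exact (LinearMap.mulLeft A₀ g₀)
      (Ideal.Quotient.mkₐ A₀ (Ideal.span {g₀})).toLinearMap := by
    intro b
    constructor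
    · intro hb
      have : b ∈ Ideal.span {g₀} := Ideal.Quotient.eq_zero_iff_mem.mp hb
      rw [Ideal.mem_span_singleton'] at this
      obtain ⟨c, rfl⟩ := this
      exact ⟨c, by simp [mul_comm]⟩
    · rintro ⟨c, rfl⟩
      apply Ideal.Quotient.eq_zero_iff_mem.mpr
      exact Ideal.mul_mem_right _ _ (Ideal.mem_span_singleton_self g₀)
  have hex := lTensor_exact C hex₀ (Ideal.Quotient.mkₐ_surjective A₀ _)
  ext x
  rw [LinearMap.mem_ker, Submodule.restrictScalars_mem, Ideal.mem_span_singleton']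
  constructor
  · intro hx
    obtain ⟨y, hy⟩ := (hex x).mp hx
    refine ⟨y, ?_⟩
    rw [← hy, lTensor_mulLeft_apply, mul_comm]
  · rintro ⟨y, rfl⟩
    apply (hex _).mpr
    exact ⟨y, by rw [lTensor_mulLeft_apply, mul_comm]⟩

/-- `(C ⊗ B₀)/(1 ⊗ g₀) ≃ C ⊗ (B₀/g₀)` -/
noncomputable def quotEquiv :
    ((C ⊗[A₀] B₀) ⧸ (Ideal.span {(1 : C) ⊗ₜ[A₀] g₀} : Ideal (C ⊗[A₀] B₀))) ≃ₗ[C]
      C ⊗[A₀] (B₀ ⧸ Ideal.span {g₀}) :=
  ((Submodule.Quotient.restrictScalarsEquiv C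
    (Ideal.span {(1 : C) ⊗ₜ[A₀] g₀} : Ideal (C ⊗[A₀] B₀))).symm.trans
    (Submodule.quotEquivOfEq _ _ (ker_quotMap (A₀ := A₀) C g₀).symm)).trans
    ((quotMap (A₀ := A₀) C g₀).quotKerEquivOfSurjective (quotMap_surjective (A₀ := A₀) C g₀))

theorem flat_quot_iff :
    Module.Flat C ((C ⊗[A₀] B₀) ⧸ (Ideal.span {(1 : C) ⊗ₜ[A₀] g₀} : Ideal (C ⊗[A₀] B₀))) ↔
      Module.Flat C (C ⊗[A₀] (B₀ ⧸ Ideal.span {g₀})) :=
  ⟨fun _ => Module.Flat.of_linearEquiv (quotEquiv (A₀ := A₀) C g₀).symm,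
    fun _ => Module.Flat.of_linearEquiv (quotEquiv (A₀ := A₀) C g₀)⟩

end Quot

section Propagate

variable {A₀ : Type u} [CommRing A₀] {C C' : Type u} [CommRing C] [CommRing C'] [Algebra A₀ C]
  [Algebra A₀ C'] (ψ : C →ₐ[A₀] C') {B₀ : Type u} [CommRing B₀] [Algebra A₀ B₀] (g₀ : B₀)

/-- If `(C ⊗ B₀)/(1 ⊗ g₀)` is flat over `C` and the annihilator of `1 ⊗ g₀` in `C ⊗ B₀` dies in
`C' ⊗ B₀`, then `1 ⊗ g₀` is a nonzerodivisor of `C' ⊗ B₀`. -/
theorem regular_of_flat_quot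
    [Module.Flat C ((C ⊗[A₀] B₀) ⧸ (Ideal.span {(1 : C) ⊗ₜ[A₀] g₀} : Ideal (C ⊗[A₀] B₀)))]
    (hK : ∀ k : C ⊗[A₀] B₀, ((1 : C) ⊗ₜ[A₀] g₀) * k = 0 →
      Algebra.TensorProduct.map ψ (AlgHom.id A₀ B₀) k = 0)
    (x : C' ⊗[A₀] B₀) (hx : ((1 : C') ⊗ₜ[A₀] g₀) * x = 0) : x = 0 := by
  letI : Algebra C C' := ψ.toRingHom.toAlgebra
  haveI : IsScalarTower A₀ C C' := IsScalarTower.of_algebraMap_eq (fun r => (ψ.commutes r).symm)
  have hsm : ∀ (c : C) (c' : C'), c • c' = ψ c * c' := fun c c' => rfl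
  obtain ⟨e, he0⟩ : ∃ e : C' ⊗[C] (C ⊗[A₀] B₀) ≃ₗ[C'] C' ⊗[A₀] B₀,
      ∀ (c' : C') (c : C) (b : B₀), e (c' ⊗ₜ (c ⊗ₜ b)) = (c • c') ⊗ₜ b :=
    ⟨AlgebraTensorModule.cancelBaseChange A₀ C C' C' B₀, fun c' c b =>
      AlgebraTensorModule.cancelBaseChange_tmul A₀ C C' c' b c⟩
  have he2 : ∀ (c' : C') (s : C ⊗[A₀] B₀),
      e (c' ⊗ₜ s) = c' • (Algebra.TensorProduct.map ψ (AlgHom.id A₀ B₀) s) := by
    intro c' s
    induction s using TensorProduct.induction_on with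
    | zero => simp
    | tmul c b =>
      rw [he0, Algebra.TensorProduct.map_tmul, TensorProduct.smul_tmul', hsm, smul_eq_mul,
        mul_comm, AlgHom.id_apply]
    | add x y hx hy => rw [tmul_add, map_add, hx, hy, map_add, smul_add]
  let m : (C ⊗[A₀] B₀) →ₗ[C] (C ⊗[A₀] B₀) := LinearMap.mulLeft C ((1 : C) ⊗ₜ[A₀] g₀)
  have he1 : ∀ y : C' ⊗[C] (C ⊗[A₀] B₀), e (m.lTensor C' y) = ((1 : C') ⊗ₜ[A₀] g₀) * e y := by
    intro y
    induction y using TensorProduct.induction_on with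
    | zero => simp
    | tmul c' s =>
      rw [LinearMap.lTensor_tmul, he2, he2]
      show c' • (Algebra.TensorProduct.map ψ (AlgHom.id A₀ B₀)) (((1 : C) ⊗ₜ[A₀] g₀) * s) = _
      rw [map_mul, Algebra.TensorProduct.map_tmul, map_one, AlgHom.id_apply,
        Algebra.mul_smul_comm]
    | add x y hx hy => rw [map_add, map_add, hx, hy, map_add, mul_add]
  -- the factorization of `m`
  let m' : (C ⊗[A₀] B₀) →ₗ[C] LinearMap.range m := m.rangeRestrict
  let ι : LinearMap.range m →ₗ[C] (C ⊗[A₀] B₀) := (LinearMap.range m).subtype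
  have hm : m = ι ∘ₗ m' := (LinearMap.subtype_comp_codRestrict _ _ _).symm
  let f : (C ⊗[A₀] B₀) →ₗ[C]
      ((C ⊗[A₀] B₀) ⧸ (Ideal.span {(1 : C) ⊗ₜ[A₀] g₀} : Ideal (C ⊗[A₀] B₀))) :=
    (Ideal.Quotient.mkₐ C (Ideal.span {(1 : C) ⊗ₜ[A₀] g₀} : Ideal (C ⊗[A₀] B₀))).toLinearMap
  have hf : Function.Surjective f := Ideal.Quotient.mkₐ_surjective C _
  have hιf : Function.Exact ι f := by
    intro z
    constructor
    · intro hz
      have : z ∈ (Ideal.span {(1 : C) ⊗ₜ[A₀] g₀} : Ideal (C ⊗[A₀] B₀)) :=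
        Ideal.Quotient.eq_zero_iff_mem.mp hz
      rw [Ideal.mem_span_singleton'] at this
      obtain ⟨c, rfl⟩ := this
      exact ⟨⟨_, ⟨c, rfl⟩⟩, by simp [ι, m, mul_comm]⟩
    · rintro ⟨⟨_, ⟨c, rfl⟩⟩, rfl⟩
      apply Ideal.Quotient.eq_zero_iff_mem.mpr
      exact Ideal.mul_mem_right _ _ (Ideal.mem_span_singleton_self _)
  have hιinj : Function.Injective (ι.lTensor C') :=
    LinearMap.lTensor_injective_of_exact_of_flat f hf ι (Submodule.injective_subtype _) hιf C'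
  have hexk := lTensor_exact C' (LinearMap.exact_subtype_ker_map m')
    (LinearMap.surjective_rangeRestrict m)
  -- now the element
  have hy0 : m.lTensor C' (e.symm x) = 0 := by
    apply e.injective
    rw [he1, LinearEquiv.apply_symm_apply, hx, map_zero]
  have hy1 : m'.lTensor C' (e.symm x) = 0 := by
    apply hιinj
    rw [← LinearMap.comp_apply, ← LinearMap.lTensor_comp, ← hm, hy0, map_zero]
  obtain ⟨w, hw⟩ := (hexk (e.symm x)).mp hy1
  have hzero : ∀ w : C' ⊗[C] LinearMap.ker m', e ((LinearMap.ker m').subtype.lTensor C' w) = 0 := by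
    intro w
    induction w using TensorProduct.induction_on with
    | zero => simp
    | tmul c' k =>
      rw [LinearMap.lTensor_tmul, he2]
      have hk : ((1 : C) ⊗ₜ[A₀] g₀) * (k : C ⊗[A₀] B₀) = 0 := by
        have := k.2
        rw [LinearMap.mem_ker] at this
        exact congrArg Subtype.val this
      rw [Submodule.subtype_apply, hK _ hk, smul_zero]
    | add x y hx hy => rw [map_add, map_add, hx, hy, add_zero]
  have := hzero w
  rw [hw, LinearEquiv.apply_symm_apply] at this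
  exact this

end Propagate

end Groth.Agent.Helper3.RelCart
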