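import Mathlib
import Groth.Prelude.Def_FlatCA
import Groth.Agent.Lib.Helper3.ColimFlat1
import Groth.Agent.Lib.Helper3.RelCart4

/-! Regularity of an element descends to a finite stage of a directed colimit of Noetherian
rings, when the quotient is flat at that stage. -/

set_option autoImplicit false
universe u
namespace Groth.Agent.Helper3.RelCart

open TensorProduct Groth.Agent.Helper3.ColimFlat

variable {A₀ : Type u} [CommRing A₀]
  {ι : Type u} [Preorder ι] (G : ι → Type u) [∀ i, CommRing (G i)]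
  [∀ i, Algebra A₀ (G i)] (g : ∀ i j, i ≤ j → G i →ₐ[A₀] G j)
  (A : Type u) [CommRing A] [Algebra A₀ A] [∀ i, Algebra (G i) A] [∀ i, IsScalarTower A₀ (G i) A]
  (hcolim : FlatCA.IsDirectedColimitRing G (fun i j h => (g i j h).toRingHom) A)
  (B₀ : Type u) [CommRing B₀] [Algebra A₀ B₀]

/-- transition maps of the base changed algebras -/
noncomputable abbrev tau (i j : ι) (h : i ≤ j) : G i ⊗[A₀] B₀ →ₐ[A₀] G j ⊗[A₀] B₀ :=
  Algebra.TensorProduct.map (g i j h) (AlgHom.id A₀ B₀)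

/-- structure maps to the colimit -/
noncomputable abbrev nu (i : ι) : G i ⊗[A₀] B₀ →ₐ[A₀] A ⊗[A₀] B₀ :=
  Algebra.TensorProduct.map (IsScalarTower.toAlgHom A₀ (G i) A) (AlgHom.id A₀ B₀)

omit [∀ i, IsScalarTower A₀ (G i) A] in
include hcolim in
theorem tau_comp (i j k : ι) (hij : i ≤ j) (hjk : j ≤ k) (z : G i ⊗[A₀] B₀) :
    tau G g B₀ j k hjk (tau G g B₀ i j hij z) = tau G g B₀ i k (hij.trans hjk) z := by
  obtain ⟨-, -, -, hcomp, -⟩ := hcolim
  induction z using TensorProduct.induction_on with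
  | zero => simp
  | tmul c b =>
    have := congrArg (fun φ : G i →+* G k => φ c) (hcomp i j k hij hjk)
    simp only [tau, Algebra.TensorProduct.map_tmul, AlgHom.id_apply]
    congr 1
  | add x y hx hy => rw [map_add, map_add, map_add, hx, hy]

include hcolim in
theorem exists_stage_vanish_elt (i : ι) (z : G i ⊗[A₀] B₀) (hz : nu G A B₀ i z = 0) :
    ∃ j, ∃ h : i ≤ j, tau G g B₀ i j h z = 0 := by
  obtain ⟨hdir, hne, hid, hcomp, hcompat, hsurj, hker⟩ := hcolim
  haveI := hdir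
  haveI := hne
  have key := rTensor_vanish_of_colimit (R := A₀) (N := G)
    (fun i j h => (g i j h).toLinearMap) ?_ ?_
    (fun i => (IsScalarTower.toAlgHom A₀ (G i) A).toLinearMap) ?_ ?_ ?_ B₀ i z hz
  · exact key
  · intro i x
    have := congrArg (fun φ : G i →+* G i => φ x) (hid i)
    simpa using this
  · intro i j k hij hjk x
    have := congrArg (fun φ : G i →+* G k => φ x) (hcomp i j k hij hjk)
    simpa using this
  · intro i j h x
    have := congrArg (fun φ : G i →+* A => φ x) (hcompat i j h)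
    simpa using this
  · intro y
    obtain ⟨i, x, hx⟩ := hsurj y
    exact ⟨i, x, hx⟩
  · intro i x hx
    obtain ⟨j, h, hj⟩ := hker i x hx
    exact ⟨j, h, hj⟩

include hcolim in
theorem exists_stage_vanish_finset (i : ι) (s : Finset (G i ⊗[A₀] B₀))
    (hs : ∀ z ∈ s, nu G A B₀ i z = 0) :
    ∃ j, ∃ h : i ≤ j, ∀ z ∈ s, tau G g B₀ i j h z = 0 := by
  classical
  have hcolim' := hcolim
  obtain ⟨hdir, -⟩ := hcolim
  haveI := hdir
  induction s using Finset.induction_on with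
  | empty => exact ⟨i, le_rfl, fun z hz => absurd hz (Finset.notMem_empty z)⟩
  | insert a s ha ih =>
    obtain ⟨j₁, h₁, hj₁⟩ := ih (fun z hz => hs z (Finset.mem_insert_of_mem hz))
    obtain ⟨j₂, h₂, hj₂⟩ := exists_stage_vanish_elt G g A hcolim' B₀ i a
      (hs a (Finset.mem_insert_self a s))
    obtain ⟨k, hk₁, hk₂⟩ := exists_ge_ge j₁ j₂
    refine ⟨k, h₁.trans hk₁, fun z hz => ?_⟩
    rcases Finset.mem_insert.mp hz with rfl | hz
    · rw [← tau_comp G g A hcolim' B₀ i j₂ k h₂ hk₂, hj₂, map_zero]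
    · rw [← tau_comp G g A hcolim' B₀ i j₁ k h₁ hk₁, hj₁ z hz, map_zero]

include hcolim in
/-- regularity at a finite stage -/
theorem exists_stage_regular [∀ i, IsNoetherianRing (G i)] [Algebra.FiniteType A₀ B₀] (g₀ : B₀)
    (hregA : ∀ x : A ⊗[A₀] B₀, ((1 : A) ⊗ₜ[A₀] g₀) * x = 0 → x = 0) (i : ι)
    [Module.Flat (G i) ((G i ⊗[A₀] B₀) ⧸
      (Ideal.span {(1 : G i) ⊗ₜ[A₀] g₀} : Ideal (G i ⊗[A₀] B₀)))] :
    ∃ j, ∃ _ : i ≤ j, ∀ x : G j ⊗[A₀] B₀, ((1 : G j) ⊗ₜ[A₀] g₀) * x = 0 → x = 0 := by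
  classical
  haveI : Algebra.FiniteType (G i) (G i ⊗[A₀] B₀) := inferInstance
  haveI : IsNoetherianRing (G i ⊗[A₀] B₀) := Algebra.FiniteType.isNoetherianRing (G i) _
  let K : Ideal (G i ⊗[A₀] B₀) :=
    LinearMap.ker (LinearMap.mulLeft (G i ⊗[A₀] B₀) ((1 : G i) ⊗ₜ[A₀] g₀))
  obtain ⟨s, hs⟩ : K.FG := IsNoetherian.noetherian K
  have hmemK : ∀ z, z ∈ K ↔ ((1 : G i) ⊗ₜ[A₀] g₀) * z = 0 := fun z => by
    rw [LinearMap.mem_ker, LinearMap.mulLeft_apply]
  have hsK : ∀ z ∈ s, nu G A B₀ i z = 0 := by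
    intro z hz
    have hzK : z ∈ K := by
      rw [← hs]
      exact Submodule.subset_span hz
    apply hregA
    have := congrArg (nu G A B₀ i) ((hmemK z).mp hzK)
    rw [map_mul, map_zero] at this
    rw [← this]
    congr 1
    simp [nu]
  obtain ⟨j, h, hj⟩ := exists_stage_vanish_finset G g A hcolim B₀ i s hsK
  refine ⟨j, h, ?_⟩
  have hK : ∀ k : G i ⊗[A₀] B₀, ((1 : G i) ⊗ₜ[A₀] g₀) * k = 0 →
      Algebra.TensorProduct.map (g i j h) (AlgHom.id A₀ B₀) k = 0 := by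
    intro k hk
    have hkK : k ∈ K := (hmemK k).mpr hk
    rw [← hs] at hkK
    clear hk
    induction hkK using Submodule.span_induction with
    | mem x hx => exact hj x hx
    | zero => exact map_zero _
    | add x y _ _ hx hy => rw [map_add, hx, hy, add_zero]
    | smul a x _ hx => rw [smul_eq_mul, map_mul, hx, mul_zero]
  exact regular_of_flat_quot (g i j h) g₀ hK

include hcolim in
/-- regularity at a finite stage, tensor form of the flatness hypothesis -/
theorem exists_stage_regular' [∀ i, IsNoetherianRing (G i)] [Algebra.FiniteType A₀ B₀] (g₀ : B₀)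
    (hregA : ∀ x : A ⊗[A₀] B₀, ((1 : A) ⊗ₜ[A₀] g₀) * x = 0 → x = 0) (i : ι)
    (hfl : Module.Flat (G i) (G i ⊗[A₀] (B₀ ⧸ Ideal.span {g₀}))) :
    ∃ j, ∃ _ : i ≤ j, ∀ x : G j ⊗[A₀] B₀, ((1 : G j) ⊗ₜ[A₀] g₀) * x = 0 → x = 0 := by
  haveI := (flat_quot_iff (G i) g₀).mpr hfl
  exact exists_stage_regular G g A hcolim B₀ g₀ hregA i

end Groth.Agent.Helper3.RelCart
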