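import Mathlib
import Groth.Prelude.Def_FlatCA
import Groth.Agent.Lib.Helper3.ColimFlat7
import Groth.Agent.Lib.Helper3.ColimFlat9
import Groth.Agent.Lib.Helper3.ColimFlat10
import Groth.Agent.Lib.Helper3.RelCart2
import Groth.Agent.Lib.Helper3.RelCart3
import Groth.Agent.Lib.Helper3.RelCart5
import Groth.Agent.Lib.Lead.FlatLoc9

/-! Flatness near a relative effective Cartier divisor: finitely presented case (ring level). -/

set_option autoImplicit false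
universe u
namespace Groth.Agent.Helper3.RelCart

open TensorProduct Groth.Agent.Helper3.ColimFlat

attribute [local instance] Algebra.TensorProduct.rightAlgebra

/-- the stage step: Noetherian base change stage -/
theorem flat_of_stage (R₀ G A B₀ B : Type u) [CommRing R₀] [CommRing G] [CommRing A] [CommRing B₀]
    [CommRing B] [Algebra R₀ G] [Algebra G A] [Algebra R₀ A] [IsScalarTower R₀ G A]
    [Algebra R₀ B₀] [Algebra A B] [Algebra B₀ B] [Algebra R₀ B] [Algebra G B]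
    [IsScalarTower R₀ A B] [IsScalarTower R₀ B₀ B] [IsScalarTower G A B] [IsScalarTower R₀ G B]
    [Algebra.IsPushout R₀ A B₀ B] [IsNoetherianRing G] [Algebra.FiniteType R₀ B₀] (t₀ : B₀)
    [Module.Flat G ((G ⊗[R₀] B₀) ⧸ (Ideal.span {(1 : G) ⊗ₜ[R₀] t₀} : Ideal (G ⊗[R₀] B₀)))]
    (hreg : ∀ x : G ⊗[R₀] B₀, ((1 : G) ⊗ₜ[R₀] t₀) * x = 0 → x = 0)
    (q : Ideal B) [q.IsPrime] (hq : algebraMap B₀ B t₀ ∈ q) :
    Module.Flat A (LocalizedModule q.primeCompl B) := by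
  letI := algTensor R₀ G B₀ B
  haveI t1 : IsScalarTower G (G ⊗[R₀] B₀) B := by
    obtain ⟨t1, -⟩ := transfer R₀ G A B₀ B B₀ B (Algebra.linearMap B₀ B)
      (IsBaseChange.linearMap B₀ B)
    exact t1
  have hpush₃ : Algebra.IsPushout G A (G ⊗[R₀] B₀) B := by
    obtain ⟨t1, m1, t4, f, hpush₃, hbc₃⟩ := transfer R₀ G A B₀ B B₀ B (Algebra.linearMap B₀ B)
      (IsBaseChange.linearMap B₀ B)
    exact hpush₃
  haveI : Algebra.FiniteType G (G ⊗[R₀] B₀) := inferInstance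
  haveI : IsNoetherianRing (G ⊗[R₀] B₀) := Algebra.FiniteType.isNoetherianRing G _
  have hmap : algebraMap (G ⊗[R₀] B₀) B ((1 : G) ⊗ₜ[R₀] t₀) = algebraMap B₀ B t₀ := by
    show (Algebra.TensorProduct.lift (IsScalarTower.toAlgHom R₀ G B)
      (IsScalarTower.toAlgHom R₀ B₀ B) (fun _ _ => Commute.all _ _)) ((1 : G) ⊗ₜ t₀) = _
    simp
  haveI : Algebra.IsPushout G (G ⊗[R₀] B₀) A B := Algebra.IsPushout.symm hpush₃
  have hflat : Module.Flat G (LocalizedModule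
      (q.comap (algebraMap (G ⊗[R₀] B₀) B)).primeCompl (G ⊗[R₀] B₀)) := by
    refine flat_localizedModule_of_flat_quotient (A := G) (S := G ⊗[R₀] B₀)
      ((1 : G) ⊗ₜ[R₀] t₀) ?_
      (P := (G ⊗[R₀] B₀) ⧸ (Ideal.span {(1 : G) ⊗ₜ[R₀] t₀} : Ideal (G ⊗[R₀] B₀)))
      (Submodule.mkQ (Ideal.span {(1 : G) ⊗ₜ[R₀] t₀} : Ideal (G ⊗[R₀] B₀)))
      (Submodule.mkQ_surjective (Ideal.span {(1 : G) ⊗ₜ[R₀] t₀} : Ideal (G ⊗[R₀] B₀))) ?_
      (q.comap (algebraMap (G ⊗[R₀] B₀) B)) ?_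
    · intro x y hxy
      have h0 : ((1 : G) ⊗ₜ[R₀] t₀) * (x - y) = 0 := by
        rw [mul_sub]
        exact sub_eq_zero.mpr hxy
      exact sub_eq_zero.mp (hreg _ h0)
    · intro x
      rw [Submodule.mkQ_apply, Submodule.Quotient.mk_eq_zero, Ideal.mem_span_singleton']
      constructor
      · rintro ⟨c, rfl⟩
        exact ⟨c, by simp [mul_comm]⟩
      · rintro ⟨c, rfl⟩
        exact ⟨c, by simp [mul_comm]⟩
    · rw [Ideal.mem_comap, hmap]
      exact hq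
  exact Groth.Agent.Lead.FlatLoc.flat_localizedModule_of_isBaseChange (R := G) (S := G ⊗[R₀] B₀)
    (R' := A) (S' := B) (M := G ⊗[R₀] B₀) (M' := B) (Algebra.linearMap (G ⊗[R₀] B₀) B)
    (IsBaseChange.linearMap (G ⊗[R₀] B₀) B) q hflat

/-- the stage step, tensor form of the flatness hypothesis -/
theorem flat_of_stage' (R₀ G A B₀ B : Type u) [CommRing R₀] [CommRing G] [CommRing A] [CommRing B₀]
    [CommRing B] [Algebra R₀ G] [Algebra G A] [Algebra R₀ A] [IsScalarTower R₀ G A]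
    [Algebra R₀ B₀] [Algebra A B] [Algebra B₀ B] [Algebra R₀ B] [Algebra G B]
    [IsScalarTower R₀ A B] [IsScalarTower R₀ B₀ B] [IsScalarTower G A B] [IsScalarTower R₀ G B]
    [Algebra.IsPushout R₀ A B₀ B] [IsNoetherianRing G] [Algebra.FiniteType R₀ B₀] (t₀ : B₀)
    (hfl : Module.Flat G (G ⊗[R₀] (B₀ ⧸ Ideal.span {t₀})))
    (hreg : ∀ x : G ⊗[R₀] B₀, ((1 : G) ⊗ₜ[R₀] t₀) * x = 0 → x = 0)
    (q : Ideal B) [q.IsPrime] (hq : algebraMap B₀ B t₀ ∈ q) :
    Module.Flat A (LocalizedModule q.primeCompl B) := by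
  haveI := (flat_quot_iff G t₀).mpr hfl
  exact flat_of_stage R₀ G A B₀ B t₀ hreg q hq

/-- **Flatness near a relative effective Cartier divisor**, finitely presented ring form. -/
theorem flat_localizedModule_of_relCartier {A B : Type u} [CommRing A] [CommRing B] [Algebra A B]
    [Algebra.FinitePresentation A B] (t : B) (ht : t ∈ nonZeroDivisors B)
    [Module.Flat A (B ⧸ Ideal.span {t})] (q : Ideal B) [q.IsPrime] (hq : t ∈ q) :
    Module.Flat A (LocalizedModule q.primeCompl B) := by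
  obtain ⟨R₀, hR₀, B₀, _, _, _, _, t₀, hfp, hpush, ht₀⟩ := exists_model_elt A B t
  haveI : Algebra.FiniteType ℤ R₀ := (Subalgebra.fg_iff_finiteType R₀).mp hR₀
  haveI : IsNoetherianRing R₀ := Algebra.FiniteType.isNoetherianRing ℤ R₀
  haveI : ∀ i : FGSub R₀ A, IsNoetherianRing ↥i.1 := isNoetherianRing_fgSub R₀ A
  haveI := hpush
  haveI := hfp
  obtain ⟨e, he⟩ : ∃ e : A ⊗[R₀] B₀ ≃ₐ[A] B, e ((1 : A) ⊗ₜ[R₀] t₀) = t :=
    ⟨Algebra.IsPushout.equiv R₀ A B₀ B, by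
      rw [Algebra.IsPushout.equiv_tmul, map_one, one_mul, ht₀]⟩
  haveI hq1 : Module.Flat A ((A ⊗[R₀] B₀) ⧸
      (Ideal.span {(1 : A) ⊗ₜ[R₀] t₀} : Ideal (A ⊗[R₀] B₀))) := by
    have hI : (Ideal.span {t} : Ideal B) =
        (Ideal.span {(1 : A) ⊗ₜ[R₀] t₀} : Ideal (A ⊗[R₀] B₀)).map (e : A ⊗[R₀] B₀ →+* B) := by
      rw [Ideal.map_span, Set.image_singleton]
      congr 2
      exact he.symm
    exact Module.Flat.of_linearEquiv (Ideal.quotientEquivAlg _ _ e hI).toLinearEquiv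
  haveI : Module.Flat A (A ⊗[R₀] (B₀ ⧸ Ideal.span {t₀})) := (flat_quot_iff A t₀).mp hq1
  obtain ⟨i, hi⟩ := exists_stage_flat (fun i : FGSub R₀ A => ↥i.1)
    (fun i j h => Subalgebra.inclusion (show i.1 ≤ j.1 from h)) A
    (isDirectedColimitRing_fgSub R₀ A) B₀ (B₀ ⧸ Ideal.span {t₀})
  have hregA : ∀ x : A ⊗[R₀] B₀, ((1 : A) ⊗ₜ[R₀] t₀) * x = 0 → x = 0 := by
    intro x hx
    apply e.injective
    have h1 := congrArg e hx
    rw [map_mul, he, map_zero] at h1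
    rw [map_zero]
    exact (mul_left_mem_nonZeroDivisors_eq_zero_iff ht).mp h1
  obtain ⟨j, hij, hreg⟩ := exists_stage_regular' (fun i : FGSub R₀ A => ↥i.1)
    (fun i j h => Subalgebra.inclusion (show i.1 ≤ j.1 from h)) A
    (isDirectedColimitRing_fgSub R₀ A) B₀ t₀ hregA i (hi i le_rfl)
  exact flat_of_stage' R₀ ↥j.1 A B₀ B t₀ (hi j hij) hreg q (by rw [ht₀]; exact hq)

end Groth.Agent.Helper3.RelCart
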