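import Mathlib
import Groth.Prelude.Def_BlowUp2
import Groth.Agent.Lib.Helper3.RelCart6
import Groth.Agent.Lib.Helper4.RelEffCartierFlat1
import Groth.Agent.Lib.Lead.FlatLoc13
import Groth.Agent.Lib.Lead.CritFib21

/-!
# S1703: a relative effective Cartier divisor on a scheme locally of finite presentation has a
flat open neighbourhood
-/

set_option autoImplicit false
set_option backward.isDefEq.respectTransparency.types false
set_option synthInstance.maxHeartbeats 400000
universe u

open AlgebraicGeometry CategoryTheory CategoryTheory.Limits TopologicalSpace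

namespace Groth.Agent.Helper3.RelCart

open Groth.Agent.Lib.Helper6.EtLoc

/-- ring form used on affine charts -/
theorem flat_localRingHom_of_relCartier {A B C : Type u} [CommRing A] [CommRing B] [CommRing C]
    (φ : A →+* B) (hφ : φ.FinitePresentation)
    (π : B →+* C) (hπ : Function.Surjective π) (g : B) (hg : g ∈ nonZeroDivisors B)
    (hker : RingHom.ker π = Ideal.span {g}) (h1 : (π.comp φ).Flat)
    (P : Ideal B) [P.IsPrime] (hgP : g ∈ P) :
    (Localization.localRingHom (P.comap φ) P φ rfl).Flat := by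
  rw [Groth.Agent.Lead.FlatLoc.flat_localRingHom_iff φ P]
  letI := φ.toAlgebra
  haveI : Algebra.FinitePresentation A B := hφ
  haveI : Module.Flat A (B ⧸ Ideal.span {g}) := by
    rw [← RingHom.flat_algebraMap_iff]
    let e : (B ⧸ Ideal.span {g}) ≃+* C :=
      (Ideal.quotEquivOfEq hker.symm).trans (RingHom.quotientKerEquivOfSurjective hπ)
    have : algebraMap A (B ⧸ Ideal.span {g}) = e.symm.toRingHom.comp (π.comp φ) := by
      ext a
      apply e.injective
      simp [e]
      rfl
    rw [this]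
    exact RingHom.Flat.respectsIso.1 _ e.symm h1
  exact flat_localizedModule_of_relCartier g hg P hgP

theorem S1703_main {X S : Scheme.{u}} (f : X ⟶ S) [LocallyOfFinitePresentation f]
    (𝓘 : X.IdealSheafData)
    (hD : (BlowUp.IsEffCartierIdeal 𝓘 ∧ Flat (𝓘.subschemeι ≫ f))) :
    ∃ U : X.Opens, (𝓘.support : Set ↥X) ⊆ U ∧ Flat (U.ι ≫ f) := by
  have key : ∀ x : X, x ∈ 𝓘.support → (f.stalkMap x).hom.Flat := by
    intro x hxs
    obtain ⟨_, ⟨V, hV, rfl⟩, hxV, -⟩ :=
      S.isBasis_affineOpens.exists_subset_of_mem_open (Set.mem_univ (f x)) isOpen_univ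
    obtain ⟨U, hxU, hUV, g, hg, hI⟩ :=
      Groth.Agent.Helper4.EffCartier.shrink hD.1 x (f ⁻¹ᵁ V) hxV
    rw [Groth.Agent.Lib.Helper4.RelEffCartierFlat1.flat_stalkMap_iff f V hV U.1 U.2 hUV hxU]
    have haff : IsAffineOpen (𝓘.subschemeι ⁻¹ᵁ U.1) := U.2.preimage 𝓘.subschemeι
    have hle : 𝓘.subschemeι ⁻¹ᵁ U.1 ≤ (𝓘.subschemeι ≫ f) ⁻¹ᵁ V := by
      intro z hz
      exact hUV hz
    have h1 := HasRingHomProperty.appLE (P := @Flat) (𝓘.subschemeι ≫ f) hD.2 ⟨V, hV⟩
      ⟨_, haff⟩ hle
    have hφ : (f.appLE V U.1 hUV).hom.FinitePresentation :=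
      HasRingHomProperty.appLE (P := @LocallyOfFinitePresentation) f inferInstance ⟨V, hV⟩
        ⟨U.1, U.2⟩ hUV
    have hgP : g ∈ (U.2.primeIdealOf ⟨x, hxU⟩).asIdeal := by
      by_contra hgP
      have h2 := (Groth.Agent.Lib.Helper4.StalkEtale1.mem_basicOpen_iff_notMem_primeIdealOf U.2 g x
        hxU).mpr hgP
      exact ((Groth.Agent.Helper4.EffCartier.mem_basicOpen_iff_not_mem_support U g hI x hxU).mp h2)
        hxs
    refine flat_localRingHom_of_relCartier (f.appLE V U.1 hUV).hom hφ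
      (𝓘.subschemeι.app U.1).hom (𝓘.subschemeι_app_surjective U) g hg
      (by rw [𝓘.ker_subschemeι_app U, hI]) ?_ _ hgP
    convert h1 using 1
    rw [← CommRingCat.hom_comp, Scheme.Hom.app_eq_appLE, Scheme.Hom.appLE_comp_appLE]
  refine ⟨⟨_, Groth.Agent.Lead.FlatLoc.isOpen_flatLocus_of_locallyOfFinitePresentation f⟩,
    fun x hx => key x hx, ?_⟩
  apply Flat.of_stalkMap
  intro u
  exact (flat_stalkMap_comp_iff _ f u).mp u.2

end Groth.Agent.Helper3.RelCart
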