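import Mathlib

/-! Relative comparison lemma for `ℕ`-indexed cochain complexes and injective targets. -/

set_option linter.unusedSectionVars false

namespace Groth.Agent.Helper3.RelComp

open CategoryTheory CategoryTheory.Limits HomologicalComplex

universe v u

variable {V : Type u} [Category.{v} V] [Abelian V]

/-- Extension lemma: a map to an injective object factors through `φ` as soon as it kills the
kernel of `φ`. -/
lemma exists_factor {T X I : V} [Injective I] (φ : T ⟶ X) (ψ : T ⟶ I)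
    (h : ∀ ⦃W : V⦄ (t : W ⟶ T), t ≫ φ = 0 → t ≫ ψ = 0) : ∃ k : X ⟶ I, φ ≫ k = ψ := by
  have h0 : kernel.ι φ ≫ ψ = 0 := h _ (kernel.condition φ)
  let ψ' : Abelian.coimage φ ⟶ I := cokernel.desc _ ψ h0
  refine ⟨Injective.factorThru ψ' (Abelian.factorThruCoimage φ), ?_⟩
  have h1 : φ ≫ Injective.factorThru ψ' (Abelian.factorThruCoimage φ) =
      Abelian.coimage.π φ ≫ Abelian.factorThruCoimage φ ≫
        Injective.factorThru ψ' (Abelian.factorThruCoimage φ) := by
    rw [← Category.assoc, Abelian.coimage.fac]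
  rw [h1, Injective.comp_factorThru]
  exact cokernel.π_desc _ _ _

/-- `f` sends cycles to cycles. -/
def ZCond (C I : CochainComplex V ℕ) (n : ℕ) (f : C.X n ⟶ I.X n) : Prop :=
  ∀ ⦃W : V⦄ (z : W ⟶ C.X n), z ≫ C.d n (n + 1) = 0 → z ≫ f ≫ I.d n (n + 1) = 0

variable (E C I : CochainComplex V ℕ) (u : E ⟶ C) (φ : E ⟶ I)

lemma step (n : ℕ) [Mono (u.f (n + 2))] (hE : E.ExactAt (n + 1)) [Injective (I.X (n + 1))]
    (f : C.X n ⟶ I.X n) (hf : u.f n ≫ f = φ.f n) (hz : ZCond C I n f) :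
    ∃ f' : C.X (n + 1) ⟶ I.X (n + 1), u.f (n + 1) ≫ f' = φ.f (n + 1) ∧
      C.d n (n + 1) ≫ f' = f ≫ I.d n (n + 1) := by
  obtain ⟨k, hk⟩ := exists_factor (biprod.desc (u.f (n + 1)) (C.d n (n + 1)))
    (biprod.desc (φ.f (n + 1)) (f ≫ I.d n (n + 1))) (fun W t ht => by
      rw [biprod.desc_eq, Preadditive.comp_add, ← Category.assoc, ← Category.assoc] at ht
      rw [biprod.desc_eq, Preadditive.comp_add, ← Category.assoc, ← Category.assoc]
      generalize t ≫ biprod.fst = a at ht ⊢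
      generalize t ≫ biprod.snd = c at ht ⊢
      have ht1 : a ≫ u.f (n + 1) = -(c ≫ C.d n (n + 1)) := eq_neg_of_add_eq_zero_left ht
      have hacyc : a ≫ E.d (n + 1) (n + 2) = 0 := by
        rw [← cancel_mono (u.f (n + 2)), Category.assoc, ← u.comm, zero_comp,
          ← Category.assoc, ht1]
        simp
      rw [exactAt_iff' _ n (n + 1) (n + 2) (by simp) (by simp)] at hE
      obtain ⟨W', π, hπ, a', ha'⟩ : ∃ (W' : V) (π : W' ⟶ W) (_ : Epi π) (a' : W' ⟶ E.X n),
        π ≫ a = a' ≫ E.d n (n + 1) := hE.exact_up_to_refinements a hacyc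
      have hzz := hz (a' ≫ u.f n + π ≫ c) (by
        rw [Preadditive.add_comp, Category.assoc, u.comm, ← Category.assoc a', ← ha',
          Category.assoc, Category.assoc, ← Preadditive.comp_add, ht, comp_zero])
      rw [← cancel_epi π, comp_zero, Preadditive.comp_add, ← Category.assoc π a, ha',
        Category.assoc, ← φ.comm, ← hf]
      rw [Preadditive.add_comp] at hzz
      simpa using hzz)
  refine ⟨k, ?_, ?_⟩
  · have := biprod.inl ≫= hk
    simpa using this
  · have := biprod.inr ≫= hk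
    simpa using this

lemma base [Mono (u.f 1)] [Injective (I.X 0)]
    (gZ : C.cycles 0 ⟶ I.cycles 0) (hg : cyclesMap u 0 ≫ gZ = cyclesMap φ 0) :
    ∃ f : C.X 0 ⟶ I.X 0, u.f 0 ≫ f = φ.f 0 ∧ C.iCycles 0 ≫ f = gZ ≫ I.iCycles 0 := by
  obtain ⟨k, hk⟩ := exists_factor (biprod.desc (u.f 0) (C.iCycles 0))
    (biprod.desc (φ.f 0) (gZ ≫ I.iCycles 0)) (fun W t ht => by
      rw [biprod.desc_eq, Preadditive.comp_add, ← Category.assoc, ← Category.assoc] at ht
      rw [biprod.desc_eq, Preadditive.comp_add, ← Category.assoc, ← Category.assoc]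
      generalize t ≫ biprod.fst = a at ht ⊢
      generalize t ≫ biprod.snd = z at ht ⊢
      have ht1 : a ≫ u.f 0 = -(z ≫ C.iCycles 0) := eq_neg_of_add_eq_zero_left ht
      have hacyc : a ≫ E.d 0 1 = 0 := by
        rw [← cancel_mono (u.f 1), Category.assoc, ← u.comm, zero_comp,
          ← Category.assoc, ht1]
        simp
      have ha : E.liftCycles a 1 (by simp) hacyc ≫ E.iCycles 0 = a := liftCycles_i _ _ _ _ _
      generalize E.liftCycles a 1 (by simp) hacyc = a' at ha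
      have h2 : a' ≫ cyclesMap u 0 = -z := by
        rw [← cancel_mono (C.iCycles 0), Category.assoc, cyclesMap_i, ← Category.assoc, ha, ht1]
        simp
      rw [← ha, Category.assoc, ← cyclesMap_i, ← hg, Category.assoc, ← Category.assoc a',
        h2]
      simp)
  refine ⟨k, ?_, ?_⟩
  · have := biprod.inl ≫= hk
    simpa using this
  · have := biprod.inr ≫= hk
    simpa using this

/-- Data at stage `n`. -/
structure Stage (n : ℕ) where
  f : C.X n ⟶ I.X n
  hf : u.f n ≫ f = φ.f n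
  hz : ZCond C I n f

variable {E C I u φ}

lemma zcond_of_comm (n : ℕ) (hC : C.ExactAt (n + 1)) (f : C.X n ⟶ I.X n)
    (f' : C.X (n + 1) ⟶ I.X (n + 1)) (h : C.d n (n + 1) ≫ f' = f ≫ I.d n (n + 1)) :
    ZCond C I (n + 1) f' := by
  intro W z hz
  rw [exactAt_iff' _ n (n + 1) (n + 2) (by simp) (by simp)] at hC
  obtain ⟨W', π, hπ, c, hc⟩ : ∃ (W' : V) (π : W' ⟶ W) (_ : Epi π) (c : W' ⟶ C.X n),
    π ≫ z = c ≫ C.d n (n + 1) := hC.exact_up_to_refinements z hz
  rw [← cancel_epi π, comp_zero, ← Category.assoc, hc, Category.assoc, reassoc_of% h]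
  simp

variable (hu : ∀ n, Mono (u.f n)) (hE : ∀ n, 0 < n → E.ExactAt n)
  (hC : ∀ n, 0 < n → C.ExactAt n) (hI : ∀ n, Injective (I.X n))

include hu hE hC hI

lemma exists_next (n : ℕ) (s : Stage E C I u φ n) :
    ∃ s' : Stage E C I u φ (n + 1), C.d n (n + 1) ≫ s'.f = s.f ≫ I.d n (n + 1) := by
  have := hu (n + 2)
  have := hI (n + 1)
  obtain ⟨f', h1, h2⟩ := step E C I u φ n (hE (n + 1) (by lia)) s.f s.hf s.hz
  exact ⟨⟨f', h1, zcond_of_comm n (hC (n + 1) (by lia)) s.f f' h2⟩, h2⟩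

/-- The relative comparison lemma. -/
theorem main (g : C.homology 0 ⟶ I.homology 0)
    (hg : homologyMap u 0 ≫ g = homologyMap φ 0) :
    ∃ f : C ⟶ I, u ≫ f = φ ∧ homologyMap f 0 = g := by
  have := hu 1
  have := hI 0
  let gZ : C.cycles 0 ⟶ I.cycles 0 := C.homologyπ 0 ≫ g ≫ inv (I.homologyπ 0)
  have hgZ : cyclesMap u 0 ≫ gZ = cyclesMap φ 0 := by
    dsimp only [gZ]
    rw [← homologyπ_naturality_assoc, reassoc_of% hg, homologyπ_naturality_assoc]
    simp
  obtain ⟨f0, hf0, hf0'⟩ := base E C I u φ gZ hgZ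
  have hz0 : ZCond C I 0 f0 := by
    intro W z hz
    have hz' : C.liftCycles z 1 (by simp) hz ≫ C.iCycles 0 = z := liftCycles_i _ _ _ _ _
    rw [← hz', Category.assoc, reassoc_of% hf0']
    simp
  let s0 : Stage E C I u φ 0 := ⟨f0, hf0, hz0⟩
  let F : ∀ n, Stage E C I u φ n := fun n =>
    Nat.rec s0 (fun n s => (exists_next hu hE hC hI n s).choose) n
  have hF : ∀ n, C.d n (n + 1) ≫ (F (n + 1)).f = (F n).f ≫ I.d n (n + 1) := fun n =>
    (exists_next hu hE hC hI n (F n)).choose_spec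
  let f : C ⟶ I :=
    { f := fun n => (F n).f
      comm' := by
        rintro i _ rfl
        exact (hF i).symm }
  refine ⟨f, ?_, ?_⟩
  · ext n
    exact (F n).hf
  · have h1 : cyclesMap f 0 = gZ := by
      rw [← cancel_mono (I.iCycles 0), cyclesMap_i]
      exact hf0'
    rw [← cancel_epi (C.homologyπ 0), homologyπ_naturality, h1]
    dsimp only [gZ]
    simp

open ZeroObject in
omit hu hE hC hI in
/-- Comparison lemma with no subcomplex. -/
theorem main₀ (hC : ∀ n, 0 < n → C.ExactAt n) (hI : ∀ n, Injective (I.X n))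
    (g : C.homology 0 ⟶ I.homology 0) : ∃ f : C ⟶ I, homologyMap f 0 = g := by
  have hz : ∀ n, IsZero ((0 : CochainComplex V ℕ).X n) := fun n =>
    (eval V (ComplexShape.up ℕ) n).map_isZero (isZero_zero _)
  obtain ⟨f, -, hf⟩ := main (E := 0) (u := 0) (φ := 0) (fun n => (hz n).mono _)
    (fun n _ => ShortComplex.exact_of_isZero_X₂ _ (hz n)) hC hI g
    (((homologyFunctor V (ComplexShape.up ℕ) 0).map_isZero (isZero_zero _)).eq_of_src _ _)
  exact ⟨f, hf⟩

end Groth.Agent.Helper3.RelComp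

namespace Groth.Agent.Helper3.RelComp

open CategoryTheory CategoryTheory.Limits HomologicalComplex

universe v u

variable {V : Type u} [Category.{v} V] [Abelian V]

theorem ladder (C' C C'' I' I I'' : CochainComplex V ℕ)
    (jC : C' ⟶ C) (πC : C ⟶ C'') (jI : I' ⟶ I) (πI : I ⟶ I'')
    (mC : ∀ n, Mono (jC.f n)) (wC : ∀ n, jC.f n ≫ πC.f n = 0)
    (exC : ∀ n, (ShortComplex.mk (jC.f n) (πC.f n) (wC n)).Exact)
    (wI : ∀ n, jI.f n ≫ πI.f n = 0)
    (hC' : ∀ n, 0 < n → C'.ExactAt n) (hC : ∀ n, 0 < n → C.ExactAt n)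
    (hC'' : ∀ n, 0 < n → C''.ExactAt n)
    (injI' : ∀ n, Injective (I'.X n)) (injI : ∀ n, Injective (I.X n))
    (injI'' : ∀ n, Injective (I''.X n))
    (g' : C'.homology 0 ⟶ I'.homology 0) (g : C.homology 0 ⟶ I.homology 0)
    (g'' : C''.homology 0 ⟶ I''.homology 0)
    (hg1 : homologyMap jC 0 ≫ g = g' ≫ homologyMap jI 0)
    (hg2 : homologyMap πC 0 ≫ g'' = g ≫ homologyMap πI 0) :
    ∃ (f' : C' ⟶ I') (f : C ⟶ I) (f'' : C'' ⟶ I''),
      jC ≫ f = f' ≫ jI ∧ πC ≫ f'' = f ≫ πI ∧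
      homologyMap f' 0 = g' ∧ homologyMap f 0 = g ∧ homologyMap f'' 0 = g'' := by
  obtain ⟨f', hf'⟩ := main₀ hC' injI' g'
  obtain ⟨f, hf1, hf2⟩ := main (u := jC) (φ := f' ≫ jI) mC hC' hC injI g (by
    rw [hg1, homologyMap_comp, hf'])
  have : Mono jC := mono_of_mono_f jC mC
  have wjπ : jC ≫ πC = 0 := by
    ext n
    exact wC n
  have wjI : jI ≫ πI = 0 := by
    ext n
    exact wI n
  let S : ShortComplex (CochainComplex V ℕ) := ShortComplex.mk jC (cokernel.π jC) (by simp)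
  have hS : S.ShortExact :=
    { exact := ShortComplex.exact_of_g_is_cokernel _ (cokernelIsCokernel jC) }
  let ū : S.X₃ ⟶ C'' := cokernel.desc jC πC wjπ
  have hū : S.g ≫ ū = πC := cokernel.π_desc _ _ _
  let φ'' : S.X₃ ⟶ I'' := cokernel.desc jC (f ≫ πI) (by
    rw [reassoc_of% hf1, wjI, comp_zero])
  have hφ'' : S.g ≫ φ'' = f ≫ πI := cokernel.π_desc _ _ _
  -- `ū` is termwise mono
  have hūm : ∀ n, Mono (ū.f n) := fun n => by
    have hSn := hS.map_of_exact (eval V (ComplexShape.up ℕ) n)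
    have : Epi (S.g.f n) := hSn.epi_g
    refine Preadditive.mono_of_cancel_zero _ (fun {W} x hx => ?_)
    obtain ⟨W', π, hπ, c, hc⟩ := surjective_up_to_refinements_of_epi (S.g.f n) x
    have hc2 : c ≫ πC.f n = 0 := by
      rw [← hū, comp_f, ← Category.assoc, ← hc, Category.assoc, hx, comp_zero]
    obtain ⟨W'', π', hπ', a, ha⟩ : ∃ (W'' : V) (π' : W'' ⟶ W') (_ : Epi π') (a : W'' ⟶ C'.X n),
        π' ≫ c = a ≫ jC.f n := (exC n).exact_up_to_refinements c hc2
    rw [← cancel_epi π, ← cancel_epi π', comp_zero, comp_zero, hc, ← Category.assoc, ha,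
      Category.assoc]
    have : jC.f n ≫ S.g.f n = 0 := by
      rw [← comp_f, S.zero, zero_f]
    rw [this, comp_zero]
  -- `S.X₃` is exact in positive degrees
  have hQ : ∀ n, 0 < n → S.X₃.ExactAt n := fun n hn => by
    rw [exactAt_iff_isZero_homology]
    refine (hS.homology_exact₃ n (n + 1) (by simp)).isZero_X₂ ?_ ?_
    · exact ((exactAt_iff_isZero_homology _ _).1 (hC n hn)).eq_of_src _ _
    · exact ((exactAt_iff_isZero_homology _ _).1 (hC' (n + 1) (by lia))).eq_of_tgt _ _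
  -- `H⁰(C) → H⁰(Q)` is epi
  have hepi : Epi (homologyMap S.g 0) := by
    have h := hS.homology_exact₃ 0 1 (by simp)
    exact (ShortComplex.exact_iff_epi _
      (((exactAt_iff_isZero_homology _ _).1 (hC' 1 (by lia))).eq_of_tgt _ _)).1 h
  obtain ⟨f'', hf''1, hf''2⟩ := main (u := ū) (φ := φ'') hūm hQ hC'' injI'' g'' (by
    rw [← cancel_epi (homologyMap S.g 0), ← homologyMap_comp_assoc, hū, hg2,
      ← homologyMap_comp, hφ'', homologyMap_comp, hf2])
  refine ⟨f', f, f'', hf1, ?_, hf', hf2, hf''2⟩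
  rw [← hū, Category.assoc, hf''1, hφ'']

end Groth.Agent.Helper3.RelComp
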