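import Mathlib
import Groth.Prelude.Def_Flatn
import Groth.Agent.Lib.Helper3.RelFPS3

/-!
# Relative finite presentation on schemes: finite direct images (helper3)
-/

set_option autoImplicit false
universe u
open CategoryTheory CategoryTheory.Limits AlgebraicGeometry TopologicalSpace Opposite
set_option backward.isDefEq.respectTransparency.types false

namespace Groth.Agent.Helper3.RelFPS

open Scheme.Modules

variable {X Y S : Scheme.{u}} (π : X ⟶ Y) (g : Y ⟶ S) (F : X.Modules)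

theorem relOn_push_iff [IsFinite π] [LocallyOfFiniteType g] {V' : Y.Opens} (hV' : IsAffineOpen V')
    {V : S.Opens} (hV : IsAffineOpen V) (h : V' ≤ g ⁻¹ᵁ V) (h' : π ⁻¹ᵁ V' ≤ (π ≫ g) ⁻¹ᵁ V) :
    RelOn g ((Scheme.Modules.pushforward π).obj F) hV' hV h ↔
      RelOn (π ≫ g) F (hV'.preimage π) hV h' := by
  letI alg1 : Algebra Γ(S, V) Γ(Y, V') := (g.appLE V V' h).hom.toAlgebra
  letI alg2 : Algebra Γ(Y, V') Γ(X, π ⁻¹ᵁ V') := (π.app V').hom.toAlgebra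
  letI alg3 : Algebra Γ(S, V) Γ(X, π ⁻¹ᵁ V') := ((π ≫ g).appLE V (π ⁻¹ᵁ V') h').hom.toAlgebra
  haveI : IsScalarTower Γ(S, V) Γ(Y, V') Γ(X, π ⁻¹ᵁ V') := by
    apply IsScalarTower.of_algebraMap_eq'
    show ((π ≫ g).appLE V (π ⁻¹ᵁ V') h').hom = (π.app V').hom.comp (g.appLE V V' h).hom
    rw [← CommRingCat.hom_comp, Scheme.Hom.app_eq_appLE, Scheme.Hom.appLE_comp_appLE]
  letI mod1 : Module Γ(Y, V') Γ(F, π ⁻¹ᵁ V') :=
    Module.compHom _ (π.app V').hom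
  haveI : IsScalarTower Γ(Y, V') Γ(X, π ⁻¹ᵁ V') Γ(F, π ⁻¹ᵁ V') :=
    IsScalarTower.of_algebraMap_smul (fun a m => rfl)
  haveI : Algebra.FiniteType Γ(S, V) Γ(Y, V') :=
    HasRingHomProperty.appLE (P := @LocallyOfFiniteType) g ‹_› ⟨V, hV⟩ ⟨V', hV'⟩ h
  haveI : Module.Finite Γ(Y, V') Γ(X, π ⁻¹ᵁ V') := IsFinite.finite_app π V' hV'
  exact rfp_finite_iff (R := Γ(S, V)) (A := Γ(Y, V')) (B := Γ(X, π ⁻¹ᵁ V'))
    (M := Γ(F, π ⁻¹ᵁ V'))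

theorem S9743_main [IsFinite π] [LocallyOfFiniteType g] [F.IsQuasicoherent] :
    Flatn.IsRelFP (π ≫ g) F ↔ Flatn.IsRelFP g ((Scheme.Modules.pushforward π).obj F) := by
  constructor
  · intro H
    refine ⟨Set.univ, ?_, fun V _ => ⟨{V' | (V' : Y.Opens) ≤ g ⁻¹ᵁ (V : S.Opens)}, ?_, ?_⟩⟩
    · rw [eq_top_iff]
      intro y _
      obtain ⟨_, ⟨V, hV, rfl⟩, hyV, -⟩ := S.isBasis_affineOpens.exists_subset_of_mem_open
        (Set.mem_univ y) isOpen_univ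
      simp only [Opens.mem_iSup]
      exact ⟨⟨V, hV⟩, Set.mem_univ _, hyV⟩
    · apply le_antisymm
      · exact iSup₂_le fun U hU => hU
      · intro x hx
        obtain ⟨_, ⟨U, hU, rfl⟩, hxU, hUV⟩ := Y.isBasis_affineOpens.exists_subset_of_mem_open
          hx (g ⁻¹ᵁ (V : S.Opens)).isOpen
        simp only [Opens.mem_iSup]
        exact ⟨⟨U, hU⟩, hUV, hxU⟩
    · intro V' _ h
      have h' : π ⁻¹ᵁ (V' : Y.Opens) ≤ (π ≫ g) ⁻¹ᵁ (V : S.Opens) := π.preimage_mono h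
      exact (relOn_push_iff π g F V'.2 V.2 h h').mpr
        (relOn_of_isRelFP (π ≫ g) F H (V'.2.preimage π) V.2 h')
  · rintro ⟨𝒱, h𝒱, H𝒱⟩
    refine ⟨𝒱, h𝒱, fun V hV => ?_⟩
    obtain ⟨𝒰, h𝒰, H𝒰⟩ := H𝒱 V hV
    refine ⟨(fun V' : Y.affineOpens => (⟨π ⁻¹ᵁ (V' : Y.Opens), V'.2.preimage π⟩ : X.affineOpens)) '' 𝒰,
      ?_, ?_⟩
    · rw [iSup_image]
      show (⨆ V' ∈ 𝒰, π ⁻¹ᵁ (V' : Y.Opens)) = π ⁻¹ᵁ (g ⁻¹ᵁ (V : S.Opens))
      rw [← h𝒰]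
      ext x
      simp only [Opens.coe_iSup, Set.mem_iUnion, SetLike.mem_coe, Scheme.Hom.mem_preimage,
        Opens.mem_iSup]
    · rintro _ ⟨V', hV', rfl⟩ h'
      have h : (V' : Y.Opens) ≤ g ⁻¹ᵁ (V : S.Opens) := by
        rw [← h𝒰]
        exact le_iSup₂ (f := fun (U : Y.affineOpens) (_ : U ∈ 𝒰) => (U : Y.Opens)) V' hV'
      exact (relOn_push_iff π g F V'.2 V.2 h h').mp (H𝒰 V' hV' h)

end Groth.Agent.Helper3.RelFPS
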