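import Mathlib

/-!
# Discrete valuation rings with prescribed algebraic residue extension, part 1

We work inside `Ω × k'` with `Ω` an algebraic closure of the fraction field of the DVR `A`:
a *good* subring `Γ` is the graph of the reduction map of a discrete valuation ring `O ⊆ Ω`
containing `A`, with uniformizer `ϖ`, all of whose elements are separable over `Frac A`.
-/

open IsLocalRing Polynomial

namespace Groth.Agent.Helper3.ResExtSep

universe u

variable (A : Type u) [CommRing A] [IsDomain A] [IsDiscreteValuationRing A]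
  (k' : Type u) [Field k'] [Algebra (ResidueField A) k']

/-- the ambient algebraically closed field -/
abbrev Om : Type u := AlgebraicClosure (FractionRing A)

/-- the residue map to `k'` -/
noncomputable def rho0 : A →+* k' := (algebraMap (ResidueField A) k').comp (residue A)

/-- the base embedding -/
noncomputable def iota0 : A →+* Om A × k' := (algebraMap A (Om A)).prod (rho0 A k')

lemma algebraMap_Om_injective : Function.Injective (algebraMap A (Om A)) := by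
  rw [IsScalarTower.algebraMap_eq A (FractionRing A) (Om A)]
  exact (algebraMap (FractionRing A) (Om A)).injective.comp
    (IsFractionRing.injective A (FractionRing A))

lemma rho0_eq_zero_iff (a : A) : rho0 A k' a = 0 ↔ a ∈ maximalIdeal A := by
  simp only [rho0, RingHom.comp_apply, map_eq_zero, residue_eq_zero_iff]

variable {A k'}

/-- good graphs -/
structure Good (ϖ : A) (Γ : Subring (Om A × k')) : Prop where
  base : ∀ a : A, iota0 A k' a ∈ Γ
  inj : ∀ g ∈ Γ, g.1 = 0 → g.2 = 0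
  fac : ∀ g ∈ Γ, g ≠ 0 →
    ∃ (n : ℕ) (h : Om A × k'), h ∈ Γ ∧ h.2 ≠ 0 ∧ g = iota0 A k' ϖ ^ n * h
  unit : ∀ g ∈ Γ, g.2 ≠ 0 → ∃ h ∈ Γ, g * h = 1
  sep : ∀ g ∈ Γ, IsSeparable (FractionRing A) g.1

lemma good_range (ϖ : A) (hϖ : Irreducible ϖ) : Good ϖ (iota0 A k').range := by
  refine ⟨fun a => ⟨a, rfl⟩, ?_, ?_, ?_, ?_⟩
  · rintro _ ⟨a, rfl⟩ h
    have h' : algebraMap A (Om A) a = 0 := h
    have ha : a = 0 := algebraMap_Om_injective A (by rw [h', map_zero])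
    rw [ha, map_zero]
    rfl
  · rintro _ ⟨a, rfl⟩ hne
    have ha : a ≠ 0 := fun h => hne (by rw [h, map_zero])
    obtain ⟨n, u, hu⟩ := IsDiscreteValuationRing.eq_unit_mul_pow_irreducible ha hϖ
    refine ⟨n, iota0 A k' u, ⟨u, rfl⟩, ?_, ?_⟩
    · change rho0 A k' u ≠ 0
      rw [Ne, rho0_eq_zero_iff]
      exact fun h => (mem_maximalIdeal _).mp h u.isUnit
    · rw [hu, map_mul, map_pow, mul_comm]
  · rintro _ ⟨a, rfl⟩ h
    have hu : IsUnit a := by
      by_contra hnu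
      exact h ((rho0_eq_zero_iff A k' a).mpr ((mem_maximalIdeal a).mpr hnu))
    obtain ⟨u, rfl⟩ := hu
    exact ⟨iota0 A k' ↑u⁻¹, ⟨_, rfl⟩, by rw [← map_mul, Units.mul_inv, map_one]⟩
  · rintro _ ⟨a, rfl⟩
    change IsSeparable (FractionRing A) (algebraMap A (Om A) a)
    rw [IsScalarTower.algebraMap_apply A (FractionRing A) (Om A)]
    exact isSeparable_algebraMap _

lemma good_sSup (ϖ : A) (c : Set (Subring (Om A × k'))) (hc : IsChain (· ≤ ·) c)
    (hne : c.Nonempty) (hg : ∀ Γ ∈ c, Good ϖ Γ) : Good ϖ (sSup c) := by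
  have hdir : DirectedOn (· ≤ ·) c := hc.directedOn
  have hmem : ∀ {x : Om A × k'}, x ∈ sSup c ↔ ∃ Γ ∈ c, x ∈ Γ :=
    Subring.mem_sSup_of_directedOn hne hdir
  obtain ⟨Γ₀, hΓ₀⟩ := hne
  refine ⟨fun a => hmem.mpr ⟨Γ₀, hΓ₀, (hg Γ₀ hΓ₀).base a⟩, ?_, ?_, ?_, ?_⟩
  · intro g hgm h
    obtain ⟨Γ, hΓ, hgΓ⟩ := hmem.mp hgm
    exact (hg Γ hΓ).inj g hgΓ h
  · intro g hgm hne
    obtain ⟨Γ, hΓ, hgΓ⟩ := hmem.mp hgm
    obtain ⟨n, h, hh, h2, he⟩ := (hg Γ hΓ).fac g hgΓ hne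
    exact ⟨n, h, hmem.mpr ⟨Γ, hΓ, hh⟩, h2, he⟩
  · intro g hgm h2
    obtain ⟨Γ, hΓ, hgΓ⟩ := hmem.mp hgm
    obtain ⟨h, hh, he⟩ := (hg Γ hΓ).unit g hgΓ h2
    exact ⟨h, hmem.mpr ⟨Γ, hΓ, hh⟩, he⟩
  · intro g hgm
    obtain ⟨Γ, hΓ, hgΓ⟩ := hmem.mp hgm
    exact (hg Γ hΓ).sep g hgΓ

section ring

variable {ϖ : A} {Γ : Subring (Om A × k')}

/-- first projection -/
noncomputable def pr1 (Γ : Subring (Om A × k')) : Γ →+* Om A :=
  (RingHom.fst _ _).comp Γ.subtype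

/-- second projection -/
noncomputable def pr2 (Γ : Subring (Om A × k')) : Γ →+* k' :=
  (RingHom.snd _ _).comp Γ.subtype

/-- the structure map -/
noncomputable def jA (h : Good ϖ Γ) : A →+* Γ := (iota0 A k').codRestrict Γ h.base

lemma pr1_jA (h : Good ϖ Γ) (a : A) : pr1 Γ (jA h a) = algebraMap A (Om A) a := rfl

lemma pr2_jA (h : Good ϖ Γ) (a : A) : pr2 Γ (jA h a) = rho0 A k' a := rfl

lemma coe_jA (h : Good ϖ Γ) (a : A) : ((jA h a : Γ) : Om A × k') = iota0 A k' a := rfl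

lemma pr1_injective (h : Good ϖ Γ) : Function.Injective (pr1 Γ) := by
  rw [injective_iff_map_eq_zero]
  intro x hx
  have h1 : (x : Om A × k').1 = 0 := hx
  have h2 : (x : Om A × k').2 = 0 := h.inj x.1 x.2 h1
  exact Subtype.ext (Prod.ext h1 h2)

lemma isDomain (h : Good ϖ Γ) : IsDomain Γ := (pr1_injective h).isDomain (pr1 Γ)

lemma isUnit_iff (h : Good ϖ Γ) (x : Γ) : IsUnit x ↔ pr2 Γ x ≠ 0 := by
  constructor
  · intro hx
    exact (hx.map (pr2 Γ)).ne_zero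
  · intro hx
    obtain ⟨y, hy, hxy⟩ := h.unit x.1 x.2 hx
    exact IsUnit.of_mul_eq_one ⟨y, hy⟩ (Subtype.ext hxy)

lemma isLocalRing (h : Good ϖ Γ) : IsLocalRing Γ := by
  haveI := isDomain h
  refine IsLocalRing.of_nonunits_add fun a b ha hb => ?_
  rw [mem_nonunits_iff, isUnit_iff h, not_not] at ha hb ⊢
  rw [map_add, ha, hb, add_zero]

lemma ker_pr2 (h : Good ϖ Γ) [IsLocalRing Γ] : RingHom.ker (pr2 Γ) = maximalIdeal Γ := by
  ext x
  rw [RingHom.mem_ker, mem_maximalIdeal, mem_nonunits_iff, isUnit_iff h, not_not]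

lemma jA_varpi_ne_zero (h : Good ϖ Γ) (hϖ : ϖ ≠ 0) : jA h ϖ ≠ 0 := by
  intro h0
  have : algebraMap A (Om A) ϖ = 0 := by rw [← pr1_jA h, h0, map_zero]
  exact hϖ (algebraMap_Om_injective A (by rw [this, map_zero]))

lemma pr2_jA_varpi (h : Good ϖ Γ) (hϖ : Irreducible ϖ) : pr2 Γ (jA h ϖ) = 0 := by
  rw [pr2_jA, rho0_eq_zero_iff, hϖ.maximalIdeal_eq]
  exact Ideal.mem_span_singleton_self ϖ

lemma exists_factor (h : Good ϖ Γ) (x : Γ) (hx : x ≠ 0) :
    ∃ (n : ℕ) (u : Γ), IsUnit u ∧ x = jA h ϖ ^ n * u := by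
  have hx' : (x : Om A × k') ≠ 0 := fun h0 => hx (Subtype.ext h0)
  obtain ⟨n, y, hy, hy2, he⟩ := h.fac x.1 x.2 hx'
  refine ⟨n, ⟨y, hy⟩, (isUnit_iff h _).mpr hy2, Subtype.ext ?_⟩
  rw [he]
  rfl

lemma maximalIdeal_eq (h : Good ϖ Γ) (hϖ : Irreducible ϖ) [IsLocalRing Γ] :
    maximalIdeal Γ = Ideal.span {jA h ϖ} := by
  apply le_antisymm
  · intro x hx
    rw [← ker_pr2 h, RingHom.mem_ker] at hx
    rw [Ideal.mem_span_singleton']
    by_cases hx0 : x = 0
    · exact ⟨0, by rw [hx0, zero_mul]⟩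
    · obtain ⟨n, u, hu, he⟩ := exists_factor h x hx0
      have hn : n ≠ 0 := by
        intro hn
        rw [hn, pow_zero, one_mul] at he
        rw [he] at hx
        exact (isUnit_iff h u).mp hu hx
      obtain ⟨m, rfl⟩ := Nat.exists_eq_succ_of_ne_zero hn
      exact ⟨jA h ϖ ^ m * u, by rw [he, pow_succ]; ring⟩
  · rw [Ideal.span_singleton_le_iff_mem, ← ker_pr2 h, RingHom.mem_ker]
    exact pr2_jA_varpi h hϖ

lemma dvr (h : Good ϖ Γ) (hϖ : Irreducible ϖ) [IsDomain Γ] : IsDiscreteValuationRing Γ := by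
  haveI := isLocalRing h
  apply IsDiscreteValuationRing.ofHasUnitMulPowIrreducibleFactorization
  refine ⟨jA h ϖ, IsDiscreteValuationRing.irreducible_of_span_eq_maximalIdeal _
    (jA_varpi_ne_zero h hϖ.ne_zero) (maximalIdeal_eq h hϖ), ?_⟩
  intro x hx
  obtain ⟨n, u, hu, he⟩ := exists_factor h x hx
  obtain ⟨u, rfl⟩ := hu
  exact ⟨n, u, he.symm⟩

end ring

end Groth.Agent.Helper3.ResExtSep
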