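import Mathlib
import Groth.Agent.Lib.Helper3.ResExtSep1
import Groth.Agent.Lib.Helper8.SimpExt1
import Groth.Agent.Lib.Helper2.CompletionDVR

/-!
# Discrete valuation rings with prescribed algebraic residue extension, part 2: the extension step
-/

open IsLocalRing Polynomial

namespace Groth.Agent.Helper3.ResExtSep

universe u

/-- A root of a polynomial at which the derivative does not vanish is separable. -/
lemma isSeparable_of_aeval_derivative_ne_zero {E Ω : Type*} [Field E] [Field Ω] [Algebra E Ω]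
    (α : Ω) (G : E[X]) (h0 : aeval α G = 0) (h1 : aeval α (derivative G) ≠ 0) :
    IsSeparable E α := by
  have hG : G ≠ 0 := by
    rintro rfl
    simp at h1
  have hint : IsIntegral E α := IsAlgebraic.isIntegral (⟨G, hG, h0⟩ : IsAlgebraic E α)
  obtain ⟨q, hq⟩ := minpoly.dvd E α h0
  have hd : aeval α (derivative (minpoly E α)) ≠ 0 := by
    intro hd
    apply h1
    rw [hq, derivative_mul, map_add, map_mul, map_mul, hd, minpoly.aeval, zero_mul, zero_mul,
      add_zero]
  have hd' : derivative (minpoly E α) ≠ 0 := by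
    intro h
    rw [h, map_zero] at hd
    exact hd rfl
  exact (separable_iff_derivative_ne_zero (minpoly.irreducible hint)).mpr hd'

variable {A : Type u} [CommRing A] [IsDomain A] [IsDiscreteValuationRing A]
  {k' : Type u} [Field k'] [Algebra (ResidueField A) k']

open Groth.Agent.Helper8.SimpExt in
theorem exists_bigger [Algebra.IsAlgebraic (ResidueField A) k'] (ϖ : A) (hϖ : Irreducible ϖ)
    (Γ : Subring (Om A × k')) (h : Good ϖ Γ) (t : k') :
    ∃ Γ' : Subring (Om A × k'), Good ϖ Γ' ∧ Γ ≤ Γ' ∧ ∃ g ∈ Γ', g.2 = t := by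
  haveI hdom : IsDomain Γ := isDomain h
  haveI hloc : IsLocalRing Γ := isLocalRing h
  haveI hdvr : IsDiscreteValuationRing Γ := dvr h hϖ
  set φ : Γ →+* k' := pr2 Γ with hφdef
  have hφ : RingHom.ker φ = maximalIdeal Γ := ker_pr2 h
  have hϖ0 : jA h ϖ ≠ 0 := jA_varpi_ne_zero h hϖ.ne_zero
  have hφϖ : φ (jA h ϖ) = 0 := pr2_jA_varpi h hϖ
  -- `t` is integral
  have hint : φ.IsIntegralElem t := by
    have h1 : IsIntegral (ResidueField A) t := (Algebra.IsAlgebraic.isAlgebraic t).isIntegral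
    obtain ⟨q, hq, hq0⟩ := h1
    obtain ⟨Q, hQ1, hQ2, -⟩ := exists_monic_lift (B := A) q hq
    refine ⟨Q.map (jA h), hQ1.map _, ?_⟩
    rw [Polynomial.eval₂_map]
    have hcomp : φ.comp (jA h) = rho0 A k' := rfl
    rw [hcomp, rho0, ← Polynomial.eval₂_map, hQ2]
    exact hq0
  obtain ⟨F₀, hF01, hF02, hF03⟩ := exists_minPoly φ t hint
  -- adjust so that the derivative is nonzero
  obtain ⟨F, hF1, hF2, hF3, hF4⟩ : ∃ F : Γ[X], F.Monic ∧ F.eval₂ φ t = 0 ∧
      (∀ p : Γ[X], p.Monic → p.eval₂ φ t = 0 → F.natDegree ≤ p.natDegree) ∧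
      derivative F ≠ 0 := by
    by_cases hd : derivative F₀ = 0
    · have hdeg0 : F₀.natDegree ≠ 0 := by
        intro h0
        rw [hF01.natDegree_eq_zero] at h0
        rw [h0, eval₂_one] at hF02
        exact one_ne_zero hF02
      have hdeg1 : F₀.natDegree ≠ 1 := by
        intro h1
        have hc : (derivative F₀).coeff 0 = 1 := by
          rw [coeff_derivative]
          have h2 : F₀.coeff (0 + 1) = 1 := by
            have h3 := hF01.coeff_natDegree
            rwa [h1] at h3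
          rw [h2]
          simp
        rw [hd, coeff_zero] at hc
        exact zero_ne_one hc
      have hdeg2 : 2 ≤ F₀.natDegree := by omega
      have hqdeg : (C (jA h ϖ) * X : Γ[X]).degree < F₀.degree := by
        calc (C (jA h ϖ) * X : Γ[X]).degree ≤ 1 := degree_C_mul_X_le _
          _ < F₀.degree := by
              rw [degree_eq_natDegree hF01.ne_zero]
              exact_mod_cast hdeg2
      refine ⟨F₀ + C (jA h ϖ) * X, hF01.add_of_left hqdeg, ?_, ?_, ?_⟩
      · rw [eval₂_add, hF02, zero_add, eval₂_mul, eval₂_C, eval₂_X, hφϖ, zero_mul]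
      · intro p hp1 hp2
        rw [natDegree_add_eq_left_of_degree_lt hqdeg]
        exact hF03 p hp1 hp2
      · rw [derivative_add, hd, zero_add, derivative_C_mul, derivative_X, mul_one, Ne, C_eq_zero]
        exact hϖ0
    · exact ⟨F₀, hF01, hF02, hF03, hd⟩
  -- the new ring
  haveI hlocB' : IsLocalRing (AdjoinRoot F) := isLocalRing_adjoinRoot φ hφ t F hF1 hF2 hF3
  have hmaxB' := map_maximalIdeal_adjoinRoot φ hφ t F hF1 hF2 hF3
  have hkerB' := ker_lift_adjoinRoot φ hφ t F hF1 hF2 hF3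
  haveI hnoeB' : IsNoetherianRing (AdjoinRoot F) := isNoetherianRing_adjoinRoot F hF1
  have hdegF : F.degree ≠ 0 := by
    intro h0
    have h1 : F.natDegree = 0 := natDegree_eq_of_degree_eq_some h0
    have hF' : F = 1 := hF1.natDegree_eq_zero.mp h1
    rw [hF', eval₂_one] at hF2
    exact one_ne_zero hF2
  have hofinj : Function.Injective (AdjoinRoot.of F) :=
    AdjoinRoot.of.injective_of_degree_ne_zero hdegF
  have hϖ'0 : AdjoinRoot.of F (jA h ϖ) ≠ 0 := fun h0 => hϖ0 (hofinj (by rw [h0, map_zero]))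
  have hmB' : maximalIdeal (AdjoinRoot F) = Ideal.span {AdjoinRoot.of F (jA h ϖ)} := by
    rw [← hmaxB', maximalIdeal_eq h hϖ, Ideal.map_span, Set.image_singleton]
  haveI hdomB' : IsDomain (AdjoinRoot F) :=
    Groth.Agent.Helper2.CompletionDVR.isDomain_of_principal _ hmB' (fun n => by
      rw [← map_pow]
      exact fun h0 => pow_ne_zero n hϖ0 (hofinj (by rw [h0, map_zero])))
  have hnf : ¬ IsField (AdjoinRoot F) := by
    rw [IsLocalRing.isField_iff_maximalIdeal_eq, hmB', Ideal.span_singleton_eq_bot]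
    exact hϖ'0
  have hprinc : (maximalIdeal (AdjoinRoot F)).IsPrincipal := ⟨⟨_, hmB'⟩⟩
  haveI hdvrB' : IsDiscreteValuationRing (AdjoinRoot F) :=
    ((IsDiscreteValuationRing.TFAE (AdjoinRoot F) hnf).out 0 4).mpr hprinc
  have hirr' : Irreducible (AdjoinRoot.of F (jA h ϖ)) :=
    (IsDiscreteValuationRing.irreducible_iff_uniformizer _).mpr hmB'
  -- the embedding
  obtain ⟨α, hα⟩ := IsAlgClosed.exists_root (F.map (pr1 Γ)) (by rwa [hF1.degree_map])
  have hα' : F.eval₂ (pr1 Γ) α = 0 := by rwa [IsRoot.def, eval_map] at hα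
  set L₁ : AdjoinRoot F →+* Om A := AdjoinRoot.lift (pr1 Γ) α hα' with hL₁
  set L₂ : AdjoinRoot F →+* k' := AdjoinRoot.lift φ t hF2 with hL₂
  have hΨof : ∀ b : Γ, (L₁.prod L₂) (AdjoinRoot.of F b) = (b : Om A × k') := by
    intro b
    refine Prod.ext ?_ ?_
    · change L₁ (AdjoinRoot.of F b) = _
      rw [hL₁, AdjoinRoot.lift_of]
      rfl
    · change L₂ (AdjoinRoot.of F b) = _
      rw [hL₂, AdjoinRoot.lift_of]
      rfl
  have hΨϖ : (L₁.prod L₂) (AdjoinRoot.of F (jA h ϖ)) = iota0 A k' ϖ := hΨof _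
  have hL₁ϖ : L₁ (AdjoinRoot.of F (jA h ϖ)) ≠ 0 := by
    rw [hL₁, AdjoinRoot.lift_of]
    intro h0
    exact hϖ0 (pr1_injective h (by rw [h0, map_zero]))
  have hL₁inj : Function.Injective L₁ := by
    rw [injective_iff_map_eq_zero]
    intro y hy
    by_contra hy0
    obtain ⟨n, u, hu⟩ := IsDiscreteValuationRing.eq_unit_mul_pow_irreducible hy0 hirr'
    rw [hu, map_mul, map_pow] at hy
    have h1 : L₁ (u : AdjoinRoot F) ≠ 0 := (u.isUnit.map L₁).ne_zero
    exact mul_ne_zero h1 (pow_ne_zero n hL₁ϖ) hy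
  -- separability
  have hιS : ∀ b : Γ, pr1 Γ b ∈ separableClosure (FractionRing A) (Om A) :=
    fun b => h.sep b.1 b.2
  have hαS : IsSeparable (separableClosure (FractionRing A) (Om A)) α := by
    set ιS : Γ →+* separableClosure (FractionRing A) (Om A) :=
      (pr1 Γ).codRestrict (separableClosure (FractionRing A) (Om A)) hιS with hιSdef
    have hcomp : (algebraMap (separableClosure (FractionRing A) (Om A)) (Om A)).comp ιS = pr1 Γ :=
      RingHom.ext fun b => rfl
    apply isSeparable_of_aeval_derivative_ne_zero α (F.map ιS)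
    · rw [aeval_def, eval₂_map, hcomp]
      exact hα'
    · rw [derivative_map, aeval_def, eval₂_map, hcomp]
      intro h0
      have h1 : L₁ (AdjoinRoot.mk F (derivative F)) = 0 := by
        rw [hL₁, AdjoinRoot.lift_mk]
        exact h0
      have h2 := hL₁inj (h1.trans (map_zero L₁).symm)
      rw [AdjoinRoot.mk_eq_zero] at h2
      exact hF1.not_dvd_of_degree_lt hF4 (degree_derivative_lt hF1.ne_zero) h2
  have hαK : IsSeparable (FractionRing A) α :=
    IsSeparable.of_algebra_isSeparable_of_isSeparable (F := FractionRing A)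
      (E := separableClosure (FractionRing A) (Om A)) hαS
  have hαmem : α ∈ separableClosure (FractionRing A) (Om A) := hαK
  have hL₁S : ∀ y, L₁ y ∈ separableClosure (FractionRing A) (Om A) := by
    intro y
    induction y using AdjoinRoot.induction_on with
    | ih p =>
      rw [hL₁, AdjoinRoot.lift_mk, eval₂_eq_sum_range]
      exact sum_mem fun i _ => mul_mem (hιS _) (pow_mem hαmem i)
  -- the new graph
  refine ⟨(L₁.prod L₂).range, ⟨?_, ?_, ?_, ?_, ?_⟩, ?_, ?_⟩
  · intro a
    exact ⟨AdjoinRoot.of F (jA h a), hΨof _⟩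
  · rintro _ ⟨y, rfl⟩ h0
    have hy : L₁ y = 0 := h0
    have hy0 : y = 0 := hL₁inj (hy.trans (map_zero L₁).symm)
    rw [hy0, map_zero]
    rfl
  · rintro _ ⟨y, rfl⟩ hne
    have hy0 : y ≠ 0 := fun h0 => hne (by rw [h0, map_zero])
    obtain ⟨n, u, hu⟩ := IsDiscreteValuationRing.eq_unit_mul_pow_irreducible hy0 hirr'
    refine ⟨n, (L₁.prod L₂) u, ⟨u, rfl⟩, ?_, ?_⟩
    · change L₂ (u : AdjoinRoot F) ≠ 0
      exact (u.isUnit.map L₂).ne_zero
    · rw [hu, map_mul, map_pow, hΨϖ, mul_comm]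
  · rintro _ ⟨y, rfl⟩ h2
    have hy2 : L₂ y ≠ 0 := h2
    have hyu : IsUnit y := by
      by_contra hnu
      apply hy2
      have : y ∈ maximalIdeal (AdjoinRoot F) := (mem_maximalIdeal y).mpr hnu
      rw [← hkerB', RingHom.mem_ker] at this
      exact this
    obtain ⟨u, rfl⟩ := hyu
    exact ⟨(L₁.prod L₂) ↑u⁻¹, ⟨_, rfl⟩, by rw [← map_mul, Units.mul_inv, map_one]⟩
  · rintro _ ⟨y, rfl⟩
    exact hL₁S y
  · intro g hg
    exact ⟨AdjoinRoot.of F ⟨g, hg⟩, hΨof _⟩
  · refine ⟨(L₁.prod L₂) (AdjoinRoot.root F), ⟨_, rfl⟩, ?_⟩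
    change L₂ (AdjoinRoot.root F) = t
    rw [hL₂, AdjoinRoot.lift_root]

end Groth.Agent.Helper3.ResExtSep
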