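import Mathlib
import Groth.Agent.Lib.Helper3.ResExtSep2

/-!
# Discrete valuation rings with prescribed algebraic residue extension, part 3: main theorem
-/

open IsLocalRing Polynomial

namespace Groth.Agent.Helper3.ResExtSep

universe u

theorem main (OK : Type u) [CommRing OK] [IsDomain OK] [IsDiscreteValuationRing OK]
    (k' : Type u) [Field k'] [Algebra (IsLocalRing.ResidueField OK) k']
    [Algebra.IsAlgebraic (IsLocalRing.ResidueField OK) k'] :
    ∃ (OL : Type u) (_ : CommRing OL) (_ : IsDomain OL) (_ : IsDiscreteValuationRing OL)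
      (φ : OK →+* OL),
      Function.Injective φ ∧ IsLocalHom φ ∧
      Ideal.map φ (IsLocalRing.maximalIdeal OK) = IsLocalRing.maximalIdeal OL ∧
      (∃ e : IsLocalRing.ResidueField OL ≃+* k',
        ∀ a : OK, e (IsLocalRing.residue OL (φ a)) =
          algebraMap (IsLocalRing.ResidueField OK) k' (IsLocalRing.residue OK a)) ∧
      ∀ x : OL, ∃ p : Polynomial OK,
        (p.map (algebraMap OK (FractionRing OK))).Separable ∧ Polynomial.eval₂ φ x p = 0 := by
  obtain ⟨ϖ, hϖ⟩ := IsDiscreteValuationRing.exists_irreducible OK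
  obtain ⟨Γ, -, hmax⟩ := zorn_le_nonempty₀ {Γ : Subring (Om OK × k') | Good ϖ Γ}
    (fun c hcs hc y hy => ⟨sSup c, good_sSup ϖ c hc ⟨y, hy⟩ (fun Γ hΓ => hcs hΓ),
      fun z hz => le_sSup hz⟩) _ (good_range (k' := k') ϖ hϖ)
  have hΓ : Good ϖ Γ := hmax.prop
  have hsurj : Function.Surjective (pr2 Γ) := by
    intro t
    obtain ⟨Γ', hΓ', hle, g, hg, hgt⟩ := exists_bigger ϖ hϖ Γ hΓ t
    have hle' : Γ' ≤ Γ := hmax.le_of_ge hΓ' hle
    exact ⟨⟨g, hle' hg⟩, hgt⟩
  haveI hdom : IsDomain Γ := isDomain hΓ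
  have hdvr : IsDiscreteValuationRing Γ := dvr hΓ hϖ
  refine ⟨Γ, inferInstance, hdom, hdvr, jA hΓ, ?_, ?_, ?_, ?_, ?_⟩
  · intro a b hab
    apply algebraMap_Om_injective OK
    rw [← pr1_jA hΓ a, ← pr1_jA hΓ b, hab]
  · refine ⟨fun a ha => ?_⟩
    have h1 : pr2 Γ (jA hΓ a) ≠ 0 := (isUnit_iff hΓ _).mp ha
    rw [pr2_jA, Ne, rho0_eq_zero_iff] at h1
    exact IsLocalRing.notMem_maximalIdeal.mp h1
  · rw [hϖ.maximalIdeal_eq, Ideal.map_span, Set.image_singleton, maximalIdeal_eq hΓ hϖ]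
  · haveI hlh : IsLocalHom (pr2 Γ) := ⟨fun x hx => (isUnit_iff hΓ x).mpr hx.ne_zero⟩
    have he0 : Function.Bijective (ResidueField.lift (pr2 Γ)) := by
      refine ⟨(ResidueField.lift (pr2 Γ)).injective, fun t => ?_⟩
      obtain ⟨x, hx⟩ := hsurj t
      exact ⟨residue Γ x, by rw [ResidueField.lift_residue_apply]; exact hx⟩
    refine ⟨RingEquiv.ofBijective (ResidueField.lift (pr2 Γ)) he0, fun a => ?_⟩
    change ResidueField.lift (pr2 Γ) (residue Γ (jA hΓ a)) = _
    rw [ResidueField.lift_residue_apply]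
    rfl
  · intro x
    have hs : IsSeparable (FractionRing OK) (x : Om OK × k').1 := hΓ.sep x.1 x.2
    obtain ⟨b, hb⟩ := IsLocalization.integerNormalization_map_to_map (nonZeroDivisors OK)
      (minpoly (FractionRing OK) (x : Om OK × k').1)
    refine ⟨IsLocalization.integerNormalization (nonZeroDivisors OK)
      (minpoly (FractionRing OK) (x : Om OK × k').1), ?_, ?_⟩
    · rw [hb, ← algebraMap_smul (FractionRing OK) (b : OK), Polynomial.smul_eq_C_mul]
      refine Polynomial.Separable.unit_mul (Polynomial.isUnit_C.mpr ?_) hs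
      rw [isUnit_iff_ne_zero]
      exact IsFractionRing.to_map_ne_zero_of_mem_nonZeroDivisors b.2
    · apply pr1_injective hΓ
      rw [map_zero, Polynomial.hom_eval₂]
      have hcomp : (pr1 Γ).comp (jA hΓ) = algebraMap OK (Om OK) := rfl
      rw [hcomp, ← aeval_def]
      exact IsLocalization.integerNormalization_aeval_eq_zero _ _ (minpoly.aeval _ _)

end Groth.Agent.Helper3.ResExtSep
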