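import Groth.Prelude.Def_SGA6
import Mathlib

/-! Resolution theorem for `K₀`: the `K₀` part (no chain complexes). -/

namespace Groth.Agent.Helper3.ResK0A

open CategoryTheory CategoryTheory.Limits

universe v u

variable {C : Type u} [Category.{v} C] [Abelian C]

lemma se_kernel {L A : C} (p : L ⟶ A) [Epi p] :
    (ShortComplex.mk (kernel.ι p) p (kernel.condition p)).ShortExact where
  exact := ShortComplex.exact_of_f_is_kernel _ (kernelIsKernel p)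

/-- Kernels of a morphism of short exact sequences with epi left vertical map. -/
lemma kernel_ses {X₁ X₂ X₃ Y₁ Y₂ Y₃ K₁ K₂ K₃ : C}
    (j : X₁ ⟶ X₂) (π : X₂ ⟶ X₃) (f : Y₁ ⟶ Y₂) (g : Y₂ ⟶ Y₃)
    (α : X₁ ⟶ Y₁) (β : X₂ ⟶ Y₂) (γ : X₃ ⟶ Y₃)
    (ι₁ : K₁ ⟶ X₁) (ι₂ : K₂ ⟶ X₂) (ι₃ : K₃ ⟶ X₃) (a : K₁ ⟶ K₂) (b : K₂ ⟶ K₃)
    (wT : j ≫ π = 0) (hT : (ShortComplex.mk j π wT).ShortExact) [Mono f] (wfg : f ≫ g = 0)
    (hfg : (ShortComplex.mk f g wfg).Exact)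
    (c₁ : j ≫ β = α ≫ f) (c₂ : π ≫ γ = β ≫ g) [Epi α]
    (w₁ : ι₁ ≫ α = 0) (w₂ : ι₂ ≫ β = 0) (w₃ : ι₃ ≫ γ = 0)
    (h₁ : IsLimit (KernelFork.ofι ι₁ w₁)) (h₂ : IsLimit (KernelFork.ofι ι₂ w₂))
    (h₃ : IsLimit (KernelFork.ofι ι₃ w₃))
    (ca : a ≫ ι₂ = ι₁ ≫ j) (cb : b ≫ ι₃ = ι₂ ≫ π) (wab : a ≫ b = 0) :
    (ShortComplex.mk a b wab).ShortExact := by
  have := hT.mono_f
  have := hT.epi_g
  have hι₁ : Mono ι₁ := mono_of_isLimit_fork h₁
  have hι₂ : Mono ι₂ := mono_of_isLimit_fork h₂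
  have hι₃ : Mono ι₃ := mono_of_isLimit_fork h₃
  have hma : Mono a := by
    have : Mono (a ≫ ι₂) := by rw [ca]; infer_instance
    exact mono_of_mono a ι₂
  have hexact : (ShortComplex.mk a b wab).Exact := by
    rw [ShortComplex.exact_iff_exact_up_to_refinements]
    intro T x hx
    dsimp at x hx
    have h0 : (x ≫ ι₂) ≫ π = 0 := by rw [Category.assoc, ← cb, reassoc_of% hx, zero_comp]
    obtain ⟨T₁, π₁, hπ₁, x₁, hx₁⟩ := hT.exact.exact_up_to_refinements (x ≫ ι₂) h0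
    dsimp at x₁ hx₁
    have h1 : x₁ ≫ α = 0 := by
      rw [← cancel_mono f, Category.assoc, ← c₁, ← reassoc_of% hx₁, w₂, comp_zero, comp_zero,
        zero_comp]
    refine ⟨T₁, π₁, hπ₁, KernelFork.IsLimit.lift' h₁ x₁ h1 |>.1, ?_⟩
    dsimp
    rw [← cancel_mono ι₂, Category.assoc, Category.assoc, ca]
    have := (KernelFork.IsLimit.lift' h₁ x₁ h1).2
    dsimp at this
    rw [reassoc_of% this, hx₁]
  have heb : Epi b := by
    rw [epi_iff_surjective_up_to_refinements]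
    intro T y
    obtain ⟨T₁, π₁, hπ₁, x₂, hx₂⟩ := surjective_up_to_refinements_of_epi π (y ≫ ι₃)
    have h0 : (x₂ ≫ β) ≫ g = 0 := by
      rw [Category.assoc, ← c₂, ← reassoc_of% hx₂, w₃, comp_zero, comp_zero]
    obtain ⟨T₂, π₂, hπ₂, y₁, hy₁⟩ := hfg.exact_up_to_refinements (x₂ ≫ β) h0
    dsimp at y₁ hy₁
    obtain ⟨T₃, π₃, hπ₃, x₁, hx₁⟩ := surjective_up_to_refinements_of_epi α y₁
    have h1 : (π₃ ≫ π₂ ≫ x₂ - x₁ ≫ j) ≫ β = 0 := by
      rw [Preadditive.sub_comp, Category.assoc, Category.assoc, Category.assoc, c₁, hy₁,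
        ← reassoc_of% hx₁, sub_self]
    refine ⟨T₃, π₃ ≫ π₂ ≫ π₁, inferInstance, KernelFork.IsLimit.lift' h₂ _ h1 |>.1, ?_⟩
    have := (KernelFork.IsLimit.lift' h₂ _ h1).2
    dsimp at this
    rw [← cancel_mono ι₃, Category.assoc, Category.assoc _ b, cb, reassoc_of% this, Preadditive.sub_comp]
    simp only [Category.assoc]
    rw [wT, comp_zero, sub_zero, hx₂]
  exact { exact := hexact }

/-- Middle map of a morphism of short exact sequences is epi if the outer ones are. -/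
lemma epi_mid {X₁ X₂ X₃ Y₁ Y₂ Y₃ : C}
    (j : X₁ ⟶ X₂) (π : X₂ ⟶ X₃) (f : Y₁ ⟶ Y₂) (g : Y₂ ⟶ Y₃)
    (α : X₁ ⟶ Y₁) (β : X₂ ⟶ Y₂) (γ : X₃ ⟶ Y₃) [Epi π] (wfg : f ≫ g = 0)
    (hfg : (ShortComplex.mk f g wfg).Exact)
    (c₁ : j ≫ β = α ≫ f) (c₂ : π ≫ γ = β ≫ g) [Epi α] [Epi γ] : Epi β := by
  rw [epi_iff_surjective_up_to_refinements]
  intro T y
  obtain ⟨T₁, π₁, hπ₁, x₂, hx₂⟩ := surjective_up_to_refinements_of_epi (π ≫ γ) (y ≫ g)
  have h0 : (π₁ ≫ y - x₂ ≫ β) ≫ g = 0 := by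
    rw [Preadditive.sub_comp, Category.assoc, Category.assoc, hx₂, c₂, sub_self]
  obtain ⟨T₂, π₂, hπ₂, y₁, hy₁⟩ := hfg.exact_up_to_refinements _ h0
  dsimp at y₁ hy₁
  obtain ⟨T₃, π₃, hπ₃, x₁, hx₁⟩ := surjective_up_to_refinements_of_epi α y₁
  refine ⟨T₃, π₃ ≫ π₂ ≫ π₁, inferInstance, π₃ ≫ π₂ ≫ x₂ + x₁ ≫ j, ?_⟩
  rw [Preadditive.add_comp]
  simp only [Category.assoc]
  rw [c₁, ← reassoc_of% hx₁, ← hy₁, Preadditive.comp_sub, Preadditive.comp_sub]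
  abel

/-- The standing hypotheses. -/
structure Hyp (P₀ P₁ : ObjectProperty C) : Prop where
  iso₀ : ∀ {X Y : C}, (X ≅ Y) → P₀ X → P₀ Y
  hle : ∀ X, P₀ X → P₁ X
  hext₀ : ∀ S : ShortComplex C, S.ShortExact → P₀ S.X₁ → P₀ S.X₃ → P₀ S.X₂
  hext₁ : ∀ S : ShortComplex C, S.ShortExact → P₁ S.X₁ → P₁ S.X₃ → P₁ S.X₂
  h1₀ : ∀ S : ShortComplex C, S.ShortExact → P₀ S.X₂ → P₀ S.X₃ → P₀ S.X₁
  h1₁ : ∀ S : ShortComplex C, S.ShortExact → P₁ S.X₂ → P₁ S.X₃ → P₁ S.X₁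
  h2 : ∀ (A B D : C) (u : A ⟶ B) (v : D ⟶ B), Epi u → P₁ A → P₁ B → P₁ D →
      ∃ (L : C) (u' : L ⟶ D) (v' : L ⟶ A), P₀ L ∧ Epi u' ∧ u' ≫ v = v' ≫ u

variable {P₀ P₁ : ObjectProperty C}

/-- `Good n A`: `A` has `P₀`-dimension `≤ n`, uniformly in all presentations. -/
def Good (P₀ P₁ : ObjectProperty C) : ℕ → C → Prop
  | 0, A => P₀ A
  | (n + 1), A => P₁ A ∧ ∀ (L : C) (p : L ⟶ A), Epi p → P₀ L → Good P₀ P₁ n (kernel p)

namespace Hyp

variable (H : Hyp P₀ P₁)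
include H

lemma exists_pres {A : C} (hA : P₁ A) : ∃ (L : C) (p : L ⟶ A), Epi p ∧ P₀ L := by
  obtain ⟨L, u', _, hL, hu', _⟩ := H.h2 A A A (𝟙 A) (𝟙 A) inferInstance hA hA hA
  exact ⟨L, u', hu', hL⟩

lemma p1_kernel {L A : C} (p : L ⟶ A) [Epi p] (hL : P₀ L) (hA : P₁ A) : P₁ (kernel p) :=
  H.h1₁ _ (se_kernel p) (H.hle _ hL) hA

lemma good_p1 : ∀ {n : ℕ} {A : C}, Good P₀ P₁ n A → P₁ A
  | 0, _, h => H.hle _ h
  | (_ + 1), _, h => h.1

lemma good_succ : ∀ {n : ℕ} {A : C}, Good P₀ P₁ n A → Good P₀ P₁ (n + 1) A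
  | 0, A, h => ⟨H.hle _ h, fun L p hp hL => by
      haveI := hp
      exact H.h1₀ _ (se_kernel p) hL h⟩
  | (n + 1), A, h => ⟨h.1, fun L p hp hL => good_succ (h.2 L p hp hL)⟩

lemma good_mono {n m : ℕ} (hnm : n ≤ m) {A : C} (h : Good P₀ P₁ n A) : Good P₀ P₁ m A := by
  induction m, hnm using Nat.le_induction with
  | base => exact h
  | succ m _ ih => exact H.good_succ ih

lemma good_of_p0 {A : C} (h : P₀ A) (n : ℕ) : Good P₀ P₁ n A :=
  H.good_mono (Nat.zero_le n) h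

lemma good_kernel {n : ℕ} {A : C} (h : Good P₀ P₁ (n + 1) A) {L : C} (p : L ⟶ A) [Epi p]
    (hL : P₀ L) : Good P₀ P₁ n (kernel p) :=
  h.2 L p inferInstance hL

end Hyp

open KZero

/-- The class of a `P₀`-object in `K₀(P₀)`. -/
def cls (P₀ : ObjectProperty C) {A : C} (h : P₀ A) : K0sub P₀ :=
  QuotientAddGroup.mk (FreeAbelianGroup.of ⟨A, h⟩)

lemma cls_add (S : ShortComplex C) (hS : S.ShortExact) (h₁ : P₀ S.X₁) (h₂ : P₀ S.X₂)
    (h₃ : P₀ S.X₃) : cls P₀ h₂ = cls P₀ h₁ + cls P₀ h₃ := by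
  have h : (QuotientAddGroup.mk (FreeAbelianGroup.of ⟨S.X₂, h₂⟩ -
      FreeAbelianGroup.of ⟨S.X₁, h₁⟩ - FreeAbelianGroup.of ⟨S.X₃, h₃⟩) : K0sub P₀) = 0 := by
    rw [QuotientAddGroup.eq_zero_iff]
    exact AddSubgroup.subset_closure ⟨S, h₁, h₂, h₃, hS, rfl⟩
  rw [QuotientAddGroup.mk_sub, QuotientAddGroup.mk_sub, sub_sub, sub_eq_zero] at h
  exact h

/-- `ψ` is an additive extension of the class function to objects of dimension `≤ n`. -/
structure Ext (P₀ P₁ : ObjectProperty C) (n : ℕ) (ψ : C → K0sub P₀) : Prop where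
  base : ∀ (A : C) (h : P₀ A), ψ A = cls P₀ h
  add : ∀ S : ShortComplex C, S.ShortExact → Good P₀ P₁ n S.X₁ → Good P₀ P₁ n S.X₂ →
    Good P₀ P₁ n S.X₃ → ψ S.X₂ = ψ S.X₁ + ψ S.X₃

namespace Hyp

variable (H : Hyp P₀ P₁)
include H

lemma ext_of_le {n m : ℕ} (hnm : n ≤ m) {ψ : C → K0sub P₀} (h : Ext P₀ P₁ m ψ) :
    Ext P₀ P₁ n ψ where
  base := h.base
  add S hS h₁ h₂ h₃ := h.add S hS (H.good_mono hnm h₁) (H.good_mono hnm h₂) (H.good_mono hnm h₃)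

/-- comparison of two presentations related by a monomorphism with cokernel in `P₀`. -/
lemma pres_compare {n : ℕ} {ψ : C → K0sub P₀} (hψ : Ext P₀ P₁ n ψ) {A L M N : C}
    (hA : Good P₀ P₁ (n + 1) A) (p : L ⟶ A) [Epi p] (hL : P₀ L) (q : M ⟶ A) [Epi q] (hM : P₀ M)
    (hN : P₀ N) (j : L ⟶ M) (π : M ⟶ N) (w : j ≫ π = 0)
    (hS : (ShortComplex.mk j π w).ShortExact) (hjq : j ≫ q = p) :
    cls P₀ hM - ψ (kernel q) = cls P₀ hL - ψ (kernel p) := by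
  have wab : kernel.lift q (kernel.ι p ≫ j) (by rw [Category.assoc, hjq, kernel.condition]) ≫
      (kernel.ι q ≫ π) = 0 := by
    rw [kernel.lift_ι_assoc, Category.assoc, w, comp_zero]
  have hse : (ShortComplex.mk _ _ wab).ShortExact :=
    kernel_ses j π (𝟙 A) (0 : A ⟶ A) p q (0 : N ⟶ A) (kernel.ι p) (kernel.ι q) (𝟙 N) _ _ w hS
      (by simp) ((ShortComplex.exact_iff_epi _ rfl).2 (by dsimp; infer_instance))
      (by simp [hjq]) (by simp) (kernel.condition p) (kernel.condition q) (by simp)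
      (kernelIsKernel p) (kernelIsKernel q) (KernelFork.IsLimit.ofId _ rfl)
      (by simp) (by simp) wab
  have h1 := hψ.add _ hse (H.good_kernel hA p hL) (H.good_kernel hA q hM) (H.good_of_p0 hN n)
  dsimp at h1
  have h2 := cls_add _ hS hL hM hN
  dsimp at h2
  rw [h1, h2, hψ.base N hN]
  abel

lemma p0_biprod {L L' : C} (hL : P₀ L) (hL' : P₀ L') : P₀ (L ⊞ L') :=
  H.hext₀ (ShortComplex.mk biprod.inl biprod.snd (by simp))
    (ShortComplex.Splitting.ofHasBinaryBiproduct L L').shortExact hL hL'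

omit H in
lemma se_inr_fst (X Y : C) :
    (ShortComplex.mk (biprod.inr : Y ⟶ X ⊞ Y) biprod.fst (by simp)).ShortExact :=
  (ShortComplex.Splitting.mk (S := ShortComplex.mk (biprod.inr : Y ⟶ X ⊞ Y) biprod.fst (by simp))
    biprod.snd biprod.inl (by simp) (by simp)
    (by dsimp; rw [add_comm]; exact biprod.total)).shortExact

/-- independence of the presentation. -/
lemma pres_indep {n : ℕ} {ψ : C → K0sub P₀} (hψ : Ext P₀ P₁ n ψ) {A L L' : C}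
    (hA : Good P₀ P₁ (n + 1) A) (p : L ⟶ A) [Epi p] (hL : P₀ L) (p' : L' ⟶ A) [Epi p']
    (hL' : P₀ L') :
    cls P₀ hL - ψ (kernel p) = cls P₀ hL' - ψ (kernel p') := by
  have hLL' : P₀ (L ⊞ L') := H.p0_biprod hL hL'
  haveI : Epi (biprod.desc p p') := epi_of_epi_fac (biprod.inl_desc p p')
  have e1 := H.pres_compare hψ hA p hL (biprod.desc p p') hLL' hL' biprod.inl biprod.snd
    (by simp) (ShortComplex.Splitting.ofHasBinaryBiproduct L L').shortExact (by simp)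
  have e2 := H.pres_compare hψ hA p' hL' (biprod.desc p p') hLL' hL biprod.inr biprod.fst
    (by simp) (se_inr_fst L L') (by simp)
  rw [← e1, e2]

end Hyp

open Classical in
/-- The extension of `ψ` to the next dimension. -/
noncomputable def next (P₀ : ObjectProperty C) (ψ : C → K0sub P₀) (A : C) : K0sub P₀ :=
  if h : ∃ (L : C) (p : L ⟶ A), Epi p ∧ P₀ L then
    cls P₀ h.choose_spec.choose_spec.2 - ψ (kernel h.choose_spec.choose)
  else 0

namespace Hyp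

variable (H : Hyp P₀ P₁)
include H

lemma next_eq {n : ℕ} {ψ : C → K0sub P₀} (hψ : Ext P₀ P₁ n ψ) {A L : C}
    (hA : Good P₀ P₁ (n + 1) A) (p : L ⟶ A) [Epi p] (hL : P₀ L) :
    next P₀ ψ A = cls P₀ hL - ψ (kernel p) := by
  have h : ∃ (L : C) (p : L ⟶ A), Epi p ∧ P₀ L := ⟨L, p, inferInstance, hL⟩
  unfold next
  rw [dif_pos h]
  haveI := h.choose_spec.choose_spec.1
  exact H.pres_indep hψ hA _ _ p hL

lemma ext_next {n : ℕ} {ψ : C → K0sub P₀} (hψ : Ext P₀ P₁ n ψ) :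
    Ext P₀ P₁ (n + 1) (next P₀ ψ) where
  base A hA := by
    rw [H.next_eq hψ (H.good_of_p0 hA (n + 1)) (𝟙 A) hA]
    have hk : P₀ (kernel (𝟙 A)) := H.h1₀ _ (se_kernel (𝟙 A)) hA hA
    rw [hψ.base _ hk]
    have := cls_add _ (se_kernel (𝟙 A)) hk hA hA
    dsimp at this
    have h0 : cls P₀ hk = 0 := by
      have h' : cls P₀ hk + cls P₀ hA = 0 + cls P₀ hA := by rw [zero_add]; exact this.symm
      exact add_right_cancel h'
    rw [h0, sub_zero]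
  add S hS h₁ h₂ h₃ := by
    have := hS.mono_f
    have := hS.epi_g
    obtain ⟨L', p', hp', hL'⟩ := H.exists_pres (H.good_p1 h₁)
    obtain ⟨L'', p'', hp'', hL''⟩ := H.exists_pres (H.good_p1 h₃)
    obtain ⟨L₁, u', v', hL₁, hu', hc⟩ := H.h2 S.X₂ S.X₃ L'' S.g p'' inferInstance (H.good_p1 h₂)
      (H.good_p1 h₃) (H.hle _ hL'')
    have hq : Epi (u' ≫ p'') := epi_comp _ _
    have hLL₁ : P₀ (L' ⊞ L₁) := H.p0_biprod hL' hL₁
    have c₁ : biprod.inl ≫ biprod.desc (p' ≫ S.f) v' = p' ≫ S.f := by simp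
    have c₂ : biprod.snd ≫ (u' ≫ p'') = biprod.desc (p' ≫ S.f) v' ≫ S.g := by
      ext <;> simp [hc]
    have hβ : Epi (biprod.desc (p' ≫ S.f) v') :=
      epi_mid biprod.inl biprod.snd S.f S.g p' _ (u' ≫ p'') S.zero hS.exact c₁ c₂
    have wa : (kernel.ι p' ≫ biprod.inl) ≫ biprod.desc (p' ≫ S.f) v' = 0 := by
      rw [Category.assoc, c₁, kernel.condition_assoc, zero_comp]
    have wb : (kernel.ι (biprod.desc (p' ≫ S.f) v') ≫ biprod.snd) ≫ (u' ≫ p'') = 0 := by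
      rw [Category.assoc, c₂, kernel.condition_assoc, zero_comp]
    have wab : kernel.lift _ _ wa ≫ kernel.lift _ _ wb = 0 := by
      rw [← cancel_mono (kernel.ι _), Category.assoc, kernel.lift_ι, kernel.lift_ι_assoc,
        Category.assoc, biprod.inl_snd, comp_zero, zero_comp]
    have hse : (ShortComplex.mk _ _ wab).ShortExact :=
      kernel_ses biprod.inl biprod.snd S.f S.g p' (biprod.desc (p' ≫ S.f) v') (u' ≫ p'')
        (kernel.ι _) (kernel.ι _) (kernel.ι _) _ _ (by simp)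
        (ShortComplex.Splitting.ofHasBinaryBiproduct L' L₁).shortExact S.zero hS.exact c₁ c₂
        (kernel.condition _) (kernel.condition _) (kernel.condition _)
        (kernelIsKernel _) (kernelIsKernel _) (kernelIsKernel _)
        (kernel.lift_ι _ _ _) (kernel.lift_ι _ _ _) wab
    have e := hψ.add _ hse (H.good_kernel h₁ p' hL')
      (H.good_kernel h₂ (biprod.desc (p' ≫ S.f) v') hLL₁) (H.good_kernel h₃ (u' ≫ p'') hL₁)
    dsimp at e
    rw [H.next_eq hψ h₁ p' hL', H.next_eq hψ h₂ (biprod.desc (p' ≫ S.f) v') hLL₁,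
      H.next_eq hψ h₃ (u' ≫ p'') hL₁, e]
    have := cls_add _ (ShortComplex.Splitting.ofHasBinaryBiproduct L' L₁).shortExact hL' hLL₁ hL₁
    dsimp at this
    rw [this]
    abel

lemma exists_ext : ∀ n : ℕ, ∃ ψ : C → K0sub P₀, Ext P₀ P₁ n ψ
  | 0 => ⟨clSub P₀, { base := fun A h => dif_pos h
                      add := fun S hS h₁ h₂ h₃ => by
                        change P₀ _ at h₁ h₂ h₃
                        have e₁ : clSub P₀ S.X₁ = cls P₀ h₁ := dif_pos h₁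
                        have e₂ : clSub P₀ S.X₂ = cls P₀ h₂ := dif_pos h₂
                        have e₃ : clSub P₀ S.X₃ = cls P₀ h₃ := dif_pos h₃
                        rw [e₁, e₂, e₃]
                        exact cls_add S hS h₁ h₂ h₃ }⟩
  | (n + 1) => by
    obtain ⟨ψ, hψ⟩ := exists_ext n
    exact ⟨next P₀ ψ, H.ext_next hψ⟩

/-- uniqueness of extensions. -/
lemma ext_unique {n : ℕ} {ψ ψ' : C → K0sub P₀} (hψ : Ext P₀ P₁ n ψ) (hψ' : Ext P₀ P₁ n ψ') :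
    ∀ (m : ℕ), m ≤ n → ∀ (A : C), Good P₀ P₁ m A → ψ A = ψ' A
  | 0, _, A, hA => by
    change P₀ A at hA
    rw [hψ.base A hA, hψ'.base A hA]
  | (m + 1), hm, A, hA => by
    obtain ⟨L, p, hp, hL⟩ := H.exists_pres (H.good_p1 hA)
    have hK : Good P₀ P₁ m (kernel p) := H.good_kernel hA p hL
    have e := ext_unique hψ hψ' m (by lia) (kernel p) hK
    have a := hψ.add _ (se_kernel p) (H.good_mono (by lia) hK) (H.good_of_p0 hL n)
      (H.good_mono hm hA)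
    have a' := hψ'.add _ (se_kernel p) (H.good_mono (by lia) hK) (H.good_of_p0 hL n)
      (H.good_mono hm hA)
    dsimp at a a'
    rw [hψ.base L hL, e] at a
    rw [hψ'.base L hL] at a'
    rw [a] at a'
    exact (add_left_cancel a').symm.symm ▸ rfl

lemma mem_range {n : ℕ} : ∀ {A : C} (hA : P₁ A), Good P₀ P₁ n A →
    (QuotientAddGroup.mk (FreeAbelianGroup.of ⟨A, hA⟩) : K0sub P₁) ∈
      (SGA6.mapSub (𝟭 C) P₀ P₁ H.hle).range := by
  induction n with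
  | zero =>
    intro A hA h
    exact ⟨cls P₀ h, by simp [cls, SGA6.mapSub, SGA6.objMap]⟩
  | succ n ih =>
    intro A hA h
    obtain ⟨L, p, hp, hL⟩ := H.exists_pres hA
    have hK := H.good_kernel h p hL
    have e := cls_add (P₀ := P₁) _ (se_kernel p) (H.good_p1 hK) (H.hle _ hL) hA
    dsimp at e
    have e' : (QuotientAddGroup.mk (FreeAbelianGroup.of ⟨A, hA⟩) : K0sub P₁) =
        cls P₁ (H.hle _ hL) - cls P₁ (H.good_p1 hK) := by
      rw [e]; unfold cls; abel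
    rw [e']
    exact sub_mem (ih (H.hle _ hL) (H.good_of_p0 hL n)) (ih (H.good_p1 hK) hK)

theorem main (hgood : ∀ A, P₁ A → ∃ n, Good P₀ P₁ n A) :
    Function.Bijective (SGA6.mapSub (𝟭 C) P₀ P₁ H.hle) := by
  classical
  choose ψ hψ using H.exists_ext
  choose N hN using hgood
  let Ψ : Subtype P₁ → K0sub P₀ := fun X => ψ (N X.1 X.2) X.1
  have hΨ : ∀ (n : ℕ) (X : Subtype P₁), Good P₀ P₁ n X.1 → Ψ X = ψ n X.1 := by
    intro n X hX
    have h1 := H.ext_unique (H.ext_of_le (le_max_left n (N X.1 X.2)) (hψ _)) (hψ n) n le_rfl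
      X.1 hX
    have h2 := H.ext_unique (H.ext_of_le (le_max_right n (N X.1 X.2)) (hψ _)) (hψ (N X.1 X.2)) _
      le_rfl X.1 (hN X.1 X.2)
    exact h2.symm.trans h1
  let φ₀ : FreeAbelianGroup (Subtype P₁) →+ K0sub P₀ := FreeAbelianGroup.lift Ψ
  have hφ₀ : relSub P₁ ≤ φ₀.ker := by
    refine (AddSubgroup.closure_le _).2 ?_
    rintro _ ⟨S, h₁, h₂, h₃, hS, rfl⟩
    rw [SetLike.mem_coe, AddMonoidHom.mem_ker, map_sub, map_sub]
    simp only [φ₀, FreeAbelianGroup.lift_apply_of]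
    have g₁ : Good P₀ P₁ (max (N _ h₁) (max (N _ h₂) (N _ h₃))) S.X₁ :=
      H.good_mono (le_max_left _ _) (hN _ h₁)
    have g₂ : Good P₀ P₁ (max (N _ h₁) (max (N _ h₂) (N _ h₃))) S.X₂ :=
      H.good_mono ((le_max_left _ _).trans (le_max_right _ _)) (hN _ h₂)
    have g₃ : Good P₀ P₁ (max (N _ h₁) (max (N _ h₂) (N _ h₃))) S.X₃ :=
      H.good_mono ((le_max_right _ _).trans (le_max_right _ _)) (hN _ h₃)
    rw [hΨ _ ⟨_, h₁⟩ g₁, hΨ _ ⟨_, h₂⟩ g₂, hΨ _ ⟨_, h₃⟩ g₃, (hψ _).add S hS g₁ g₂ g₃]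
    abel
  let Φ : K0sub P₁ →+ K0sub P₀ := QuotientAddGroup.lift _ φ₀ hφ₀
  have hcomp : Φ.comp (SGA6.mapSub (𝟭 C) P₀ P₁ H.hle) = AddMonoidHom.id _ := by
    apply QuotientAddGroup.addMonoidHom_ext
    apply FreeAbelianGroup.lift_ext
    rintro ⟨X, hX⟩
    have : Ψ ⟨X, H.hle X hX⟩ = cls P₀ hX := by
      rw [hΨ 0 ⟨X, H.hle X hX⟩ hX, (hψ 0).base X hX]
    simpa [Φ, φ₀, SGA6.mapSub, SGA6.objMap, cls] using this
  have hleft : Function.LeftInverse Φ (SGA6.mapSub (𝟭 C) P₀ P₁ H.hle) := fun x =>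
    DFunLike.congr_fun hcomp x
  refine ⟨hleft.injective, ?_⟩
  intro y
  obtain ⟨y, rfl⟩ := QuotientAddGroup.mk_surjective y
  change _ ∈ (SGA6.mapSub (𝟭 C) P₀ P₁ H.hle).range
  refine FreeAbelianGroup.induction_on y (zero_mem _) ?_ (fun X hX => neg_mem hX)
    (fun x y hx hy => add_mem hx hy)
  rintro ⟨A, hA⟩
  exact H.mem_range hA (hN A hA)

end Hyp

end Groth.Agent.Helper3.ResK0A
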