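import Groth.Agent.Lib.Helper3.DimResB

/-! Bounded below resolutions by objects of a class `P` with enough embeddings. -/

set_option linter.unusedSectionVars false

namespace Groth.Agent.Helper3.ResP

open CategoryTheory CategoryTheory.Limits HomologicalComplex DimResB

universe v u

variable {A : Type u} [Category.{v} A] [Abelian A]

noncomputable section

section OneStep

variable (K : CochainComplex A ℤ) (I : ℤ → A) (i : ∀ n, K.X n ⟶ I n) [∀ n, Mono (i n)]

/-- The map `I (n+1) ⟶ (J/K).X n`. -/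
def chi (n : ℤ) : I (n + 1) ⟶ (SC K I i).X₃.X n := biprod.inr ≫ (SC K I i).g.f n

lemma psi'_eq (n : ℤ) : psi' K I i n = i (n + 1) ≫ chi K I i n := by
  dsimp only [psi', chi]
  rw [Category.assoc]

lemma mono_chi (n : ℤ) : Mono (chi K I i n) := by
  dsimp only [chi]
  refine Preadditive.mono_of_cancel_zero _ (fun {W} x hx => ?_)
  obtain ⟨W', π, hπ, k, hk⟩ : ∃ (W' : A) (π : W' ⟶ W) (_ : Epi π) (k : W' ⟶ K.X n),
      π ≫ x ≫ biprod.inr = k ≫ (j K I i).f n :=
    (DimResA.exact_fg _ (SC_shortExact K I i) n).exact_up_to_refinements _ (by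
      simpa using hx)
  have hk0 : k = 0 := by
    have h1 := congrArg (fun z => z ≫ biprod.fst) hk
    dsimp only [j] at h1
    simp only [Category.assoc, biprod.inr_fst, comp_zero, biprod.lift_fst] at h1
    rw [← cancel_mono (i n), zero_comp]
    exact h1.symm
  rw [hk0, zero_comp] at hk
  have h2 := congrArg (fun z => z ≫ biprod.snd) hk
  simp only [Category.assoc, biprod.inr_snd, Category.comp_id, zero_comp] at h2
  rw [← cancel_epi π, h2]
  simp

lemma epi_chi (n : ℤ) (h1 : IsIso (i n)) : Epi (chi K I i n) := by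
  dsimp only [chi]
  rw [epi_iff_surjective_up_to_refinements]
  intro W y
  have := DimResA.epi_g _ (SC_shortExact K I i) n
  obtain ⟨W', π, hπ, y', hy'⟩ := surjective_up_to_refinements_of_epi ((SC K I i).g.f n) y
  let k : W' ⟶ K.X n := y' ≫ biprod.fst ≫ inv (i n)
  let x : W' ⟶ I (n + 1) := y' ≫ biprod.snd - k ≫ K.d n (n + 1) ≫ i (n + 1)
  have hy2 : y' = k ≫ (j K I i).f n + x ≫ biprod.inr := by
    apply biprod.hom_ext
    · simp [k, x, j]
    · simp [k, x, j]
  have hfg : (j K I i).f n ≫ (SC K I i).g.f n = 0 := DimResA.f_g (SC K I i) n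
  refine ⟨W', π, hπ, x, ?_⟩
  rw [hy', hy2, Preadditive.add_comp, Category.assoc, hfg, comp_zero, zero_add]
  simp

lemma isIso_chi (n : ℤ) (h1 : IsIso (i n)) : IsIso (chi K I i n) := by
  have := mono_chi K I i n
  have := epi_chi K I i n h1
  exact isIso_of_mono_of_epi (chi K I i n)

lemma mono_psi_f (n : ℤ) : Mono ((psi K I i).f n) := by
  rw [psi_f]
  exact mono_psi' K I i n

end OneStep

section Class

variable (P : ObjectProperty A) [P.IsClosedUnderIsomorphisms]
  (hemb : ∀ X : A, ∃ (Y : A) (ι : X ⟶ Y), P Y ∧ Mono ι)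

include hemb in
theorem one_step (K : CochainComplex A ℤ) :
    ∃ (K' : CochainComplex A ℤ) (φ : K ⟶ K'), QuasiIso φ ∧ (∀ t, Mono (φ.f t)) ∧
      (∀ t, P (K.X (t + (-1))) → P (K'.X t)) ∧
      (∀ t, P (K.X (t + (-1))) → P (K.X (t + (-1) + 1)) → IsIso (φ.f t)) := by
  classical
  have hemb' : ∀ n : ℤ, ∃ (Y : A) (ι : K.X n ⟶ Y), Mono ι ∧ P Y ∧ (P (K.X n) → IsIso ι) := by
    intro n
    by_cases hn : P (K.X n)
    · exact ⟨K.X n, 𝟙 _, inferInstance, hn, fun _ => inferInstance⟩
    · obtain ⟨Y, ι, hY, hι⟩ := hemb (K.X n)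
      exact ⟨Y, ι, hι, hY, fun h => (hn h).elim⟩
  choose I i hmono hPI hIiso using hemb'
  have hψ : QuasiIso (psi K I i) := quasiIso_psi K I i
  let e : K ≅ (K⟦(1 : ℤ)⟧)⟦(-1 : ℤ)⟧ :=
    (shiftEquiv (CochainComplex A ℤ) (1 : ℤ)).unitIso.app K
  have he : ∀ t, IsIso (e.hom.f t) := fun t =>
    (inferInstance : IsIso ((HomologicalComplex.eval A (ComplexShape.up ℤ) t).map e.hom))
  refine ⟨((SC K I i).X₃)⟦(-1 : ℤ)⟧, e.hom ≫ (psi K I i)⟦(-1 : ℤ)⟧', ?_, fun t => ?_,
    fun t ht => ?_, fun t ht1 ht2 => ?_⟩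
  · have : QuasiIso ((psi K I i)⟦(-1 : ℤ)⟧') :=
      (CochainComplex.quasiIso_shift_iff (psi K I i) (-1)).2 hψ
    infer_instance
  · rw [HomologicalComplex.comp_f]
    have := he t
    have : Mono (((psi K I i)⟦(-1 : ℤ)⟧').f t) := mono_psi_f K I i (t + (-1))
    exact mono_comp _ _
  · change P ((SC K I i).X₃.X (t + (-1)))
    have := isIso_chi K I i (t + (-1)) (hIiso _ ht)
    exact P.prop_of_iso (asIso (chi K I i (t + (-1)))) (hPI _)
  · rw [HomologicalComplex.comp_f]
    have := he t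
    have : IsIso (((psi K I i)⟦(-1 : ℤ)⟧').f t) :=
      isIso_psi_f K I i (t + (-1)) (hIiso _ ht1) (hIiso _ ht2)
    infer_instance

include hemb in
/-- Bounded below complexes admit termwise injective quasi-isomorphisms into bounded below
complexes with terms in `P`. -/
theorem exists_resolution (hzero : ∀ X : A, IsZero X → P X) (M : CochainComplex A ℤ) (a : ℤ)
    [M.IsStrictlyGE a] :
    ∃ (N : CochainComplex A ℤ) (ρ : M ⟶ N), QuasiIso ρ ∧ (∀ t, Mono (ρ.f t)) ∧
      N.IsStrictlyGE a ∧ ∀ t, P (N.X t) := by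
  choose Ψ φ hq hmono hP hIso using one_step P hemb
  let X : ℕ → CochainComplex A ℤ := fun i => Nat.rec M (fun _ Y => Ψ Y) i
  let f : ∀ i, X i ⟶ X (i + 1) := fun i => φ (X i)
  have inv1 : ∀ (i : ℕ) (s : ℤ), s < a → IsZero ((X i).X s) := by
    intro i
    induction i with
    | zero =>
      intro s hs
      exact M.isZero_of_isStrictlyGE a s hs
    | succ i ih =>
      intro s hs
      have h1 : P ((X i).X (s + (-1))) := hzero _ (ih _ (by lia))
      have h2 : P ((X i).X (s + (-1) + 1)) := hzero _ (ih _ (by lia))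
      have := hIso (X i) s h1 h2
      exact IsZero.of_iso (ih s hs) (asIso ((φ (X i)).f s)).symm
  have inv2 : ∀ (i : ℕ) (s : ℤ), s < a + i → P ((X i).X s) := by
    intro i
    induction i with
    | zero =>
      intro s hs
      exact hzero _ (inv1 0 s (by simpa using hs))
    | succ i ih =>
      intro s hs
      exact hP (X i) s (ih _ (by push_cast at hs; lia))
  have hst : ∀ t : ℤ, ∃ i₀ : ℕ, ∀ i, i₀ ≤ i → IsIso ((f i).f t) := by
    intro t
    refine ⟨(t - a + 1).toNat, fun i hi => ?_⟩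
    exact hIso (X i) t (inv2 i _ (by lia)) (inv2 i _ (by lia))
  obtain ⟨L, ι, hqι, hι, hmι⟩ := StatColim.exists_colimit' f (fun n => hq (X n)) hst
  refine ⟨L, ι 0, hqι, fun t => hmι t (fun i => hmono (X i) t), ?_, fun t => ?_⟩
  · rw [CochainComplex.isStrictlyGE_iff]
    intro s hs
    obtain ⟨i₀, hi₀⟩ := hι s
    have := hi₀ i₀ le_rfl
    exact IsZero.of_iso (inv1 i₀ s hs) (asIso ((ι i₀).f s)).symm
  · obtain ⟨i₀, hi₀⟩ := hι t
    have := hi₀ (max i₀ (t - a + 1).toNat) (le_max_left _ _)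
    refine P.prop_of_iso (asIso ((ι (max i₀ (t - a + 1).toNat)).f t)) (inv2 _ t ?_)
    have := le_max_right i₀ (t - a + 1).toNat
    lia

end Class

end

end Groth.Agent.Helper3.ResP
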