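import Mathlib

set_option autoImplicit false
universe v v' u u'
open CategoryTheory Limits

namespace Groth.Agent.Helper3.Retract

variable {C : Type u} [Category.{v} C] [Abelian C]
  {D : Type u'} [Category.{v'} D] [Abelian D]

/-- a quasi-isomorphism out of a K-injective complex has a retraction in the homotopy category -/
lemma exists_retraction {J L : CochainComplex C ℤ} [J.IsKInjective] (s : J ⟶ L) [QuasiIso s] :
    ∃ r : (HomotopyCategory.quotient C (.up ℤ)).obj L ⟶ (HomotopyCategory.quotient C (.up ℤ)).obj J,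
      (HomotopyCategory.quotient C (.up ℤ)).map s ≫ r = 𝟙 _ := by
  let _ : HasDerivedCategory C := HasDerivedCategory.standard C
  have h1 : IsIso (DerivedCategory.Qh.map ((HomotopyCategory.quotient C (.up ℤ)).map s)) := by
    rw [DerivedCategory.isIso_Qh_map_iff, HomotopyCategory.quotient_map_mem_quasiIso_iff,
      HomologicalComplex.mem_quasiIso_iff]
    infer_instance
  obtain ⟨r, hr⟩ := (CochainComplex.IsKInjective.Qh_map_bijective
    ((HomotopyCategory.quotient C (.up ℤ)).obj L) J).surjective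
    (inv (DerivedCategory.Qh.map ((HomotopyCategory.quotient C (.up ℤ)).map s)))
  refine ⟨r, (CochainComplex.IsKInjective.Qh_map_bijective _ J).injective ?_⟩
  rw [Functor.map_comp, hr, IsIso.hom_inv_id, CategoryTheory.Functor.map_id]

/-- if `ι ≫ s` is sent to a quasi-isomorphism by `F` and `s` has a retraction up to homotopy, then
`F` sends `ι` to a quasi-isomorphism. -/
lemma quasiIso_map_of_retraction (F : C ⥤ D) [F.Additive] {M J L : CochainComplex C ℤ}
    (i : M ⟶ J) (s : J ⟶ L)
    (r : (HomotopyCategory.quotient C (.up ℤ)).obj L ⟶ (HomotopyCategory.quotient C (.up ℤ)).obj J)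
    (hr : (HomotopyCategory.quotient C (.up ℤ)).map s ≫ r = 𝟙 _)
    (h : QuasiIso ((F.mapHomologicalComplex (.up ℤ)).map (i ≫ s))) :
    QuasiIso ((F.mapHomologicalComplex (.up ℤ)).map i) := by
  rw [quasiIso_iff]
  intro n
  rw [quasiIsoAt_iff_isIso_homologyMap]
  let q := HomotopyCategory.quotient C (.up ℤ)
  let Ψ : HomotopyCategory C (.up ℤ) ⥤ D :=
    F.mapHomotopyCategory (.up ℤ) ⋙ HomotopyCategory.homologyFunctor D (.up ℤ) n
  let Φ : CochainComplex C ℤ ⥤ D :=
    F.mapHomologicalComplex (.up ℤ) ⋙ HomologicalComplex.homologyFunctor D (.up ℤ) n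
  let e : q ⋙ Ψ ≅ Φ :=
    (Functor.associator _ _ _).symm ≪≫
      Functor.isoWhiskerRight (F.mapHomotopyCategoryFactors (.up ℤ)) _ ≪≫
      Functor.associator _ _ _ ≪≫
      Functor.isoWhiskerLeft _ (HomotopyCategory.homologyFunctorFactors D (.up ℤ) n)
  have hbc : Ψ.map (q.map s) ≫ Ψ.map r = 𝟙 _ := by
    rw [← Functor.map_comp, hr, CategoryTheory.Functor.map_id]
  have hab : IsIso (Ψ.map (q.map i) ≫ Ψ.map (q.map s)) := by
    rw [← Functor.map_comp, ← Functor.map_comp]
    have : IsIso (Φ.map (i ≫ s)) := by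
      change IsIso (HomologicalComplex.homologyMap ((F.mapHomologicalComplex (.up ℤ)).map (i ≫ s)) n)
      infer_instance
    exact (NatIso.isIso_map_iff e (i ≫ s)).2 this
  have hb_mono : Mono (Ψ.map (q.map s)) := mono_of_mono_fac hbc
  have hb_epi : Epi (Ψ.map (q.map s)) := epi_of_epi (Ψ.map (q.map i)) _
  have hb : IsIso (Ψ.map (q.map s)) := isIso_of_mono_of_epi _
  have ha : IsIso (Ψ.map (q.map i)) := IsIso.of_isIso_comp_right _ (Ψ.map (q.map s))
  exact (NatIso.isIso_map_iff e i).1 ha

end Groth.Agent.Helper3.Retract
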