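import Mathlib
import Groth.Prelude.Def_Omega4
import Groth.Prelude.Def_MultCurve
import Groth.Agent.Lib.Lead.ConComp
import Groth.Agent.Lib.Lead.DerU1

/-! A morphism of thickenings `g : C ⟶ C'` of `D` over a base induces a morphism of restricted
cotangent sequences, hence a relation between their extension classes (helper3). -/

set_option autoImplicit false
set_option linter.style.haveILetI false
set_option linter.unusedSectionVars false
universe w u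
open CategoryTheory CategoryTheory.Limits AlgebraicGeometry TopologicalSpace Opposite

set_option backward.isDefEq.respectTransparency.types false
set_option synthInstance.maxHeartbeats 400000
set_option maxHeartbeats 4000000

namespace Groth.Agent.Helper3.RibExt

open OmegaSh Groth.Agent.Lead.DerU Groth.Agent.Lead.IdM Groth.Agent.Lead.OmU
  Groth.Agent.Lead.BCU Groth.Agent.Lead.ConMap Groth.Agent.Lead.ConChart Groth.Agent.Lead.ConComp
  Groth.Agent.Lead.ConSeq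

section Ext

variable {Z X : Scheme.{u}} (i : Z ⟶ X) {M : X.Modules} {N : Z.Modules}

/-- morphisms out of a pullback are determined by their values on pulled back sections. -/
theorem hom_ext_adj (α β : (Scheme.Modules.pullback i).obj M ⟶ N)
    (h : ∀ (U : X.Opens) (m : Γ(M, U)),
      α.app (i ⁻¹ᵁ U) (pullSect i M U m) = β.app (i ⁻¹ᵁ U) (pullSect i M U m)) : α = β := by
  apply (adj_bijective i).1
  apply Scheme.Modules.hom_ext
  intro U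
  ext m
  change (adj i α).app U m = (adj i β).app U m
  rw [adj_app, adj_app]
  exact h U m

end Ext

section Main

variable {D C C' S : Scheme.{u}} (i : D ⟶ C) [QuasiCompact i] (g : C ⟶ C')
  (pC : C ⟶ S) (pC' : C' ⟶ S) (pD : D ⟶ S)
  (hgk : g ≫ pC' = pC) (hp : i ≫ pC = pD)
  {Ω₁ : C.Modules} (d₁ : Der pC Ω₁) {Ω₁' : C'.Modules} (d₁' : Der pC' Ω₁')
  (hd₁' : IsUniversal d₁') {Ω₂ : D.Modules} (d₂ : Der pD Ω₂)
  (φ : Omega.conormal i ⟶ (Scheme.Modules.pullback i).obj Ω₁) (hφ : IsConormalDiff i d₁ φ)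
  (c : (Scheme.Modules.pullback i).obj Ω₁ ⟶ Ω₂) (hc : IsDiffCompat i d₁ d₂ c)
  (φ' : Omega.conormal (i ≫ g) ⟶ (Scheme.Modules.pullback (i ≫ g)).obj Ω₁')
  (hφ' : IsConormalDiff (i ≫ g) d₁' φ')
  (c' : (Scheme.Modules.pullback (i ≫ g)).obj Ω₁' ⟶ Ω₂) (hc' : IsDiffCompat (i ≫ g) d₁' d₂ c')
  (α : (Scheme.Modules.pullback (𝟙 D)).obj (Omega.conormal (i ≫ g)) ⟶ Omega.conormal i)
  (hα : IsConormalMap i (i ≫ g) g (𝟙 D) α)

include hgk hp hd₁' hφ hc hφ' hc' hα in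
/-- the restriction to `D` of the differential of `g`, with its two compatibilities. -/
theorem exists_beta :
    ∃ β : (Scheme.Modules.pullback (i ≫ g)).obj Ω₁' ⟶ (Scheme.Modules.pullback i).obj Ω₁,
      ((Scheme.Modules.pullbackId D).inv.app (Omega.conormal (i ≫ g)) ≫ α) ≫ φ = φ' ≫ β ∧
        β ≫ c = c' ≫ 𝟙 Ω₂ := by
  have hsq : pC ≫ 𝟙 S = g ≫ pC' := by rw [Category.comp_id, hgk]
  obtain ⟨dg, hdg, -⟩ := existsUnique_diffCompat g hsq d₁' d₁ hd₁'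
  have hdg' : IsDiffCompat g d₁' d₁ dg := hdg
  obtain ⟨β, hβ⟩ : ∃ β : (Scheme.Modules.pullback (i ≫ g)).obj Ω₁' ⟶
      (Scheme.Modules.pullback i).obj Ω₁,
      β = (Scheme.Modules.pullbackComp i g).inv.app Ω₁' ≫ (Scheme.Modules.pullback i).map dg :=
    ⟨_, rfl⟩
  have Kβ : ∀ (U' : C'.Opens) (x : Γ(Ω₁', U')),
      β.app ((i ≫ g) ⁻¹ᵁ U') (pullSect (i ≫ g) Ω₁' U' x) =
        pullSect i Ω₁ (g ⁻¹ᵁ U') (dg.app (g ⁻¹ᵁ U') (pullSect g Ω₁' U' x)) := by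
    intro U' x
    have h1 := unit_comp_apply i g Ω₁' U' x
    have h2 := pullSect_naturality i dg (g ⁻¹ᵁ U') (pullSect g Ω₁' U' x)
    rw [hβ]
    exact (congrArg (fun y => ((Scheme.Modules.pullback i).map dg).app (i ⁻¹ᵁ (g ⁻¹ᵁ U')) y)
      h1.symm).trans h2
  have Kd : ∀ (U' : C'.Opens) (s : Γ(C', U')),
      β.app ((i ≫ g) ⁻¹ᵁ U') (pullSect (i ≫ g) Ω₁' U' (d₁'.app U' s)) =
        pullSect i Ω₁ (g ⁻¹ᵁ U') (d₁.app (g ⁻¹ᵁ U') (g.app U' s)) := by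
    intro U' s
    rw [Kβ]
    exact congrArg (fun y => pullSect i Ω₁ (g ⁻¹ᵁ U') y) (hdg' U' s)
  refine ⟨β, ?_, ?_⟩
  · -- compatibility with the conormal maps
    apply hom_ext_adj (i ≫ g)
    intro U' s'
    have hsqi : 𝟙 D ≫ (i ≫ g) = i ≫ g := Category.id_comp _
    have hs := liftI_spec i (i ≫ g) g (𝟙 D) hsqi U' s'
    have h1 := ψ_cls g i α hα U' s' (liftI i (i ≫ g) g (𝟙 D) hsqi U' s') hs
    have h2 := pullbackId_inv_app (Omega.conormal (i ≫ g)) ((i ≫ g) ⁻¹ᵁ U')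
      (conormalSect (i ≫ g) U' s')
    have h3 := hφ (g ⁻¹ᵁ U') (liftI i (i ≫ g) g (𝟙 D) hsqi U' s')
    have h4 := hφ' U' s'
    have h5 := Kd U' (idealSect (i ≫ g).ker U' s')
    -- left side
    have hL : (((Scheme.Modules.pullbackId D).inv.app (Omega.conormal (i ≫ g)) ≫ α) ≫ φ).app
        ((i ≫ g) ⁻¹ᵁ U') (pullSect (i ≫ g) (ClSub.idealMod (i ≫ g).ker) U' s') =
        pullSect i Ω₁ (g ⁻¹ᵁ U') (d₁.app (g ⁻¹ᵁ U')
          (idealSect i.ker (g ⁻¹ᵁ U') (liftI i (i ≫ g) g (𝟙 D) hsqi U' s'))) := by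
      show φ.app (i ⁻¹ᵁ (g ⁻¹ᵁ U')) (α.app ((i ≫ g) ⁻¹ᵁ U')
        (((Scheme.Modules.pullbackId D).inv.app (Omega.conormal (i ≫ g))).app ((i ≫ g) ⁻¹ᵁ U')
          (conormalSect (i ≫ g) U' s'))) = _
      rw [h2, h1]
      exact h3
    have hR : (φ' ≫ β).app ((i ≫ g) ⁻¹ᵁ U')
        (pullSect (i ≫ g) (ClSub.idealMod (i ≫ g).ker) U' s') =
        pullSect i Ω₁ (g ⁻¹ᵁ U') (d₁.app (g ⁻¹ᵁ U')
          (g.app U' (idealSect (i ≫ g).ker U' s'))) := by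
      show β.app ((i ≫ g) ⁻¹ᵁ U') (φ'.app ((i ≫ g) ⁻¹ᵁ U') (conormalSect (i ≫ g) U' s')) = _
      rw [h4]
      exact h5
    exact hL.trans ((congrArg (fun t => pullSect i Ω₁ (g ⁻¹ᵁ U') (d₁.app (g ⁻¹ᵁ U') t)) hs).trans
      hR.symm)
  · -- compatibility with the maps to `Ω₂`
    rw [Category.comp_id]
    have hsq' : pD ≫ 𝟙 S = (i ≫ g) ≫ pC' := by
      rw [Category.comp_id, Category.assoc, hgk, hp]
    refine (existsUnique_diffCompat (i ≫ g) hsq' d₁' d₂ hd₁').unique ?_ hc'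
    intro U' s
    show c.app (i ⁻¹ᵁ (g ⁻¹ᵁ U')) (β.app ((i ≫ g) ⁻¹ᵁ U')
      (pullSect (i ≫ g) Ω₁' U' (d₁'.app U' s))) = _
    rw [Kd]
    exact hc (g ⁻¹ᵁ U') (g.app U' s)

end Main

/-- **the classes of two ribbons related by a morphism**. -/
theorem main (k : Type u) [Field k] (D : Scheme.{u})
    (pD : D ⟶ Spec (CommRingCat.of k))
    (Ω₂ : D.Modules) (d₂ : OmegaSh.Der pD Ω₂) [HasExt.{w} D.Modules]
    (C : Scheme.{u}) (i : D ⟶ C) (pC : C ⟶ Spec (CommRingCat.of k))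
    (hp : i ≫ pC = pD) (hR : MultCurve.IsRibbon i)
    (Ω₁ : C.Modules) (d₁ : OmegaSh.Der pC Ω₁)
    (φ : Omega.conormal i ⟶ (Scheme.Modules.pullback i).obj Ω₁) (hφ : OmegaSh.IsConormalDiff i d₁ φ)
    (c : (Scheme.Modules.pullback i).obj Ω₁ ⟶ Ω₂) (hc : OmegaSh.IsDiffCompat i d₁ d₂ c)
    (hw : φ ≫ c = 0) (hS : (ShortComplex.mk φ c hw).ShortExact)
    (C' : Scheme.{u}) (pC' : C' ⟶ Spec (CommRingCat.of k))
    (g : C ⟶ C') (hgk : g ≫ pC' = pC)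
    (Ω₁' : C'.Modules) (d₁' : OmegaSh.Der pC' Ω₁') (hd₁' : OmegaSh.IsUniversal d₁')
    (φ' : Omega.conormal (i ≫ g) ⟶ (Scheme.Modules.pullback (i ≫ g)).obj Ω₁')
    (hφ' : OmegaSh.IsConormalDiff (i ≫ g) d₁' φ')
    (c' : (Scheme.Modules.pullback (i ≫ g)).obj Ω₁' ⟶ Ω₂)
    (hc' : OmegaSh.IsDiffCompat (i ≫ g) d₁' d₂ c')
    (hw' : φ' ≫ c' = 0) (hS' : (ShortComplex.mk φ' c' hw').ShortExact)
    (α : (Scheme.Modules.pullback (𝟙 D)).obj (Omega.conormal (i ≫ g)) ⟶ Omega.conormal i)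
    (hα : OmegaSh.IsConormalMap i (i ≫ g) g (𝟙 D) α) :
    hS'.extClass.comp (Abelian.Ext.mk₀
      ((Scheme.Modules.pullbackId D).inv.app (Omega.conormal (i ≫ g)) ≫ α)) (add_zero 1) =
      hS.extClass := by
  haveI : IsClosedImmersion i := hR.1.1
  obtain ⟨β, hA, hB⟩ := exists_beta i g pC pC' pD hgk hp d₁ d₁' hd₁' d₂ φ hφ c hc φ' hφ' c' hc' α hα
  let f : ShortComplex.mk φ' c' hw' ⟶ ShortComplex.mk φ c hw :=
    ShortComplex.homMk ((Scheme.Modules.pullbackId D).inv.app (Omega.conormal (i ≫ g)) ≫ α) β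
      (𝟙 Ω₂) hA hB
  have h := ShortComplex.ShortExact.extClass_naturality hS' hS f
  exact h.trans (Abelian.Ext.mk₀_id_comp hS.extClass)

end Groth.Agent.Helper3.RibExt
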