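import Mathlib
import Groth.Prelude.Def_Omega4
import Groth.Prelude.Def_MultCurve
import Groth.Agent.Lib.Lead.ConComp
import Groth.Agent.Lib.Lead.DerU1
import Groth.Agent.Lib.Lead.ConNbhd
import Groth.Agent.Lib.Lead.BasisIso
import Groth.Agent.Lib.Lead.Rib2
import Groth.Agent.Lib.Helper1.FtLocal
import Groth.Agent.Lib.Helper3.HomTanA
import Groth.Agent.Lib.Helper3.RibSplitA

/-! Extending a morphism `f : D ⟶ X` over a square-zero thickening `i : D ⟶ C` whose restricted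
cotangent sequence has injective conormal map, given a lifting `s : f^*Ω_X ⟶ i^*Ω_C` of the
differential of `f` (helper3).  Part A: for every section `a` of `O_X` there is exactly one section
`b` of `O_C` with `i^♯ b = f^♯ a` and `(d b)|_D = s(f^* d a)`; the resulting ring maps. -/

set_option autoImplicit false
set_option linter.style.haveILetI false
set_option linter.unusedSectionVars false
universe u
open CategoryTheory CategoryTheory.Limits AlgebraicGeometry TopologicalSpace Opposite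

set_option backward.isDefEq.respectTransparency.types false
set_option synthInstance.maxHeartbeats 400000
set_option maxHeartbeats 4000000

namespace Groth.Agent.Helper3.RibExtn

open OmegaSh Groth.Agent.Lead.DerU Groth.Agent.Lead.IdM Groth.Agent.Lead.OmU
  Groth.Agent.Lead.BCU Groth.Agent.Lead.ConMap Groth.Agent.Lead.ConChart Groth.Agent.Lead.ConComp
  Groth.Agent.Lead.ConSeq Groth.Agent.Helper3.RibSplit Groth.Agent.Helper3.HomTan
  Groth.Agent.Helper3.DerAut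

theorem appLE_congr' {X Y : Scheme.{u}} {g₁ g₂ : X ⟶ Y} (h : g₁ = g₂) (U : Y.Opens)
    (V : X.Opens) (e1 : V ≤ g₁ ⁻¹ᵁ U) (e2 : V ≤ g₂ ⁻¹ᵁ U) :
    g₁.appLE U V e1 = g₂.appLE U V e2 := by
  subst h
  rfl

/-- the data of the extension problem. -/
structure Setup (D C X S : Scheme.{u}) where
  i : D ⟶ C
  f : D ⟶ X
  pC : C ⟶ S
  pX : X ⟶ S
  hf : f ≫ pX = i ≫ pC
  ci : IsClosedImmersion i
  hI : i.ker ^ 2 = ⊥
  Ω₁ : C.Modules
  d₁ : Der pC Ω₁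
  Ω₂ : D.Modules
  d₂ : Der (i ≫ pC) Ω₂
  Ω₃ : X.Modules
  d₃ : Der pX Ω₃
  φ : Omega.conormal i ⟶ (Scheme.Modules.pullback i).obj Ω₁
  hφ : IsConormalDiff i d₁ φ
  hφinj : ∀ V : D.Opens, Function.Injective (φ.app V)
  c : (Scheme.Modules.pullback i).obj Ω₁ ⟶ Ω₂
  hc : IsDiffCompat i d₁ d₂ c
  hex : ∀ W : C.Opens, IsAffineOpen W →
    ∀ n₂ : Γ((Scheme.Modules.pullback i).obj Ω₁, i ⁻¹ᵁ W), c.app (i ⁻¹ᵁ W) n₂ = 0 →
      ∃ n₁ : Γ(Omega.conormal i, i ⁻¹ᵁ W), φ.app (i ⁻¹ᵁ W) n₁ = n₂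
  df : (Scheme.Modules.pullback f).obj Ω₃ ⟶ Ω₂
  hdf : IsDiffCompat f d₃ d₂ df
  s : (Scheme.Modules.pullback f).obj Ω₃ ⟶ (Scheme.Modules.pullback i).obj Ω₁
  hs : s ≫ c = df

attribute [instance] Setup.ci

namespace Setup

variable {D C X S : Scheme.{u}} (T : Setup D C X S)

/-- `i^*Ω₁`. -/
noncomputable abbrev P : D.Modules := (Scheme.Modules.pullback T.i).obj T.Ω₁

/-- the section `s(f^* d₃ a)`. -/
noncomputable def om (U : X.Opens) (a : Γ(X, U)) : Γ(T.P, T.f ⁻¹ᵁ U) :=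
  T.s.app (T.f ⁻¹ᵁ U) (pullSect T.f T.Ω₃ U (T.d₃.app U a))

theorem om_zero (U : X.Opens) : T.om U 0 = 0 := by
  unfold om
  rw [map_zero, map_zero, map_zero]

theorem om_add (U : X.Opens) (a a' : Γ(X, U)) : T.om U (a + a') = T.om U a + T.om U a' := by
  unfold om
  rw [map_add, map_add, map_add]

theorem om_one (U : X.Opens) : T.om U 1 = 0 := by
  have h : T.d₃.app U 1 = 0 := T.d₃.d_one (op U)
  unfold om
  rw [h, map_zero, map_zero]

theorem om_mul (U : X.Opens) (a a' : Γ(X, U)) :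
    T.om U (a * a') = T.f.app U a • T.om U a' + T.f.app U a' • T.om U a := by
  unfold om
  rw [der_mul, map_add, pullSect_smul, pullSect_smul, map_add, Scheme.Modules.Hom.app_smul,
    Scheme.Modules.Hom.app_smul]

theorem om_map {U V : X.Opens} (e : V ≤ U) (a : Γ(X, U)) :
    T.om V (X.presheaf.map (homOfLE e).op a) =
      T.P.presheaf.map (homOfLE (T.f.preimage_mono e)).op (T.om U a) := by
  unfold om
  rw [der_map, pullSect_map]
  exact Groth.Agent.Lead.BCU.app_res T.s (T.f.preimage_mono e) _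

theorem om_const (V : S.Opens) (l : Γ(S, V)) : T.om (T.pX ⁻¹ᵁ V) (T.pX.app V l) = 0 := by
  unfold om
  rw [der_app, map_zero, map_zero]

/-- `b` is the value at `a` of the extension. -/
def IsSol (W : C.Opens) (U : X.Opens) (e : T.i ⁻¹ᵁ W ≤ T.f ⁻¹ᵁ U) (a : Γ(X, U))
    (b : Γ(C, W)) : Prop :=
  T.i.app W b = T.f.appLE U (T.i ⁻¹ᵁ W) e a ∧
  pullSect T.i T.Ω₁ W (T.d₁.app W b) = T.P.presheaf.map (homOfLE e).op (T.om U a)

theorem etaI_app_injective (W : C.Opens) : Function.Injective ((etaI T.i).app W) := by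
  haveI := etaI_isIso T.i T.hI
  intro x y hxy
  have hx : (inv (etaI T.i)).app W ((etaI T.i).app W x) = x :=
    congrArg (fun ψ => Scheme.Modules.Hom.app ψ W x) (IsIso.hom_inv_id (etaI T.i))
  have hy : (inv (etaI T.i)).app W ((etaI T.i).app W y) = y :=
    congrArg (fun ψ => Scheme.Modules.Hom.app ψ W y) (IsIso.hom_inv_id (etaI T.i))
  exact hx.symm.trans ((congrArg (fun z => (inv (etaI T.i)).app W z) hxy).trans hy)

theorem sol_unique {W : C.Opens} {U : X.Opens} {e : T.i ⁻¹ᵁ W ≤ T.f ⁻¹ᵁ U} {a : Γ(X, U)}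
    {b b' : Γ(C, W)} (hb : T.IsSol W U e a b) (hb' : T.IsSol W U e a b') : b = b' := by
  have h1 : (T.i.app W).hom (b - b') = 0 := by
    rw [map_sub]
    exact sub_eq_zero.2 (hb.1.trans hb'.1.symm)
  obtain ⟨x, hx⟩ := exists_idealSect T.i W (b - b') h1
  have h2 : pullSect T.i T.Ω₁ W (T.d₁.app W (idealSect T.i.ker W x)) = 0 := by
    rw [hx, map_sub, map_sub]
    exact sub_eq_zero.2 (hb.2.trans hb'.2.symm)
  have h3 : T.φ.app (T.i ⁻¹ᵁ W) (conormalSect T.i W x) = 0 := (T.hφ W x).trans h2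
  have h4 : conormalSect T.i W x = 0 := T.hφinj _ (h3.trans (map_zero _).symm)
  have h5 : (etaI T.i).app W x = (etaI T.i).app W 0 :=
    ((etaI_app T.i W x).trans h4).trans (map_zero _).symm
  have h6 : x = 0 := T.etaI_app_injective W h5
  rw [h6, map_zero] at hx
  exact sub_eq_zero.1 hx.symm

theorem sol_res_W {W : C.Opens} {U : X.Opens} {e : T.i ⁻¹ᵁ W ≤ T.f ⁻¹ᵁ U} {a : Γ(X, U)}
    {b : Γ(C, W)} (hb : T.IsSol W U e a b) {W' : C.Opens} (hW : W' ≤ W) :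
    T.IsSol W' U ((T.i.preimage_mono hW).trans e) a (C.presheaf.map (homOfLE hW).op b) := by
  constructor
  · have h1 : T.i.app W' (C.presheaf.map (homOfLE hW).op b) =
        D.presheaf.map (homOfLE (T.i.preimage_mono hW)).op (T.i.app W b) := app_map T.i hW b
    rw [h1, hb.1]
    exact appLE_map_apply T.f e (T.i.preimage_mono hW) a
  · rw [der_map, pullSect_map, hb.2, resM_resM]
    rfl

theorem sol_res_U {W : C.Opens} {U : X.Opens} {e : T.i ⁻¹ᵁ W ≤ T.f ⁻¹ᵁ U} {a : Γ(X, U)}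
    {b : Γ(C, W)} (hb : T.IsSol W U e a b) {U' : X.Opens} (hU : U' ≤ U)
    (e' : T.i ⁻¹ᵁ W ≤ T.f ⁻¹ᵁ U') :
    T.IsSol W U' e' (X.presheaf.map (homOfLE hU).op a) b := by
  constructor
  · rw [hb.1]
    exact (map_appLE_apply T.f e' hU a).symm
  · rw [hb.2, T.om_map hU a, resM_resM]
    rfl

theorem exists_sol_affine (W : C.Opens) (hW : IsAffineOpen W) (U : X.Opens)
    (e : T.i ⁻¹ᵁ W ≤ T.f ⁻¹ᵁ U) (a : Γ(X, U)) : ∃ b, T.IsSol W U e a b := by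
  have hWc : W ≤ T.i.coborderRange := by
    rw [Groth.Agent.Lead.ConNbhd.coborderRange_eq_top]
    exact le_top
  have hsurj : Function.Surjective (T.i.app W).hom := by
    have := app_surjective_of_le_coborder T.i hW hWc
    rwa [Scheme.Hom.appLE_eq_app] at this
  obtain ⟨b₀, hb₀⟩ := hsurj ((T.f.appLE U (T.i ⁻¹ᵁ W) e).hom a)
  have hc0 : T.c.app (T.i ⁻¹ᵁ W) (T.P.presheaf.map (homOfLE e).op (T.om U a)) =
      T.d₂.app (T.i ⁻¹ᵁ W) ((T.f.appLE U (T.i ⁻¹ᵁ W) e).hom a) := by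
    have h1 := Groth.Agent.Lead.BCU.app_res T.c e (T.om U a)
    have h2 : T.c.app (T.f ⁻¹ᵁ U) (T.om U a) = T.d₂.app (T.f ⁻¹ᵁ U) (T.f.app U a) := by
      have h3 : T.c.app (T.f ⁻¹ᵁ U) (T.om U a) =
          T.df.app (T.f ⁻¹ᵁ U) (pullSect T.f T.Ω₃ U (T.d₃.app U a)) :=
        congrArg (fun ψ => Scheme.Modules.Hom.app ψ (T.f ⁻¹ᵁ U)
          (pullSect T.f T.Ω₃ U (T.d₃.app U a))) T.hs
      exact h3.trans (T.hdf U a)
    have h4 := der_map T.d₂ e (T.f.app U a)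
    exact h1.trans ((congrArg (fun y => T.Ω₂.presheaf.map (homOfLE e).op y) h2).trans h4.symm)
  have hc1 : T.c.app (T.i ⁻¹ᵁ W) (pullSect T.i T.Ω₁ W (T.d₁.app W b₀)) =
      T.d₂.app (T.i ⁻¹ᵁ W) (T.i.app W b₀) := T.hc W b₀
  have hn : T.c.app (T.i ⁻¹ᵁ W) (T.P.presheaf.map (homOfLE e).op (T.om U a) -
      pullSect T.i T.Ω₁ W (T.d₁.app W b₀)) = 0 := by
    rw [map_sub, hc0, hc1]
    exact sub_eq_zero.2 (congrArg (fun y => T.d₂.app (T.i ⁻¹ᵁ W) y) hb₀.symm)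
  obtain ⟨n₁, hn₁⟩ := T.hex W hW _ hn
  obtain ⟨x, hx⟩ := cls_surjective T.i hW hWc n₁
  refine ⟨b₀ + idealSect T.i.ker W x, ?_, ?_⟩
  · have h5 : (T.i.app W).hom (idealSect T.i.ker W x) = 0 := app_idealSect T.i W x
    show (T.i.app W).hom (b₀ + idealSect T.i.ker W x) = _
    rw [map_add, h5, add_zero]
    exact hb₀
  · have h6 : pullSect T.i T.Ω₁ W (T.d₁.app W (idealSect T.i.ker W x)) =
        T.P.presheaf.map (homOfLE e).op (T.om U a) - pullSect T.i T.Ω₁ W (T.d₁.app W b₀) :=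
      ((T.hφ W x).symm.trans (congrArg (fun y => T.φ.app (T.i ⁻¹ᵁ W) y) hx)).trans hn₁
    rw [map_add, map_add, h6]
    abel

theorem exists_sol (W : C.Opens) (U : X.Opens) (e : T.i ⁻¹ᵁ W ≤ T.f ⁻¹ᵁ U) (a : Γ(X, U)) :
    ∃ b, T.IsSol W U e a b := by
  have hloc : ∀ V : {V : C.affineOpens // (V : C.Opens) ≤ W},
      ∃ b, T.IsSol (V.1 : C.Opens) U ((T.i.preimage_mono V.2).trans e) a b :=
    fun V => T.exists_sol_affine V.1.1 V.1.2 U _ a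
  choose bV hbV using hloc
  have hcover : W ≤ iSup (fun V : {V : C.affineOpens // (V : C.Opens) ≤ W} =>
      (V.1 : C.Opens)) := by
    intro z hz
    obtain ⟨_, ⟨V, hV, rfl⟩, hzV, hVW⟩ :=
      C.isBasis_affineOpens.exists_subset_of_mem_open hz W.isOpen
    exact Opens.mem_iSup.mpr ⟨⟨⟨V, hV⟩, hVW⟩, hzV⟩
  have hcoverD : T.i ⁻¹ᵁ W ≤ iSup (fun V : {V : C.affineOpens // (V : C.Opens) ≤ W} =>
      T.i ⁻¹ᵁ (V.1 : C.Opens)) := by
    intro y hy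
    have hy' : T.i y ∈ W := hy
    obtain ⟨V, hV⟩ := Opens.mem_iSup.mp (hcover hy')
    exact Opens.mem_iSup.mpr ⟨V, hV⟩
  have hcompat : TopCat.Presheaf.IsCompatible C.presheaf
      (fun V : {V : C.affineOpens // (V : C.Opens) ≤ W} => (V.1 : C.Opens)) bV := by
    intro V V'
    have h1 := T.sol_res_W (hbV V)
      (inf_le_left : (V.1 : C.Opens) ⊓ (V'.1 : C.Opens) ≤ (V.1 : C.Opens))
    have h2 := T.sol_res_W (hbV V')
      (inf_le_right : (V.1 : C.Opens) ⊓ (V'.1 : C.Opens) ≤ (V'.1 : C.Opens))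
    exact T.sol_unique h1 h2
  obtain ⟨b, hb, -⟩ := C.sheaf.existsUnique_gluing'
    (fun V : {V : C.affineOpens // (V : C.Opens) ≤ W} => (V.1 : C.Opens)) W
    (fun V => homOfLE V.2) hcover bV hcompat
  refine ⟨b, ?_, ?_⟩
  · refine D.sheaf.eq_of_locally_eq'
      (fun V : {V : C.affineOpens // (V : C.Opens) ≤ W} => T.i ⁻¹ᵁ (V.1 : C.Opens))
      (T.i ⁻¹ᵁ W) (fun V => homOfLE (T.i.preimage_mono V.2)) hcoverD _ _ ?_
    intro V
    have h1 : T.i.app (V.1 : C.Opens) (C.presheaf.map (homOfLE V.2).op b) =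
        D.presheaf.map (homOfLE (T.i.preimage_mono V.2)).op (T.i.app W b) := app_map T.i V.2 b
    have h2 : C.presheaf.map (homOfLE V.2).op b = bV V := hb V
    have h3 := (hbV V).1
    have h4 := appLE_map_apply T.f e (T.i.preimage_mono V.2) a
    show D.presheaf.map (homOfLE (T.i.preimage_mono V.2)).op (T.i.app W b) =
      D.presheaf.map (homOfLE (T.i.preimage_mono V.2)).op (T.f.appLE U (T.i ⁻¹ᵁ W) e a)
    rw [← h1, h2, h3]
    exact h4.symm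
  · refine TopCat.Sheaf.eq_of_locally_eq' (⟨T.P.presheaf, T.P.isSheaf⟩ : TopCat.Sheaf Ab.{u} D)
      (fun V : {V : C.affineOpens // (V : C.Opens) ≤ W} => T.i ⁻¹ᵁ (V.1 : C.Opens))
      (T.i ⁻¹ᵁ W) (fun V => homOfLE (T.i.preimage_mono V.2)) hcoverD _ _ ?_
    intro V
    have h2 : C.presheaf.map (homOfLE V.2).op b = bV V := hb V
    have h3 := (hbV V).2
    show T.P.presheaf.map (homOfLE (T.i.preimage_mono V.2)).op
        (pullSect T.i T.Ω₁ W (T.d₁.app W b)) =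
      T.P.presheaf.map (homOfLE (T.i.preimage_mono V.2)).op
        (T.P.presheaf.map (homOfLE e).op (T.om U a))
    rw [← pullSect_map T.i T.Ω₁ V.2 (T.d₁.app W b), ← der_map T.d₁ V.2 b, h2, h3, resM_resM]
    rfl

theorem sol_zero (W : C.Opens) (U : X.Opens) (e : T.i ⁻¹ᵁ W ≤ T.f ⁻¹ᵁ U) :
    T.IsSol W U e 0 0 := by
  constructor
  · rw [map_zero, map_zero]
  · rw [map_zero, map_zero, T.om_zero]
    exact (map_zero _).symm

theorem sol_one (W : C.Opens) (U : X.Opens) (e : T.i ⁻¹ᵁ W ≤ T.f ⁻¹ᵁ U) :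
    T.IsSol W U e 1 1 := by
  constructor
  · rw [map_one, map_one]
  · have h : T.d₁.app W 1 = 0 := T.d₁.d_one (op W)
    rw [h, map_zero, T.om_one]
    exact (map_zero _).symm

theorem sol_add {W : C.Opens} {U : X.Opens} {e : T.i ⁻¹ᵁ W ≤ T.f ⁻¹ᵁ U} {a a' : Γ(X, U)}
    {b b' : Γ(C, W)} (hb : T.IsSol W U e a b) (hb' : T.IsSol W U e a' b') :
    T.IsSol W U e (a + a') (b + b') := by
  constructor
  · rw [map_add, map_add, hb.1, hb'.1]
  · rw [map_add, map_add, hb.2, hb'.2, T.om_add, map_add]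

theorem sol_mul {W : C.Opens} {U : X.Opens} {e : T.i ⁻¹ᵁ W ≤ T.f ⁻¹ᵁ U} {a a' : Γ(X, U)}
    {b b' : Γ(C, W)} (hb : T.IsSol W U e a b) (hb' : T.IsSol W U e a' b') :
    T.IsSol W U e (a * a') (b * b') := by
  constructor
  · rw [map_mul, map_mul, hb.1, hb'.1]
  · rw [der_mul, map_add, pullSect_smul, pullSect_smul, hb.2, hb'.2, hb.1, hb'.1, T.om_mul,
      map_add, Scheme.Modules.map_smul, Scheme.Modules.map_smul] <;> rfl

theorem sol_const (V : S.Opens) (W : C.Opens) (hW : W ≤ T.pC ⁻¹ᵁ V)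
    (e : T.i ⁻¹ᵁ W ≤ T.f ⁻¹ᵁ (T.pX ⁻¹ᵁ V)) (l : Γ(S, V)) :
    T.IsSol W (T.pX ⁻¹ᵁ V) e (T.pX.app V l) (T.pC.appLE V W hW l) := by
  constructor
  · have e1 : T.i ⁻¹ᵁ W ≤ (T.i ≫ T.pC) ⁻¹ᵁ V := fun y hy => hW hy
    have e2 : T.i ⁻¹ᵁ W ≤ (T.f ≫ T.pX) ⁻¹ᵁ V := fun y hy => e hy
    have h1 : (T.i.appLE W (T.i ⁻¹ᵁ W) le_rfl).hom ((T.pC.appLE V W hW).hom l) =
        ((T.i ≫ T.pC).appLE V (T.i ⁻¹ᵁ W) e1).hom l :=
      comp_appLE_apply T.i T.pC V W (T.i ⁻¹ᵁ W) hW le_rfl l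
    have h2 : (T.f.appLE (T.pX ⁻¹ᵁ V) (T.i ⁻¹ᵁ W) e).hom
        ((T.pX.appLE V (T.pX ⁻¹ᵁ V) le_rfl).hom l) =
        ((T.f ≫ T.pX).appLE V (T.i ⁻¹ᵁ W) e2).hom l :=
      comp_appLE_apply T.f T.pX V (T.pX ⁻¹ᵁ V) (T.i ⁻¹ᵁ W) le_rfl e l
    have h3 : (T.f ≫ T.pX).appLE V (T.i ⁻¹ᵁ W) e2 = (T.i ≫ T.pC).appLE V (T.i ⁻¹ᵁ W) e1 :=
      appLE_congr' T.hf V _ e2 e1
    rw [Scheme.Hom.appLE_eq_app] at h1 h2
    exact h1.trans ((congrArg (fun m => m.hom l) h3.symm).trans h2.symm)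
  · have h4 : T.d₁.app W (T.pC.appLE V W hW l) = 0 := by
      have h5 : T.pC.appLE V W hW l = C.presheaf.map (homOfLE hW).op (T.pC.app V l) := rfl
      rw [h5, der_map, der_app, map_zero]
    rw [h4, map_zero, T.om_const]
    exact (map_zero _).symm

/-- the value of the extension, as a function. -/
noncomputable def Gfun (W : C.Opens) (U : X.Opens) (e : T.i ⁻¹ᵁ W ≤ T.f ⁻¹ᵁ U) (a : Γ(X, U)) :
    Γ(C, W) :=
  (T.exists_sol W U e a).choose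

theorem Gfun_spec (W : C.Opens) (U : X.Opens) (e : T.i ⁻¹ᵁ W ≤ T.f ⁻¹ᵁ U) (a : Γ(X, U)) :
    T.IsSol W U e a (T.Gfun W U e a) :=
  (T.exists_sol W U e a).choose_spec

theorem Gfun_eq {W : C.Opens} {U : X.Opens} {e : T.i ⁻¹ᵁ W ≤ T.f ⁻¹ᵁ U} {a : Γ(X, U)}
    {b : Γ(C, W)} (h : T.IsSol W U e a b) : T.Gfun W U e a = b :=
  T.sol_unique (T.Gfun_spec W U e a) h

/-- the value of the extension, as a ring homomorphism. -/
noncomputable def G (W : C.Opens) (U : X.Opens) (e : T.i ⁻¹ᵁ W ≤ T.f ⁻¹ᵁ U) :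
    Γ(X, U) →+* Γ(C, W) where
  toFun a := T.Gfun W U e a
  map_one' := T.Gfun_eq (T.sol_one W U e)
  map_mul' a a' := T.Gfun_eq (T.sol_mul (T.Gfun_spec W U e a) (T.Gfun_spec W U e a'))
  map_zero' := T.Gfun_eq (T.sol_zero W U e)
  map_add' a a' := T.Gfun_eq (T.sol_add (T.Gfun_spec W U e a) (T.Gfun_spec W U e a'))

theorem G_spec (W : C.Opens) (U : X.Opens) (e : T.i ⁻¹ᵁ W ≤ T.f ⁻¹ᵁ U) (a : Γ(X, U)) :
    T.IsSol W U e a (T.G W U e a) :=
  T.Gfun_spec W U e a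

theorem G_eq {W : C.Opens} {U : X.Opens} {e : T.i ⁻¹ᵁ W ≤ T.f ⁻¹ᵁ U} {a : Γ(X, U)}
    {b : Γ(C, W)} (h : T.IsSol W U e a b) : T.G W U e a = b :=
  T.Gfun_eq h

theorem G_res {W : C.Opens} {U : X.Opens} (e : T.i ⁻¹ᵁ W ≤ T.f ⁻¹ᵁ U) (a : Γ(X, U))
    {W' : C.Opens} (hW : W' ≤ W) (e' : T.i ⁻¹ᵁ W' ≤ T.f ⁻¹ᵁ U) :
    T.G W' U e' a = C.presheaf.map (homOfLE hW).op (T.G W U e a) :=
  T.G_eq (T.sol_res_W (T.G_spec W U e a) hW)

theorem G_map {W : C.Opens} {U : X.Opens} (e : T.i ⁻¹ᵁ W ≤ T.f ⁻¹ᵁ U) {U' : X.Opens}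
    (hU : U' ≤ U) (e' : T.i ⁻¹ᵁ W ≤ T.f ⁻¹ᵁ U') (a : Γ(X, U)) :
    T.G W U' e' (X.presheaf.map (homOfLE hU).op a) = T.G W U e a :=
  T.G_eq (T.sol_res_U (T.G_spec W U e a) hU e')

theorem G_const (V : S.Opens) (W : C.Opens) (hW : W ≤ T.pC ⁻¹ᵁ V)
    (e : T.i ⁻¹ᵁ W ≤ T.f ⁻¹ᵁ (T.pX ⁻¹ᵁ V)) (l : Γ(S, V)) :
    T.G W (T.pX ⁻¹ᵁ V) e (T.pX.app V l) = T.pC.appLE V W hW l :=
  T.G_eq (T.sol_const V W hW e l)

end Setup

end Groth.Agent.Helper3.RibExtn
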