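import Mathlib
import Groth.Agent.Lib.Helper3.RibExtnA
import Groth.Agent.Lib.Lead.OmU11b

/-! Extending a morphism over a square-zero thickening, part B: the morphism `C ⟶ X` assembled
from the ring maps of part A, and the resulting criterion (helper3). -/

set_option autoImplicit false
set_option linter.style.haveILetI false
set_option linter.unusedSectionVars false
universe u
open CategoryTheory CategoryTheory.Limits AlgebraicGeometry TopologicalSpace Opposite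

set_option backward.isDefEq.respectTransparency.types false
set_option synthInstance.maxHeartbeats 400000
set_option maxHeartbeats 4000000

namespace Groth.Agent.Helper3.RibExtn

open OmegaSh Groth.Agent.Lead.DerU Groth.Agent.Lead.IdM Groth.Agent.Lead.OmU
  Groth.Agent.Lead.BCU Groth.Agent.Lead.ConMap Groth.Agent.Lead.ConChart Groth.Agent.Lead.ConComp
  Groth.Agent.Lead.ConSeq Groth.Agent.Helper3.RibSplit Groth.Agent.Helper3.HomTan
  Groth.Agent.Helper3.DerAut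

namespace Setup

variable {D C X S : Scheme.{u}} (T : Setup D C X S)

theorem i_surjective : Function.Surjective T.i :=
  Groth.Agent.Lead.Rib2.surjective_of_sq T.i T.hI

/-- the homeomorphism underlying `i`. -/
noncomputable def homeo : D ≃ₜ C :=
  (T.i.isClosedEmbedding.isEmbedding).toHomeomorphOfSurjective T.i_surjective

theorem homeo_symm_i (y : D) : T.homeo.symm (T.i y) = y :=
  T.homeo.symm_apply_apply y

/-- the map of spaces `f ∘ i⁻¹`. -/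
noncomputable def gbase : (C.toPresheafedSpace : TopCat) ⟶ (X.toPresheafedSpace : TopCat) :=
  TopCat.ofHom ⟨fun z => T.f (T.homeo.symm z), T.f.continuous.comp T.homeo.symm.continuous⟩

theorem gbase_i (y : D) : T.gbase (T.i y) = T.f y :=
  congrArg (fun w => T.f w) (T.homeo_symm_i y)

/-- preimages under `gbase`. -/
noncomputable abbrev gpre (U : X.Opens) : C.Opens := (Opens.map T.gbase).obj U

theorem eU (U : X.Opens) : T.i ⁻¹ᵁ (T.gpre U) ≤ T.f ⁻¹ᵁ U := by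
  intro y hy
  have h1 : T.gbase (T.i y) ∈ U := hy
  rw [T.gbase_i] at h1
  exact h1

theorem gpre_mono {U V : X.Opens} (h : V ≤ U) : T.gpre V ≤ T.gpre U := fun _ hz => h hz

theorem G_nat {U V : X.Opens} (h : V ≤ U) (a : Γ(X, U)) :
    T.G (T.gpre V) V (T.eU V) ((X.presheaf.map (homOfLE h).op).hom a) =
      (C.presheaf.map (homOfLE (T.gpre_mono h)).op).hom (T.G (T.gpre U) U (T.eU U) a) := by
  have e' : T.i ⁻¹ᵁ (T.gpre V) ≤ T.f ⁻¹ᵁ U := (T.eU V).trans (T.f.preimage_mono h)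
  have h1 := T.G_map (W := T.gpre V) e' h (T.eU V) a
  have h2 := T.G_res (T.eU U) a (T.gpre_mono h) e'
  exact h1.trans h2

/-- the comorphism. -/
noncomputable def gC : X.presheaf ⟶ T.gbase _* C.presheaf where
  app U := CommRingCat.ofHom (T.G (T.gpre U.unop) U.unop (T.eU U.unop))
  naturality U V k := by
    ext a
    exact T.G_nat k.unop.le a

/-- the morphism of presheafed spaces. -/
noncomputable def gPsh : C.toPresheafedSpace ⟶ X.toPresheafedSpace :=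
  ⟨T.gbase, T.gC⟩

theorem gProp (t : C) : IsLocalHom ((T.gPsh).stalkMap t).hom := by
  constructor
  intro a ha
  obtain ⟨U, hU, r, rfl⟩ := TopCat.Presheaf.exists_germ_eq X.presheaf a
  have hU' : T.gbase t ∈ U := hU
  have key : ((T.gPsh).stalkMap t).hom (X.presheaf.germ U _ hU r) =
      C.presheaf.germ (T.gpre U) t hU' (T.G (T.gpre U) U (T.eU U) r) :=
    PresheafedSpace.stalkMap_germ_apply T.gPsh U t hU r
  rw [key] at ha
  obtain ⟨y, rfl⟩ := T.i_surjective t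
  have h1 : T.i y ∈ C.basicOpen (T.G (T.gpre U) U (T.eU U) r) :=
    (C.mem_basicOpen _ (T.i y) hU').2 ha
  have h2 : y ∈ T.i ⁻¹ᵁ (C.basicOpen (T.G (T.gpre U) U (T.eU U) r)) := h1
  rw [Scheme.preimage_basicOpen] at h2
  have hb : T.i.app (T.gpre U) (T.G (T.gpre U) U (T.eU U) r) =
      T.f.appLE U (T.i ⁻¹ᵁ (T.gpre U)) (T.eU U) r := (T.G_spec _ _ _ r).1
  have h3 : y ∈ D.basicOpen (T.f.appLE U (T.i ⁻¹ᵁ (T.gpre U)) (T.eU U) r) :=
    Eq.mp (congrArg (fun q => y ∈ D.basicOpen q) hb) h2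
  rw [Scheme.basicOpen_appLE] at h3
  have h4 : T.f y ∈ X.basicOpen r := h3.2
  have h5 : T.gbase (T.i y) ∈ X.basicOpen r := by
    rw [T.gbase_i]
    exact h4
  exact (X.mem_basicOpen r (T.gbase (T.i y)) hU).1 h5

/-- **the extension**. -/
noncomputable def g : C ⟶ X := ⟨⟨T.gPsh, T.gProp⟩⟩

theorem g_app (U : X.Opens) (a : Γ(X, U)) :
    ((T.g).app U).hom a = T.G (T.gpre U) U (T.eU U) a := rfl

theorem i_comp_g : T.i ≫ T.g = T.f := by
  apply hom_ext_of_appLE'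
  · intro y
    exact T.gbase_i y
  · intro U W' _ _ e₁ e₂ r
    have e₃ : W' ≤ T.i ⁻¹ᵁ (T.g ⁻¹ᵁ U) := e₁
    have h1 := comp_appLE_apply T.i T.g U (T.g ⁻¹ᵁ U) W' le_rfl e₃ r
    rw [Scheme.Hom.appLE_eq_app] at h1
    have h2 : (T.i.appLE (T.g ⁻¹ᵁ U) W' e₃).hom ((T.g.app U).hom r) =
        (D.presheaf.map (homOfLE e₃).op).hom
          ((T.i.app (T.gpre U)).hom (T.G (T.gpre U) U (T.eU U) r)) := rfl
    have h3 : (T.i.app (T.gpre U)).hom (T.G (T.gpre U) U (T.eU U) r) =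
        (T.f.appLE U (T.i ⁻¹ᵁ (T.gpre U)) (T.eU U)).hom r := (T.G_spec _ _ _ r).1
    have h4 := appLE_map_apply T.f (T.eU U) e₃ r
    exact h1.symm.trans (h2.trans
      ((congrArg (fun q => (D.presheaf.map (homOfLE e₃).op).hom q) h3).trans h4))

theorem g_comp_pX : T.g ≫ T.pX = T.pC := by
  apply hom_ext_of_appLE'
  · intro t
    obtain ⟨y, rfl⟩ := T.i_surjective t
    have h1 : T.pX (T.g (T.i y)) = T.pX (T.f y) := congrArg (fun w => T.pX w) (T.gbase_i y)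
    have h2 : (T.f ≫ T.pX) y = (T.i ≫ T.pC) y := congrArg (fun m : D ⟶ S => m y) T.hf
    exact h1.trans h2
  · intro V W _ _ e₁ e₂ l
    have e₃ : W ≤ T.g ⁻¹ᵁ (T.pX ⁻¹ᵁ V) := e₁
    have h1 := comp_appLE_apply T.g T.pX V (T.pX ⁻¹ᵁ V) W le_rfl e₃ l
    rw [Scheme.Hom.appLE_eq_app] at h1
    have h2 : (T.g.appLE (T.pX ⁻¹ᵁ V) W e₃).hom ((T.pX.app V).hom l) =
        (C.presheaf.map (homOfLE e₃).op).hom
          (T.G (T.gpre (T.pX ⁻¹ᵁ V)) (T.pX ⁻¹ᵁ V) (T.eU _) ((T.pX.app V).hom l)) := rfl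
    have e₄ : T.i ⁻¹ᵁ W ≤ T.f ⁻¹ᵁ (T.pX ⁻¹ᵁ V) := (T.i.preimage_mono e₃).trans (T.eU _)
    have h3 := T.G_res (T.eU (T.pX ⁻¹ᵁ V)) ((T.pX.app V).hom l) e₃ e₄
    have h4 := T.G_const V W e₂ e₄ l
    exact h1.symm.trans (h2.trans (h3.symm.trans h4))

theorem exists_extension : ∃ g : C ⟶ X, T.i ≫ g = T.f ∧ g ≫ T.pX = T.pC :=
  ⟨T.g, T.i_comp_g, T.g_comp_pX⟩

end Setup

section Fwd

variable {D C X S : Scheme.{u}} (i : D ⟶ C) (g : C ⟶ X) (pC : C ⟶ S) (pX : X ⟶ S)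
  (hg : g ≫ pX = pC)
  {Ω₁ : C.Modules} (d₁ : Der pC Ω₁) {Ω₂ : D.Modules} (d₂ : Der (i ≫ pC) Ω₂)
  {Ω₃ : X.Modules} (d₃ : Der pX Ω₃) (hd₃ : IsUniversal d₃)
  (c : (Scheme.Modules.pullback i).obj Ω₁ ⟶ Ω₂) (hc : IsDiffCompat i d₁ d₂ c)

include hg hd₃ hc in
/-- the restriction to `D` of the differential of an extension splits the differential of the
restriction. -/
theorem exists_splitting (df : (Scheme.Modules.pullback (i ≫ g)).obj Ω₃ ⟶ Ω₂)
    (hdf : IsDiffCompat (i ≫ g) d₃ d₂ df) :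
    ∃ s : (Scheme.Modules.pullback (i ≫ g)).obj Ω₃ ⟶ (Scheme.Modules.pullback i).obj Ω₁,
      s ≫ c = df := by
  have hsq : pC ≫ 𝟙 S = g ≫ pX := by rw [Category.comp_id, hg]
  obtain ⟨dg, hdg, -⟩ := existsUnique_diffCompat g hsq d₃ d₁ hd₃
  have hdg' : IsDiffCompat g d₃ d₁ dg := hdg
  obtain ⟨s₀, hs₀⟩ : ∃ s₀ : (Scheme.Modules.pullback (i ≫ g)).obj Ω₃ ⟶
      (Scheme.Modules.pullback i).obj Ω₁,
      s₀ = (Scheme.Modules.pullbackComp i g).inv.app Ω₃ ≫ (Scheme.Modules.pullback i).map dg :=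
    ⟨_, rfl⟩
  have Kβ : ∀ (U : X.Opens) (x : Γ(Ω₃, U)),
      s₀.app ((i ≫ g) ⁻¹ᵁ U) (pullSect (i ≫ g) Ω₃ U x) =
        pullSect i Ω₁ (g ⁻¹ᵁ U) (dg.app (g ⁻¹ᵁ U) (pullSect g Ω₃ U x)) := by
    intro U x
    have h1 := unit_comp_apply i g Ω₃ U x
    have h2 := pullSect_naturality i dg (g ⁻¹ᵁ U) (pullSect g Ω₃ U x)
    rw [hs₀]
    exact (congrArg (fun y => ((Scheme.Modules.pullback i).map dg).app (i ⁻¹ᵁ (g ⁻¹ᵁ U)) y)
      h1.symm).trans h2
  refine ⟨s₀, ?_⟩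
  have hsq' : (i ≫ pC) ≫ 𝟙 S = (i ≫ g) ≫ pX := by
    rw [Category.comp_id, Category.assoc, hg]
  refine (existsUnique_diffCompat (i ≫ g) hsq' d₃ d₂ hd₃).unique ?_ hdf
  intro U a
  show c.app (i ⁻¹ᵁ (g ⁻¹ᵁ U)) (s₀.app ((i ≫ g) ⁻¹ᵁ U)
    (pullSect (i ≫ g) Ω₃ U (d₃.app U a))) = _
  rw [Kβ]
  have h3 : dg.app (g ⁻¹ᵁ U) (pullSect g Ω₃ U (d₃.app U a)) = d₁.app (g ⁻¹ᵁ U) (g.app U a) :=
    hdg' U a
  rw [h3]
  exact hc (g ⁻¹ᵁ U) (g.app U a)

end Fwd

/-- **a morphism from the reduced curve of a ribbon extends to the ribbon iff the pulled-back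
cotangent sequence splits**. -/
theorem main (k : Type u) [Field k] (D C : Scheme.{u}) (i : D ⟶ C)
    (pC : C ⟶ Spec (CommRingCat.of k)) (hR : MultCurve.IsRibbon i)
    (Ω₁ : C.Modules) (d₁ : OmegaSh.Der pC Ω₁) (hd₁ : OmegaSh.IsUniversal d₁)
    (Ω₂ : D.Modules) (d₂ : OmegaSh.Der (i ≫ pC) Ω₂) (hd₂ : OmegaSh.IsUniversal d₂)
    (φ : Omega.conormal i ⟶ (Scheme.Modules.pullback i).obj Ω₁)
    (hφ : OmegaSh.IsConormalDiff i d₁ φ)
    (c : (Scheme.Modules.pullback i).obj Ω₁ ⟶ Ω₂) (hc : OmegaSh.IsDiffCompat i d₁ d₂ c)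
    (hw : φ ≫ c = 0) (hS : (ShortComplex.mk φ c hw).ShortExact)
    (X : Scheme.{u}) (pX : X ⟶ Spec (CommRingCat.of k)) (f : D ⟶ X) (hf : f ≫ pX = i ≫ pC)
    (Ω₃ : X.Modules) (d₃ : OmegaSh.Der pX Ω₃) (hd₃ : OmegaSh.IsUniversal d₃)
    (df : (Scheme.Modules.pullback f).obj Ω₃ ⟶ Ω₂) (hdf : OmegaSh.IsDiffCompat f d₃ d₂ df) :
    (∃ g : C ⟶ X, i ≫ g = f ∧ g ≫ pX = pC) ↔
      ∃ s : (Scheme.Modules.pullback f).obj Ω₃ ⟶ (Scheme.Modules.pullback i).obj Ω₁,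
        s ≫ c = df := by
  haveI : IsClosedImmersion i := hR.1.1
  constructor
  · rintro ⟨g, hig, hg⟩
    subst hig
    exact exists_splitting i g pC pX hg d₁ d₂ d₃ hd₃ c hc df hdf
  · rintro ⟨s, hs⟩
    haveI : Mono φ := hS.mono_f
    let T : Setup D C X (Spec (CommRingCat.of k)) :=
      { i := i, f := f, pC := pC, pX := pX, hf := hf, ci := hR.1.1, hI := hR.1.2.1
        Ω₁ := Ω₁, d₁ := d₁, Ω₂ := Ω₂, d₂ := d₂, Ω₃ := Ω₃, d₃ := d₃
        φ := φ, hφ := hφ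
        hφinj := fun V => Groth.Agent.Helper1.FtLocal.app_injective_of_mono φ V
        c := c, hc := hc
        hex := fun W hW => by
          have hWc : W ≤ i.coborderRange := by
            rw [Groth.Agent.Lead.ConNbhd.coborderRange_eq_top]
            exact le_top
          exact (conormal_chart pC i d₁ hd₁ d₂ hd₂ φ hφ c hc
            (isAffineOpen_top (Spec (CommRingCat.of k))) hW (fun _ _ => trivial) hWc).2.1
        df := df, hdf := hdf, s := s, hs := hs }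
    exact T.exists_extension

end Groth.Agent.Helper3.RibExtn
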