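import Mathlib
import Groth.Agent.Lib.Helper3.RibExtnB
import Groth.Agent.Lib.Helper3.RibExtA

/-! Two ribbons on `D` over a base with short exact restricted cotangent sequences are isomorphic
over `D` iff there is an isomorphism of conormal bundles carrying one class to the other
(helper3). -/

set_option autoImplicit false
set_option linter.style.haveILetI false
set_option linter.unusedSectionVars false
universe w v' u' u
open CategoryTheory CategoryTheory.Limits AlgebraicGeometry TopologicalSpace Opposite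

set_option backward.isDefEq.respectTransparency.types false
set_option synthInstance.maxHeartbeats 400000
set_option maxHeartbeats 4000000

namespace Groth.Agent.Helper3.RibIso

open OmegaSh Groth.Agent.Lead.DerU Groth.Agent.Lead.IdM Groth.Agent.Lead.OmU
  Groth.Agent.Lead.BCU Groth.Agent.Lead.ConMap Groth.Agent.Lead.ConChart Groth.Agent.Lead.ConComp
  Groth.Agent.Lead.ConSeq Groth.Agent.Helper3.RibSplit Groth.Agent.Helper3.HomTan
  Groth.Agent.Helper3.DerAut Groth.Agent.Helper3.RibExtn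

section ExtLemma

/-- equal classes (up to a map of kernels) give a morphism of extensions. -/
theorem exists_mid {A : Type u'} [Category.{v'} A] [Abelian A] [HasExt.{w} A]
    {L L' E E' Q : A} (φ : L ⟶ E) (c : E ⟶ Q) (hw : φ ≫ c = 0)
    (φ' : L' ⟶ E') (c' : E' ⟶ Q) (hw' : φ' ≫ c' = 0)
    (hS : (ShortComplex.mk φ c hw).ShortExact) (hS' : (ShortComplex.mk φ' c' hw').ShortExact)
    (α : L ⟶ L') (hα : hS.extClass.comp (Abelian.Ext.mk₀ α) (add_zero 1) = hS'.extClass) :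
    ∃ β : E ⟶ E', φ ≫ β = α ≫ φ' ∧ β ≫ c' = c := by
  haveI : Mono (ShortComplex.mk φ' c' hw').f := hS'.mono_f
  have h0 : (Abelian.Ext.mk₀ c).comp hS.extClass (zero_add 1) = 0 := hS.comp_extClass
  have h1 : (Abelian.Ext.mk₀ c).comp hS'.extClass (zero_add 1) = 0 := by
    rw [← hα, ← Abelian.Ext.comp_assoc_of_third_deg_zero, h0, Abelian.Ext.zero_comp]
  obtain ⟨x₂, hx₂⟩ := Abelian.Ext.covariant_sequence_exact₃ E hS' (Abelian.Ext.mk₀ c)
    (zero_add 1) h1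
  obtain ⟨β₀, rfl⟩ := (Abelian.Ext.mk₀_bijective E E').2 x₂
  have hβ₀ : β₀ ≫ c' = c := by
    apply (Abelian.Ext.mk₀_bijective E Q).1
    rw [← Abelian.Ext.mk₀_comp_mk₀]
    exact hx₂
  have hk : (φ ≫ β₀) ≫ c' = 0 := by rw [Category.assoc, hβ₀, hw]
  obtain ⟨γ, hγ⟩ : ∃ γ : L ⟶ L', γ ≫ φ' = φ ≫ β₀ :=
    ⟨hS'.exact.lift (φ ≫ β₀) hk, hS'.exact.lift_f _ _⟩
  let F : ShortComplex.mk φ c hw ⟶ ShortComplex.mk φ' c' hw' :=
    ShortComplex.homMk γ β₀ (𝟙 Q) hγ (by rw [Category.comp_id]; exact hβ₀)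
  have hnat := ShortComplex.ShortExact.extClass_naturality hS hS' F
  have hnat' : hS.extClass.comp (Abelian.Ext.mk₀ γ) (add_zero 1) = hS'.extClass :=
    hnat.trans (Abelian.Ext.mk₀_id_comp _)
  have hdiff : hS.extClass.comp (Abelian.Ext.mk₀ (γ - α)) (add_zero 1) = 0 := by
    have hsum : Abelian.Ext.mk₀ γ = Abelian.Ext.mk₀ (γ - α) + Abelian.Ext.mk₀ α := by
      rw [← Abelian.Ext.mk₀_add, sub_add_cancel]
    rw [hsum, Abelian.Ext.comp_add, hα] at hnat'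
    exact add_right_cancel (hnat'.trans (zero_add _).symm)
  obtain ⟨y₂, hy₂⟩ := Abelian.Ext.contravariant_sequence_exact₁ hS L'
    (Abelian.Ext.mk₀ (γ - α)) (add_zero 1) hdiff
  obtain ⟨t, rfl⟩ := (Abelian.Ext.mk₀_bijective E L').2 y₂
  have ht : φ ≫ t = γ - α := by
    apply (Abelian.Ext.mk₀_bijective L L').1
    rw [← Abelian.Ext.mk₀_comp_mk₀]
    exact hy₂
  refine ⟨β₀ - t ≫ φ', ?_, ?_⟩
  · calc φ ≫ (β₀ - t ≫ φ') = φ ≫ β₀ - (φ ≫ t) ≫ φ' := by
          rw [Preadditive.comp_sub, Category.assoc]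
      _ = γ ≫ φ' - (γ - α) ≫ φ' := by rw [← hγ, ht]
      _ = α ≫ φ' := by rw [Preadditive.sub_comp]; abel
  · rw [Preadditive.sub_comp, Category.assoc, hw', Limits.comp_zero, sub_zero, hβ₀]

end ExtLemma

section General

theorem app_bijective_of_isIso {X : Scheme.{u}} {M N : X.Modules} (θ : M ⟶ N) [IsIso θ]
    (U : X.Opens) : Function.Bijective (θ.app U) := by
  constructor
  · intro x y hxy
    have hx : (inv θ).app U (θ.app U x) = x :=
      congrArg (fun ψ => Scheme.Modules.Hom.app ψ U x) (IsIso.hom_inv_id θ)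
    have hy : (inv θ).app U (θ.app U y) = y :=
      congrArg (fun ψ => Scheme.Modules.Hom.app ψ U y) (IsIso.hom_inv_id θ)
    exact hx.symm.trans ((congrArg (fun z => (inv θ).app U z) hxy).trans hy)
  · intro y
    exact ⟨(inv θ).app U y, congrArg (fun ψ => Scheme.Modules.Hom.app ψ U y) (IsIso.inv_hom_id θ)⟩

/-- for a surjective closed immersion every open is a preimage. -/
theorem exists_preimage_eq {D C' : Scheme.{u}} (j : D ⟶ C') [IsClosedImmersion j]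
    (hsurj : Function.Surjective j) (V : D.Opens) : ∃ U' : C'.Opens, V = j ⁻¹ᵁ U' := by
  let h : D ≃ₜ C' := (j.isClosedEmbedding.isEmbedding).toHomeomorphOfSurjective hsurj
  refine ⟨⟨h '' (V : Set D), h.isOpenMap _ V.isOpen⟩, ?_⟩
  refine SetLike.ext fun y => ⟨fun hy => ?_, fun hy => ?_⟩
  · exact ⟨y, hy, rfl⟩
  · have hy2 : j y ∈ h '' (V : Set D) := hy
    obtain ⟨y', hy', hyy⟩ := hy2
    have h3 : y' = y := h.injective hyy
    exact h3 ▸ hy'

theorem res_res_ring {Z : Scheme.{u}} {A B C₁ : Z.Opens} (h₁ : B ≤ A) (h₂ : C₁ ≤ B)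
    (h₃ : C₁ ≤ A) (a : Γ(Z, A)) :
    (Z.presheaf.map (homOfLE h₂).op).hom ((Z.presheaf.map (homOfLE h₁).op).hom a) =
      (Z.presheaf.map (homOfLE h₃).op).hom a := by
  have h : Z.presheaf.map (homOfLE h₁).op ≫ Z.presheaf.map (homOfLE h₂).op =
      Z.presheaf.map (homOfLE h₃).op := by
    rw [← Functor.map_comp]
    rfl
  exact congrArg (fun m => m.hom a) h

theorem der_transport {D S : Scheme.{u}} {p q : D ⟶ S} (h : p = q) {Ω : D.Modules}
    (d : Der p Ω) :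
    ∃ d' : Der q Ω, (∀ (U : D.Opens) (a : Γ(D, U)), d'.app U a = d.app U a) ∧
      (IsUniversal d → IsUniversal d') := by
  subst h
  exact ⟨d, fun _ _ => rfl, id⟩

end General

section ConIso

variable {D C C' : Scheme.{u}} (i : D ⟶ C) (g : C ⟶ C') [IsIso g] [IsClosedImmersion i]
  [IsClosedImmersion (i ≫ g)] (hI : i.ker ^ 2 = ⊥) (hI' : (i ≫ g).ker ^ 2 = ⊥)
  (α₀ : (Scheme.Modules.pullback (𝟙 D)).obj (Omega.conormal (i ≫ g)) ⟶ Omega.conormal i)
  (hα₀ : IsConormalMap i (i ≫ g) g (𝟙 D) α₀)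

include hα₀ in
theorem a_cls (U' : C'.Opens) (s' : Γ(ClSub.idealMod (i ≫ g).ker, U')) :
    ((Scheme.Modules.pullbackId D).inv.app (Omega.conormal (i ≫ g)) ≫ α₀).app
        ((i ≫ g) ⁻¹ᵁ U') (conormalSect (i ≫ g) U' s') =
      conormalSect i (g ⁻¹ᵁ U') (liftI i (i ≫ g) g (𝟙 D) (Category.id_comp _) U' s') := by
  have hs := liftI_spec i (i ≫ g) g (𝟙 D) (Category.id_comp _) U' s'
  have h1 := ψ_cls g i α₀ hα₀ U' s' (liftI i (i ≫ g) g (𝟙 D) (Category.id_comp _) U' s') hs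
  have h2 := pullbackId_inv_app (Omega.conormal (i ≫ g)) ((i ≫ g) ⁻¹ᵁ U')
    (conormalSect (i ≫ g) U' s')
  show α₀.app ((i ≫ g) ⁻¹ᵁ U') (((Scheme.Modules.pullbackId D).inv.app
    (Omega.conormal (i ≫ g))).app ((i ≫ g) ⁻¹ᵁ U') (conormalSect (i ≫ g) U' s')) = _
  rw [h2]
  exact h1

theorem liftI_injective (U' : C'.Opens) :
    Function.Injective (liftI i (i ≫ g) g (𝟙 D) (Category.id_comp _) U') := by
  intro s s' h
  have h1 := liftI_spec i (i ≫ g) g (𝟙 D) (Category.id_comp _) U' s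
  have h2 := liftI_spec i (i ≫ g) g (𝟙 D) (Category.id_comp _) U' s'
  rw [h] at h1
  have h3 : (g.app U').hom (idealSect (i ≫ g).ker U' s) =
      (g.app U').hom (idealSect (i ≫ g).ker U' s') := h1.symm.trans h2
  have hbij : Function.Bijective (g.app U').hom :=
    (ConcreteCategory.isIso_iff_bijective (g.app U')).1 inferInstance
  exact idealSect_injective (i ≫ g).ker U' (hbij.1 h3)

theorem liftI_surjective (U' : C'.Opens) (t : Γ(ClSub.idealMod i.ker, g ⁻¹ᵁ U')) :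
    ∃ s, liftI i (i ≫ g) g (𝟙 D) (Category.id_comp _) U' s = t := by
  have hbij : Function.Bijective (g.app U').hom :=
    (ConcreteCategory.isIso_iff_bijective (g.app U')).1 inferInstance
  obtain ⟨r, hr⟩ := hbij.2 (idealSect i.ker (g ⁻¹ᵁ U') t)
  have h0 : ((i ≫ g).app U').hom r = 0 := by
    show (i.app (g ⁻¹ᵁ U')).hom ((g.app U').hom r) = 0
    rw [hr]
    exact app_idealSect i (g ⁻¹ᵁ U') t
  obtain ⟨s, hs⟩ := exists_idealSect (i ≫ g) U' r h0
  refine ⟨s, ?_⟩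
  apply idealSect_injective i.ker (g ⁻¹ᵁ U')
  rw [liftI_spec, hs]
  exact hr

include hI hI' hα₀ in
/-- the conormal map of an isomorphism of thickenings is an isomorphism. -/
theorem isIso_a :
    IsIso ((Scheme.Modules.pullbackId D).inv.app (Omega.conormal (i ≫ g)) ≫ α₀) := by
  apply Groth.Agent.Lead.BasisIso.isIso_of_bijective_affineOpens
  intro V _
  have hsurj : Function.Surjective (i ≫ g) :=
    Groth.Agent.Lead.Rib2.surjective_of_sq (i ≫ g) hI'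
  obtain ⟨U', rfl⟩ := exists_preimage_eq (i ≫ g) hsurj V
  haveI := etaI_isIso i hI
  haveI := etaI_isIso (i ≫ g) hI'
  have hη : Function.Bijective ((etaI i).app (g ⁻¹ᵁ U')) := app_bijective_of_isIso _ _
  have hη' : Function.Bijective ((etaI (i ≫ g)).app U') := app_bijective_of_isIso _ _
  have hkey : ∀ s' : Γ(ClSub.idealMod (i ≫ g).ker, U'),
      ((Scheme.Modules.pullbackId D).inv.app (Omega.conormal (i ≫ g)) ≫ α₀).app
        ((i ≫ g) ⁻¹ᵁ U') ((etaI (i ≫ g)).app U' s') =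
      (etaI i).app (g ⁻¹ᵁ U') (liftI i (i ≫ g) g (𝟙 D) (Category.id_comp _) U' s') := by
    intro s'
    have h1 := a_cls i g α₀ hα₀ U' s'
    have h2 := etaI_app (i ≫ g) U' s'
    have h3 := etaI_app i (g ⁻¹ᵁ U') (liftI i (i ≫ g) g (𝟙 D) (Category.id_comp _) U' s')
    exact (congrArg (fun y => ((Scheme.Modules.pullbackId D).inv.app
      (Omega.conormal (i ≫ g)) ≫ α₀).app ((i ≫ g) ⁻¹ᵁ U') y) h2).trans (h1.trans h3.symm)
  constructor
  · intro n n' hnn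
    obtain ⟨s, rfl⟩ := hη'.2 n
    obtain ⟨s', rfl⟩ := hη'.2 n'
    have h1 := (hkey s).symm.trans (hnn.trans (hkey s'))
    have h2 := liftI_injective i g U' (hη.1 h1)
    rw [h2]
  · intro m
    obtain ⟨t, rfl⟩ := hη.2 m
    obtain ⟨s, rfl⟩ := liftI_surjective i g U' t
    exact ⟨(etaI (i ≫ g)).app U' s, hkey s⟩

end ConIso

end Groth.Agent.Helper3.RibIso

namespace Groth.Agent.Helper3.RibExtn.Setup

open OmegaSh Groth.Agent.Lead.DerU Groth.Agent.Lead.IdM Groth.Agent.Lead.OmU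
  Groth.Agent.Lead.BCU Groth.Agent.Lead.ConMap Groth.Agent.Lead.ConChart Groth.Agent.Lead.ConComp
  Groth.Agent.Lead.ConSeq Groth.Agent.Helper3.RibSplit Groth.Agent.Helper3.HomTan
  Groth.Agent.Helper3.DerAut Groth.Agent.Helper3.RibIso

variable {D C X S : Scheme.{u}} (T : Setup D C X S)

/-- the trivial problem: extending `i` itself. -/
noncomputable def idSetup : Setup D C C S :=
  { i := T.i, f := T.i, pC := T.pC, pX := T.pC, hf := rfl, ci := T.ci, hI := T.hI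
    Ω₁ := T.Ω₁, d₁ := T.d₁, Ω₂ := T.Ω₂, d₂ := T.d₂, Ω₃ := T.Ω₁, d₃ := T.d₁
    φ := T.φ, hφ := T.hφ, hφinj := T.hφinj, c := T.c, hc := T.hc, hex := T.hex
    df := T.c, hdf := T.hc, s := 𝟙 _, hs := Category.id_comp _ }

/-- an extension in the other direction whose differential is inverse to `s` is a left inverse
of the extension. -/
theorem comp_eq_id (g₂ : X ⟶ C) (h₂ : T.f ≫ g₂ = T.i)
    (s₂ : (Scheme.Modules.pullback T.i).obj T.Ω₁ ⟶ (Scheme.Modules.pullback T.f).obj T.Ω₃)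
    (hs : s₂ ≫ T.s = 𝟙 _)
    (P₂ : ∀ (U : C.Opens) (a : Γ(C, U)) (e : T.f ⁻¹ᵁ (g₂ ⁻¹ᵁ U) ≤ T.i ⁻¹ᵁ U),
      pullSect T.f T.Ω₃ (g₂ ⁻¹ᵁ U) (T.d₃.app (g₂ ⁻¹ᵁ U) (g₂.app U a)) =
        ((Scheme.Modules.pullback T.f).obj T.Ω₃).presheaf.map (homOfLE e).op
          (s₂.app (T.i ⁻¹ᵁ U) (pullSect T.i T.Ω₁ U (T.d₁.app U a)))) :
    T.g ≫ g₂ = 𝟙 C := by
  have hpt : ∀ z : C, (T.g ≫ g₂) z = z := by
    intro z
    obtain ⟨y, rfl⟩ := T.i_surjective z
    have h1 : g₂ (T.g (T.i y)) = g₂ (T.f y) := congrArg (fun w => g₂ w) (T.gbase_i y)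
    have h2 : (T.f ≫ g₂) y = T.i y := congrArg (fun m : D ⟶ C => m y) h₂
    exact h1.trans h2
  have hik : T.i ≫ (T.g ≫ g₂) = T.i := by rw [← Category.assoc, T.i_comp_g, h₂]
  have hk : ∀ U : C.Opens, (T.g ≫ g₂) ⁻¹ᵁ U ≤ U := by
    intro U z hz
    have h1 : (T.g ≫ g₂) z ∈ U := hz
    rwa [hpt z] at h1
  have hval : ∀ (U : C.Opens) (a : Γ(C, U)),
      ((T.g ≫ g₂).app U).hom a = (C.presheaf.map (homOfLE (hk U)).op).hom a := by
    intro U a
    have e₀ : T.i ⁻¹ᵁ ((T.g ≫ g₂) ⁻¹ᵁ U) ≤ T.i ⁻¹ᵁ U := T.i.preimage_mono (hk U)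
    have e₂' : T.f ⁻¹ᵁ (g₂ ⁻¹ᵁ U) ≤ T.i ⁻¹ᵁ U := by
      intro y hy
      have h1 : (T.f ≫ g₂) y ∈ U := hy
      rw [h₂] at h1
      exact h1
    have hA : T.idSetup.IsSol ((T.g ≫ g₂) ⁻¹ᵁ U) U e₀ a (((T.g ≫ g₂).app U).hom a) := by
      constructor
      · have h1 : (T.i ≫ (T.g ≫ g₂)).appLE U ((T.i ≫ (T.g ≫ g₂)) ⁻¹ᵁ U) le_rfl =
            T.i.appLE U (T.i ⁻¹ᵁ ((T.g ≫ g₂) ⁻¹ᵁ U)) e₀ := appLE_congr' hik U _ le_rfl e₀
        have h2 := Scheme.Hom.appLE_eq_app (f := T.i ≫ (T.g ≫ g₂)) (U := U)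
        exact congrArg (fun m => m.hom a) (h2.symm.trans h1)
      · have hG := (T.G_spec (T.gpre (g₂ ⁻¹ᵁ U)) (g₂ ⁻¹ᵁ U) (T.eU _) ((g₂.app U).hom a)).2
        have hom : T.om (g₂ ⁻¹ᵁ U) ((g₂.app U).hom a) =
            T.P.presheaf.map (homOfLE e₂').op (pullSect T.i T.Ω₁ U (T.d₁.app U a)) := by
          have h3 := P₂ U a e₂'
          have h4 := Groth.Agent.Lead.BCU.app_res T.s e₂'
            (s₂.app (T.i ⁻¹ᵁ U) (pullSect T.i T.Ω₁ U (T.d₁.app U a)))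
          have h5 : T.s.app (T.i ⁻¹ᵁ U) (s₂.app (T.i ⁻¹ᵁ U)
              (pullSect T.i T.Ω₁ U (T.d₁.app U a))) = pullSect T.i T.Ω₁ U (T.d₁.app U a) :=
            congrArg (fun ψ => Scheme.Modules.Hom.app ψ (T.i ⁻¹ᵁ U)
              (pullSect T.i T.Ω₁ U (T.d₁.app U a))) hs
          exact (congrArg (fun y => T.s.app (T.f ⁻¹ᵁ (g₂ ⁻¹ᵁ U)) y) h3).trans
            (h4.trans (congrArg (fun y => T.P.presheaf.map (homOfLE e₂').op y) h5))
        have h6 : pullSect T.i T.Ω₁ ((T.g ≫ g₂) ⁻¹ᵁ U)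
            (T.d₁.app ((T.g ≫ g₂) ⁻¹ᵁ U) (((T.g ≫ g₂).app U).hom a)) =
            T.P.presheaf.map (homOfLE (T.eU (g₂ ⁻¹ᵁ U))).op
              (T.P.presheaf.map (homOfLE e₂').op (pullSect T.i T.Ω₁ U (T.d₁.app U a))) :=
          hG.trans (congrArg (fun y => T.P.presheaf.map (homOfLE (T.eU (g₂ ⁻¹ᵁ U))).op y) hom)
        rw [resM_resM] at h6
        exact h6
    have hB0 : T.idSetup.IsSol U U le_rfl a a := by
      constructor
      · exact (congrArg (fun m => m.hom a) (Scheme.Hom.appLE_eq_app (f := T.i) (U := U))).symm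
      · exact (res_self T.P (le_refl (T.i ⁻¹ᵁ U)) (pullSect T.i T.Ω₁ U (T.d₁.app U a))).symm
    have hB := T.idSetup.sol_res_W hB0 (hk U)
    exact T.idSetup.sol_unique hA hB
  apply hom_ext_of_appLE'
  · exact hpt
  · intro U W _ _ e₁ e₂ a
    have h1 : ((T.g ≫ g₂).appLE U W e₁).hom a =
        (C.presheaf.map (homOfLE e₁).op).hom (((T.g ≫ g₂).app U).hom a) := rfl
    have h2 : ((𝟙 C : C ⟶ C).appLE U W e₂).hom a = (C.presheaf.map (homOfLE e₂).op).hom a := rfl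
    rw [h1, h2, hval U a]
    exact res_res_ring (hk U) e₁ e₂ a

end Groth.Agent.Helper3.RibExtn.Setup

namespace Groth.Agent.Helper3.RibIso

open OmegaSh Groth.Agent.Lead.DerU Groth.Agent.Lead.IdM Groth.Agent.Lead.OmU
  Groth.Agent.Lead.BCU Groth.Agent.Lead.ConMap Groth.Agent.Lead.ConChart Groth.Agent.Lead.ConComp
  Groth.Agent.Lead.ConSeq Groth.Agent.Helper3.RibSplit Groth.Agent.Helper3.HomTan
  Groth.Agent.Helper3.DerAut Groth.Agent.Helper3.RibExtn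

/-- **ribbons with short exact cotangent sequences are classified by conormal bundle and
class**. -/
theorem main (k : Type u) [Field k] (D : Scheme.{u})
    (pD : D ⟶ Spec (CommRingCat.of k))
    (Ω₂ : D.Modules) (d₂ : OmegaSh.Der pD Ω₂) (hd₂ : OmegaSh.IsUniversal d₂)
    [HasExt.{w} D.Modules]
    (C : Scheme.{u}) (i : D ⟶ C) (pC : C ⟶ Spec (CommRingCat.of k))
    (hp : i ≫ pC = pD) (hR : MultCurve.IsRibbon i)
    (Ω₁ : C.Modules) (d₁ : OmegaSh.Der pC Ω₁) (hd₁ : OmegaSh.IsUniversal d₁)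
    (φ : Omega.conormal i ⟶ (Scheme.Modules.pullback i).obj Ω₁)
    (hφ : OmegaSh.IsConormalDiff i d₁ φ)
    (c : (Scheme.Modules.pullback i).obj Ω₁ ⟶ Ω₂) (hc : OmegaSh.IsDiffCompat i d₁ d₂ c)
    (hw : φ ≫ c = 0) (hS : (ShortComplex.mk φ c hw).ShortExact)
    (C' : Scheme.{u}) (i' : D ⟶ C') (pC' : C' ⟶ Spec (CommRingCat.of k))
    (hp' : i' ≫ pC' = pD) (hR' : MultCurve.IsRibbon i')
    (Ω₁' : C'.Modules) (d₁' : OmegaSh.Der pC' Ω₁') (hd₁' : OmegaSh.IsUniversal d₁')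
    (φ' : Omega.conormal i' ⟶ (Scheme.Modules.pullback i').obj Ω₁')
    (hφ' : OmegaSh.IsConormalDiff i' d₁' φ')
    (c' : (Scheme.Modules.pullback i').obj Ω₁' ⟶ Ω₂) (hc' : OmegaSh.IsDiffCompat i' d₁' d₂ c')
    (hw' : φ' ≫ c' = 0) (hS' : (ShortComplex.mk φ' c' hw').ShortExact) :
    (∃ ψ : C ≅ C', i ≫ ψ.hom = i' ∧ ψ.hom ≫ pC' = pC) ↔
      ∃ α : Omega.conormal i ≅ Omega.conormal i',
        hS.extClass.comp (Abelian.Ext.mk₀ α.hom) (add_zero 1) = hS'.extClass := by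
  constructor
  · rintro ⟨ψ, hgi, hgk⟩
    subst hgi
    haveI : IsClosedImmersion i := hR.1.1
    haveI : IsClosedImmersion (i ≫ ψ.hom) := hR'.1.1
    obtain ⟨α₀, hα₀, -⟩ := existsUnique_conormalMap i (i ≫ ψ.hom) ψ.hom (𝟙 D)
      (Category.id_comp _)
    have hα₀' : IsConormalMap i (i ≫ ψ.hom) ψ.hom (𝟙 D) α₀ := hα₀
    have hmain := Groth.Agent.Helper3.RibExt.main k D pD Ω₂ d₂ C i pC hp hR Ω₁ d₁ φ hφ c hc hw hS
      C' pC' ψ.hom hgk Ω₁' d₁' hd₁' φ' hφ' c' hc' hw' hS' α₀ hα₀'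
    haveI := isIso_a i ψ.hom hR.1.2.1 hR'.1.2.1 α₀ hα₀'
    refine ⟨(asIso ((Scheme.Modules.pullbackId D).inv.app (Omega.conormal (i ≫ ψ.hom)) ≫
      α₀)).symm, ?_⟩
    have h1 := Abelian.Ext.comp_assoc_of_third_deg_zero hS'.extClass
      (Abelian.Ext.mk₀ ((Scheme.Modules.pullbackId D).inv.app (Omega.conormal (i ≫ ψ.hom)) ≫ α₀))
      (Abelian.Ext.mk₀ (inv ((Scheme.Modules.pullbackId D).inv.app
        (Omega.conormal (i ≫ ψ.hom)) ≫ α₀))) (add_zero 1)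
    have h2 : (Abelian.Ext.mk₀ ((Scheme.Modules.pullbackId D).inv.app
        (Omega.conormal (i ≫ ψ.hom)) ≫ α₀)).comp
        (Abelian.Ext.mk₀ (inv ((Scheme.Modules.pullbackId D).inv.app
          (Omega.conormal (i ≫ ψ.hom)) ≫ α₀))) (add_zero 0) =
        Abelian.Ext.mk₀ (𝟙 (Omega.conormal (i ≫ ψ.hom))) := by
      rw [Abelian.Ext.mk₀_comp_mk₀]
      exact congrArg Abelian.Ext.mk₀ (IsIso.hom_inv_id _)
    rw [h2, Abelian.Ext.comp_mk₀_id, hmain] at h1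
    exact h1
  · rintro ⟨α, hα⟩
    subst hp
    haveI : IsClosedImmersion i := hR.1.1
    haveI : IsClosedImmersion i' := hR'.1.1
    obtain ⟨β, hβ1, hβ2⟩ := exists_mid φ c hw φ' c' hw' hS hS' α.hom hα
    haveI : IsIso β := by
      let F : ShortComplex.mk φ c hw ⟶ ShortComplex.mk φ' c' hw' :=
        ShortComplex.homMk α.hom β (𝟙 Ω₂) hβ1.symm (by rw [Category.comp_id]; exact hβ2)
      exact ShortComplex.isIso₂_of_shortExact_of_isIso₁₃' F hS hS'
        (inferInstanceAs (IsIso α.hom)) (inferInstanceAs (IsIso (𝟙 Ω₂)))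
    obtain ⟨d₂', hd₂'eq, hd₂'u⟩ := der_transport hp'.symm d₂
    have hc'' : IsDiffCompat i' d₁' d₂' c' := fun U s => (hc' U s).trans (hd₂'eq _ _).symm
    have hdf₂ : IsDiffCompat i d₁ d₂' c := fun U s => (hc U s).trans (hd₂'eq _ _).symm
    haveI : Mono φ := hS.mono_f
    haveI : Mono φ' := hS'.mono_f
    let T₁ : Setup D C C' (Spec (CommRingCat.of k)) :=
      { i := i, f := i', pC := pC, pX := pC', hf := hp', ci := hR.1.1, hI := hR.1.2.1
        Ω₁ := Ω₁, d₁ := d₁, Ω₂ := Ω₂, d₂ := d₂, Ω₃ := Ω₁', d₃ := d₁'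
        φ := φ, hφ := hφ
        hφinj := fun V => Groth.Agent.Helper1.FtLocal.app_injective_of_mono φ V
        c := c, hc := hc
        hex := fun W hW => by
          have hWc : W ≤ i.coborderRange := by
            rw [Groth.Agent.Lead.ConNbhd.coborderRange_eq_top]
            exact le_top
          exact (conormal_chart pC i d₁ hd₁ d₂ hd₂ φ hφ c hc
            (isAffineOpen_top (Spec (CommRingCat.of k))) hW (fun _ _ => trivial) hWc).2.1
        df := c', hdf := hc', s := inv β, hs := (IsIso.inv_comp_eq β).2 hβ2.symm }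
    let T₂ : Setup D C' C (Spec (CommRingCat.of k)) :=
      { i := i', f := i, pC := pC', pX := pC, hf := hp'.symm, ci := hR'.1.1, hI := hR'.1.2.1
        Ω₁ := Ω₁', d₁ := d₁', Ω₂ := Ω₂, d₂ := d₂', Ω₃ := Ω₁, d₃ := d₁
        φ := φ', hφ := hφ'
        hφinj := fun V => Groth.Agent.Helper1.FtLocal.app_injective_of_mono φ' V
        c := c', hc := hc''
        hex := fun W hW => by
          have hWc : W ≤ i'.coborderRange := by
            rw [Groth.Agent.Lead.ConNbhd.coborderRange_eq_top]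
            exact le_top
          exact (conormal_chart pC' i' d₁' hd₁' d₂' (hd₂'u hd₂) φ' hφ' c' hc''
            (isAffineOpen_top (Spec (CommRingCat.of k))) hW (fun _ _ => trivial) hWc).2.1
        df := c, hdf := hdf₂, s := β, hs := hβ2 }
    have h12 : T₁.g ≫ T₂.g = 𝟙 C :=
      T₁.comp_eq_id T₂.g T₂.i_comp_g β (IsIso.hom_inv_id β)
        (fun U a _ => (T₂.G_spec (T₂.gpre U) U (T₂.eU U) a).2)
    have h21 : T₂.g ≫ T₁.g = 𝟙 C' :=
      T₂.comp_eq_id T₁.g T₁.i_comp_g (inv β) (IsIso.inv_hom_id β)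
        (fun U a _ => (T₁.G_spec (T₁.gpre U) U (T₁.eU U) a).2)
    exact ⟨⟨T₁.g, T₂.g, h12, h21⟩, T₁.i_comp_g, T₁.g_comp_pX⟩

end Groth.Agent.Helper3.RibIso
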