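import Mathlib
import Groth.Agent.Lib.Helper3.RibIsoA
import Groth.Agent.Lib.Lead.ConSplit3
import Groth.Agent.Lib.Lead.OmU13d

/-! Two split square-zero thickenings of `D` over a field with isomorphic conormal sheaves are
isomorphic under `D` (helper3): both restricted cotangent sequences are split exact (lead's
`conormal_split`), so both classes vanish, and the classification of `RibIsoA` applies. -/

set_option autoImplicit false
set_option linter.style.haveILetI false
set_option linter.unusedSectionVars false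
universe w v' u' u
open CategoryTheory CategoryTheory.Limits AlgebraicGeometry TopologicalSpace Opposite

set_option backward.isDefEq.respectTransparency.types false
set_option synthInstance.maxHeartbeats 400000
set_option maxHeartbeats 4000000

namespace Groth.Agent.Helper3.RibIsoB

open OmegaSh Groth.Agent.Lead.DerU Groth.Agent.Lead.IdM Groth.Agent.Lead.OmU
  Groth.Agent.Lead.BCU Groth.Agent.Lead.ConMap Groth.Agent.Lead.ConChart Groth.Agent.Lead.ConComp
  Groth.Agent.Lead.ConSeq Groth.Agent.Helper3.RibSplit Groth.Agent.Helper3.HomTan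
  Groth.Agent.Helper3.DerAut Groth.Agent.Helper3.RibExtn Groth.Agent.Helper3.RibIso

/-- square-zero thickenings with short exact cotangent sequences and matching classes are
isomorphic (only closed immersion and square-zero are used). -/
theorem iso_of_class (k : Type u) [Field k] (D : Scheme.{u})
    (pD : D ⟶ Spec (CommRingCat.of k))
    (Ω₂ : D.Modules) (d₂ : OmegaSh.Der pD Ω₂) (hd₂ : OmegaSh.IsUniversal d₂)
    [HasExt.{w} D.Modules]
    (C : Scheme.{u}) (i : D ⟶ C) (pC : C ⟶ Spec (CommRingCat.of k))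
    (hp : i ≫ pC = pD) [ci : IsClosedImmersion i] (hI : i.ker ^ 2 = ⊥)
    (Ω₁ : C.Modules) (d₁ : OmegaSh.Der pC Ω₁) (hd₁ : OmegaSh.IsUniversal d₁)
    (φ : Omega.conormal i ⟶ (Scheme.Modules.pullback i).obj Ω₁)
    (hφ : OmegaSh.IsConormalDiff i d₁ φ)
    (c : (Scheme.Modules.pullback i).obj Ω₁ ⟶ Ω₂) (hc : OmegaSh.IsDiffCompat i d₁ d₂ c)
    (hw : φ ≫ c = 0) (hS : (ShortComplex.mk φ c hw).ShortExact)
    (C' : Scheme.{u}) (i' : D ⟶ C') (pC' : C' ⟶ Spec (CommRingCat.of k))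
    (hp' : i' ≫ pC' = pD) [ci' : IsClosedImmersion i'] (hI' : i'.ker ^ 2 = ⊥)
    (Ω₁' : C'.Modules) (d₁' : OmegaSh.Der pC' Ω₁') (hd₁' : OmegaSh.IsUniversal d₁')
    (φ' : Omega.conormal i' ⟶ (Scheme.Modules.pullback i').obj Ω₁')
    (hφ' : OmegaSh.IsConormalDiff i' d₁' φ')
    (c' : (Scheme.Modules.pullback i').obj Ω₁' ⟶ Ω₂) (hc' : OmegaSh.IsDiffCompat i' d₁' d₂ c')
    (hw' : φ' ≫ c' = 0) (hS' : (ShortComplex.mk φ' c' hw').ShortExact)
    (α : Omega.conormal i ≅ Omega.conormal i')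
    (hα : hS.extClass.comp (Abelian.Ext.mk₀ α.hom) (add_zero 1) = hS'.extClass) :
    ∃ ψ : C ≅ C', i ≫ ψ.hom = i' ∧ ψ.hom ≫ pC' = pC := by
  subst hp
  obtain ⟨β, hβ1, hβ2⟩ := exists_mid φ c hw φ' c' hw' hS hS' α.hom hα
  haveI : IsIso β := by
    let F : ShortComplex.mk φ c hw ⟶ ShortComplex.mk φ' c' hw' :=
      ShortComplex.homMk α.hom β (𝟙 Ω₂) hβ1.symm (by rw [Category.comp_id]; exact hβ2)
    exact ShortComplex.isIso₂_of_shortExact_of_isIso₁₃' F hS hS'
      (inferInstanceAs (IsIso α.hom)) (inferInstanceAs (IsIso (𝟙 Ω₂)))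
  obtain ⟨d₂', hd₂'eq, hd₂'u⟩ := der_transport hp'.symm d₂
  have hc'' : IsDiffCompat i' d₁' d₂' c' := fun U s => (hc' U s).trans (hd₂'eq _ _).symm
  have hdf₂ : IsDiffCompat i d₁ d₂' c := fun U s => (hc U s).trans (hd₂'eq _ _).symm
  haveI : Mono φ := hS.mono_f
  haveI : Mono φ' := hS'.mono_f
  let T₁ : Setup D C C' (Spec (CommRingCat.of k)) :=
    { i := i, f := i', pC := pC, pX := pC', hf := hp', ci := ci, hI := hI
      Ω₁ := Ω₁, d₁ := d₁, Ω₂ := Ω₂, d₂ := d₂, Ω₃ := Ω₁', d₃ := d₁'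
      φ := φ, hφ := hφ
      hφinj := fun V => Groth.Agent.Helper1.FtLocal.app_injective_of_mono φ V
      c := c, hc := hc
      hex := fun W hW => by
        have hWc : W ≤ i.coborderRange := by
          rw [Groth.Agent.Lead.ConNbhd.coborderRange_eq_top]
          exact le_top
        exact (conormal_chart pC i d₁ hd₁ d₂ hd₂ φ hφ c hc
          (isAffineOpen_top (Spec (CommRingCat.of k))) hW (fun _ _ => trivial) hWc).2.1
      df := c', hdf := hc', s := inv β, hs := (IsIso.inv_comp_eq β).2 hβ2.symm }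
  let T₂ : Setup D C' C (Spec (CommRingCat.of k)) :=
    { i := i', f := i, pC := pC', pX := pC, hf := hp'.symm, ci := ci', hI := hI'
      Ω₁ := Ω₁', d₁ := d₁', Ω₂ := Ω₂, d₂ := d₂', Ω₃ := Ω₁, d₃ := d₁
      φ := φ', hφ := hφ'
      hφinj := fun V => Groth.Agent.Helper1.FtLocal.app_injective_of_mono φ' V
      c := c', hc := hc''
      hex := fun W hW => by
        have hWc : W ≤ i'.coborderRange := by
          rw [Groth.Agent.Lead.ConNbhd.coborderRange_eq_top]
          exact le_top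
        exact (conormal_chart pC' i' d₁' hd₁' d₂' (hd₂'u hd₂) φ' hφ' c' hc''
          (isAffineOpen_top (Spec (CommRingCat.of k))) hW (fun _ _ => trivial) hWc).2.1
      df := c, hdf := hdf₂, s := β, hs := hβ2 }
  have h12 : T₁.g ≫ T₂.g = 𝟙 C :=
    T₁.comp_eq_id T₂.g T₂.i_comp_g β (IsIso.hom_inv_id β)
      (fun U a _ => (T₂.G_spec (T₂.gpre U) U (T₂.eU U) a).2)
  have h21 : T₂.g ≫ T₁.g = 𝟙 C' :=
    T₂.comp_eq_id T₁.g T₁.i_comp_g (inv β) (IsIso.inv_hom_id β)
      (fun U a _ => (T₁.G_spec (T₁.gpre U) U (T₁.eU U) a).2)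
  exact ⟨⟨T₁.g, T₂.g, h12, h21⟩, T₁.i_comp_g, T₁.g_comp_pX⟩

section Split

variable (k : Type u) [Field k] {D : Scheme.{u}} (pD : D ⟶ Spec (CommRingCat.of k))

/-- the data of the split cotangent sequence of a thickening with a retraction. -/
theorem exists_split_data [QuasiSeparated pD] [HasExt.{w} D.Modules]
    (C : Scheme.{u}) (i : D ⟶ C) (sC : C ⟶ Spec (CommRingCat.of k)) [QuasiSeparated sC]
    (hp : i ≫ sC = pD) [IsClosedImmersion i]
    (g : C ⟶ D) (hgi : i ≫ g = 𝟙 D) (hgS : g ≫ i ≫ sC = sC) :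
    ∃ (φ : Omega.conormal i ⟶ (Scheme.Modules.pullback i).obj (Omega.sheaf sC))
      (_ : OmegaSh.IsConormalDiff i (dOmega sC) φ)
      (c : (Scheme.Modules.pullback i).obj (Omega.sheaf sC) ⟶ Omega.sheaf pD)
      (_ : OmegaSh.IsDiffCompat i (dOmega sC) (dOmega pD) c)
      (hw : φ ≫ c = 0) (hS : (ShortComplex.mk φ c hw).ShortExact), hS.extClass = 0 := by
  obtain ⟨dZ, hdZeq, hdZu⟩ := der_transport hp.symm (dOmega pD)
  have hZ : IsUniversal dZ := hdZu (isUniversal_dOmega pD)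
  have hX : IsUniversal (dOmega sC) := isUniversal_dOmega sC
  obtain ⟨φ, hφ⟩ := exists_conormalDiff i (dOmega sC)
  have hsq : (i ≫ sC) ≫ 𝟙 (Spec (CommRingCat.of k)) = i ≫ sC := Category.comp_id _
  obtain ⟨c, hc, -⟩ := existsUnique_diffCompat i hsq (dOmega sC) dZ hX
  have hc0 : IsDiffCompat i (dOmega sC) dZ c := hc
  obtain ⟨w, hex, ⟨r, hr⟩, ⟨σ, hσ⟩⟩ :=
    Groth.Agent.Lead.ConSplit.conormal_split sC i g hgi hgS (dOmega sC) hX dZ hZ φ hφ c hc0
  have hc' : IsDiffCompat i (dOmega sC) (dOmega pD) c :=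
    fun U s => (hc0 U s).trans (hdZeq _ _)
  haveI hmono : Mono φ := mono_of_mono_fac hr
  haveI hepi : Epi c := epi_of_epi_fac hσ
  have hS : (ShortComplex.mk φ c w).ShortExact :=
    ShortComplex.ShortExact.mk' hex (show Mono φ from hmono) (show Epi c from hepi)
  exact ⟨φ, hφ, c, hc', w, hS, extClass_eq_zero_of_section hS σ hσ⟩

/-- a square-zero thickening of a locally Noetherian scheme is quasi-separated. -/
theorem quasiSeparatedSpace_of_sq [QuasiSeparatedSpace D] (C : Scheme.{u}) (i : D ⟶ C)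
    [IsClosedImmersion i] (hI : i.ker ^ 2 = ⊥) : QuasiSeparatedSpace C := by
  have hsurj : Function.Surjective i := Groth.Agent.Lead.Rib2.surjective_of_sq i hI
  let h : D ≃ₜ C := (i.isClosedEmbedding.isEmbedding).toHomeomorphOfSurjective hsurj
  exact (quasiSeparatedSpace_congr h).1 inferInstance

/-- **split square-zero thickenings with isomorphic conormal sheaves are isomorphic**. -/
theorem split_iso [LocallyOfFiniteType pD]
    (C : Scheme.{u}) (i : D ⟶ C) (sC : C ⟶ Spec (CommRingCat.of k))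
    (hp : i ≫ sC = pD) [IsClosedImmersion i] (hI : i.ker ^ 2 = ⊥)
    (g : C ⟶ D) (hgi : i ≫ g = 𝟙 D) (hgS : g ≫ i ≫ sC = sC)
    (C' : Scheme.{u}) (i' : D ⟶ C') (sC' : C' ⟶ Spec (CommRingCat.of k))
    (hp' : i' ≫ sC' = pD) [IsClosedImmersion i'] (hI' : i'.ker ^ 2 = ⊥)
    (g' : C' ⟶ D) (hgi' : i' ≫ g' = 𝟙 D) (hgS' : g' ≫ i' ≫ sC' = sC')
    (α : Omega.conormal i ≅ Omega.conormal i') :
    ∃ ψ : C ≅ C', i ≫ ψ.hom = i' ∧ ψ.hom ≫ sC' = sC := by
  haveI : IsLocallyNoetherian D := LocallyOfFiniteType.isLocallyNoetherian pD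
  haveI : QuasiSeparatedSpace D := inferInstance
  haveI : QuasiSeparatedSpace C := quasiSeparatedSpace_of_sq C i hI
  haveI : QuasiSeparatedSpace C' := quasiSeparatedSpace_of_sq C' i' hI'
  haveI : QuasiSeparated pD := QuasiSeparated.of_quasiSeparatedSpace pD
  haveI : QuasiSeparated sC := QuasiSeparated.of_quasiSeparatedSpace sC
  haveI : QuasiSeparated sC' := QuasiSeparated.of_quasiSeparatedSpace sC'
  haveI : HasExt.{max (u + 1) u} D.Modules := HasExt.standard D.Modules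
  obtain ⟨φ, hφ, c, hc, hw, hS, h0⟩ := exists_split_data k pD C i sC hp g hgi hgS
  obtain ⟨φ', hφ', c', hc', hw', hS', h0'⟩ := exists_split_data k pD C' i' sC' hp' g' hgi' hgS'
  refine iso_of_class k D pD (Omega.sheaf pD) (dOmega pD) (isUniversal_dOmega pD)
    C i sC hp hI (Omega.sheaf sC) (dOmega sC) (isUniversal_dOmega sC) φ hφ c hc hw hS
    C' i' sC' hp' hI' (Omega.sheaf sC') (dOmega sC') (isUniversal_dOmega sC') φ' hφ' c' hc' hw' hS'
    α ?_
  rw [h0, h0', Abelian.Ext.zero_comp]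

end Split

end Groth.Agent.Helper3.RibIsoB
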