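import Mathlib
import Groth.Prelude.Def_Coh
import Groth.Prelude.Def_Pic
import Groth.Prelude.Def_CohB1
import Groth.Prelude.Def_Curv2
import Groth.Prelude.Def_ClSub2
import Groth.Prelude.Def_Twist2
import Groth.Agent.Lib.Helper3.SqZeroLift
import Groth.Agent.Lib.Helper1.VBP1
import Groth.Agent.Lib.Helper1.FinPush
import Groth.Agent.Lib.Helper1.InvFt
import Groth.Agent.Lib.Helper1.InvInv2
import Groth.Agent.Lib.Helper1.Curve5
import Groth.Agent.Lib.Helper1.P1Iso3
import Groth.Agent.Lib.Helper1.PullGen2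
import Groth.Agent.Lib.Helper1.QcPullGen
import Groth.Agent.Lib.Helper1.TwistTens
import Groth.Agent.Lib.Lead.HZ1
import Groth.Agent.Lib.Lead.ParaF1
import Groth.Agent.Lib.Lead.TilT4
import Groth.Agent.Lib.Lead.PullTensorAll
import Groth.Agent.Lib.Helper5.Perf.LocalCoh

/-!
# The degree of a line bundle on a ribbon over the projective line (helper3)

For a square-zero ideal `I` on a proper `k`-scheme `C` with `V(I) ≅ P¹` and conormal bundle
`O(-g-1)`, an invertible module `L` with `L|_D ≅ O(n)` has `χ(L) = (n - g) + (n + 1)`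
(from `0 → I ⊗ L → L → i_* i^* L → 0`), so `deg L = 2n`.
-/

set_option autoImplicit false
set_option backward.isDefEq.respectTransparency.types false
set_option synthInstance.maxHeartbeats 400000
set_option maxHeartbeats 4000000
set_option linter.style.haveILetI false
set_option linter.unusedSectionVars false
set_option linter.unusedVariables false

open CategoryTheory CategoryTheory.Limits AlgebraicGeometry
open Groth.Agent.Helper1

universe u

namespace Groth.Agent.Helper3.Ribbon

variable (k : Type u) [Field k] (C : Scheme.{u}) [C.Over (Spec (CommRingCat.of k))]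
  [IsProper (C ↘ (Spec (CommRingCat.of k)))] (I : C.IdealSheafData)
  (e : I.subscheme ≅ CohB1.ProjSpace 1 k)
  (he : e.hom ≫ CohB1.ProjSpace.toSpec 1 k = I.subschemeι ≫ (C ↘ (Spec (CommRingCat.of k))))

include he in
/-- `χ(D, e^* O(m)) = m + 1` -/
lemma euler_D_twist (m : ℤ) :
    @Curv2.euler k _ I.subscheme ⟨I.subschemeι ≫ (C ↘ (Spec (CommRingCat.of k)))⟩
      ((Scheme.Modules.pullback e.hom).obj (Twist.twistProjSpace 1 k m)) = m + 1 := by
  letI : I.subscheme.Over (Spec (CommRingCat.of k)) :=
    ⟨I.subschemeι ≫ (C ↘ (Spec (CommRingCat.of k)))⟩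
  have h := Groth.Agent.Helper1.P1Iso.euler_pullback_of_isIso k (CohB1.ProjSpace 1 k) I.subscheme
    e.hom he (Twist.twistProjSpace 1 k m)
    (InvInv2.isFinLocFree_of_isInvertible (VBP.isInvertible_twist k m))
  rw [h, VBP.euler_twist]

include he in
/-- `χ(C, L) = (n - g) + (n + 1)` for an invertible module `L` on a ribbon with `L|_D ≅ O(n)` -/
theorem euler_ribbon (hI : I ^ 2 = ⊥) (g : ℕ)
    (hconormal : Nonempty ((Scheme.Modules.pullback I.subschemeι).obj (ClSub.idealMod I) ≅
      (Scheme.Modules.pullback e.hom).obj (Twist.twistProjSpace 1 k (-((g : ℤ) + 1)))))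
    (L : C.Modules) (hL : PicF.IsInvertible L) (n : ℤ)
    (hLD : Nonempty ((Scheme.Modules.pullback I.subschemeι).obj L ≅
      (Scheme.Modules.pullback e.hom).obj (Twist.twistProjSpace 1 k n))) :
    Curv2.euler k C L = (n - g) + (n + 1) := by
  letI : I.subscheme.Over (Spec (CommRingCat.of k)) :=
    ⟨I.subschemeι ≫ (C ↘ (Spec (CommRingCat.of k)))⟩
  obtain ⟨ec⟩ := hconormal
  obtain ⟨eL⟩ := hLD
  have hLf := InvInv2.isFinLocFree_of_isInvertible hL
  have hS := Groth.Agent.Helper3.SqZero.shortExact_SF I L hLf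
  obtain ⟨θ⟩ := Groth.Agent.Helper3.SqZero.nonempty_theta I hI L
  obtain ⟨e1⟩ := Groth.Agent.Lead.PullTensorAll.nonempty_tensor_pullback_iso e.hom
    (Twist.twistProjSpace 1 k (-((g : ℤ) + 1))) (Twist.twistProjSpace 1 k n)
  obtain ⟨e2⟩ := Groth.Agent.Lead.HZ.pn_add 1 k (-((g : ℤ) + 1)) n
  let eN : CohB1.tensorMod ((Scheme.Modules.pullback I.subschemeι).obj (ClSub.idealMod I))
      ((Scheme.Modules.pullback I.subschemeι).obj L) ≅
      (Scheme.Modules.pullback e.hom).obj (Twist.twistProjSpace 1 k (-((g : ℤ) + 1) + n)) :=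
    Groth.Agent.Lead.TilT.tensorModCongr ec eL ≪≫ e1 ≪≫ (Scheme.Modules.pullback e.hom).mapIso e2
  have hcohL : Coh.IsCoh L := InvQc.isCoh_of_isInvertible L hL
  have hcohLL : Coh.IsCoh ((Scheme.Modules.pullback I.subschemeι).obj L) :=
    InvQc.isCoh_of_isInvertible _ (PullGen.isInvertible_pullback I.subschemeι hL)
  have hcohT : ∀ m : ℤ, Coh.IsCoh ((Scheme.Modules.pullback e.hom).obj
      (Twist.twistProjSpace 1 k m)) := fun m =>
    InvQc.isCoh_of_isInvertible _ (PullGen.isInvertible_pullback e.hom (VBP.isInvertible_twist k m))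
  have hcohN : Coh.IsCoh (CohB1.tensorMod
      ((Scheme.Modules.pullback I.subschemeι).obj (ClSub.idealMod I))
      ((Scheme.Modules.pullback I.subschemeι).obj L)) :=
    Groth.Agent.Lib.Helper5.LocalCoh.isCoh_of_iso eN.symm (hcohT _)
  have hcohRN := FinPush.isCoh_pushforward I.subschemeι _ hcohN
  have hcohRL := FinPush.isCoh_pushforward I.subschemeι _ hcohLL
  have hcohK : Coh.IsCoh (CohB1.tensorMod (ClSub.idealMod I) L) :=
    Groth.Agent.Lib.Helper5.LocalCoh.isCoh_of_iso θ.symm hcohRN
  have hadd := Groth.Agent.Helper1.Euler.euler_additive k C _ hS hcohK hcohL hcohRL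
  have h1 := Groth.Agent.Helper1.Euler.euler_iso k C θ
  haveI hq1 : (CohB1.tensorMod ((Scheme.Modules.pullback I.subschemeι).obj (ClSub.idealMod I))
      ((Scheme.Modules.pullback I.subschemeι).obj L)).IsQuasicoherent := hcohN.1
  have h2 := Groth.Agent.Helper1.Curve.euler_push k C I.subscheme I.subschemeι rfl
    (CohB1.tensorMod ((Scheme.Modules.pullback I.subschemeι).obj (ClSub.idealMod I))
      ((Scheme.Modules.pullback I.subschemeι).obj L))
  have h3 : Curv2.euler k I.subscheme (CohB1.tensorMod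
      ((Scheme.Modules.pullback I.subschemeι).obj (ClSub.idealMod I))
      ((Scheme.Modules.pullback I.subschemeι).obj L)) = (-((g : ℤ) + 1) + n) + 1 := by
    rw [Groth.Agent.Helper1.Euler.euler_iso k I.subscheme eN]
    exact euler_D_twist k C I e he _
  haveI hq2 : ((Scheme.Modules.pullback I.subschemeι).obj L).IsQuasicoherent := hcohLL.1
  have h4 := Groth.Agent.Helper1.Curve.euler_push k C I.subscheme I.subschemeι rfl
    ((Scheme.Modules.pullback I.subschemeι).obj L)
  have h5 : Curv2.euler k I.subscheme ((Scheme.Modules.pullback I.subschemeι).obj L) = n + 1 := by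
    rw [Groth.Agent.Helper1.Euler.euler_iso k I.subscheme eL]
    exact euler_D_twist k C I e he _
  have hadd' : Curv2.euler k C L =
      Curv2.euler k C (CohB1.tensorMod (ClSub.idealMod I) L) +
      Curv2.euler k C ((Scheme.Modules.pushforward I.subschemeι).obj
        ((Scheme.Modules.pullback I.subschemeι).obj L)) := hadd
  rw [hadd', h1, h2, h3, h4, h5]
  ring

include he in
/-- **The degree of a line bundle on a ribbon is twice the degree of its restriction.** -/
theorem deg_ribbon (hI : I ^ 2 = ⊥) (g : ℕ)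
    (hconormal : Nonempty ((Scheme.Modules.pullback I.subschemeι).obj (ClSub.idealMod I) ≅
      (Scheme.Modules.pullback e.hom).obj (Twist.twistProjSpace 1 k (-((g : ℤ) + 1)))))
    (L : C.Modules) (hL : PicF.IsInvertible L) (n : ℤ)
    (hLD : Nonempty ((Scheme.Modules.pullback I.subschemeι).obj L ≅
      (Scheme.Modules.pullback e.hom).obj (Twist.twistProjSpace 1 k n))) :
    Curv2.deg k C L 1 = 2 * n := by
  obtain ⟨e0⟩ := TwistTens.nonempty_twist_zero_iso (CohB1.polyGrading 1 k)
  have e0' : Twist.twistProjSpace 1 k 0 ≅ Coh.structureModule (CohB1.ProjSpace 1 k) := e0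
  have eO : (Scheme.Modules.pullback I.subschemeι).obj (Coh.structureModule C) ≅
      (Scheme.Modules.pullback e.hom).obj (Twist.twistProjSpace 1 k 0) :=
    QcPullGen.pullbackUnitIso I.subschemeι ≪≫ (QcPullGen.pullbackUnitIso e.hom).symm ≪≫
      (Scheme.Modules.pullback e.hom).mapIso e0'.symm
  have hA := euler_ribbon k C I e he hI g hconormal L hL n hLD
  have hB := euler_ribbon k C I e he hI g hconormal (Coh.structureModule C)
    Groth.Agent.Lead.ParaF.isInvertible_unit 0 ⟨eO⟩
  unfold Curv2.deg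
  rw [hA, hB]
  push_cast
  ring

end Groth.Agent.Helper3.Ribbon
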