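import Mathlib
import Groth.Agent.Lib.Helper3.AdicDimC

/-!
# Rig-closed primes of adic Noetherian rings: flat morphisms (S8836)
-/

set_option autoImplicit false
universe u

namespace Groth.Agent.Helper3.RigPt

open Groth.Agent.Helper3.AdicDim

/-- `q` is rig-closed: it does not contain `I` and is maximal among such primes -/
abbrev IsRig {A : Type u} [CommRing A] (I : Ideal A) (q : PrimeSpectrum A) : Prop :=
  ¬ I ≤ q.asIdeal ∧ ∀ y : PrimeSpectrum A, q ≤ y → ¬ I ≤ y.asIdeal → y = q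

section Complete

variable {A : Type u} [CommRing A] [IsNoetherianRing A] (I : Ideal A) [IsAdicComplete I A]

theorem isRig_iff_dim (q : PrimeSpectrum A) :
    IsRig I q ↔ ringKrullDim (A ⧸ q.asIdeal) = 1 ∧ ¬ I ≤ q.asIdeal :=
  (main_S8804 A I q).out 0 1

theorem isRig_iff_local (q : PrimeSpectrum A) :
    IsRig I q ↔ ringKrullDim (A ⧸ q.asIdeal) = 1 ∧
      (∀ m : Ideal (A ⧸ q.asIdeal), m.IsMaximal →
        m = (I.map (Ideal.Quotient.mk q.asIdeal)).radical) ∧
      IsAdicComplete (I.map (Ideal.Quotient.mk q.asIdeal)).radical (A ⧸ q.asIdeal) :=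
  (main_S8804 A I q).out 0 2

/-- a prime strictly above a rig-closed prime is maximal -/
theorem isMaximal_of_isRig_of_lt {p : PrimeSpectrum A} (hp : IsRig I p) (n : Ideal A) [n.IsPrime]
    (hpn : p.asIdeal ≤ n) (hne : n ≠ p.asIdeal) : n.IsMaximal := by
  obtain ⟨hdim, -⟩ := (isRig_iff_dim I p).1 hp
  haveI : IsDomain (A ⧸ p.asIdeal) := Ideal.Quotient.isDomain p.asIdeal
  haveI : Ring.KrullDimLE 1 (A ⧸ p.asIdeal) :=
    Ring.krullDimLE_iff.2 (le_of_eq (by exact_mod_cast hdim))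
  let P : Ideal (A ⧸ p.asIdeal) := n.map (Ideal.Quotient.mk p.asIdeal)
  have hker : RingHom.ker (Ideal.Quotient.mk p.asIdeal) ≤ n := by
    rw [Ideal.mk_ker]; exact hpn
  haveI hPprime : P.IsPrime :=
    Ideal.map_isPrime_of_surjective Ideal.Quotient.mk_surjective hker
  have hcomap : P.comap (Ideal.Quotient.mk p.asIdeal) = n := by
    rw [Ideal.comap_map_of_surjective _ Ideal.Quotient.mk_surjective, ← RingHom.ker_eq_comap_bot,
      sup_eq_left]
    exact hker
  have hP0 : P ≠ ⊥ := by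
    intro h
    apply hne
    rw [← hcomap, h, ← RingHom.ker_eq_comap_bot, Ideal.mk_ker]
  haveI hPmax : P.IsMaximal := Ideal.IsPrime.isMaximal_of_ne_bot hPprime hP0
  rw [← hcomap]
  exact Ideal.comap_isMaximal_of_surjective _ Ideal.Quotient.mk_surjective

/-- a prime containing `I` above a rig-closed prime is maximal -/
theorem isMaximal_of_isRig {p : PrimeSpectrum A} (hp : IsRig I p) (n : Ideal A) [n.IsPrime]
    (hpn : p.asIdeal ≤ n) (hIn : I ≤ n) : n.IsMaximal :=
  isMaximal_of_isRig_of_lt I hp n hpn (fun h => hp.1 (h ▸ hIn))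

end Complete

section Flat

variable (A : Type u) [CommRing A] [IsNoetherianRing A] (I : Ideal A) [IsAdicComplete I A]
  (B : Type u) [CommRing B] [Algebra A B] [IsNoetherianRing B]
  [IsAdicComplete (I.map (algebraMap A B)) B]

/-- above every prime not containing `J` there is a rig-closed prime -/
theorem exists_isRig_ge {B : Type u} [CommRing B] [IsNoetherianRing B] (J : Ideal B)
    (q₀ : PrimeSpectrum B) (h : ¬ J ≤ q₀.asIdeal) :
    ∃ q : PrimeSpectrum B, q₀ ≤ q ∧ IsRig J q := by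
  let S : Set (Ideal B) := {P | P.IsPrime ∧ q₀.asIdeal ≤ P ∧ ¬ J ≤ P}
  have hne : S.Nonempty := ⟨q₀.asIdeal, q₀.2, le_rfl, h⟩
  obtain ⟨M, hMS, hMmax⟩ := set_has_maximal_iff_noetherian.2 (inferInstance : IsNoetherian B B) S hne
  refine ⟨⟨M, hMS.1⟩, hMS.2.1, hMS.2.2, fun y hy hJy => ?_⟩
  have hyS : y.asIdeal ∈ S := ⟨y.2, hMS.2.1.trans hy, hJy⟩
  have h1 : ¬ M < y.asIdeal := hMmax y.asIdeal hyS
  apply PrimeSpectrum.ext
  have hy' : M ≤ y.asIdeal := hy
  exact (eq_of_le_of_not_lt hy' h1).symm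

theorem main_S8836 [Module.Flat A B] (p : PrimeSpectrum A) (hp : IsRig I p) :
    (∃ Q : PrimeSpectrum B, (I.map (algebraMap A B)) ≤ Q.asIdeal ∧
      p.asIdeal ≤ (PrimeSpectrum.comap (algebraMap A B) Q).asIdeal ∧
      (PrimeSpectrum.comap (algebraMap A B) Q).asIdeal.IsMaximal) ↔
    (∃ q : PrimeSpectrum B, IsRig (I.map (algebraMap A B)) q ∧
      PrimeSpectrum.comap (algebraMap A B) q = p) := by
  constructor
  · rintro ⟨Q, hIQ, hpQ, -⟩
    haveI : Q.asIdeal.LiesOver (Q.asIdeal.comap (algebraMap A B)) := ⟨rfl⟩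
    obtain ⟨q₀, hq₀Q, hq₀prime, hq₀over⟩ :=
      Ideal.exists_ideal_le_liesOver_of_le (p := p.asIdeal)
        (q := Q.asIdeal.comap (algebraMap A B)) Q.asIdeal hpQ
    have hcomap₀ : q₀.comap (algebraMap A B) = p.asIdeal := hq₀over.over.symm
    have hJq₀ : ¬ I.map (algebraMap A B) ≤ q₀ := by
      intro h
      apply hp.1
      rw [← hcomap₀, ← Ideal.map_le_iff_le_comap]
      exact h
    obtain ⟨q, hq₀q, hq⟩ := exists_isRig_ge (I.map (algebraMap A B)) ⟨q₀, hq₀prime⟩ hJq₀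
    refine ⟨q, hq, ?_⟩
    apply hp.2
    · show p.asIdeal ≤ q.asIdeal.comap (algebraMap A B)
      rw [← hcomap₀]
      exact Ideal.comap_mono hq₀q
    · intro h
      apply hq.1
      rw [Ideal.map_le_iff_le_comap]
      exact h
  · rintro ⟨q, hq, rfl⟩
    have hne : q.asIdeal ≠ ⊤ := q.2.ne_top
    obtain ⟨M, hM, hqM⟩ := Ideal.exists_le_maximal q.asIdeal hne
    have hJM : I.map (algebraMap A B) ≤ M :=
      (IsAdicComplete.le_jacobson_bot (I.map (algebraMap A B))).trans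
        (jacobson_bot_le_of_isMaximal hM)
    refine ⟨⟨M, hM.isPrime⟩, hJM, Ideal.comap_mono hqM, ?_⟩
    haveI : (M.comap (algebraMap A B)).IsPrime := Ideal.comap_isPrime _ _
    exact isMaximal_of_isRig I hp (M.comap (algebraMap A B)) (Ideal.comap_mono hqM)
      (Ideal.map_le_iff_le_comap.1 hJM)

end Flat

end Groth.Agent.Helper3.RigPt
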