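import Mathlib
import Groth.Agent.Lib.Helper3.RigPt1
import Groth.Agent.Lib.Helper2.CompleteFinite
import Groth.Agent.Lib.Helper8.IntegralDim

/-!
# Rig-closed primes: finiteness of the quotient (S8829, S8835)
-/

set_option autoImplicit false
universe u

namespace Groth.Agent.Helper3.RigPt

open Groth.Agent.Helper3.AdicDim

/-- a finite-length module over `R` is finite over `A` when all residue fields of `R` are -/
theorem finite_of_isFiniteLength (A R : Type u) [CommRing A] [CommRing R] [Algebra A R]
    (h : ∀ m : Ideal R, m.IsMaximal → Module.Finite A (R ⧸ m))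
    {M : Type u} [AddCommGroup M] [Module R M] (hM : IsFiniteLength R M) :
    ∀ [Module A M] [IsScalarTower A R M], Module.Finite A M := by
  induction hM with
  | of_subsingleton =>
    intro _ _
    infer_instance
  | @of_simple_quotient M _ _ N hs hN ih =>
    intro _ _
    haveI : Module.Finite A N := ih
    obtain ⟨m, hm, ⟨e⟩⟩ := isSimpleModule_iff_quot_maximal.mp hs
    haveI := h m hm
    haveI : Module.Finite A (M ⧸ N) := Module.Finite.equiv (e.restrictScalars A).symm
    exact Module.Finite.of_exact (f := N.subtype.restrictScalars A)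
      (g := N.mkQ.restrictScalars A) (LinearMap.exact_subtype_mkQ N)
      (Submodule.Quotient.mk_surjective N)

/-- complete Nakayama: a separated module over a complete ring with `L/IL` finite is finite -/
theorem finite_of_complete (A : Type u) [CommRing A] (I : Ideal A) [IsAdicComplete I A]
    (L : Type u) [AddCommGroup L] [Module A L] [IsHausdorff I L]
    (h : Module.Finite A (L ⧸ (I • ⊤ : Submodule A L))) : Module.Finite A L := by
  obtain ⟨r, s, hs⟩ := Module.Finite.exists_fin (R := A) (M := L ⧸ (I • ⊤ : Submodule A L))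
  choose x hx using fun i => Submodule.Quotient.mk_surjective _ (s i)
  have hspan : Submodule.span A (Set.range x) = ⊤ := by
    apply Groth.Agent.Helper2.CompleteFinite.span_eq_top_of_sup_smul_eq_top I
    rw [eq_top_iff]
    intro z _
    have h1 : Submodule.Quotient.mk z ∈ Submodule.span A (Set.range s) := by rw [hs]; trivial
    obtain ⟨c, hc⟩ := (Submodule.mem_span_range_iff_exists_fun A).1 h1
    have h2 : z - ∑ i, c i • x i ∈ (I • ⊤ : Submodule A L) := by
      rw [← Submodule.Quotient.mk_eq_zero, Submodule.Quotient.mk_sub, ← hc, sub_eq_zero]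
      rw [← Submodule.mkQ_apply, map_sum]
      refine Finset.sum_congr rfl fun i _ => ?_
      rw [map_smul, Submodule.mkQ_apply, hx]
    have h3 : z = ∑ i, c i • x i + (z - ∑ i, c i • x i) := by abel
    rw [h3]
    refine Submodule.add_mem_sup (Submodule.sum_mem _ fun i _ => ?_) h2
    exact Submodule.smul_mem _ _ (Submodule.subset_span ⟨i, rfl⟩)
  exact Module.finite_def.2 (Submodule.fg_iff_exists_fin_generating_family.2 ⟨r, x, hspan⟩)

/-- quotients of a one-dimensional Noetherian domain by nonzero ideals are Artinian -/
theorem isArtinianRing_quotient {D : Type u} [CommRing D] [IsDomain D] [IsNoetherianRing D]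
    [Ring.KrullDimLE 1 D] (K : Ideal D) (hK : K ≠ ⊥) : IsArtinianRing (D ⧸ K) := by
  rw [isArtinianRing_iff_krullDimLE_zero, Ring.krullDimLE_zero_iff]
  intro Q hQ
  haveI := hQ
  have hQc : (Q.comap (Ideal.Quotient.mk K)).IsPrime := Ideal.comap_isPrime _ _
  have hne : Q.comap (Ideal.Quotient.mk K) ≠ ⊥ := by
    intro h
    apply hK
    rw [eq_bot_iff]
    calc K = RingHom.ker (Ideal.Quotient.mk K) := (Ideal.mk_ker).symm
      _ ≤ Q.comap (Ideal.Quotient.mk K) := by
          rw [RingHom.ker_eq_comap_bot]; exact Ideal.comap_mono bot_le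
      _ = ⊥ := h
  have hmax := Ideal.IsPrime.isMaximal_of_ne_bot hQc hne
  rcases Ideal.map_eq_top_or_isMaximal_of_surjective (Ideal.Quotient.mk K)
    Ideal.Quotient.mk_surjective hmax with h | h
  · rw [Ideal.map_comap_of_surjective _ Ideal.Quotient.mk_surjective] at h
    exact absurd h hQ.ne_top
  · rwa [Ideal.map_comap_of_surjective _ Ideal.Quotient.mk_surjective] at h

end Groth.Agent.Helper3.RigPt
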