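import Mathlib
import Groth.Agent.Lib.Helper3.RigPt2

/-!
# Rig-closed primes: finiteness of the quotient (S8829, S8835)
-/

set_option autoImplicit false
universe u

namespace Groth.Agent.Helper3.RigPt

open Groth.Agent.Helper3.AdicDim

variable (A : Type u) [CommRing A] [IsNoetherianRing A] (I : Ideal A) [IsAdicComplete I A]
  (B : Type u) [CommRing B] [Algebra A B] [IsNoetherianRing B]
  [IsAdicComplete (I.map (algebraMap A B)) B]

theorem finite_quotient_of_residue_finite (q : PrimeSpectrum B)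
    (hq : IsRig (I.map (algebraMap A B)) q)
    (h1 : ∀ m : Ideal B, m.IsMaximal → q.asIdeal ≤ m → Module.Finite A (B ⧸ m)) :
    Module.Finite A (B ⧸ q.asIdeal) := by
  haveI : IsDomain (B ⧸ q.asIdeal) := Ideal.Quotient.isDomain q.asIdeal
  obtain ⟨hdim, hJq⟩ := (isRig_iff_dim (I.map (algebraMap A B)) q).1 hq
  haveI : Ring.KrullDimLE 1 (B ⧸ q.asIdeal) :=
    Ring.krullDimLE_iff.2 (le_of_eq (by exact_mod_cast hdim))
  set Jb : Ideal (B ⧸ q.asIdeal) := (I.map (algebraMap A B)).map (Ideal.Quotient.mk q.asIdeal)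
    with hJb
  have hJbeq : Jb = I.map (algebraMap A (B ⧸ q.asIdeal)) := by
    rw [hJb, Ideal.map_map]
    rfl
  haveI hcomp : IsAdicComplete Jb (B ⧸ q.asIdeal) :=
    isAdicComplete_quotient (I.map (algebraMap A B)) q.asIdeal
  haveI : IsHausdorff I (B ⧸ q.asIdeal) := by
    have h2 : IsHausdorff (I.map (algebraMap A (B ⧸ q.asIdeal))) (B ⧸ q.asIdeal) := by
      rw [← hJbeq]; infer_instance
    exact (IsHausdorff.map_algebraMap_iff (S := B ⧸ q.asIdeal)).1 h2
  apply finite_of_complete A I (B ⧸ q.asIdeal)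
  have hJbne : Jb ≠ ⊥ := by
    rw [Ne, hJb, Ideal.map_eq_bot_iff_le_ker, Ideal.mk_ker]; exact hJq
  haveI hart : IsArtinianRing ((B ⧸ q.asIdeal) ⧸ Jb) := isArtinianRing_quotient Jb hJbne
  have hres : ∀ m' : Ideal ((B ⧸ q.asIdeal) ⧸ Jb), m'.IsMaximal →
      Module.Finite A (((B ⧸ q.asIdeal) ⧸ Jb) ⧸ m') := by
    intro m' hm'
    let f : B →ₐ[A] (((B ⧸ q.asIdeal) ⧸ Jb) ⧸ m') := IsScalarTower.toAlgHom A B _
    have hfsurj : Function.Surjective f := by
      intro z
      obtain ⟨z1, rfl⟩ := Ideal.Quotient.mk_surjective z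
      obtain ⟨z2, rfl⟩ := Ideal.Quotient.mk_surjective z1
      obtain ⟨z3, rfl⟩ := Ideal.Quotient.mk_surjective z2
      exact ⟨z3, rfl⟩
    let M : Ideal B := RingHom.ker f.toRingHom
    letI := Ideal.Quotient.field m'
    have hMmax : M.IsMaximal := RingHom.ker_isMaximal_of_surjective f.toRingHom hfsurj
    have hqM : q.asIdeal ≤ M := by
      intro x hx
      show f x = 0
      show Ideal.Quotient.mk m' (Ideal.Quotient.mk Jb (Ideal.Quotient.mk q.asIdeal x)) = 0
      rw [Ideal.Quotient.eq_zero_iff_mem.2 hx, map_zero, map_zero]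
    haveI := h1 M hMmax hqM
    let ψ : (B ⧸ M) →ₐ[A] (((B ⧸ q.asIdeal) ⧸ Jb) ⧸ m') :=
      Ideal.Quotient.liftₐ M f (fun a ha => ha)
    have hψsurj : Function.Surjective ψ.toLinearMap := by
      intro z
      obtain ⟨b, rfl⟩ := hfsurj z
      exact ⟨Ideal.Quotient.mk M b, rfl⟩
    exact Module.Finite.of_surjective ψ.toLinearMap hψsurj
  have hfin : Module.Finite A ((B ⧸ q.asIdeal) ⧸ Jb) :=
    finite_of_isFiniteLength A ((B ⧸ q.asIdeal) ⧸ Jb) hres
      ((isArtinianRing_iff_isFiniteLength _).1 hart)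
  rw [Ideal.smul_top_eq_map, ← hJbeq]
  exact Module.Finite.equiv (Submodule.Quotient.restrictScalarsEquiv A Jb).symm

omit [IsNoetherianRing A] [IsAdicComplete I A] [IsNoetherianRing B]
  [IsAdicComplete (I.map (algebraMap A B)) B] in
/-- residue fields of `B` at maximal ideals containing `IB` are finite over `A`, provided the
quotient of `A` by the contraction is Jacobson -/
theorem finite_residue (hft : Algebra.FiniteType A (B ⧸ (I.map (algebraMap A B))))
    (m : Ideal B) [hm : m.IsMaximal] (hJm : I.map (algebraMap A B) ≤ m)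
    (hjac : IsJacobsonRing (A ⧸ m.comap (algebraMap A B))) : Module.Finite A (B ⧸ m) := by
  haveI : m.LiesOver (m.comap (algebraMap A B)) := ⟨rfl⟩
  haveI : Algebra.FiniteType A (B ⧸ m) :=
    Algebra.FiniteType.of_surjective (Ideal.Quotient.factorₐ A hJm)
      (Ideal.Quotient.factor_surjective hJm)
  haveI : Algebra.FiniteType (A ⧸ m.comap (algebraMap A B)) (B ⧸ m) :=
    Algebra.FiniteType.of_restrictScalars_finiteType A _ _
  letI := Ideal.Quotient.field m
  haveI : Module.Finite (A ⧸ m.comap (algebraMap A B)) (B ⧸ m) :=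
    finite_of_finite_type_of_isJacobsonRing _ _
  exact Module.Finite.trans (A ⧸ m.comap (algebraMap A B)) (B ⧸ m)

theorem main_S8829 (hft : Algebra.FiniteType A (B ⧸ (I.map (algebraMap A B))))
    (q : PrimeSpectrum B) (hq : IsRig (I.map (algebraMap A B)) q) :
    List.TFAE [∀ m : Ideal B, m.IsMaximal → q.asIdeal ≤ m → Module.Finite A (B ⧸ m),
      IsRig I (PrimeSpectrum.comap (algebraMap A B) q),
      Module.Finite A (B ⧸ q.asIdeal)] := by
  tfae_have 1 → 3 := fun h => finite_quotient_of_residue_finite A I B q hq h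
  tfae_have 3 → 1 := by
    intro h m _ hqm
    exact Module.Finite.of_surjective (Ideal.Quotient.factorₐ A hqm).toLinearMap
      (Ideal.Quotient.factor_surjective hqm)
  tfae_have 3 → 2 := by
    intro h
    rw [isRig_iff_dim]
    obtain ⟨hdim, hJq⟩ := (isRig_iff_dim (I.map (algebraMap A B)) q).1 hq
    constructor
    · haveI : Algebra.IsIntegral A (B ⧸ q.asIdeal) := Algebra.IsIntegral.of_finite A _
      have h1 := Groth.Agent.Helper8.Depth.ringKrullDim_eq_quotient_ker_of_isIntegral A
        (B ⧸ q.asIdeal)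
      have hker : RingHom.ker (algebraMap A (B ⧸ q.asIdeal)) =
          (PrimeSpectrum.comap (algebraMap A B) q).asIdeal := by
        ext x
        rw [RingHom.mem_ker]
        show Ideal.Quotient.mk q.asIdeal (algebraMap A B x) = 0 ↔ _
        rw [Ideal.Quotient.eq_zero_iff_mem]
        rfl
      rw [hker] at h1
      rw [← h1]
      exact hdim
    · intro hI
      apply hJq
      rw [Ideal.map_le_iff_le_comap]
      exact hI
  tfae_have 2 → 1 := by
    intro hp m hm hqm
    haveI := hm
    have hJm : I.map (algebraMap A B) ≤ m :=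
      (IsAdicComplete.le_jacobson_bot (I.map (algebraMap A B))).trans
        (jacobson_bot_le_of_isMaximal hm)
    haveI : (m.comap (algebraMap A B)).IsPrime := Ideal.comap_isPrime _ _
    haveI hnmax : (m.comap (algebraMap A B)).IsMaximal :=
      isMaximal_of_isRig I hp (m.comap (algebraMap A B)) (Ideal.comap_mono hqm)
        (Ideal.map_le_iff_le_comap.1 hJm)
    apply finite_residue A I B hft m hJm
    letI := Ideal.Quotient.field (m.comap (algebraMap A B))
    infer_instance
  tfae_finish

theorem main_S8835 (hft : Algebra.FiniteType A (B ⧸ (I.map (algebraMap A B))))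
    (q : PrimeSpectrum B) (hq : IsRig (I.map (algebraMap A B)) q)
    (hJ : IsJacobsonRing (A ⧸ I)) : IsRig I (PrimeSpectrum.comap (algebraMap A B) q) := by
  apply ((main_S8829 A I B hft q hq).out 0 1).1
  intro m hm hqm
  haveI := hm
  have hJm : I.map (algebraMap A B) ≤ m :=
    (IsAdicComplete.le_jacobson_bot (I.map (algebraMap A B))).trans
      (jacobson_bot_le_of_isMaximal hm)
  have hIn : I ≤ m.comap (algebraMap A B) := Ideal.map_le_iff_le_comap.1 hJm
  apply finite_residue A I B hft m hJm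
  exact isJacobsonRing_of_surjective ⟨Ideal.Quotient.factor hIn, Ideal.Quotient.factor_surjective hIn⟩

end Groth.Agent.Helper3.RigPt
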