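import Mathlib
import Groth.Agent.Lib.Helper3.RigPt3

/-!
# Rig-closed primes: étale reduction (S8838)
-/

set_option autoImplicit false
universe u

namespace Groth.Agent.Helper3.RigPt

open Groth.Agent.Helper3.AdicDim
open scoped TensorProduct
open KaehlerDifferential

/-- Nakayama criterion for unramifiedness: if `S/aS` is formally unramified over `R`,
`aS` is in the Jacobson radical and `Ω[S/R]` is finite, then `S` is formally unramified. -/
theorem formallyUnramified_of_quotient {R S : Type u} [CommRing R] [CommRing S] [Algebra R S]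
    (a : Ideal R) (hjac : a.map (algebraMap R S) ≤ (⊥ : Ideal S).jacobson)
    [Module.Finite S Ω[S⁄R]]
    [Algebra.FormallyUnramified R (S ⧸ a.map (algebraMap R S))] :
    Algebra.FormallyUnramified R S := by
  set J : Ideal S := a.map (algebraMap R S) with hJ
  have hsub : Subsingleton ((S ⧸ J) ⊗[S] Ω[S⁄R]) := by
    refine subsingleton_of_forall_eq 0 fun x => ?_
    obtain ⟨y, rfl⟩ := (KaehlerDifferential.exact_kerCotangentToTensor_mapBaseChange R S
      (S ⧸ J) Ideal.Quotient.mk_surjective x).mp (Subsingleton.elim _ _)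
    obtain ⟨⟨z, hz⟩, rfl⟩ := Ideal.toCotangent_surjective _ y
    rw [KaehlerDifferential.kerCotangentToTensor_toCotangent]
    have hz' : z ∈ J := by
      have : z ∈ RingHom.ker (Ideal.Quotient.mk J) := hz
      rwa [Ideal.mk_ker] at this
    show (1 : S ⧸ J) ⊗ₜ[S] (D R S) z = 0
    clear hz
    rw [hJ] at hz'
    induction hz' using Submodule.span_induction with
    | zero => rw [map_zero, TensorProduct.tmul_zero]
    | mem x h =>
      obtain ⟨r, hr, rfl⟩ := h
      rw [Derivation.map_algebraMap, TensorProduct.tmul_zero]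
    | add x y hx hy ihx ihy => rw [map_add, TensorProduct.tmul_add, ihx, ihy, add_zero]
    | smul s x hx ih =>
      rw [smul_eq_mul, Derivation.leibniz, TensorProduct.tmul_add, TensorProduct.tmul_smul, ih,
        smul_zero, zero_add, ← TensorProduct.smul_tmul]
      have : x • (1 : S ⧸ J) = 0 := by
        rw [Algebra.smul_def, mul_one]
        exact Ideal.Quotient.eq_zero_iff_mem.2 hx
      rw [this, TensorProduct.zero_tmul]
  have hsub2 : Subsingleton (Ω[S⁄R] ⧸ (J • ⊤ : Submodule S Ω[S⁄R])) :=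
    (TensorProduct.quotTensorEquivQuotSMul Ω[S⁄R] J).symm.toEquiv.subsingleton
  have htop : (⊤ : Submodule S Ω[S⁄R]) ≤ J • ⊤ := by
    intro w _
    rw [← Submodule.Quotient.mk_eq_zero]
    exact Subsingleton.elim _ _
  have hbot : (⊤ : Submodule S Ω[S⁄R]) = ⊥ :=
    Submodule.eq_bot_of_le_smul_of_le_jacobson_bot J ⊤ Module.Finite.fg_top htop hjac
  constructor
  exact subsingleton_of_forall_eq 0 fun w => by
    have : w ∈ (⊤ : Submodule S Ω[S⁄R]) := trivial
    rw [hbot] at this
    exact (Submodule.mem_bot S).1 this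

section FiniteUnram

variable (A' : Type u) [CommRing A'] [IsNoetherianRing A'] [IsLocalRing A']
  [IsAdicComplete (IsLocalRing.maximalIdeal A') A']
  (B' : Type u) [CommRing B'] [Algebra A' B'] [IsNoetherianRing B']

/-- A Noetherian algebra over a complete local ring whose closed fibre is unramified of finite
type and such that `m B'` is in the Jacobson radical is finite and unramified. -/
theorem finite_and_unramified_of_fibre
    (hjac : (IsLocalRing.maximalIdeal A').map (algebraMap A' B') ≤ (⊥ : Ideal B').jacobson)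
    [Algebra.FormallyUnramified A' (B' ⧸ (IsLocalRing.maximalIdeal A').map (algebraMap A' B'))]
    [Algebra.FiniteType A' (B' ⧸ (IsLocalRing.maximalIdeal A').map (algebraMap A' B'))] :
    Module.Finite A' B' ∧ Algebra.FormallyUnramified A' B' := by
  set m' := IsLocalRing.maximalIdeal A' with hm'
  set J := m'.map (algebraMap A' B') with hJ
  letI : Field (A' ⧸ m') := Ideal.Quotient.field m'
  haveI : Algebra.FormallyUnramified (A' ⧸ m') (B' ⧸ J) :=
    Algebra.FormallyUnramified.of_restrictScalars A' (A' ⧸ m') (B' ⧸ J)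
  haveI : Algebra.FiniteType (A' ⧸ m') (B' ⧸ J) :=
    Algebra.FiniteType.of_restrictScalars_finiteType A' (A' ⧸ m') (B' ⧸ J)
  haveI : Module.Finite (A' ⧸ m') (B' ⧸ J) :=
    Algebra.FormallyUnramified.finite_of_free (A' ⧸ m') (B' ⧸ J)
  haveI : Module.Finite A' (B' ⧸ J) := Module.Finite.trans (A' ⧸ m') (B' ⧸ J)
  haveI : IsHausdorff m' B' := by
    have h2 : IsHausdorff (m'.map (algebraMap A' B')) B' := IsHausdorff.of_le_jacobson _ _ hjac
    exact (IsHausdorff.map_algebraMap_iff (S := B')).1 h2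
  have hfin : Module.Finite A' B' := by
    apply finite_of_complete A' m' B'
    rw [Ideal.smul_top_eq_map]
    exact Module.Finite.equiv (Submodule.Quotient.restrictScalarsEquiv A' J).symm
  refine ⟨hfin, ?_⟩
  haveI := hfin
  exact formallyUnramified_of_quotient m' hjac

end FiniteUnram

section Main

variable (A : Type u) [CommRing A] [IsNoetherianRing A] (I : Ideal A) [IsAdicComplete I A]
  (B : Type u) [CommRing B] [Algebra A B] [IsNoetherianRing B]
  [IsAdicComplete (I.map (algebraMap A B)) B]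

/-- the quotient of `A` by a rig-closed prime is a complete local ring with maximal ideal
`rad(I(A/p))` -/
theorem isLocalRing_quotient_of_isRig (p : PrimeSpectrum A) (hp : IsRig I p) :
    ∃ _ : IsLocalRing (A ⧸ p.asIdeal),
      IsLocalRing.maximalIdeal (A ⧸ p.asIdeal) =
        (I.map (Ideal.Quotient.mk p.asIdeal)).radical ∧
      IsAdicComplete (I.map (Ideal.Quotient.mk p.asIdeal)).radical (A ⧸ p.asIdeal) := by
  obtain ⟨-, hmax, hcompl⟩ := (isRig_iff_local I p).1 hp
  haveI : IsDomain (A ⧸ p.asIdeal) := Ideal.Quotient.isDomain p.asIdeal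
  obtain ⟨M, hM⟩ := Ideal.exists_maximal (A ⧸ p.asIdeal)
  have hloc : IsLocalRing (A ⧸ p.asIdeal) :=
    IsLocalRing.of_unique_max_ideal ⟨M, hM, fun N hN => (hmax N hN).trans (hmax M hM).symm⟩
  refine ⟨hloc, ?_, hcompl⟩
  exact hmax _ (IsLocalRing.maximalIdeal.isMaximal _)

theorem main_S8838 (hft : Algebra.FiniteType A (B ⧸ (I.map (algebraMap A B))))
    [Algebra.Etale (A ⧸ I) (B ⧸ (I.map (algebraMap A B)))]
    (q : PrimeSpectrum B) (hq : IsRig (I.map (algebraMap A B)) q)
    (hp : IsRig I (PrimeSpectrum.comap (algebraMap A B) q)) :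
    ((PrimeSpectrum.comap (algebraMap A B) q).asIdeal.map (algebraMap A B)).map
      (algebraMap B (Localization.AtPrime q.asIdeal)) =
    IsLocalRing.maximalIdeal (Localization.AtPrime q.asIdeal) := by
  set p := PrimeSpectrum.comap (algebraMap A B) q with hpdef
  set P := p.asIdeal with hP
  set PB := P.map (algebraMap A B) with hPB
  have hPBq : PB ≤ q.asIdeal := Ideal.map_le_iff_le_comap.2 le_rfl
  obtain ⟨hloc, hmax, hcompl⟩ := isLocalRing_quotient_of_isRig A I p hp
  haveI := hloc
  haveI : IsAdicComplete (IsLocalRing.maximalIdeal (A ⧸ P)) (A ⧸ P) := by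
    rw [hmax]; exact hcompl
  set m' := IsLocalRing.maximalIdeal (A ⧸ P) with hm'
  set J := m'.map (algebraMap (A ⧸ P) (B ⧸ PB)) with hJ
  -- `I B' ≤ M'` for every maximal ideal
  have hIB : I.map (algebraMap A B) ≤ (⊥ : Ideal B).jacobson :=
    IsAdicComplete.le_jacobson_bot (I.map (algebraMap A B))
  have hJM : ∀ M' : Ideal (B ⧸ PB), M'.IsMaximal → J ≤ M' := by
    intro M' hM'
    haveI := hM'
    have hcm : (M'.comap (Ideal.Quotient.mk PB)).IsMaximal :=
      Ideal.comap_isMaximal_of_surjective _ Ideal.Quotient.mk_surjective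
    have h1 : I.map (algebraMap A B) ≤ M'.comap (Ideal.Quotient.mk PB) :=
      hIB.trans (jacobson_bot_le_of_isMaximal hcm)
    have h2 : (I.map (Ideal.Quotient.mk P)).map (algebraMap (A ⧸ P) (B ⧸ PB)) ≤ M' := by
      rw [Ideal.map_map]
      have : (algebraMap (A ⧸ P) (B ⧸ PB)).comp (Ideal.Quotient.mk P) =
          (Ideal.Quotient.mk PB).comp (algebraMap A B) := rfl
      rw [this, ← Ideal.map_map]
      exact Ideal.map_le_iff_le_comap.2 h1
    rw [hJ, hmax]
    refine (Ideal.map_radical_le _).trans ?_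
    exact (Ideal.IsPrime.radical_le_iff hM'.isPrime).2 h2
  have hjac : J ≤ (⊥ : Ideal (B ⧸ PB)).jacobson := by
    rw [Ideal.jacobson]
    exact le_sInf fun M' hM' => hJM M' hM'.2
  -- the closed fibre is unramified of finite type
  have hIJ : ∀ x ∈ I, Ideal.Quotient.mk PB (algebraMap A B x) ∈ J := by
    intro x hx
    have h1 : Ideal.Quotient.mk P x ∈ m' := by
      rw [hmax]; exact Ideal.le_radical (Ideal.mem_map_of_mem _ hx)
    exact Ideal.mem_map_of_mem (algebraMap (A ⧸ P) (B ⧸ PB)) h1
  let g : B →ₐ[A] ((B ⧸ PB) ⧸ J) := IsScalarTower.toAlgHom A B _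
  have hg : ∀ a ∈ I.map (algebraMap A B), g a = 0 := by
    have : I.map (algebraMap A B) ≤ RingHom.ker g.toRingHom := by
      rw [Ideal.map_le_iff_le_comap]
      intro x hx
      show Ideal.Quotient.mk J (Ideal.Quotient.mk PB (algebraMap A B x)) = 0
      exact Ideal.Quotient.eq_zero_iff_mem.2 (hIJ x hx)
    exact fun a ha => this ha
  let φ : (B ⧸ I.map (algebraMap A B)) →ₐ[A] ((B ⧸ PB) ⧸ J) := Ideal.Quotient.liftₐ _ g hg
  have hφ : Function.Surjective φ := by
    intro c
    obtain ⟨c1, rfl⟩ := Ideal.Quotient.mk_surjective c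
    obtain ⟨c2, rfl⟩ := Ideal.Quotient.mk_surjective c1
    exact ⟨Ideal.Quotient.mk _ c2, rfl⟩
  haveI : Algebra.FormallyUnramified A (B ⧸ I.map (algebraMap A B)) :=
    Algebra.FormallyUnramified.comp A (A ⧸ I) _
  haveI : Algebra.FormallyUnramified A ((B ⧸ PB) ⧸ J) :=
    Algebra.FormallyUnramified.of_surjective φ hφ
  haveI : Algebra.FormallyUnramified (A ⧸ P) ((B ⧸ PB) ⧸ J) :=
    Algebra.FormallyUnramified.of_restrictScalars A (A ⧸ P) _
  haveI : Algebra.FiniteType A ((B ⧸ PB) ⧸ J) := hft.of_surjective φ hφ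
  haveI : Algebra.FiniteType (A ⧸ P) ((B ⧸ PB) ⧸ J) :=
    Algebra.FiniteType.of_restrictScalars_finiteType A (A ⧸ P) _
  obtain ⟨hfin, hunr⟩ := finite_and_unramified_of_fibre (A ⧸ P) (B ⧸ PB) hjac
  haveI := hfin
  haveI := hunr
  -- the prime `q' = q / PB`
  haveI : IsDomain (A ⧸ P) := Ideal.Quotient.isDomain P
  set q' : Ideal (B ⧸ PB) := q.asIdeal.map (Ideal.Quotient.mk PB) with hq'
  haveI hq'prime : q'.IsPrime :=
    Ideal.map_isPrime_of_surjective Ideal.Quotient.mk_surjective (by rw [Ideal.mk_ker]; exact hPBq)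
  have hmemq' : ∀ b : B, Ideal.Quotient.mk PB b ∈ q' ↔ b ∈ q.asIdeal := fun b =>
    Ideal.mem_quotient_iff_mem hPBq
  have hcomap : ∀ y : A ⧸ P, algebraMap (A ⧸ P) (B ⧸ PB) y ∈ q' → y = 0 := by
    intro y hy
    obtain ⟨a, rfl⟩ := Ideal.Quotient.mk_surjective y
    have h1 : Ideal.Quotient.mk PB (algebraMap A B a) ∈ q' := hy
    rw [hmemq'] at h1
    exact Ideal.Quotient.eq_zero_iff_mem.2 h1
  set S := Localization.AtPrime q' with hS
  haveI : Algebra.FormallyUnramified (B ⧸ PB) S :=
    Algebra.FormallyUnramified.of_isLocalization q'.primeCompl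
  haveI : Algebra.FormallyUnramified (A ⧸ P) S := Algebra.FormallyUnramified.comp _ (B ⧸ PB) _
  haveI : Algebra.EssFiniteType (B ⧸ PB) S := Algebra.EssFiniteType.of_isLocalization S q'.primeCompl
  haveI : Algebra.EssFiniteType (A ⧸ P) S := Algebra.EssFiniteType.comp _ (B ⧸ PB) _
  have hunits : ∀ y : nonZeroDivisors (A ⧸ P), IsUnit (algebraMap (A ⧸ P) S y) := by
    intro y
    rw [IsScalarTower.algebraMap_apply (A ⧸ P) (B ⧸ PB) S]
    have hy : algebraMap (A ⧸ P) (B ⧸ PB) y ∈ q'.primeCompl := by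
      intro h
      exact nonZeroDivisors.ne_zero y.2 (hcomap _ h)
    exact IsLocalization.map_units S ⟨_, hy⟩
  let K := FractionRing (A ⧸ P)
  letI : Algebra K S := (IsLocalization.lift (M := nonZeroDivisors (A ⧸ P)) hunits).toAlgebra
  haveI : IsScalarTower (A ⧸ P) K S := IsScalarTower.of_algebraMap_eq fun x => by
    show _ = IsLocalization.lift hunits (algebraMap (A ⧸ P) K x)
    rw [IsLocalization.lift_eq]
  haveI : Algebra.FormallyUnramified K S := Algebra.FormallyUnramified.of_restrictScalars (A ⧸ P) K S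
  haveI : Algebra.EssFiniteType K S := Algebra.EssFiniteType.of_comp (A ⧸ P) K S
  have hS0 : IsLocalRing.maximalIdeal S = ⊥ := by
    rw [← Algebra.FormallyUnramified.map_maximalIdeal (R := K) (S := S),
      IsLocalRing.maximalIdeal_eq_bot, Ideal.map_bot]
  apply le_antisymm
  · rw [← Localization.AtPrime.map_eq_maximalIdeal]
    exact Ideal.map_mono hPBq
  · rw [← Localization.AtPrime.map_eq_maximalIdeal, Ideal.map_le_iff_le_comap]
    intro x hx
    show algebraMap B (Localization.AtPrime q.asIdeal) x ∈ PB.map _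
    have h1 : algebraMap (B ⧸ PB) S (Ideal.Quotient.mk PB x) ∈ IsLocalRing.maximalIdeal S := by
      rw [← Localization.AtPrime.map_eq_maximalIdeal]
      exact Ideal.mem_map_of_mem _ (Ideal.mem_map_of_mem _ hx)
    rw [hS0, Ideal.mem_bot] at h1
    obtain ⟨⟨s', hs'⟩, hs⟩ := (IsLocalization.map_eq_zero_iff q'.primeCompl S _).1 h1
    obtain ⟨s, rfl⟩ := Ideal.Quotient.mk_surjective s'
    have hsq : s ∉ q.asIdeal := fun h => hs' ((hmemq' s).2 h)
    have hsx : s * x ∈ PB := by
      rw [← Ideal.Quotient.eq_zero_iff_mem, map_mul]; exact hs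
    have hu : IsUnit (algebraMap B (Localization.AtPrime q.asIdeal) s) :=
      IsLocalization.map_units _ (⟨s, hsq⟩ : q.asIdeal.primeCompl)
    have h2 : algebraMap B (Localization.AtPrime q.asIdeal) (s * x) ∈
        PB.map (algebraMap B (Localization.AtPrime q.asIdeal)) := Ideal.mem_map_of_mem _ hsx
    rw [map_mul] at h2
    exact (Ideal.unit_mul_mem_iff_mem _ hu).1 h2

end Main

end Groth.Agent.Helper3.RigPt
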