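import Mathlib
import Groth.Agent.Lib.Helper3.RigPt5
import Groth.Agent.Lib.Helper3.CplLoc3

/-!
# Rig-closed primes: passing to a completed principal localization (S8840)
-/

set_option autoImplicit false
universe u

namespace Groth.Agent.Helper3.RigPt

open Groth.Agent.Helper3.AdicDim Groth.Agent.Helper3.CplLoc

section Field

variable (A : Type u) [CommRing A] (L : Type u) [Field L] [Algebra A L]

/-- a field of finite type over `A` is "integral over `A[1/f]`" for a suitable `f`
not in the kernel -/
theorem exists_pow_mul_isIntegral [Algebra.FiniteType A L] :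
    ∃ f : A, algebraMap A L f ≠ 0 ∧
      ∀ x : L, ∃ N : ℕ, IsIntegral A (algebraMap A L f ^ N * x) := by
  classical
  let D : Subalgebra A L := ⊥
  have hsurj : Function.Surjective (algebraMap A D) := by
    rintro ⟨x, hx⟩
    obtain ⟨a, rfl⟩ := Algebra.mem_bot.1 hx
    exact ⟨a, rfl⟩
  haveI : Algebra.IsIntegral A D := Algebra.isIntegral_of_surjective hsurj
  have hinj : Function.Injective (algebraMap D L) := Subtype.val_injective
  let K := FractionRing D
  letI : Algebra K L := (IsFractionRing.lift hinj).toAlgebra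
  haveI : IsScalarTower D K L := IsScalarTower.of_algebraMap_eq fun x =>
    (IsFractionRing.lift_algebraMap hinj x).symm
  haveI : Algebra.FiniteType D L := Algebra.FiniteType.of_restrictScalars_finiteType A D L
  haveI : Algebra.FiniteType K L := Algebra.FiniteType.of_restrictScalars_finiteType D K L
  haveI : Module.Finite K L := finite_of_finite_type_of_isJacobsonRing K L
  haveI : Algebra.IsAlgebraic K L := Algebra.IsAlgebraic.of_finite K L
  haveI : Algebra.IsAlgebraic D L := (IsFractionRing.comap_isAlgebraic_iff (K := K)).mpr inferInstance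
  obtain ⟨s, hs⟩ := (Algebra.FiniteType.out : (⊤ : Subalgebra A L).FG)
  obtain ⟨y, hy0, hy⟩ := Algebra.IsAlgebraic.exists_integral_multiples D s
  obtain ⟨f, hf⟩ := Algebra.mem_bot.1 y.2
  have hf0 : algebraMap A L f ≠ 0 := by
    rw [hf]
    intro h
    exact hy0 (Subtype.ext h)
  refine ⟨f, hf0, ?_⟩
  let T : Subalgebra A L :=
    { carrier := {x | ∃ N : ℕ, IsIntegral A (algebraMap A L f ^ N * x)}
      mul_mem' := by
        rintro a b ⟨N, hN⟩ ⟨M, hM⟩
        refine ⟨N + M, ?_⟩
        have : algebraMap A L f ^ (N + M) * (a * b) =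
            (algebraMap A L f ^ N * a) * (algebraMap A L f ^ M * b) := by ring
        rw [this]
        exact hN.mul hM
      add_mem' := by
        rintro a b ⟨N, hN⟩ ⟨M, hM⟩
        refine ⟨N + M, ?_⟩
        have : algebraMap A L f ^ (N + M) * (a + b) =
            algebraMap A L (f ^ M) * (algebraMap A L f ^ N * a) +
            algebraMap A L (f ^ N) * (algebraMap A L f ^ M * b) := by
          rw [map_pow, map_pow]; ring
        rw [this]
        exact (isIntegral_algebraMap.mul hN).add (isIntegral_algebraMap.mul hM)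
      algebraMap_mem' := fun a => ⟨0, by rw [pow_zero, one_mul]; exact isIntegral_algebraMap⟩ }
  have hsT : (s : Set L) ⊆ T := by
    intro z hz
    refine ⟨1, ?_⟩
    have h1 : IsIntegral D (y • z) := hy z hz
    have h2 : IsIntegral A (y • z) := isIntegral_trans _ h1
    have h3 : y • z = algebraMap A L f ^ 1 * z := by
      rw [pow_one, hf]; rfl
    rw [← h3]
    exact h2
  have hT : T = ⊤ := by
    rw [eq_top_iff, ← hs]
    exact Algebra.adjoin_le hsT
  intro x
  have : x ∈ T := by rw [hT]; trivial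
  exact this

end Field

section Main

variable (A : Type u) [CommRing A] [IsNoetherianRing A] (I : Ideal A) [IsAdicComplete I A]
  (B : Type u) [CommRing B] [Algebra A B] [IsNoetherianRing B]
  [IsAdicComplete (I.map (algebraMap A B)) B]

/-- the residue field of `B/q` at a rig-closed prime is of finite type over `A` -/
theorem finiteType_residueField (hft : Algebra.FiniteType A (B ⧸ (I.map (algebraMap A B))))
    (q : Ideal B) [IsLocalRing (B ⧸ q)] :
    Algebra.FiniteType A (IsLocalRing.ResidueField (B ⧸ q)) := by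
  let g : B →ₐ[A] IsLocalRing.ResidueField (B ⧸ q) := IsScalarTower.toAlgHom A B _
  have hgsurj : Function.Surjective g := by
    intro z
    obtain ⟨z1, rfl⟩ := IsLocalRing.residue_surjective z
    obtain ⟨z2, rfl⟩ := Ideal.Quotient.mk_surjective z1
    exact ⟨z2, rfl⟩
  have hmax : (RingHom.ker g.toRingHom).IsMaximal :=
    RingHom.ker_isMaximal_of_surjective g.toRingHom hgsurj
  have hIB : I.map (algebraMap A B) ≤ RingHom.ker g.toRingHom :=
    (IsAdicComplete.le_jacobson_bot (I.map (algebraMap A B))).trans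
      (jacobson_bot_le_of_isMaximal hmax)
  let φ : (B ⧸ I.map (algebraMap A B)) →ₐ[A] IsLocalRing.ResidueField (B ⧸ q) :=
    Ideal.Quotient.liftₐ _ g (fun a ha => hIB ha)
  have hφ : Function.Surjective φ := by
    intro z
    obtain ⟨b, rfl⟩ := hgsurj z
    exact ⟨Ideal.Quotient.mk _ b, rfl⟩
  exact hft.of_surjective φ hφ

end Main

section Transfer

variable (A : Type u) [CommRing A] (B : Type u) [CommRing B] [Algebra A B]
  (q : Ideal B) [IsLocalRing (B ⧸ q)] (f : A)
  (A' : Type u) [CommRing A'] [Algebra A A'] (B' : Type u) [CommRing B'] [Algebra B B']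
  [Algebra A B'] [Algebra A' B'] [IsScalarTower A A' B'] [IsScalarTower A B B']

theorem finite_quotient_maximal
    (hint : ∀ x : IsLocalRing.ResidueField (B ⧸ q),
      ∃ N : ℕ, IsIntegral A (algebraMap A (IsLocalRing.ResidueField (B ⧸ q)) f ^ N * x))
    (hunit : IsUnit (algebraMap A A' f))
    (hsurj : ∀ c : B', ∃ b : B, c - algebraMap B B' b ∈ q.map (algebraMap B B'))
    (m : Ideal B') [hm : m.IsMaximal] (hqm : q.map (algebraMap B B') ≤ m)
    [Algebra.FiniteType A' (B' ⧸ m)] : Module.Finite A' (B' ⧸ m) := by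
  letI := Ideal.Quotient.field m
  -- the map `B → B'/m`
  let π : B →ₐ[A] (B' ⧸ m) := IsScalarTower.toAlgHom A B _
  have hπ : ∀ b, π b = Ideal.Quotient.mk m (algebraMap B B' b) := fun b => rfl
  have hπsurj : Function.Surjective π := by
    intro z
    obtain ⟨c, rfl⟩ := Ideal.Quotient.mk_surjective z
    obtain ⟨b, hb⟩ := hsurj c
    refine ⟨b, ?_⟩
    rw [hπ, eq_comm, Ideal.Quotient.eq]
    exact hqm hb
  have hqπ : ∀ a ∈ q, π a = 0 := by
    intro a ha
    rw [hπ, Ideal.Quotient.eq_zero_iff_mem]
    exact hqm (Ideal.mem_map_of_mem _ ha)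
  let π₁ : (B ⧸ q) →ₐ[A] (B' ⧸ m) := Ideal.Quotient.liftₐ q π hqπ
  have hπ₁surj : Function.Surjective π₁ := by
    intro z
    obtain ⟨b, rfl⟩ := hπsurj z
    exact ⟨Ideal.Quotient.mk q b, rfl⟩
  have hker : RingHom.ker π₁.toRingHom = IsLocalRing.maximalIdeal (B ⧸ q) :=
    IsLocalRing.eq_maximalIdeal (RingHom.ker_isMaximal_of_surjective π₁.toRingHom hπ₁surj)
  let σ : IsLocalRing.ResidueField (B ⧸ q) →ₐ[A] (B' ⧸ m) :=
    Ideal.Quotient.liftₐ (IsLocalRing.maximalIdeal (B ⧸ q)) π₁ (fun a ha => by
      have : a ∈ RingHom.ker π₁.toRingHom := by rw [hker]; exact ha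
      exact this)
  have hσsurj : Function.Surjective σ := by
    intro z
    obtain ⟨b, rfl⟩ := hπ₁surj z
    exact ⟨IsLocalRing.residue _ b, rfl⟩
  haveI : Algebra.IsIntegral A' (B' ⧸ m) := by
    constructor
    intro z
    obtain ⟨x, rfl⟩ := hσsurj z
    obtain ⟨N, hN⟩ := hint x
    have h1 : IsIntegral A (σ (algebraMap A _ f ^ N * x)) := hN.map σ
    rw [map_mul, map_pow, AlgHom.commutes] at h1
    have h2 : IsIntegral A' (algebraMap A (B' ⧸ m) f ^ N * σ x) := h1.tower_top
    obtain ⟨u, hu⟩ := hunit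
    have h3 : σ x = algebraMap A' (B' ⧸ m) ((↑(u⁻¹ ^ N) : A')) *
        (algebraMap A (B' ⧸ m) f ^ N * σ x) := by
      rw [IsScalarTower.algebraMap_apply A A' (B' ⧸ m), ← hu, ← map_pow, ← mul_assoc, ← map_mul,
        ← Units.val_pow_eq_pow_val, ← Units.val_mul, ← mul_pow, inv_mul_cancel, one_pow,
        Units.val_one, map_one, one_mul]
    rw [h3]
    exact isIntegral_algebraMap.mul h2
  exact Algebra.IsIntegral.finite

end Transfer

section MainThm

variable (A : Type u) [CommRing A] [IsNoetherianRing A] (I : Ideal A) [IsAdicComplete I A]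
  (B : Type u) [CommRing B] [Algebra A B] [IsNoetherianRing B]
  [IsAdicComplete (I.map (algebraMap A B)) B]

theorem main_S8840 (hft : Algebra.FiniteType A (B ⧸ (I.map (algebraMap A B))))
    (q : PrimeSpectrum B) (hq : IsRig (I.map (algebraMap A B)) q) :
    ∃ f : A, IsUnit (Ideal.Quotient.mk q.asIdeal (algebraMap A B f)) ∧
      ∀ ψ : Cpl A I f →+* Cpl B (I.map (algebraMap A B)) (algebraMap A B f),
        ψ.comp (algebraMap (Localization.Away f) (Cpl A I f)) =
          (algebraMap (Localization.Away (algebraMap A B f))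
            (Cpl B (I.map (algebraMap A B)) (algebraMap A B f))).comp
            (Localization.awayMap (algebraMap A B) f) →
        ((q.asIdeal.map (algebraMap B (Cpl B (I.map (algebraMap A B))
            (algebraMap A B f)))).comap ψ).IsPrime ∧
        ¬ (I.map (algebraMap A (Cpl A I f))) ≤
          ((q.asIdeal.map (algebraMap B (Cpl B (I.map (algebraMap A B))
            (algebraMap A B f)))).comap ψ) ∧
        ∀ y : PrimeSpectrum (Cpl A I f),
          ((q.asIdeal.map (algebraMap B (Cpl B (I.map (algebraMap A B))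
            (algebraMap A B f)))).comap ψ) ≤ y.asIdeal →
          ¬ (I.map (algebraMap A (Cpl A I f))) ≤ y.asIdeal →
          y.asIdeal = ((q.asIdeal.map (algebraMap B (Cpl B (I.map (algebraMap A B))
            (algebraMap A B f)))).comap ψ) := by
  obtain ⟨hloc, hmax, hcompl⟩ := isLocalRing_quotient_of_isRig B (I.map (algebraMap A B)) q hq
  haveI := hloc
  haveI := finiteType_residueField A I B hft q.asIdeal
  obtain ⟨f, hf0, hint⟩ :=
    exists_pow_mul_isIntegral A (IsLocalRing.ResidueField (B ⧸ q.asIdeal))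
  have hunit : IsUnit (Ideal.Quotient.mk q.asIdeal (algebraMap A B f)) := by
    rw [← IsLocalRing.notMem_maximalIdeal, ← IsLocalRing.residue_eq_zero_iff]
    exact hf0
  refine ⟨f, hunit, fun ψ hψ => ?_⟩
  -- algebra structures
  letI : Algebra (Cpl A I f) (Cpl B (I.map (algebraMap A B)) (algebraMap A B f)) := ψ.toAlgebra
  haveI : IsScalarTower A (Cpl A I f) (Cpl B (I.map (algebraMap A B)) (algebraMap A B f)) :=
    IsScalarTower.of_algebraMap_eq fun a =>
      (RingHom.congr_fun (psi_comp_algebraMap A I B f ψ hψ) a).symm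
  haveI := cpl_isNoetherianRing A I f
  haveI := cpl_isNoetherianRing B (I.map (algebraMap A B)) (algebraMap A B f)
  haveI := cpl_isAdicComplete A I f
  haveI := pair_isAdicComplete A I B f
  have hft' := pair_finiteType A I B f hft
  set Ah := Cpl A I f with hAh
  set Bh := Cpl B (I.map (algebraMap A B)) (algebraMap A B f) with hBh
  set K := (I.map (algebraMap A Ah)).map (algebraMap Ah Bh) with hK
  have hKeq : K = (I.map (algebraMap A B)).map (algebraMap B Bh) := pair_ideal_eq A I B f
  -- the prime `q' = q Bh`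
  obtain ⟨hq'prime, hbij⟩ := main_S8837 B (I.map (algebraMap A B)) q.asIdeal (algebraMap A B f) hunit
  let q' : PrimeSpectrum Bh := ⟨q.asIdeal.map (algebraMap B Bh), hq'prime⟩
  have hq' : IsRig K q' := by
    rw [isRig_iff_dim]
    obtain ⟨hdim, hJq⟩ := (isRig_iff_dim (I.map (algebraMap A B)) q).1 hq
    refine ⟨?_, ?_⟩
    · rw [← hdim]
      exact (ringKrullDim_eq_of_ringEquiv (RingEquiv.ofBijective _ hbij)).symm
    · intro hle
      apply hJq
      intro x hx
      have h1 : algebraMap B Bh x ∈ q'.asIdeal := hle (hKeq ▸ Ideal.mem_map_of_mem _ hx)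
      have h2 : Ideal.quotientMap (q.asIdeal.map (algebraMap B Bh)) (algebraMap B Bh)
          Ideal.le_comap_map (Ideal.Quotient.mk q.asIdeal x) = 0 := by
        rw [Ideal.quotientMap_mk]
        exact Ideal.Quotient.eq_zero_iff_mem.2 h1
      have h3 := hbij.1 (h2.trans (map_zero _).symm)
      exact Ideal.Quotient.eq_zero_iff_mem.1 h3
  have hsurj : ∀ c : Bh, ∃ b : B, c - algebraMap B Bh b ∈ q.asIdeal.map (algebraMap B Bh) := by
    intro c
    obtain ⟨z, hz⟩ := hbij.2 (Ideal.Quotient.mk _ c)
    obtain ⟨b, rfl⟩ := Ideal.Quotient.mk_surjective z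
    refine ⟨b, ?_⟩
    rw [Ideal.quotientMap_mk, Ideal.Quotient.eq] at hz
    have := neg_mem hz
    rwa [neg_sub] at this
  have hfin : ∀ m : Ideal Bh, m.IsMaximal → q'.asIdeal ≤ m → Module.Finite Ah (Bh ⧸ m) := by
    intro m hm hqm
    haveI := hm
    have hKm : K ≤ m :=
      (IsAdicComplete.le_jacobson_bot K).trans (jacobson_bot_le_of_isMaximal hm)
    haveI : Algebra.FiniteType Ah (Bh ⧸ m) :=
      hft'.of_surjective (Ideal.Quotient.factorₐ Ah hKm) (Ideal.Quotient.factor_surjective hKm)
    exact finite_quotient_maximal A B q.asIdeal f Ah Bh hint (cpl_isUnit A I f) hsurj m hqm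
  have hp' : IsRig (I.map (algebraMap A Ah)) (PrimeSpectrum.comap (algebraMap Ah Bh) q') :=
    ((main_S8829 Ah (I.map (algebraMap A Ah)) Bh hft' q' hq').out 0 1).1 hfin
  refine ⟨?_, hp'.1, fun y h1 h2 => ?_⟩
  · exact (PrimeSpectrum.comap (algebraMap Ah Bh) q').2
  · exact congrArg PrimeSpectrum.asIdeal (hp'.2 y h1 h2)

end MainThm

end Groth.Agent.Helper3.RigPt
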