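import Mathlib
import Groth.Agent.Lib.Helper3.RigPt6
import Groth.Agent.Lib.Helper1.LocalCrit

/-!
# Rig-flatness versus naive rig-flatness over a Jacobson base (S8841)
-/

set_option autoImplicit false
universe u

namespace Groth.Agent.Helper3.RigPt

open Groth.Agent.Helper3.AdicDim Groth.Agent.Helper3.CplLoc
open scoped TensorProduct

section MapCpl

variable (A : Type u) [CommRing A] [IsNoetherianRing A] (I : Ideal A) [IsAdicComplete I A]

/-- the extension of a rig-closed prime `p` to `A_{f}`, `f` a unit modulo `p`, is rig-closed -/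
theorem isRig_map_cpl (p : PrimeSpectrum A) (hp : IsRig I p) (f : A)
    (hunit : IsUnit (Ideal.Quotient.mk p.asIdeal f)) :
    ∃ hprime : (p.asIdeal.map (algebraMap A (Cpl A I f))).IsPrime,
      IsRig (I.map (algebraMap A (Cpl A I f)))
        (⟨p.asIdeal.map (algebraMap A (Cpl A I f)), hprime⟩ : PrimeSpectrum (Cpl A I f)) := by
  haveI := cpl_isNoetherianRing A I f
  haveI := cpl_isAdicComplete A I f
  obtain ⟨hprime, hbij⟩ := main_S8837 A I p.asIdeal f hunit
  refine ⟨hprime, ?_⟩
  rw [isRig_iff_dim]
  obtain ⟨hdim, hJq⟩ := (isRig_iff_dim I p).1 hp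
  refine ⟨?_, ?_⟩
  · rw [← hdim]
    exact (ringKrullDim_eq_of_ringEquiv (RingEquiv.ofBijective _ hbij)).symm
  · intro hle
    apply hJq
    intro x hx
    have h1 : algebraMap A (Cpl A I f) x ∈ p.asIdeal.map (algebraMap A (Cpl A I f)) :=
      hle (Ideal.mem_map_of_mem _ hx)
    have h2 : Ideal.quotientMap (p.asIdeal.map (algebraMap A (Cpl A I f)))
        (algebraMap A (Cpl A I f)) Ideal.le_comap_map (Ideal.Quotient.mk p.asIdeal x) = 0 := by
      rw [Ideal.quotientMap_mk]
      exact Ideal.Quotient.eq_zero_iff_mem.2 h1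
    have h3 := hbij.1 (h2.trans (map_zero _).symm)
    exact Ideal.Quotient.eq_zero_iff_mem.1 h3

/-- if a prime `p'` of `A_{f}` contracts to a rig-closed prime `p` of `A`, then `f` is a unit
modulo `p` -/
theorem isUnit_mk_of_comap_isRig (f : A) (p' : PrimeSpectrum (Cpl A I f))
    (hp : IsRig I (PrimeSpectrum.comap (algebraMap A (Cpl A I f)) p')) :
    IsUnit (Ideal.Quotient.mk (PrimeSpectrum.comap (algebraMap A (Cpl A I f)) p').asIdeal f) := by
  haveI := cpl_isNoetherianRing A I f
  haveI := cpl_isAdicComplete A I f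
  set p := PrimeSpectrum.comap (algebraMap A (Cpl A I f)) p' with hpdef
  obtain ⟨hloc, hmax, -⟩ := isLocalRing_quotient_of_isRig A I p hp
  haveI := hloc
  by_contra hnu
  have h1 : Ideal.Quotient.mk p.asIdeal f ∈ IsLocalRing.maximalIdeal (A ⧸ p.asIdeal) := by
    by_contra h
    exact hnu (IsLocalRing.notMem_maximalIdeal.1 h)
  rw [hmax] at h1
  obtain ⟨k, hk⟩ := h1
  rw [← map_pow, Ideal.mem_quotient_iff_mem_sup] at hk
  -- `f ^ k ∈ I ⊔ p`, hence `1 ∈ I A_{f} ⊔ p'`
  have h2 : algebraMap A (Cpl A I f) (f ^ k) ∈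
      I.map (algebraMap A (Cpl A I f)) ⊔ p'.asIdeal := by
    obtain ⟨a, ha, b, hb, hab⟩ := Submodule.mem_sup.1 hk
    rw [← hab, map_add]
    exact Submodule.add_mem_sup (Ideal.mem_map_of_mem _ ha) hb
  have h3 : I.map (algebraMap A (Cpl A I f)) ⊔ p'.asIdeal = ⊤ := by
    apply Ideal.eq_top_of_isUnit_mem _ h2
    rw [map_pow]
    exact (cpl_isUnit A I f).pow k
  -- `I A_{f}` lies in the Jacobson radical
  obtain ⟨M, hM, hpM⟩ := Ideal.exists_le_maximal p'.asIdeal p'.2.ne_top
  have hIM : I.map (algebraMap A (Cpl A I f)) ≤ M :=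
    (IsAdicComplete.le_jacobson_bot _).trans (jacobson_bot_le_of_isMaximal hM)
  exact hM.ne_top (top_le_iff.1 (h3 ▸ sup_le hIM hpM))

/-- a rig-closed prime of `A_{f}` with rig-closed contraction `p` is the extension of `p` -/
theorem eq_map_of_isRig_of_comap_isRig (f : A) (p' : PrimeSpectrum (Cpl A I f))
    (hp' : IsRig (I.map (algebraMap A (Cpl A I f))) p')
    (hp : IsRig I (PrimeSpectrum.comap (algebraMap A (Cpl A I f)) p')) :
    p'.asIdeal = (PrimeSpectrum.comap (algebraMap A (Cpl A I f)) p').asIdeal.map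
      (algebraMap A (Cpl A I f)) := by
  set p := PrimeSpectrum.comap (algebraMap A (Cpl A I f)) p' with hpdef
  obtain ⟨hprime, hP⟩ := isRig_map_cpl A I p hp f (isUnit_mk_of_comap_isRig A I f p' hp)
  have hle : (⟨p.asIdeal.map (algebraMap A (Cpl A I f)), hprime⟩ : PrimeSpectrum (Cpl A I f)) ≤ p' :=
    Ideal.map_le_iff_le_comap.2 le_rfl
  have := hP.2 p' hle hp'.1
  exact congrArg PrimeSpectrum.asIdeal this

end MapCpl

section FlatLoc

open Groth.Agent.Helper1

/-- flatness over `A` of a local `R'`-algebra `M` passes to `R'` when the maximal ideal of `R'`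
is extended from `A` -/
theorem flat_of_flat_of_map_eq_maximalIdeal (A R' M : Type u) [CommRing A] [CommRing R']
    [CommRing M] [Algebra A R'] [Algebra R' M] [Algebra A M] [IsScalarTower A R' M]
    [IsNoetherianRing R'] [IsLocalRing R'] [IsNoetherianRing M] [IsLocalRing M]
    [IsLocalHom (algebraMap R' M)] (p : Ideal A)
    (hp : p.map (algebraMap A R') = IsLocalRing.maximalIdeal R') [Module.Flat A M] :
    Module.Flat R' M := by
  have hmax : (p.map (algebraMap A R')).IsMaximal := hp ▸ IsLocalRing.maximalIdeal.isMaximal R'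
  letI := Ideal.Quotient.field (p.map (algebraMap A R'))
  have hI : (p.map (algebraMap A R')).map (algebraMap R' M) ≠ ⊤ :=
    LocalCrit.map_ne_top_of_isLocalHom _ hmax.ne_top
  have h1 : Function.Injective (LinearMap.rTensor M (Submodule.subtype (p.map (algebraMap A R')))) :=
    LocalCrit.rTensor_map_subtype_injective p M
      (Module.Flat.rTensor_preserves_injective_linearMap _ Subtype.val_injective)
  exact LocalCrit.flat_of_rTensor_injective_of_flat_quotient (R := R') (S := M) (M := M)
    (p.map (algebraMap A R')) hI h1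

end FlatLoc

section MainThm

variable (A : Type u) [CommRing A] [IsNoetherianRing A] (I : Ideal A) [IsAdicComplete I A]
  (B : Type u) [CommRing B] [Algebra A B] [IsNoetherianRing B]
  [IsAdicComplete (I.map (algebraMap A B)) B]

theorem main_S8841 (hft : Algebra.FiniteType A (B ⧸ (I.map (algebraMap A B))))
    (hJ : IsJacobsonRing (A ⧸ I))
    (hnaive : ∀ q : PrimeSpectrum B, IsRig (I.map (algebraMap A B)) q →
      (algebraMap A (Localization.AtPrime q.asIdeal)).Flat)
    (f : A) (ψ : Cpl A I f →+* Cpl B (I.map (algebraMap A B)) (algebraMap A B f))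
    (hψ : ψ.comp (algebraMap (Localization.Away f) (Cpl A I f)) =
      (algebraMap (Localization.Away (algebraMap A B f))
        (Cpl B (I.map (algebraMap A B)) (algebraMap A B f))).comp
        (Localization.awayMap (algebraMap A B) f))
    (q' : PrimeSpectrum (Cpl B (I.map (algebraMap A B)) (algebraMap A B f)))
    (hq' : IsRig (((I.map (algebraMap A B)).map
      (algebraMap B (Localization.Away (algebraMap A B f)))).map
      (algebraMap (Localization.Away (algebraMap A B f))
        (Cpl B (I.map (algebraMap A B)) (algebraMap A B f)))) q') :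
    ((algebraMap (Cpl B (I.map (algebraMap A B)) (algebraMap A B f))
      (Localization.AtPrime q'.asIdeal)).comp ψ).Flat := by
  letI : Algebra (Cpl A I f) (Cpl B (I.map (algebraMap A B)) (algebraMap A B f)) := ψ.toAlgebra
  haveI : IsScalarTower A (Cpl A I f) (Cpl B (I.map (algebraMap A B)) (algebraMap A B f)) :=
    IsScalarTower.of_algebraMap_eq fun a =>
      (RingHom.congr_fun (psi_comp_algebraMap A I B f ψ hψ) a).symm
  haveI := cpl_isNoetherianRing A I f
  haveI := cpl_isNoetherianRing B (I.map (algebraMap A B)) (algebraMap A B f)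
  haveI := cpl_isAdicComplete A I f
  haveI := cpl_isAdicComplete B (I.map (algebraMap A B)) (algebraMap A B f)
  haveI := pair_isAdicComplete A I B f
  have hft' := pair_finiteType A I B f hft
  set Ah := Cpl A I f with hAh
  set Bh := Cpl B (I.map (algebraMap A B)) (algebraMap A B f) with hBh
  set K := (I.map (algebraMap A Ah)).map (algebraMap Ah Bh) with hK
  have hKeq : K = (I.map (algebraMap A B)).map (algebraMap B Bh) := pair_ideal_eq A I B f
  have hq'B : IsRig ((I.map (algebraMap A B)).map (algebraMap B Bh)) q' := by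
    rw [cpl_map_eq]; exact hq'
  have hq'K : IsRig K q' := by rw [hKeq]; exact hq'B
  -- Jacobson
  have hJB : IsJacobsonRing (B ⧸ I.map (algebraMap A B)) := by
    haveI := hft
    haveI := hJ
    haveI : Algebra.FiniteType (A ⧸ I) (B ⧸ I.map (algebraMap A B)) :=
      Algebra.FiniteType.of_restrictScalars_finiteType A (A ⧸ I) _
    exact isJacobsonRing_of_finiteType (A := A ⧸ I)
  have hJAh : IsJacobsonRing (Ah ⧸ I.map (algebraMap A Ah)) := by
    haveI := hJ
    exact cpl_isJacobsonRing A I f
  -- the contractions are rig-closed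
  have hq : IsRig (I.map (algebraMap A B)) (PrimeSpectrum.comap (algebraMap B Bh) q') :=
    main_S8835 B (I.map (algebraMap A B)) Bh (cpl_finiteType B _ _) q' hq'B hJB
  have hp' : IsRig (I.map (algebraMap A Ah)) (PrimeSpectrum.comap (algebraMap Ah Bh) q') :=
    main_S8835 Ah (I.map (algebraMap A Ah)) Bh hft' q' hq'K hJAh
  have hp : IsRig I (PrimeSpectrum.comap (algebraMap A Ah)
      (PrimeSpectrum.comap (algebraMap Ah Bh) q')) :=
    main_S8835 A I Ah (cpl_finiteType A I f) _ hp' hJ
  have hp'eq := eq_map_of_isRig_of_comap_isRig A I f _ hp' hp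
  set q := PrimeSpectrum.comap (algebraMap B Bh) q' with hqdef
  set p' := PrimeSpectrum.comap (algebraMap Ah Bh) q' with hp'def
  set p := PrimeSpectrum.comap (algebraMap A Ah) p' with hpdef
  -- flatness of `M = (Bh)_{q'}` over `A`
  set M := Localization.AtPrime q'.asIdeal with hM
  set R' := Localization.AtPrime p'.asIdeal with hR'
  set Bq := Localization.AtPrime q.asIdeal with hBq
  letI : Algebra Bq M :=
    (Localization.localRingHom q.asIdeal q'.asIdeal (algebraMap B Bh) rfl).toAlgebra
  haveI : IsScalarTower B Bq M := IsScalarTower.of_algebraMap_eq fun b => by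
    exact (IsScalarTower.algebraMap_apply B Bh M b).trans
      (Localization.localRingHom_to_map q.asIdeal q'.asIdeal (algebraMap B Bh) rfl b).symm
  haveI : Module.Flat B Bh := cpl_flat B _ _
  haveI : Module.Flat Bh M := IsLocalization.flat M q'.asIdeal.primeCompl
  haveI : Module.Flat B M := Module.Flat.trans B Bh M
  haveI : Module.Flat Bq M :=
    (Module.flat_iff_of_isLocalization Bq q.asIdeal.primeCompl M).2 inferInstance
  haveI : Module.Flat A Bq := RingHom.flat_algebraMap_iff.1 (hnaive q hq)
  haveI : IsScalarTower A Bq M := IsScalarTower.of_algebraMap_eq fun a => by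
    rw [IsScalarTower.algebraMap_apply A B Bq, ← IsScalarTower.algebraMap_apply B Bq M,
      ← IsScalarTower.algebraMap_apply A B M]
  haveI : Module.Flat A M := Module.Flat.trans A Bq M
  -- the local ring `R' = (Ah)_{p'}`
  letI : Algebra R' M :=
    (Localization.localRingHom p'.asIdeal q'.asIdeal (algebraMap Ah Bh) rfl).toAlgebra
  haveI : IsScalarTower Ah R' M := IsScalarTower.of_algebraMap_eq fun x => by
    exact (IsScalarTower.algebraMap_apply Ah Bh M x).trans
      (Localization.localRingHom_to_map p'.asIdeal q'.asIdeal (algebraMap Ah Bh) rfl x).symm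
  haveI : IsScalarTower A R' M := IsScalarTower.of_algebraMap_eq fun a => by
    rw [IsScalarTower.algebraMap_apply A Ah R', ← IsScalarTower.algebraMap_apply Ah R' M,
      ← IsScalarTower.algebraMap_apply A Ah M]
  haveI : IsLocalHom (algebraMap R' M) := Localization.isLocalHom_localRingHom _ _ _ rfl
  have hm : p.asIdeal.map (algebraMap A R') = IsLocalRing.maximalIdeal R' := by
    have h1 : IsLocalRing.maximalIdeal R' = p'.asIdeal.map (algebraMap Ah R') :=
      Localization.AtPrime.map_eq_maximalIdeal.symm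
    have h2 : p'.asIdeal.map (algebraMap Ah R') =
        (p.asIdeal.map (algebraMap A Ah)).map (algebraMap Ah R') :=
      congrArg (Ideal.map (algebraMap Ah R')) hp'eq
    rw [h1, h2, Ideal.map_map, ← IsScalarTower.algebraMap_eq]
  haveI : Module.Flat R' M := flat_of_flat_of_map_eq_maximalIdeal A R' M p.asIdeal hm
  have hflat : Module.Flat Ah M :=
    (Module.flat_iff_of_isLocalization R' p'.asIdeal.primeCompl M).1 inferInstance
  have h2 : (algebraMap Ah M).Flat := RingHom.flat_algebraMap_iff.2 hflat
  have h3 : algebraMap Ah M = (algebraMap Bh M).comp ψ := by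
    rw [IsScalarTower.algebraMap_eq Ah Bh M]; rfl
  rwa [h3] at h2

end MainThm

end Groth.Agent.Helper3.RigPt
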