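import Mathlib
import Groth.Agent.Lib.Helper3.RigPt7
import Groth.Agent.Lib.Helper2.AdicUniv

/-!
# Composition of rig-flat morphisms (S8843)
-/

set_option autoImplicit false
universe u

namespace Groth.Agent.Helper3.RigPt

open Groth.Agent.Helper3.AdicDim Groth.Agent.Helper3.CplLoc

section Naive

/-- flatness at the rig-closed primes implies flatness at all primes not containing `JS` -/
theorem flat_atPrime_of_flat_atPrime_isRig {R S : Type u} [CommRing R] [CommRing S] [Algebra R S]
    [IsNoetherianRing S] (JS : Ideal S)
    (h : ∀ q : PrimeSpectrum S, IsRig JS q → Module.Flat R (Localization.AtPrime q.asIdeal))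
    (r : PrimeSpectrum S) (hr : ¬ JS ≤ r.asIdeal) :
    Module.Flat R (Localization.AtPrime r.asIdeal) := by
  obtain ⟨q, hrq, hq⟩ := exists_isRig_ge JS r hr
  haveI := h q hq
  have hle : q.asIdeal.primeCompl ≤ r.asIdeal.primeCompl := fun x hx hxr => hx (hrq hxr)
  have hunits : ∀ y : q.asIdeal.primeCompl,
      IsUnit (algebraMap S (Localization.AtPrime r.asIdeal) y) := fun y =>
    IsLocalization.map_units _ (⟨y.1, hle y.2⟩ : r.asIdeal.primeCompl)
  letI : Algebra (Localization.AtPrime q.asIdeal) (Localization.AtPrime r.asIdeal) :=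
    (IsLocalization.lift (M := q.asIdeal.primeCompl) hunits).toAlgebra
  haveI : IsScalarTower S (Localization.AtPrime q.asIdeal) (Localization.AtPrime r.asIdeal) :=
    IsScalarTower.of_algebraMap_eq fun x => (IsLocalization.lift_eq hunits x).symm
  haveI : IsLocalization (r.asIdeal.primeCompl.map (algebraMap S (Localization.AtPrime q.asIdeal)))
      (Localization.AtPrime r.asIdeal) :=
    IsLocalization.isLocalization_of_submonoid_le _ _ q.asIdeal.primeCompl r.asIdeal.primeCompl hle
  haveI : Module.Flat (Localization.AtPrime q.asIdeal) (Localization.AtPrime r.asIdeal) :=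
    IsLocalization.flat _ (r.asIdeal.primeCompl.map (algebraMap S (Localization.AtPrime q.asIdeal)))
  haveI : IsScalarTower R (Localization.AtPrime q.asIdeal) (Localization.AtPrime r.asIdeal) :=
    IsScalarTower.of_algebraMap_eq fun a => by
      rw [IsScalarTower.algebraMap_apply R S (Localization.AtPrime q.asIdeal),
        ← IsScalarTower.algebraMap_apply S (Localization.AtPrime q.asIdeal)
          (Localization.AtPrime r.asIdeal),
        ← IsScalarTower.algebraMap_apply R S (Localization.AtPrime r.asIdeal)]
  exact Module.Flat.trans R (Localization.AtPrime q.asIdeal) (Localization.AtPrime r.asIdeal)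

/-- composition of naive rig-flatness -/
theorem flat_atPrime_comp {R S T : Type u} [CommRing R] [CommRing S] [CommRing T] [Algebra R S]
    [Algebra S T] [Algebra R T] [IsScalarTower R S T] [IsNoetherianRing S] (JS : Ideal S)
    (hRS : ∀ q : PrimeSpectrum S, IsRig JS q → Module.Flat R (Localization.AtPrime q.asIdeal))
    (t : PrimeSpectrum T) (ht : ¬ JS.map (algebraMap S T) ≤ t.asIdeal)
    (hST : Module.Flat S (Localization.AtPrime t.asIdeal)) :
    Module.Flat R (Localization.AtPrime t.asIdeal) := by
  set r := PrimeSpectrum.comap (algebraMap S T) t with hr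
  have hr' : ¬ JS ≤ r.asIdeal := fun h => ht (Ideal.map_le_iff_le_comap.2 h)
  haveI := flat_atPrime_of_flat_atPrime_isRig JS hRS r hr'
  letI : Algebra (Localization.AtPrime r.asIdeal) (Localization.AtPrime t.asIdeal) :=
    (Localization.localRingHom r.asIdeal t.asIdeal (algebraMap S T) rfl).toAlgebra
  haveI : IsScalarTower S (Localization.AtPrime r.asIdeal) (Localization.AtPrime t.asIdeal) :=
    IsScalarTower.of_algebraMap_eq fun x =>
      (IsScalarTower.algebraMap_apply S T (Localization.AtPrime t.asIdeal) x).trans
        (Localization.localRingHom_to_map r.asIdeal t.asIdeal (algebraMap S T) rfl x).symm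
  haveI : Module.Flat (Localization.AtPrime r.asIdeal) (Localization.AtPrime t.asIdeal) :=
    (Module.flat_iff_of_isLocalization (Localization.AtPrime r.asIdeal) r.asIdeal.primeCompl
      (Localization.AtPrime t.asIdeal)).2 hST
  haveI : IsScalarTower R (Localization.AtPrime r.asIdeal) (Localization.AtPrime t.asIdeal) :=
    IsScalarTower.of_algebraMap_eq fun a => by
      rw [IsScalarTower.algebraMap_apply R S (Localization.AtPrime r.asIdeal),
        ← IsScalarTower.algebraMap_apply S (Localization.AtPrime r.asIdeal)
          (Localization.AtPrime t.asIdeal),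
        IsScalarTower.algebraMap_apply S T (Localization.AtPrime t.asIdeal),
        ← IsScalarTower.algebraMap_apply R S T,
        ← IsScalarTower.algebraMap_apply R T (Localization.AtPrime t.asIdeal)]
  exact Module.Flat.trans R (Localization.AtPrime r.asIdeal) (Localization.AtPrime t.asIdeal)

end Naive

section CplMap

variable (R : Type u) [CommRing R] [IsNoetherianRing R] (J : Ideal R)
  (S : Type u) [CommRing S] [Algebra R S] [IsNoetherianRing S] (g : R)

/-- the canonical map between completed principal localizations exists -/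
theorem exists_cplMap :
    ∃ ψ : Cpl R J g →+* Cpl S (J.map (algebraMap R S)) (algebraMap R S g),
      ψ.comp (algebraMap (Localization.Away g) (Cpl R J g)) =
        (algebraMap (Localization.Away (algebraMap R S g))
          (Cpl S (J.map (algebraMap R S)) (algebraMap R S g))).comp
          (Localization.awayMap (algebraMap R S) g) := by
  haveI := cpl_isAdicComplete S (J.map (algebraMap R S)) (algebraMap R S g)
  set Sh := Cpl S (J.map (algebraMap R S)) (algebraMap R S g) with hSh
  let γ : Localization.Away g →+* Sh :=
    (algebraMap (Localization.Away (algebraMap R S g)) Sh).comp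
      (Localization.awayMap (algebraMap R S) g)
  have hγ : γ.comp (algebraMap R (Localization.Away g)) = algebraMap R Sh := by
    have h1 : (Localization.awayMap (algebraMap R S) g).comp (algebraMap R (Localization.Away g)) =
        (algebraMap S (Localization.Away (algebraMap R S g))).comp (algebraMap R S) :=
      IsLocalization.map_comp _
    show ((algebraMap (Localization.Away (algebraMap R S g)) Sh).comp
      (Localization.awayMap (algebraMap R S) g)).comp (algebraMap R (Localization.Away g)) = _
    rw [RingHom.comp_assoc, h1]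
    ext a
    rfl
  let γₐ : Localization.Away g →ₐ[R] Sh :=
    { γ with commutes' := fun r => RingHom.congr_fun hγ r }
  have hg : (J.map (algebraMap R (Localization.Away g))).map γₐ ≤
      (J.map (algebraMap R S)).map (algebraMap S Sh) := by
    have h2 : (J.map (algebraMap R (Localization.Away g))).map γₐ =
        (J.map (algebraMap R (Localization.Away g))).map γ := rfl
    have e1 := Ideal.map_map (I := J) (algebraMap R (Localization.Away g)) γ
    have e2 := Ideal.map_map (I := J) (algebraMap R S) (algebraMap S Sh)
    rw [h2, e1, hγ, e2, ← IsScalarTower.algebraMap_eq]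
  obtain ⟨χ, hχ⟩ := Groth.Agent.Helper2.AdicUniv.exists_lift (R := R)
    (J.map (algebraMap R (Localization.Away g))) ((J.map (algebraMap R S)).map (algebraMap S Sh))
    γₐ hg
  refine ⟨χ.toRingHom, ?_⟩
  refine RingHom.ext fun y => ?_
  exact hχ y

omit [IsNoetherianRing S] in
/-- ring maps out of `R_{g}` into a separated ring that are continuous and agree on `R` agree -/
theorem cplMap_unique (T : Type u) [CommRing T] [Algebra R T] (JT : Ideal T) [IsHausdorff JT T]
    (hJT : J.map (algebraMap R T) ≤ JT) (χ χ' : Cpl R J g →+* T)
    (h : χ.comp (algebraMap R (Cpl R J g)) = algebraMap R T)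
    (h' : χ'.comp (algebraMap R (Cpl R J g)) = algebraMap R T) : χ = χ' := by
  have key : ∀ ξ : Cpl R J g →+* T, ξ.comp (algebraMap R (Cpl R J g)) = algebraMap R T →
      ((J.map (algebraMap R (Localization.Away g))).map
        (algebraMap (Localization.Away g) (Cpl R J g))).map ξ ≤ JT := by
    intro ξ hξ
    rw [← cpl_map_eq]
    have e1 := Ideal.map_map (I := J) (algebraMap R (Cpl R J g)) ξ
    rw [e1, hξ]
    exact hJT
  apply Groth.Agent.Helper2.AdicUniv.lift_unique
    (J.map (algebraMap R (Localization.Away g))) (IsNoetherian.noetherian _) JT χ χ'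
    (key χ h) (key χ' h')
  have h2 : χ.comp (algebraMap (Localization.Away g) (Cpl R J g)) =
      χ'.comp (algebraMap (Localization.Away g) (Cpl R J g)) := by
    apply IsLocalization.ringHom_ext (Submonoid.powers g)
    rw [RingHom.comp_assoc, RingHom.comp_assoc, ← cpl_algebraMap_eq, h, h']
  exact fun c => RingHom.congr_fun h2 c

end CplMap

section Conv

theorem comp_flat_iff {R S : Type u} [CommRing R] [CommRing S] [Algebra R S] (T : Type u)
    [CommRing T] [Algebra S T] [Algebra R T] [IsScalarTower R S T] :
    ((algebraMap S T).comp (algebraMap R S)).Flat ↔ Module.Flat R T := by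
  rw [← IsScalarTower.algebraMap_eq]
  exact RingHom.flat_algebraMap_iff

end Conv

section Comp

variable (A : Type u) [CommRing A] [IsNoetherianRing A] (I : Ideal A) [IsAdicComplete I A]
  (B : Type u) [CommRing B] [Algebra A B] [IsNoetherianRing B]
  [IsAdicComplete (I.map (algebraMap A B)) B]
  (C : Type u) [CommRing C] [Algebra A C] [Algebra B C] [IsScalarTower A B C] [IsNoetherianRing C]

/-- the rig-flatness hypothesis, in the form of the statements -/
def RigFlat (A : Type u) [CommRing A] (I : Ideal A) (B : Type u) [CommRing B] [Algebra A B] :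
    Prop :=
  ∀ f : A, ∀ ψf : Cpl A I f →+* Cpl B (I.map (algebraMap A B)) (algebraMap A B f),
    ψf.comp (algebraMap (Localization.Away f) (Cpl A I f)) =
      (algebraMap (Localization.Away (algebraMap A B f))
        (Cpl B (I.map (algebraMap A B)) (algebraMap A B f))).comp
        (Localization.awayMap (algebraMap A B) f) →
    ∀ qf : PrimeSpectrum (Cpl B (I.map (algebraMap A B)) (algebraMap A B f)),
      IsRig (((I.map (algebraMap A B)).map
        (algebraMap B (Localization.Away (algebraMap A B f)))).map
        (algebraMap (Localization.Away (algebraMap A B f))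
          (Cpl B (I.map (algebraMap A B)) (algebraMap A B f)))) qf →
      ((algebraMap (Cpl B (I.map (algebraMap A B)) (algebraMap A B f))
        (Localization.AtPrime qf.asIdeal)).comp ψf).Flat

theorem comp_core (hAB : RigFlat A I B) (hBC : RigFlat B (I.map (algebraMap A B)) C)
    (e : A) (JC : Ideal C) (hJC : (I.map (algebraMap A B)).map (algebraMap B C) = JC)
    (c : C) (hc : algebraMap B C (algebraMap A B e) = c)
    (ψe : Cpl A I e →+* Cpl C JC c)
    (hψe : ψe.comp (algebraMap A (Cpl A I e)) = algebraMap A (Cpl C JC c))
    (qe : PrimeSpectrum (Cpl C JC c))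
    (hqe : IsRig ((JC.map (algebraMap C (Localization.Away c))).map
      (algebraMap (Localization.Away c) (Cpl C JC c))) qe) :
    ((algebraMap (Cpl C JC c) (Localization.AtPrime qe.asIdeal)).comp ψe).Flat := by
  subst hJC
  subst hc
  obtain ⟨ψ₁, h₁⟩ := exists_cplMap A I B e
  obtain ⟨ψ₂, h₂⟩ := exists_cplMap B (I.map (algebraMap A B)) C (algebraMap A B e)
  haveI := cpl_isNoetherianRing A I e
  haveI := cpl_isNoetherianRing B (I.map (algebraMap A B)) (algebraMap A B e)
  haveI := cpl_isNoetherianRing C ((I.map (algebraMap A B)).map (algebraMap B C))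
    (algebraMap B C (algebraMap A B e))
  haveI := cpl_isAdicComplete C ((I.map (algebraMap A B)).map (algebraMap B C))
    (algebraMap B C (algebraMap A B e))
  set Ah := Cpl A I e with hAh
  set Bh := Cpl B (I.map (algebraMap A B)) (algebraMap A B e) with hBh
  set Ch := Cpl C ((I.map (algebraMap A B)).map (algebraMap B C))
    (algebraMap B C (algebraMap A B e)) with hCh
  have h₁' := psi_comp_algebraMap A I B e ψ₁ h₁
  have h₂' := psi_comp_algebraMap B (I.map (algebraMap A B)) C (algebraMap A B e) ψ₂ h₂
  -- the ideal of definition of `Ch`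
  set JCh := (((I.map (algebraMap A B)).map (algebraMap B C)).map
    (algebraMap C (Localization.Away (algebraMap B C (algebraMap A B e))))).map
    (algebraMap (Localization.Away (algebraMap B C (algebraMap A B e))) Ch) with hJCh
  have hJCh' : JCh = ((I.map (algebraMap A B)).map (algebraMap B C)).map (algebraMap C Ch) :=
    (cpl_map_eq C _ _).symm
  haveI : IsAdicComplete JCh Ch := by rw [hJCh']; infer_instance
  have hACh : algebraMap A Ch = (algebraMap B Ch).comp (algebraMap A B) :=
    IsScalarTower.algebraMap_eq A B Ch
  have hBCh : algebraMap B Ch = (algebraMap C Ch).comp (algebraMap B C) :=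
    IsScalarTower.algebraMap_eq B C Ch
  have hJT : I.map (algebraMap A Ch) ≤ JCh := by
    have e1 := Ideal.map_map (I := I) (algebraMap A B) (algebraMap B Ch)
    have e2 := Ideal.map_map (I := I.map (algebraMap A B)) (algebraMap B C) (algebraMap C Ch)
    rw [hJCh', e2, ← hBCh, e1, ← hACh]
  have h12 : (ψ₂.comp ψ₁).comp (algebraMap A Ah) = algebraMap A Ch := by
    rw [RingHom.comp_assoc, h₁', IsScalarTower.algebraMap_eq A B Bh, ← RingHom.comp_assoc, h₂',
      ← hACh]
  have heq : ψe = ψ₂.comp ψ₁ := cplMap_unique A I e Ch JCh hJT ψe (ψ₂.comp ψ₁) hψe h12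
  letI : Algebra Ah Bh := ψ₁.toAlgebra
  letI : Algebra Bh Ch := ψ₂.toAlgebra
  letI : Algebra Ah Ch := ψe.toAlgebra
  haveI : IsScalarTower Ah Bh Ch := IsScalarTower.of_algebraMap_eq fun x =>
    RingHom.congr_fun heq x
  set JBh := ((I.map (algebraMap A B)).map
    (algebraMap B (Localization.Away (algebraMap A B e)))).map
    (algebraMap (Localization.Away (algebraMap A B e)) Bh) with hJBh
  have hRS : ∀ q : PrimeSpectrum Bh, IsRig JBh q →
      Module.Flat Ah (Localization.AtPrime q.asIdeal) := fun q hq =>
    (comp_flat_iff _).1 (hAB e ψ₁ h₁ q hq)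
  have ht : ¬ JBh.map (algebraMap Bh Ch) ≤ qe.asIdeal := by
    have e3 : JBh = (I.map (algebraMap A B)).map (algebraMap B Bh) := (cpl_map_eq B _ _).symm
    have e4 := Ideal.map_map (I := I.map (algebraMap A B)) (algebraMap B Bh) (algebraMap Bh Ch)
    have e5 : (algebraMap Bh Ch).comp (algebraMap B Bh) = algebraMap B Ch := h₂'
    have e2 := Ideal.map_map (I := I.map (algebraMap A B)) (algebraMap B C) (algebraMap C Ch)
    rw [e3, e4, e5, hBCh, ← e2, ← hJCh']
    exact hqe.1
  have hST : Module.Flat Bh (Localization.AtPrime qe.asIdeal) :=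
    (comp_flat_iff _).1 (hBC (algebraMap A B e) ψ₂ h₂ qe hqe)
  have := flat_atPrime_comp (R := Ah) (S := Bh) (T := Ch) JBh hRS qe ht hST
  exact (comp_flat_iff (R := Ah) (S := Ch) _).2 this

theorem main_S8843 (hAB : RigFlat A I B) (hBC : RigFlat B (I.map (algebraMap A B)) C) :
    RigFlat A I C := by
  intro e ψe hψe qe hqe
  have hJC : (I.map (algebraMap A B)).map (algebraMap B C) = I.map (algebraMap A C) := by
    rw [Ideal.map_map, ← IsScalarTower.algebraMap_eq]
  exact comp_core A I B C hAB hBC e (I.map (algebraMap A C)) hJC (algebraMap A C e)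
    (IsScalarTower.algebraMap_apply A B C e).symm ψe (psi_comp_algebraMap A I C e ψe hψe) qe hqe

end Comp

end Groth.Agent.Helper3.RigPt
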