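import Mathlib
import Groth.Agent.Lib.Helper3.RigPt8

/-!
# Completed principal localization preserves flatness
-/

set_option autoImplicit false
universe u

namespace Groth.Agent.Helper3.RigPt

open Groth.Agent.Helper3.AdicDim Groth.Agent.Helper3.CplLoc

section CF

variable (R : Type u) [CommRing R] [IsNoetherianRing R] (J : Ideal R) (g : R)

/-- a prime of `R_{g}` containing `J` is extended from `R` -/
theorem cpl_prime_eq_map (P : Ideal (Cpl R J g)) [P.IsPrime]
    (hP : J.map (algebraMap R (Cpl R J g)) ≤ P) :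
    P = (P.comap (algebraMap R (Cpl R J g))).map (algebraMap R (Cpl R J g)) := by
  refine le_antisymm ?_ Ideal.map_comap_le
  intro x hx
  obtain ⟨y, hy⟩ := cpl_exists_sub_mem R J g 1 x
  rw [pow_one] at hy
  obtain ⟨⟨r, s⟩, hr⟩ := IsLocalization.surj (Submonoid.powers g) y
  obtain ⟨k, hk⟩ := s.2
  have hJle : J ≤ P.comap (algebraMap R (Cpl R J g)) := Ideal.map_le_iff_le_comap.1 hP
  have hιy : algebraMap (Localization.Away g) (Cpl R J g) y ∈ P := by
    have := P.sub_mem hx (hP hy)
    rwa [sub_sub_cancel] at this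
  have hr' : algebraMap (Localization.Away g) (Cpl R J g) y * algebraMap R (Cpl R J g) (s : R) =
      algebraMap R (Cpl R J g) r := by
    have := congrArg (algebraMap (Localization.Away g) (Cpl R J g)) hr
    rw [map_mul] at this
    rw [cpl_algebraMap_eq]
    exact this
  have hsu : IsUnit (algebraMap R (Cpl R J g) (s : R)) := by
    rw [← hk, map_pow]
    exact (cpl_isUnit R J g).pow k
  have hrP : r ∈ P.comap (algebraMap R (Cpl R J g)) := by
    rw [Ideal.mem_comap, ← hr']
    exact P.mul_mem_right _ hιy
  obtain ⟨u, hu⟩ := hsu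
  have hy2 : algebraMap (Localization.Away g) (Cpl R J g) y =
      algebraMap R (Cpl R J g) r * ((u⁻¹ : (Cpl R J g)ˣ) : Cpl R J g) := by
    rw [← hr', ← hu, mul_assoc, Units.mul_inv, mul_one]
  have h1 : algebraMap (Localization.Away g) (Cpl R J g) y ∈
      (P.comap (algebraMap R (Cpl R J g))).map (algebraMap R (Cpl R J g)) := by
    rw [hy2]
    exact Ideal.mul_mem_right _ _ (Ideal.mem_map_of_mem _ hrP)
  have h2 : x - algebraMap (Localization.Away g) (Cpl R J g) y ∈
      (P.comap (algebraMap R (Cpl R J g))).map (algebraMap R (Cpl R J g)) :=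
    Ideal.map_mono hJle hy
  have := Ideal.add_mem _ h2 h1
  rwa [sub_add_cancel] at this

variable (S : Type u) [CommRing S] [Algebra R S] [IsNoetherianRing S]
  [Algebra (Cpl R J g) (Cpl S (J.map (algebraMap R S)) (algebraMap R S g))]
  [IsScalarTower R (Cpl R J g) (Cpl S (J.map (algebraMap R S)) (algebraMap R S g))]

/-- completed principal localization preserves flatness -/
theorem cpl_flat_of_flat [Module.Flat R S] :
    Module.Flat (Cpl R J g) (Cpl S (J.map (algebraMap R S)) (algebraMap R S g)) := by
  haveI := cpl_isNoetherianRing R J g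
  haveI := cpl_isNoetherianRing S (J.map (algebraMap R S)) (algebraMap R S g)
  haveI := cpl_isAdicComplete S (J.map (algebraMap R S)) (algebraMap R S g)
  haveI : Module.Flat S (Cpl S (J.map (algebraMap R S)) (algebraMap R S g)) := cpl_flat S _ _
  set Rh := Cpl R J g with hRh
  set Sh := Cpl S (J.map (algebraMap R S)) (algebraMap R S g) with hSh
  haveI : Module.Flat R Sh := Module.Flat.trans R S Sh
  refine Module.flat_of_isLocalized_maximal Sh Sh (fun n _ => Localization.AtPrime n)
    (fun n _ => Algebra.linearMap Sh (Localization.AtPrime n)) ?_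
  intro n hn
  have hJn : (J.map (algebraMap R S)).map (algebraMap S Sh) ≤ n :=
    (IsAdicComplete.le_jacobson_bot _).trans (jacobson_bot_le_of_isMaximal hn)
  set P := n.comap (algebraMap Rh Sh) with hP
  have hJP : J.map (algebraMap R Rh) ≤ P := by
    rw [Ideal.map_le_iff_le_comap]
    intro j hj
    rw [Ideal.mem_comap, hP, Ideal.mem_comap, ← IsScalarTower.algebraMap_apply R Rh Sh,
      IsScalarTower.algebraMap_apply R S Sh]
    exact hJn (Ideal.mem_map_of_mem _ (Ideal.mem_map_of_mem _ hj))
  set p := P.comap (algebraMap R Rh) with hp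
  have hPeq : P = p.map (algebraMap R Rh) := cpl_prime_eq_map R J g P hJP
  set R' := Localization.AtPrime P with hR'
  set M := Localization.AtPrime n with hM
  letI : Algebra R' M := (Localization.localRingHom P n (algebraMap Rh Sh) rfl).toAlgebra
  haveI : IsScalarTower Rh R' M := IsScalarTower.of_algebraMap_eq fun x => by
    exact (IsScalarTower.algebraMap_apply Rh Sh M x).trans
      (Localization.localRingHom_to_map P n (algebraMap Rh Sh) rfl x).symm
  haveI : IsScalarTower R R' M := IsScalarTower.of_algebraMap_eq fun a => by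
    rw [IsScalarTower.algebraMap_apply R Rh R', ← IsScalarTower.algebraMap_apply Rh R' M,
      ← IsScalarTower.algebraMap_apply R Rh M]
  haveI : IsLocalHom (algebraMap R' M) := Localization.isLocalHom_localRingHom _ _ _ rfl
  have hm : p.map (algebraMap R R') = IsLocalRing.maximalIdeal R' := by
    have h1 : IsLocalRing.maximalIdeal R' = P.map (algebraMap Rh R') :=
      Localization.AtPrime.map_eq_maximalIdeal.symm
    have h2 : P.map (algebraMap Rh R') = (p.map (algebraMap R Rh)).map (algebraMap Rh R') :=
      congrArg (Ideal.map (algebraMap Rh R')) hPeq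
    have e := Ideal.map_map (I := p) (algebraMap R Rh) (algebraMap Rh R')
    rw [h1, h2, e, ← IsScalarTower.algebraMap_eq]
  haveI : Module.Flat Sh M := IsLocalization.flat M n.primeCompl
  haveI : Module.Flat R M := Module.Flat.trans R Sh M
  haveI : Module.Flat R' M := flat_of_flat_of_map_eq_maximalIdeal R R' M p hm
  exact (Module.flat_iff_of_isLocalization R' P.primeCompl M).1 inferInstance

end CF

section Descent

open TensorProduct LinearMap Module
open AlgebraTensorModule in
/-- flatness descends along a faithfully flat module over an intermediate ring -/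
theorem flat_of_faithfullyFlat_of_flat (R S M : Type u) [CommRing R] [CommRing S] [Algebra R S]
    [AddCommGroup M] [Module R M] [Module S M] [IsScalarTower R S M]
    [Module.FaithfullyFlat S M] [Module.Flat R M] : Module.Flat R S := by
  rw [Flat.iff_lTensor_preserves_injective_linearMap]
  intro N P _ _ _ _ f hf
  have h1 : Function.Injective (LinearMap.lTensor M f) :=
    Flat.lTensor_preserves_injective_linearMap _ hf
  rw [← coe_lTensor (A := S), ← EquivLike.injective_comp (cancelBaseChange R S S _ _),
    ← LinearEquiv.coe_coe, ← LinearMap.coe_comp, lTensor_comp_cancelBaseChange,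
    LinearMap.coe_comp, LinearEquiv.coe_coe, EquivLike.comp_injective] at h1
  have h2 : Function.Injective (LinearMap.lTensor M (AlgebraTensorModule.lTensor S S f)) := h1
  rw [Module.FaithfullyFlat.lTensor_injective_iff_injective] at h2
  exact h2

end Descent

section Lift

variable (R : Type u) [CommRing R] [IsNoetherianRing R] (J : Ideal R) (g : R)

/-- a prime of `R` containing `J` and not `g` lifts to `R_{g}` -/
theorem exists_prime_cpl (p0 : Ideal R) [hp0 : p0.IsPrime] (hJ : J ≤ p0) (hg : g ∉ p0) :
    ∃ P : Ideal (Cpl R J g), P.IsPrime ∧ P.comap (algebraMap R (Cpl R J g)) = p0 := by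
  have hdisj : Disjoint (Submonoid.powers g : Set R) (p0 : Set R) :=
    (Ideal.disjoint_powers_iff_notMem g hp0.isRadical).2 hg
  set Jg := J.map (algebraMap R (Localization.Away g)) with hJg
  set p0g := p0.map (algebraMap R (Localization.Away g)) with hp0g
  haveI hp0g' : p0g.IsPrime :=
    IsLocalization.isPrime_of_isPrime_disjoint (Submonoid.powers g) _ p0 hp0 hdisj
  have hcomap : p0g.comap (algebraMap R (Localization.Away g)) = p0 :=
    IsLocalization.comap_map_of_isPrime_disjoint (Submonoid.powers g) _ hp0 hdisj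
  have hle : Jg ^ 1 ≤ p0g := by
    rw [pow_one]; exact Ideal.map_mono hJ
  haveI : (p0g.map (Ideal.Quotient.mk (Jg ^ 1))).IsPrime :=
    Ideal.map_isPrime_of_surjective Ideal.Quotient.mk_surjective (by rw [Ideal.mk_ker]; exact hle)
  refine ⟨(p0g.map (Ideal.Quotient.mk (Jg ^ 1))).comap (AdicCompletion.evalₐ Jg 1).toRingHom,
    inferInstance, ?_⟩
  ext x
  rw [Ideal.mem_comap, Ideal.mem_comap, ← hcomap, Ideal.mem_comap, cpl_algebraMap_eq,
    RingHom.comp_apply]
  show (AdicCompletion.evalₐ Jg 1) (algebraMap (Localization.Away g) (Cpl R J g) _) ∈ _ ↔ _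
  rw [AlgHom.commutes, Ideal.Quotient.algebraMap_eq, Ideal.mem_quotient_iff_mem hle]

end Lift

section Primed

variable (R : Type u) [CommRing R] [IsNoetherianRing R] (J : Ideal R) (g : R)
  (S : Type u) [CommRing S] [Algebra R S] [IsNoetherianRing S]
  (JS : Ideal S) (hJS : J.map (algebraMap R S) = JS) (c : S) (hc : algebraMap R S g = c)

include hJS hc in
theorem exists_cplMap' : ∃ ψ : Cpl R J g →+* Cpl S JS c,
    ψ.comp (algebraMap R (Cpl R J g)) = algebraMap R (Cpl S JS c) := by
  subst hJS; subst hc
  obtain ⟨ψ, h⟩ := exists_cplMap R J S g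
  exact ⟨ψ, psi_comp_algebraMap R J S g ψ h⟩

variable [Algebra (Cpl R J g) (Cpl S JS c)] [IsScalarTower R (Cpl R J g) (Cpl S JS c)]

include hJS hc in
theorem cpl_flat_of_flat' [Module.Flat R S] : Module.Flat (Cpl R J g) (Cpl S JS c) := by
  subst hJS; subst hc
  exact cpl_flat_of_flat R J g S

include hJS hc in
/-- primes of `R_{g}` containing `J` lift along a faithfully flat `R → S` -/
theorem exists_prime_comap_eq [Module.FaithfullyFlat R S] (m : Ideal (Cpl R J g)) [hm : m.IsPrime]
    (hJm : J.map (algebraMap R (Cpl R J g)) ≤ m) :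
    ∃ m' : Ideal (Cpl S JS c), m'.IsPrime ∧
      m'.comap (algebraMap (Cpl R J g) (Cpl S JS c)) = m := by
  set m0 := m.comap (algebraMap R (Cpl R J g)) with hm0
  have hJm0 : J ≤ m0 := Ideal.map_le_iff_le_comap.1 hJm
  have hgm0 : g ∉ m0 := fun h => hm.ne_top (Ideal.eq_top_of_isUnit_mem _ h (cpl_isUnit R J g))
  obtain ⟨m0', hm0'p, hm0'⟩ := Ideal.exists_isPrime_liesOver_of_faithfullyFlat (B := S) m0
  have hm0'c : m0'.comap (algebraMap R S) = m0 := hm0'.over.symm
  have hJS' : JS ≤ m0' := by
    rw [← hJS, Ideal.map_le_iff_le_comap, hm0'c]; exact hJm0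
  have hc' : c ∉ m0' := by
    rw [← hc]
    intro h
    exact hgm0 (by rw [← hm0'c]; exact h)
  obtain ⟨m', hm'p, hm'⟩ := exists_prime_cpl S JS c m0' hJS' hc'
  refine ⟨m', hm'p, ?_⟩
  set m'' := m'.comap (algebraMap (Cpl R J g) (Cpl S JS c)) with hm''
  have hcomap'' : m''.comap (algebraMap R (Cpl R J g)) = m0 := by
    rw [hm'', Ideal.comap_comap, ← IsScalarTower.algebraMap_eq,
      IsScalarTower.algebraMap_eq R S (Cpl S JS c), ← Ideal.comap_comap, hm', hm0'c]
  have hJm'' : J.map (algebraMap R (Cpl R J g)) ≤ m'' := by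
    rw [Ideal.map_le_iff_le_comap, hcomap'']; exact hJm0
  rw [cpl_prime_eq_map R J g m'' hJm'', hcomap'', hm0]
  exact (cpl_prime_eq_map R J g m hJm).symm

include hJS hc in
theorem cpl_faithfullyFlat [Module.FaithfullyFlat R S] :
    Module.FaithfullyFlat (Cpl R J g) (Cpl S JS c) := by
  haveI := cpl_flat_of_flat' R J g S JS hJS c hc
  haveI := cpl_isAdicComplete R J g
  refine ⟨fun m hm => ?_⟩
  have hJm : J.map (algebraMap R (Cpl R J g)) ≤ m :=
    (IsAdicComplete.le_jacobson_bot _).trans (jacobson_bot_le_of_isMaximal hm)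
  haveI := hm.isPrime
  obtain ⟨m', hm'p, hm'⟩ := exists_prime_comap_eq R J g S JS hJS c hc m hJm
  rw [Ideal.smul_top_eq_map, ← hm']
  exact (Submodule.restrictScalars_eq_top_iff _ _ _).ne.mpr
    fun top ↦ hm'p.ne_top <| top_le_iff.mp <| top ▸ Ideal.map_comap_le

end Primed

end Groth.Agent.Helper3.RigPt
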