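import Mathlib
import Groth.Agent.Lib.Helper3.RigPt9

/-!
# Descent of rig-flatness along faithfully flat maps (S8844)
-/

set_option autoImplicit false
universe u

namespace Groth.Agent.Helper3.RigPt

open Groth.Agent.Helper3.AdicDim Groth.Agent.Helper3.CplLoc

section S8844

variable (A : Type u) [CommRing A] [IsNoetherianRing A] (I : Ideal A)
  (B : Type u) [CommRing B] [Algebra A B] [IsNoetherianRing B]
  (A' : Type u) [CommRing A'] [Algebra A A'] [IsNoetherianRing A']
  (B' : Type u) [CommRing B'] [Algebra A B'] [Algebra B B'] [Algebra A' B']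
  [IsScalarTower A B B'] [IsScalarTower A A' B'] [IsNoetherianRing B']

theorem main_S8844 [Module.Flat A A'] [Module.FaithfullyFlat B B']
    (h : RigFlat A' (I.map (algebraMap A A')) B') : RigFlat A I B := by
  intro f ψ hψ q hq
  set JB' := (I.map (algebraMap A A')).map (algebraMap A' B') with hJB'
  set c := algebraMap A' B' (algebraMap A A' f) with hc
  have hJ1 : (I.map (algebraMap A B)).map (algebraMap B B') = JB' := by
    rw [hJB', Ideal.map_map, Ideal.map_map, ← IsScalarTower.algebraMap_eq,
      ← IsScalarTower.algebraMap_eq]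
  have hc1 : algebraMap B B' (algebraMap A B f) = c := by
    rw [hc, ← IsScalarTower.algebraMap_apply, ← IsScalarTower.algebraMap_apply]
  obtain ⟨α, hα⟩ := exists_cplMap' A I f A' (I.map (algebraMap A A')) rfl (algebraMap A A' f) rfl
  obtain ⟨ψ', hψ'⟩ := exists_cplMap A' (I.map (algebraMap A A')) B' (algebraMap A A' f)
  obtain ⟨β, hβ⟩ := exists_cplMap' B (I.map (algebraMap A B)) (algebraMap A B f) B' JB' hJ1 c hc1
  have hψA := psi_comp_algebraMap A I B f ψ hψ
  have hψ'A := psi_comp_algebraMap A' (I.map (algebraMap A A')) B' (algebraMap A A' f) ψ' hψ'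
  haveI := cpl_isNoetherianRing A I f
  haveI := cpl_isNoetherianRing B (I.map (algebraMap A B)) (algebraMap A B f)
  haveI := cpl_isNoetherianRing A' (I.map (algebraMap A A')) (algebraMap A A' f)
  haveI := cpl_isNoetherianRing B' JB' c
  haveI := cpl_isAdicComplete B' JB' c
  set Af := Cpl A I f with hAf
  set Bf := Cpl B (I.map (algebraMap A B)) (algebraMap A B f) with hBf
  set A'f := Cpl A' (I.map (algebraMap A A')) (algebraMap A A' f) with hA'f
  set B'f := Cpl B' JB' c with hB'f
  have hJT : I.map (algebraMap A B'f) ≤ JB'.map (algebraMap B' B'f) := by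
    have e0 : JB' = I.map (algebraMap A B') := by
      rw [hJB', Ideal.map_map, ← IsScalarTower.algebraMap_eq]
    have e2 := Ideal.map_map (I := I) (algebraMap A B') (algebraMap B' B'f)
    have e3 : JB'.map (algebraMap B' B'f) = (I.map (algebraMap A B')).map (algebraMap B' B'f) :=
      congrArg (Ideal.map (algebraMap B' B'f)) e0
    rw [e3, e2, ← IsScalarTower.algebraMap_eq]
  have h1 : (β.comp ψ).comp (algebraMap A Af) = algebraMap A B'f := by
    rw [RingHom.comp_assoc, hψA, IsScalarTower.algebraMap_eq A B Bf, ← RingHom.comp_assoc, hβ,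
      ← IsScalarTower.algebraMap_eq A B B'f]
  have h2 : (ψ'.comp α).comp (algebraMap A Af) = algebraMap A B'f := by
    rw [RingHom.comp_assoc, hα, IsScalarTower.algebraMap_eq A A' A'f, ← RingHom.comp_assoc, hψ'A,
      ← IsScalarTower.algebraMap_eq A A' B'f]
  have heq : β.comp ψ = ψ'.comp α :=
    cplMap_unique A I f B'f (JB'.map (algebraMap B' B'f)) hJT _ _ h1 h2
  letI : Algebra Af Bf := ψ.toAlgebra
  letI : Algebra Af A'f := α.toAlgebra
  letI : Algebra A'f B'f := ψ'.toAlgebra
  letI : Algebra Bf B'f := β.toAlgebra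
  letI : Algebra Af B'f := (β.comp ψ).toAlgebra
  haveI : IsScalarTower Af Bf B'f := IsScalarTower.of_algebraMap_eq fun x => rfl
  haveI : IsScalarTower Af A'f B'f := IsScalarTower.of_algebraMap_eq fun x =>
    RingHom.congr_fun heq x
  haveI : IsScalarTower A Af A'f := IsScalarTower.of_algebraMap_eq fun x =>
    (RingHom.congr_fun hα x).symm
  haveI : IsScalarTower B Bf B'f := IsScalarTower.of_algebraMap_eq fun x =>
    (RingHom.congr_fun hβ x).symm
  haveI : Module.Flat Af A'f :=
    cpl_flat_of_flat' A I f A' (I.map (algebraMap A A')) rfl (algebraMap A A' f) rfl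
  haveI : Module.FaithfullyFlat Bf B'f :=
    cpl_faithfullyFlat B (I.map (algebraMap A B)) (algebraMap A B f) B' JB' hJ1 c hc1
  -- ideals of definition
  set JBf := ((I.map (algebraMap A B)).map
    (algebraMap B (Localization.Away (algebraMap A B f)))).map
    (algebraMap (Localization.Away (algebraMap A B f)) Bf) with hJBf
  set JB'f := (JB'.map (algebraMap B' (Localization.Away c))).map
    (algebraMap (Localization.Away c) B'f) with hJB'f
  have hJmap : JBf.map (algebraMap Bf B'f) = JB'f := by
    have e1 : JBf = (I.map (algebraMap A B)).map (algebraMap B Bf) := (cpl_map_eq B _ _).symm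
    have e2 : JB'f = JB'.map (algebraMap B' B'f) := (cpl_map_eq B' _ _).symm
    have e3 := Ideal.map_map (I := I.map (algebraMap A B)) (algebraMap B Bf) (algebraMap Bf B'f)
    have e4 := Ideal.map_map (I := I.map (algebraMap A B)) (algebraMap B B') (algebraMap B' B'f)
    have e5 : JB'.map (algebraMap B' B'f) =
        ((I.map (algebraMap A B)).map (algebraMap B B')).map (algebraMap B' B'f) :=
      congrArg (Ideal.map (algebraMap B' B'f)) hJ1.symm
    rw [e1, e2, e3, ← IsScalarTower.algebraMap_eq, e5, e4, ← IsScalarTower.algebraMap_eq]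
  -- lift `q`
  obtain ⟨q1, hq1p, hq1⟩ := Ideal.exists_isPrime_liesOver_of_faithfullyFlat (B := B'f) q.asIdeal
  have hq1c : q1.comap (algebraMap Bf B'f) = q.asIdeal := hq1.over.symm
  have hq1J : ¬ JB'f ≤ (⟨q1, hq1p⟩ : PrimeSpectrum B'f).asIdeal := by
    intro hle
    apply hq.1
    rw [← hq1c, ← Ideal.map_le_iff_le_comap, hJmap]
    exact hle
  obtain ⟨q', hq1q', hq'⟩ := exists_isRig_ge JB'f ⟨q1, hq1p⟩ hq1J
  have hcomap : PrimeSpectrum.comap (algebraMap Bf B'f) q' = q := by
    apply hq.2
    · intro x hx
      have : x ∈ q1.comap (algebraMap Bf B'f) := by rw [hq1c]; exact hx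
      exact hq1q' this
    · intro hle
      apply hq'.1
      rw [← hJmap, Ideal.map_le_iff_le_comap]
      exact hle
  have hcomap' : q.asIdeal = q'.asIdeal.comap (algebraMap Bf B'f) := by
    rw [← hcomap]; rfl
  -- flatness
  set N := Localization.AtPrime q'.asIdeal with hN
  set M := Localization.AtPrime q.asIdeal with hM
  haveI hNflat : Module.Flat A'f N := (comp_flat_iff _).1 (h (algebraMap A A' f) ψ' hψ' q' hq')
  haveI : IsScalarTower Af A'f N := IsScalarTower.of_algebraMap_eq fun x => by
    rw [IsScalarTower.algebraMap_apply Af B'f N, IsScalarTower.algebraMap_apply Af A'f B'f,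
      ← IsScalarTower.algebraMap_apply A'f B'f N]
  haveI : Module.Flat Af N := Module.Flat.trans Af A'f N
  letI : Algebra M N :=
    (Localization.localRingHom q.asIdeal q'.asIdeal (algebraMap Bf B'f) hcomap').toAlgebra
  haveI : IsScalarTower Bf M N := IsScalarTower.of_algebraMap_eq fun x => by
    exact (IsScalarTower.algebraMap_apply Bf B'f N x).trans
      (Localization.localRingHom_to_map q.asIdeal q'.asIdeal (algebraMap Bf B'f) hcomap' x).symm
  haveI : Module.Flat B'f N := IsLocalization.flat N q'.asIdeal.primeCompl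
  haveI : Module.Flat Bf N := Module.Flat.trans Bf B'f N
  haveI : Module.Flat M N :=
    (Module.flat_iff_of_isLocalization M q.asIdeal.primeCompl N).2 inferInstance
  haveI : IsLocalHom (algebraMap M N) := Localization.isLocalHom_localRingHom _ _ _ hcomap'
  haveI : Module.FaithfullyFlat M N := Module.FaithfullyFlat.of_flat_of_isLocalHom
  haveI : IsScalarTower Af M N := IsScalarTower.of_algebraMap_eq fun x => by
    rw [IsScalarTower.algebraMap_apply Af Bf M, ← IsScalarTower.algebraMap_apply Bf M N,
      IsScalarTower.algebraMap_apply Bf B'f N, ← IsScalarTower.algebraMap_apply Af Bf B'f,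
      ← IsScalarTower.algebraMap_apply Af B'f N]
  have hflat : Module.Flat Af M := flat_of_faithfullyFlat_of_flat Af M N
  exact (comp_flat_iff (R := Af) (S := Bf) _).2 hflat

end S8844

end Groth.Agent.Helper3.RigPt
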