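import Mathlib
import Groth.Agent.Lib.Helper3.RigPt10

/-!
# Rig-flatness: base change along flat maps that are unramified modulo `I` (tools for S8845)
-/

set_option autoImplicit false
universe u

namespace Groth.Agent.Helper3.RigPt

open Groth.Agent.Helper3.AdicDim Groth.Agent.Helper3.CplLoc
open scoped TensorProduct
open KaehlerDifferential

section Main'

variable (A : Type u) [CommRing A] [IsNoetherianRing A] (I : Ideal A) [IsAdicComplete I A]
  (B : Type u) [CommRing B] [Algebra A B] [IsNoetherianRing B]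
  [IsAdicComplete (I.map (algebraMap A B)) B]

/-- `main_S8838` with the étale hypothesis weakened to unramifiedness over `A` -/
theorem main_S8838' (hft : Algebra.FiniteType A (B ⧸ (I.map (algebraMap A B))))
    [Algebra.FormallyUnramified A (B ⧸ (I.map (algebraMap A B)))]
    (q : PrimeSpectrum B) (hq : IsRig (I.map (algebraMap A B)) q)
    (hp : IsRig I (PrimeSpectrum.comap (algebraMap A B) q)) :
    ((PrimeSpectrum.comap (algebraMap A B) q).asIdeal.map (algebraMap A B)).map
      (algebraMap B (Localization.AtPrime q.asIdeal)) =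
    IsLocalRing.maximalIdeal (Localization.AtPrime q.asIdeal) := by
  set p := PrimeSpectrum.comap (algebraMap A B) q with hpdef
  set P := p.asIdeal with hP
  set PB := P.map (algebraMap A B) with hPB
  have hPBq : PB ≤ q.asIdeal := Ideal.map_le_iff_le_comap.2 le_rfl
  obtain ⟨hloc, hmax, hcompl⟩ := isLocalRing_quotient_of_isRig A I p hp
  haveI := hloc
  haveI : IsAdicComplete (IsLocalRing.maximalIdeal (A ⧸ P)) (A ⧸ P) := by
    rw [hmax]; exact hcompl
  set m' := IsLocalRing.maximalIdeal (A ⧸ P) with hm'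
  set J := m'.map (algebraMap (A ⧸ P) (B ⧸ PB)) with hJ
  -- `I B' ≤ M'` for every maximal ideal
  have hIB : I.map (algebraMap A B) ≤ (⊥ : Ideal B).jacobson :=
    IsAdicComplete.le_jacobson_bot (I.map (algebraMap A B))
  have hJM : ∀ M' : Ideal (B ⧸ PB), M'.IsMaximal → J ≤ M' := by
    intro M' hM'
    haveI := hM'
    have hcm : (M'.comap (Ideal.Quotient.mk PB)).IsMaximal :=
      Ideal.comap_isMaximal_of_surjective _ Ideal.Quotient.mk_surjective
    have h1 : I.map (algebraMap A B) ≤ M'.comap (Ideal.Quotient.mk PB) :=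
      hIB.trans (jacobson_bot_le_of_isMaximal hcm)
    have h2 : (I.map (Ideal.Quotient.mk P)).map (algebraMap (A ⧸ P) (B ⧸ PB)) ≤ M' := by
      rw [Ideal.map_map]
      have : (algebraMap (A ⧸ P) (B ⧸ PB)).comp (Ideal.Quotient.mk P) =
          (Ideal.Quotient.mk PB).comp (algebraMap A B) := rfl
      rw [this, ← Ideal.map_map]
      exact Ideal.map_le_iff_le_comap.2 h1
    rw [hJ, hmax]
    refine (Ideal.map_radical_le _).trans ?_
    exact (Ideal.IsPrime.radical_le_iff hM'.isPrime).2 h2
  have hjac : J ≤ (⊥ : Ideal (B ⧸ PB)).jacobson := by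
    rw [Ideal.jacobson]
    exact le_sInf fun M' hM' => hJM M' hM'.2
  -- the closed fibre is unramified of finite type
  have hIJ : ∀ x ∈ I, Ideal.Quotient.mk PB (algebraMap A B x) ∈ J := by
    intro x hx
    have h1 : Ideal.Quotient.mk P x ∈ m' := by
      rw [hmax]; exact Ideal.le_radical (Ideal.mem_map_of_mem _ hx)
    exact Ideal.mem_map_of_mem (algebraMap (A ⧸ P) (B ⧸ PB)) h1
  let g : B →ₐ[A] ((B ⧸ PB) ⧸ J) := IsScalarTower.toAlgHom A B _
  have hg : ∀ a ∈ I.map (algebraMap A B), g a = 0 := by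
    have : I.map (algebraMap A B) ≤ RingHom.ker g.toRingHom := by
      rw [Ideal.map_le_iff_le_comap]
      intro x hx
      show Ideal.Quotient.mk J (Ideal.Quotient.mk PB (algebraMap A B x)) = 0
      exact Ideal.Quotient.eq_zero_iff_mem.2 (hIJ x hx)
    exact fun a ha => this ha
  let φ : (B ⧸ I.map (algebraMap A B)) →ₐ[A] ((B ⧸ PB) ⧸ J) := Ideal.Quotient.liftₐ _ g hg
  have hφ : Function.Surjective φ := by
    intro c
    obtain ⟨c1, rfl⟩ := Ideal.Quotient.mk_surjective c
    obtain ⟨c2, rfl⟩ := Ideal.Quotient.mk_surjective c1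
    exact ⟨Ideal.Quotient.mk _ c2, rfl⟩
  haveI : Algebra.FormallyUnramified A ((B ⧸ PB) ⧸ J) :=
    Algebra.FormallyUnramified.of_surjective φ hφ
  haveI : Algebra.FormallyUnramified (A ⧸ P) ((B ⧸ PB) ⧸ J) :=
    Algebra.FormallyUnramified.of_restrictScalars A (A ⧸ P) _
  haveI : Algebra.FiniteType A ((B ⧸ PB) ⧸ J) := hft.of_surjective φ hφ
  haveI : Algebra.FiniteType (A ⧸ P) ((B ⧸ PB) ⧸ J) :=
    Algebra.FiniteType.of_restrictScalars_finiteType A (A ⧸ P) _
  obtain ⟨hfin, hunr⟩ := finite_and_unramified_of_fibre (A ⧸ P) (B ⧸ PB) hjac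
  haveI := hfin
  haveI := hunr
  -- the prime `q' = q / PB`
  haveI : IsDomain (A ⧸ P) := Ideal.Quotient.isDomain P
  set q' : Ideal (B ⧸ PB) := q.asIdeal.map (Ideal.Quotient.mk PB) with hq'
  haveI hq'prime : q'.IsPrime :=
    Ideal.map_isPrime_of_surjective Ideal.Quotient.mk_surjective (by rw [Ideal.mk_ker]; exact hPBq)
  have hmemq' : ∀ b : B, Ideal.Quotient.mk PB b ∈ q' ↔ b ∈ q.asIdeal := fun b =>
    Ideal.mem_quotient_iff_mem hPBq
  have hcomap : ∀ y : A ⧸ P, algebraMap (A ⧸ P) (B ⧸ PB) y ∈ q' → y = 0 := by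
    intro y hy
    obtain ⟨a, rfl⟩ := Ideal.Quotient.mk_surjective y
    have h1 : Ideal.Quotient.mk PB (algebraMap A B a) ∈ q' := hy
    rw [hmemq'] at h1
    exact Ideal.Quotient.eq_zero_iff_mem.2 h1
  set S := Localization.AtPrime q' with hS
  haveI : Algebra.FormallyUnramified (B ⧸ PB) S :=
    Algebra.FormallyUnramified.of_isLocalization q'.primeCompl
  haveI : Algebra.FormallyUnramified (A ⧸ P) S := Algebra.FormallyUnramified.comp _ (B ⧸ PB) _
  haveI : Algebra.EssFiniteType (B ⧸ PB) S := Algebra.EssFiniteType.of_isLocalization S q'.primeCompl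
  haveI : Algebra.EssFiniteType (A ⧸ P) S := Algebra.EssFiniteType.comp _ (B ⧸ PB) _
  have hunits : ∀ y : nonZeroDivisors (A ⧸ P), IsUnit (algebraMap (A ⧸ P) S y) := by
    intro y
    rw [IsScalarTower.algebraMap_apply (A ⧸ P) (B ⧸ PB) S]
    have hy : algebraMap (A ⧸ P) (B ⧸ PB) y ∈ q'.primeCompl := by
      intro h
      exact nonZeroDivisors.ne_zero y.2 (hcomap _ h)
    exact IsLocalization.map_units S ⟨_, hy⟩
  let K := FractionRing (A ⧸ P)
  letI : Algebra K S := (IsLocalization.lift (M := nonZeroDivisors (A ⧸ P)) hunits).toAlgebra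
  haveI : IsScalarTower (A ⧸ P) K S := IsScalarTower.of_algebraMap_eq fun x => by
    show _ = IsLocalization.lift hunits (algebraMap (A ⧸ P) K x)
    rw [IsLocalization.lift_eq]
  haveI : Algebra.FormallyUnramified K S := Algebra.FormallyUnramified.of_restrictScalars (A ⧸ P) K S
  haveI : Algebra.EssFiniteType K S := Algebra.EssFiniteType.of_comp (A ⧸ P) K S
  have hS0 : IsLocalRing.maximalIdeal S = ⊥ := by
    rw [← Algebra.FormallyUnramified.map_maximalIdeal (R := K) (S := S),
      IsLocalRing.maximalIdeal_eq_bot, Ideal.map_bot]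
  apply le_antisymm
  · rw [← Localization.AtPrime.map_eq_maximalIdeal]
    exact Ideal.map_mono hPBq
  · rw [← Localization.AtPrime.map_eq_maximalIdeal, Ideal.map_le_iff_le_comap]
    intro x hx
    show algebraMap B (Localization.AtPrime q.asIdeal) x ∈ PB.map _
    have h1 : algebraMap (B ⧸ PB) S (Ideal.Quotient.mk PB x) ∈ IsLocalRing.maximalIdeal S := by
      rw [← Localization.AtPrime.map_eq_maximalIdeal]
      exact Ideal.mem_map_of_mem _ (Ideal.mem_map_of_mem _ hx)
    rw [hS0, Ideal.mem_bot] at h1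
    obtain ⟨⟨s', hs'⟩, hs⟩ := (IsLocalization.map_eq_zero_iff q'.primeCompl S _).1 h1
    obtain ⟨s, rfl⟩ := Ideal.Quotient.mk_surjective s'
    have hsq : s ∉ q.asIdeal := fun h => hs' ((hmemq' s).2 h)
    have hsx : s * x ∈ PB := by
      rw [← Ideal.Quotient.eq_zero_iff_mem, map_mul]; exact hs
    have hu : IsUnit (algebraMap B (Localization.AtPrime q.asIdeal) s) :=
      IsLocalization.map_units _ (⟨s, hsq⟩ : q.asIdeal.primeCompl)
    have h2 : algebraMap B (Localization.AtPrime q.asIdeal) (s * x) ∈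
        PB.map (algebraMap B (Localization.AtPrime q.asIdeal)) := Ideal.mem_map_of_mem _ hsx
    rw [map_mul] at h2
    exact (Ideal.unit_mul_mem_iff_mem _ hu).1 h2

end Main'

section Unram

variable (A : Type u) [CommRing A] (R : Type u) [CommRing R] [Algebra A R] [IsNoetherianRing R]
  (J : Ideal R) (g : R)

/-- unramifiedness modulo `J` passes to the completed principal localization -/
theorem formallyUnramified_cpl_quotient [Algebra.FormallyUnramified A (R ⧸ J)] :
    Algebra.FormallyUnramified A (Cpl R J g ⧸ J.map (algebraMap R (Cpl R J g))) := by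
  set T := Cpl R J g ⧸ J.map (algebraMap R (Cpl R J g)) with hT
  let θ₀ : R →ₐ[A] T := IsScalarTower.toAlgHom A R T
  have hθ₀ : ∀ a ∈ J, θ₀ a = 0 := by
    intro a ha
    show algebraMap R T a = 0
    rw [IsScalarTower.algebraMap_apply R (Cpl R J g) T, Ideal.Quotient.algebraMap_eq,
      Ideal.Quotient.eq_zero_iff_mem]
    exact Ideal.mem_map_of_mem _ ha
  let θ : (R ⧸ J) →ₐ[A] T := Ideal.Quotient.liftₐ J θ₀ hθ₀
  have hθmk : ∀ r : R, θ (Ideal.Quotient.mk J r) = algebraMap R T r := fun r => rfl
  have hgu : IsUnit (algebraMap R T g) := by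
    rw [IsScalarTower.algebraMap_apply R (Cpl R J g) T]
    exact (cpl_isUnit R J g).map _
  have hunit : ∀ y : Submonoid.powers (Ideal.Quotient.mk J g), IsUnit (θ y) := by
    rintro ⟨_, k, rfl⟩
    rw [map_pow, hθmk]
    exact hgu.pow k
  let Θ : Localization.Away (Ideal.Quotient.mk J g) →ₐ[A] T :=
    IsLocalization.liftAlgHom (M := Submonoid.powers (Ideal.Quotient.mk J g)) (f := θ) hunit
  have hΘ : Function.Surjective Θ := by
    intro z
    obtain ⟨c, rfl⟩ := Ideal.Quotient.mk_surjective z
    obtain ⟨y, hy⟩ := cpl_exists_sub_mem R J g 1 c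
    rw [pow_one] at hy
    obtain ⟨⟨r, s⟩, hr⟩ := IsLocalization.surj (Submonoid.powers g) y
    obtain ⟨k, hk⟩ := s.2
    refine ⟨IsLocalization.mk' _ (Ideal.Quotient.mk J r)
      (⟨Ideal.Quotient.mk J g ^ k, k, rfl⟩ : Submonoid.powers (Ideal.Quotient.mk J g)), ?_⟩
    rw [IsLocalization.liftAlgHom_apply, IsLocalization.lift_mk'_spec]
    show θ (Ideal.Quotient.mk J r) = θ (Ideal.Quotient.mk J g ^ k) * _
    have hk' : g ^ k = (s : R) := hk
    rw [← map_pow, hθmk, hθmk, hk']
    have h1 : Ideal.Quotient.mk (J.map (algebraMap R (Cpl R J g))) c =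
        Ideal.Quotient.mk _ (algebraMap (Localization.Away g) (Cpl R J g) y) :=
      Ideal.Quotient.eq.2 hy
    rw [h1, IsScalarTower.algebraMap_apply R (Cpl R J g) T,
      IsScalarTower.algebraMap_apply R (Cpl R J g) T, Ideal.Quotient.algebraMap_eq, ← map_mul]
    congr 1
    rw [cpl_algebraMap_eq, RingHom.comp_apply, RingHom.comp_apply, ← map_mul, mul_comm, hr]
  haveI : Algebra.FormallyUnramified (R ⧸ J) (Localization.Away (Ideal.Quotient.mk J g)) :=
    Algebra.FormallyUnramified.of_isLocalization (Submonoid.powers (Ideal.Quotient.mk J g))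
  haveI : Algebra.FormallyUnramified A (Localization.Away (Ideal.Quotient.mk J g)) :=
    Algebra.FormallyUnramified.comp A (R ⧸ J) _
  exact Algebra.FormallyUnramified.of_surjective Θ hΘ

end Unram

section FlatRig

variable (R : Type u) [CommRing R] [IsNoetherianRing R] (J : Ideal R)
  (S : Type u) [CommRing S] [Algebra R S] [IsNoetherianRing S]

/-- a flat morphism is rig-flat -/
theorem rigFlat_of_flat [Module.Flat R S] : RigFlat R J S := by
  intro f ψ hψ q hq
  letI : Algebra (Cpl R J f) (Cpl S (J.map (algebraMap R S)) (algebraMap R S f)) := ψ.toAlgebra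
  haveI : IsScalarTower R (Cpl R J f) (Cpl S (J.map (algebraMap R S)) (algebraMap R S f)) :=
    IsScalarTower.of_algebraMap_eq fun a =>
      (RingHom.congr_fun (psi_comp_algebraMap R J S f ψ hψ) a).symm
  haveI := cpl_flat_of_flat R J f S
  haveI : Module.Flat (Cpl S (J.map (algebraMap R S)) (algebraMap R S f))
      (Localization.AtPrime q.asIdeal) := IsLocalization.flat _ q.asIdeal.primeCompl
  have : Module.Flat (Cpl R J f) (Localization.AtPrime q.asIdeal) :=
    Module.Flat.trans (Cpl R J f) (Cpl S (J.map (algebraMap R S)) (algebraMap R S f)) _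
  exact (comp_flat_iff (R := Cpl R J f)
    (S := Cpl S (J.map (algebraMap R S)) (algebraMap R S f)) _).2 this

end FlatRig

section PairPrimed

variable (R : Type u) [CommRing R] [IsNoetherianRing R] (J : Ideal R) (g : R)
  (S : Type u) [CommRing S] [Algebra R S] [IsNoetherianRing S]
  (JS : Ideal S) (hJS : J.map (algebraMap R S) = JS) (c : S) (hc : algebraMap R S g = c)
  [Algebra (Cpl R J g) (Cpl S JS c)] [IsScalarTower R (Cpl R J g) (Cpl S JS c)]

include hJS hc in
theorem pair_ideal_eq' :
    (J.map (algebraMap R (Cpl R J g))).map (algebraMap (Cpl R J g) (Cpl S JS c)) =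
      JS.map (algebraMap S (Cpl S JS c)) := by
  subst hJS; subst hc
  exact pair_ideal_eq R J S g

include hJS hc in
theorem pair_isAdicComplete' :
    IsAdicComplete ((J.map (algebraMap R (Cpl R J g))).map
      (algebraMap (Cpl R J g) (Cpl S JS c))) (Cpl S JS c) := by
  subst hJS; subst hc
  exact pair_isAdicComplete R J S g

include hJS hc in
theorem pair_finiteType' (hft : Algebra.FiniteType R (S ⧸ JS)) :
    Algebra.FiniteType (Cpl R J g) (Cpl S JS c ⧸ (J.map (algebraMap R (Cpl R J g))).map
      (algebraMap (Cpl R J g) (Cpl S JS c))) := by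
  subst hJS; subst hc
  exact pair_finiteType R J S g hft

end PairPrimed

section N0

variable (A : Type u) [CommRing A] [IsNoetherianRing A] (I : Ideal A) [IsAdicComplete I A]
  (A1 : Type u) [CommRing A1] [Algebra A A1] [IsNoetherianRing A1]
  (K1 : Ideal A1) (hK1 : I.map (algebraMap A A1) = K1) [IsAdicComplete K1 A1]
  [Algebra.FormallyUnramified A (A1 ⧸ K1)] (hft : Algebra.FiniteType A (A1 ⧸ K1))
  (B1 : Type u) [CommRing B1] [Algebra A B1] [Algebra A1 B1] [IsScalarTower A A1 B1]
  [IsNoetherianRing B1]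

include hK1 hft in
/-- if `A → A1` is unramified modulo `I` and `q'` is a prime of an `A1`-algebra `B1` whose
contractions to `A1` and `A` are rig-closed, then `A`-flatness of `(B1)_{q'}` implies
`A1`-flatness -/
theorem flat_atPrime_of_unramified (q' : PrimeSpectrum B1)
    (hp1 : IsRig K1 (PrimeSpectrum.comap (algebraMap A1 B1) q'))
    (hp : IsRig I (PrimeSpectrum.comap (algebraMap A A1)
      (PrimeSpectrum.comap (algebraMap A1 B1) q')))
    [Module.Flat A (Localization.AtPrime q'.asIdeal)] :
    Module.Flat A1 (Localization.AtPrime q'.asIdeal) := by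
  subst hK1
  set p1 := PrimeSpectrum.comap (algebraMap A1 B1) q' with hp1def
  set p := PrimeSpectrum.comap (algebraMap A A1) p1 with hpdef
  have hm0 := main_S8838' A I A1 hft p1 hp1 hp
  set M := Localization.AtPrime q'.asIdeal with hM
  set R' := Localization.AtPrime p1.asIdeal with hR'
  letI : Algebra R' M :=
    (Localization.localRingHom p1.asIdeal q'.asIdeal (algebraMap A1 B1) rfl).toAlgebra
  haveI : IsScalarTower A1 R' M := IsScalarTower.of_algebraMap_eq fun x => by
    exact (IsScalarTower.algebraMap_apply A1 B1 M x).trans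
      (Localization.localRingHom_to_map p1.asIdeal q'.asIdeal (algebraMap A1 B1) rfl x).symm
  haveI : IsScalarTower A R' M := IsScalarTower.of_algebraMap_eq fun a => by
    rw [IsScalarTower.algebraMap_apply A A1 R', ← IsScalarTower.algebraMap_apply A1 R' M,
      ← IsScalarTower.algebraMap_apply A A1 M]
  haveI : IsLocalHom (algebraMap R' M) := Localization.isLocalHom_localRingHom _ _ _ rfl
  have hm : p.asIdeal.map (algebraMap A R') = IsLocalRing.maximalIdeal R' := by
    rw [← hm0, Ideal.map_map, ← IsScalarTower.algebraMap_eq]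
  haveI : Module.Flat R' M := flat_of_flat_of_map_eq_maximalIdeal A R' M p.asIdeal hm
  exact (Module.flat_iff_of_isLocalization R' p1.asIdeal.primeCompl M).1 inferInstance

end N0

end Groth.Agent.Helper3.RigPt
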