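import Mathlib
import Groth.Agent.Lib.Helper3.RigPt11

/-!
# Base change of rig-flatness along flat maps étale modulo `I` (S8845)
-/

set_option autoImplicit false
universe u

namespace Groth.Agent.Helper3.RigPt

open Groth.Agent.Helper3.AdicDim Groth.Agent.Helper3.CplLoc

section N1

variable (A : Type u) [CommRing A] [IsNoetherianRing A] (I : Ideal A) [IsAdicComplete I A]
  (A1 : Type u) [CommRing A1] [Algebra A A1] [IsNoetherianRing A1]
  (K1 : Ideal A1) (hK1 : I.map (algebraMap A A1) = K1) [IsAdicComplete K1 A1]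
  [Algebra.FormallyUnramified A (A1 ⧸ K1)] (hftA1 : Algebra.FiniteType A (A1 ⧸ K1))
  (B1 : Type u) [CommRing B1] [Algebra A B1] [Algebra A1 B1] [IsScalarTower A A1 B1]
  [IsNoetherianRing B1]
  (L1 : Ideal B1) (hL1 : I.map (algebraMap A B1) = L1) [IsAdicComplete L1 B1]
  (hftB1 : Algebra.FiniteType A (B1 ⧸ L1))

include hK1 hL1 hftA1 hftB1 in
/-- cancellation: if `A → B1` is rig-flat and `A → A1` is unramified modulo `I`, then `B1` is
flat over `A1` at the rig-closed primes -/
theorem flat_atPrime_of_rigFlat (hAB1 : RigFlat A I B1) (q' : PrimeSpectrum B1)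
    (hq' : IsRig L1 q') : Module.Flat A1 (Localization.AtPrime q'.asIdeal) := by
  subst hK1; subst hL1
  obtain ⟨f, hunit, hS8840⟩ := main_S8840 A I B1 hftB1 q' hq'
  obtain ⟨ψ₀, hψ₀⟩ := exists_cplMap A I B1 f
  obtain ⟨α, hα⟩ := exists_cplMap A I A1 f
  have hJ : (I.map (algebraMap A A1)).map (algebraMap A1 B1) = I.map (algebraMap A B1) := by
    rw [Ideal.map_map, ← IsScalarTower.algebraMap_eq]
  have hc : algebraMap A1 B1 (algebraMap A A1 f) = algebraMap A B1 f :=
    (IsScalarTower.algebraMap_apply A A1 B1 f).symm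
  obtain ⟨γ, hγ⟩ := exists_cplMap' A1 (I.map (algebraMap A A1)) (algebraMap A A1 f) B1
    (I.map (algebraMap A B1)) hJ (algebraMap A B1 f) hc
  have hψ₀A := psi_comp_algebraMap A I B1 f ψ₀ hψ₀
  have hαA := psi_comp_algebraMap A I A1 f α hα
  haveI := cpl_isNoetherianRing A I f
  haveI := cpl_isNoetherianRing A1 (I.map (algebraMap A A1)) (algebraMap A A1 f)
  haveI := cpl_isNoetherianRing B1 (I.map (algebraMap A B1)) (algebraMap A B1 f)
  haveI := cpl_isAdicComplete A I f
  haveI := cpl_isAdicComplete A1 (I.map (algebraMap A A1)) (algebraMap A A1 f)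
  haveI := cpl_isAdicComplete B1 (I.map (algebraMap A B1)) (algebraMap A B1 f)
  obtain ⟨hQprime, hQrig⟩ := isRig_map_cpl B1 (I.map (algebraMap A B1)) q' hq'
    (algebraMap A B1 f) hunit
  obtain ⟨-, hbij⟩ := main_S8837 B1 (I.map (algebraMap A B1)) q'.asIdeal (algebraMap A B1 f) hunit
  have hQ' := hQrig
  rw [cpl_map_eq] at hQ'
  have hU : Algebra.FormallyUnramified A
      (Cpl A1 (I.map (algebraMap A A1)) (algebraMap A A1 f) ⧸
        (I.map (algebraMap A A1)).map (algebraMap A1
          (Cpl A1 (I.map (algebraMap A A1)) (algebraMap A A1 f)))) :=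
    formallyUnramified_cpl_quotient A A1 (I.map (algebraMap A A1)) (algebraMap A A1 f)
  have hF : Algebra.FiniteType A
      (Cpl A1 (I.map (algebraMap A A1)) (algebraMap A A1 f) ⧸
        (I.map (algebraMap A A1)).map (algebraMap A1
          (Cpl A1 (I.map (algebraMap A A1)) (algebraMap A A1 f)))) :=
    finiteType_quotient_trans A A1 _ (I.map (algebraMap A A1)) hftA1 (cpl_finiteType A1 _ _)
  haveI hflatB1 : Module.Flat B1 (Cpl B1 (I.map (algebraMap A B1)) (algebraMap A B1 f)) :=
    cpl_flat B1 _ _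
  haveI hflatA1 : Module.Flat A1 (Cpl A1 (I.map (algebraMap A A1)) (algebraMap A A1 f)) :=
    cpl_flat A1 _ _
  set Af := Cpl A I f with hAf
  set A1f := Cpl A1 (I.map (algebraMap A A1)) (algebraMap A A1 f) with hA1f
  set B1f := Cpl B1 (I.map (algebraMap A B1)) (algebraMap A B1 f) with hB1f
  set LB := (I.map (algebraMap A B1)).map (algebraMap B1 B1f) with hLB
  set K1f := (I.map (algebraMap A A1)).map (algebraMap A1 A1f) with hK1f
  -- `ψ₀ = γ ∘ α`
  have hJT : I.map (algebraMap A B1f) ≤ LB := by
    have e := Ideal.map_map (I := I) (algebraMap A B1) (algebraMap B1 B1f)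
    rw [hLB, e, ← IsScalarTower.algebraMap_eq]
  have h2 : (γ.comp α).comp (algebraMap A Af) = algebraMap A B1f := by
    rw [RingHom.comp_assoc, hαA, IsScalarTower.algebraMap_eq A A1 A1f, ← RingHom.comp_assoc, hγ,
      ← IsScalarTower.algebraMap_eq A A1 B1f]
  have heq : ψ₀ = γ.comp α := cplMap_unique A I f B1f LB hJT _ _ hψ₀A h2
  letI : Algebra Af B1f := ψ₀.toAlgebra
  letI : Algebra Af A1f := α.toAlgebra
  letI : Algebra A1f B1f := γ.toAlgebra
  haveI : IsScalarTower Af A1f B1f := IsScalarTower.of_algebraMap_eq fun x =>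
    RingHom.congr_fun heq x
  haveI : IsScalarTower A Af B1f := IsScalarTower.of_algebraMap_eq fun a =>
    (RingHom.congr_fun hψ₀A a).symm
  haveI : IsScalarTower A Af A1f := IsScalarTower.of_algebraMap_eq fun a =>
    (RingHom.congr_fun hαA a).symm
  haveI : IsScalarTower A1 A1f B1f := IsScalarTower.of_algebraMap_eq fun a =>
    (RingHom.congr_fun hγ a).symm
  -- the prime `Q = q' B1f`
  set Q : PrimeSpectrum B1f := ⟨q'.asIdeal.map (algebraMap B1 B1f), hQprime⟩ with hQ
  -- contraction to `Af` is rig-closed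
  obtain ⟨hP0prime, hP0a, hP0b⟩ := hS8840 ψ₀ hψ₀
  have hPrig : IsRig (I.map (algebraMap A Af)) (PrimeSpectrum.comap (algebraMap Af B1f) Q) :=
    ⟨hP0a, fun y hy1 hy2 => PrimeSpectrum.ext (hP0b y hy1 hy2)⟩
  -- finiteness of `B1f / Q`
  haveI := pair_isAdicComplete A I B1 f
  have hftAf := pair_finiteType A I B1 f hftB1
  have hKeq : (I.map (algebraMap A Af)).map (algebraMap Af B1f) = LB := pair_ideal_eq A I B1 f
  have hQK : IsRig ((I.map (algebraMap A Af)).map (algebraMap Af B1f)) Q := by
    rw [hKeq]; exact hQrig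
  have hfin : Module.Finite Af (B1f ⧸ Q.asIdeal) :=
    ((main_S8829 Af (I.map (algebraMap A Af)) B1f hftAf Q hQK).out 1 2).1 hPrig
  haveI := hfin
  have hfin1 : Module.Finite A1f (B1f ⧸ Q.asIdeal) :=
    Module.Finite.of_restrictScalars_finite Af A1f _
  -- contraction to `A1f` is rig-closed
  haveI := pair_isAdicComplete' A1 (I.map (algebraMap A A1)) (algebraMap A A1 f) B1
    (I.map (algebraMap A B1)) hJ (algebraMap A B1 f) hc
  have hftB1' : Algebra.FiniteType A1 (B1 ⧸ I.map (algebraMap A B1)) := by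
    haveI := hftB1
    exact Algebra.FiniteType.of_restrictScalars_finiteType A A1 _
  have hftA1f := pair_finiteType' A1 (I.map (algebraMap A A1)) (algebraMap A A1 f) B1
    (I.map (algebraMap A B1)) hJ (algebraMap A B1 f) hc hftB1'
  have hKeq1 : K1f.map (algebraMap A1f B1f) = LB :=
    pair_ideal_eq' A1 (I.map (algebraMap A A1)) (algebraMap A A1 f) B1
      (I.map (algebraMap A B1)) hJ (algebraMap A B1 f) hc
  have hQK1 : IsRig (K1f.map (algebraMap A1f B1f)) Q := by
    rw [hKeq1]; exact hQrig
  have hP1rig : IsRig K1f (PrimeSpectrum.comap (algebraMap A1f B1f) Q) :=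
    ((main_S8829 A1f K1f B1f hftA1f Q hQK1).out 2 1).1 hfin1
  -- unramifiedness of `Af → A1f` modulo `I`
  haveI := hU
  haveI : Algebra.FormallyUnramified Af (A1f ⧸ K1f) :=
    Algebra.FormallyUnramified.of_restrictScalars A Af _
  have hftK1f : Algebra.FiniteType Af (A1f ⧸ K1f) := by
    haveI := hF
    exact Algebra.FiniteType.of_restrictScalars_finiteType A Af _
  -- flatness over `Af`
  haveI : Module.Flat Af (Localization.AtPrime Q.asIdeal) :=
    (comp_flat_iff _).1 (hAB1 f ψ₀ hψ₀ Q hQ')
  have hcomp : PrimeSpectrum.comap (algebraMap Af A1f)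
      (PrimeSpectrum.comap (algebraMap A1f B1f) Q) = PrimeSpectrum.comap (algebraMap Af B1f) Q := by
    apply PrimeSpectrum.ext
    show (Q.asIdeal.comap (algebraMap A1f B1f)).comap (algebraMap Af A1f) =
      Q.asIdeal.comap (algebraMap Af B1f)
    rw [Ideal.comap_comap, ← IsScalarTower.algebraMap_eq]
  have hflat1 : Module.Flat A1f (Localization.AtPrime Q.asIdeal) :=
    flat_atPrime_of_unramified Af (I.map (algebraMap A Af)) A1f K1f (pair_ideal_eq A I A1 f)
      hftK1f B1f Q hP1rig (hcomp ▸ hPrig)
  -- descent to `B1`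
  have hcomapQ : q'.asIdeal = Q.asIdeal.comap (algebraMap B1 B1f) := by
    apply le_antisymm Ideal.le_comap_map
    intro x hx
    have h2 : Ideal.quotientMap (q'.asIdeal.map (algebraMap B1 B1f)) (algebraMap B1 B1f)
        Ideal.le_comap_map (Ideal.Quotient.mk q'.asIdeal x) = 0 := by
      rw [Ideal.quotientMap_mk]
      exact Ideal.Quotient.eq_zero_iff_mem.2 hx
    have h3 := hbij.1 (h2.trans (map_zero _).symm)
    exact Ideal.Quotient.eq_zero_iff_mem.1 h3
  set M := Localization.AtPrime q'.asIdeal with hM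
  set N := Localization.AtPrime Q.asIdeal with hN
  letI : Algebra M N :=
    (Localization.localRingHom q'.asIdeal Q.asIdeal (algebraMap B1 B1f) hcomapQ).toAlgebra
  haveI : IsScalarTower B1 M N := IsScalarTower.of_algebraMap_eq fun x => by
    exact (IsScalarTower.algebraMap_apply B1 B1f N x).trans
      (Localization.localRingHom_to_map q'.asIdeal Q.asIdeal (algebraMap B1 B1f) hcomapQ x).symm
  haveI : Module.Flat B1f N := IsLocalization.flat N Q.asIdeal.primeCompl
  haveI : Module.Flat B1 N := Module.Flat.trans B1 B1f N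
  haveI : Module.Flat M N :=
    (Module.flat_iff_of_isLocalization M q'.asIdeal.primeCompl N).2 inferInstance
  haveI : IsLocalHom (algebraMap M N) := Localization.isLocalHom_localRingHom _ _ _ hcomapQ
  haveI : Module.FaithfullyFlat M N := Module.FaithfullyFlat.of_flat_of_isLocalHom
  haveI : IsScalarTower A1 A1f N := IsScalarTower.of_algebraMap_eq fun x => by
    rw [IsScalarTower.algebraMap_apply A1 B1f N, IsScalarTower.algebraMap_apply A1 A1f B1f,
      ← IsScalarTower.algebraMap_apply A1f B1f N]
  haveI : Module.Flat A1 N := Module.Flat.trans A1 A1f N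
  haveI : IsScalarTower A1 M N := IsScalarTower.of_algebraMap_eq fun x => by
    rw [IsScalarTower.algebraMap_apply A1 B1 M, ← IsScalarTower.algebraMap_apply B1 M N,
      ← IsScalarTower.algebraMap_apply A1 B1 N]
  exact flat_of_faithfullyFlat_of_flat A1 M N

end N1

section S8845

variable (A : Type u) [CommRing A] [IsNoetherianRing A] (I : Ideal A) [IsAdicComplete I A]
  (B : Type u) [CommRing B] [Algebra A B] [IsNoetherianRing B]
  [IsAdicComplete (I.map (algebraMap A B)) B]
  (A' : Type u) [CommRing A'] [Algebra A A'] [IsNoetherianRing A']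
  (hftA' : Algebra.FiniteType A (A' ⧸ (I.map (algebraMap A A'))))
  (B' : Type u) [CommRing B'] [Algebra A B'] [Algebra B B'] [Algebra A' B']
  [IsScalarTower A B B'] [IsScalarTower A A' B'] [IsNoetherianRing B']
  [IsAdicComplete (I.map (algebraMap A B')) B']
  (hftB'A' : Algebra.FiniteType A' (B' ⧸ (I.map (algebraMap A B'))))
  [Module.Flat B B'] [Algebra.FormallyUnramified A (A' ⧸ I.map (algebraMap A A'))]

include hftA' hftB'A' in
theorem main_S8845 (hAB : RigFlat A I B) : RigFlat A' (I.map (algebraMap A A')) B' := by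
  intro f' ψ' hψ' q' hq'
  have hψ'A := psi_comp_algebraMap A' (I.map (algebraMap A A')) B' f' ψ' hψ'
  have hJB'eq : (I.map (algebraMap A A')).map (algebraMap A' B') = I.map (algebraMap A B') := by
    rw [Ideal.map_map, ← IsScalarTower.algebraMap_eq]
  have hftB'A'2 : Algebra.FiniteType A'
      (B' ⧸ (I.map (algebraMap A A')).map (algebraMap A' B')) := by
    haveI := hftB'A'
    exact Algebra.FiniteType.of_surjective
      (Ideal.quotientEquivAlgOfEq A' hJB'eq.symm).toAlgHom
      (Ideal.quotientEquivAlgOfEq A' hJB'eq.symm).surjective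
  have hftB'A : Algebra.FiniteType A (B' ⧸ (I.map (algebraMap A A')).map (algebraMap A' B')) :=
    finiteType_quotient_trans A A' B' (I.map (algebraMap A A')) hftA' hftB'A'2
  have hAB' : RigFlat A I B' :=
    main_S8843 A I B B' hAB (rigFlat_of_flat B (I.map (algebraMap A B)) B')
  haveI nA1 := cpl_isNoetherianRing A' (I.map (algebraMap A A')) f'
  haveI nB1 := cpl_isNoetherianRing B' ((I.map (algebraMap A A')).map (algebraMap A' B')) (algebraMap A' B' f')
  haveI cA1 := cpl_isAdicComplete A' (I.map (algebraMap A A')) f'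
  haveI cB1 := cpl_isAdicComplete B' ((I.map (algebraMap A A')).map (algebraMap A' B')) (algebraMap A' B' f')
  haveI fB1 : Module.Flat B' (Cpl B' ((I.map (algebraMap A A')).map (algebraMap A' B')) (algebraMap A' B' f')) := cpl_flat B' ((I.map (algebraMap A A')).map (algebraMap A' B')) (algebraMap A' B' f')
  haveI hU : Algebra.FormallyUnramified A
      (Cpl A' (I.map (algebraMap A A')) f' ⧸ (I.map (algebraMap A A')).map (algebraMap A' (Cpl A' (I.map (algebraMap A A')) f'))) :=
    formallyUnramified_cpl_quotient A A' (I.map (algebraMap A A')) f'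
  have hftA1 : Algebra.FiniteType A (Cpl A' (I.map (algebraMap A A')) f' ⧸ (I.map (algebraMap A A')).map (algebraMap A' (Cpl A' (I.map (algebraMap A A')) f'))) :=
    finiteType_quotient_trans A A' _ (I.map (algebraMap A A')) hftA' (cpl_finiteType A' (I.map (algebraMap A A')) f')
  have hftB1 : Algebra.FiniteType A (Cpl B' ((I.map (algebraMap A A')).map (algebraMap A' B')) (algebraMap A' B' f') ⧸ ((I.map (algebraMap A A')).map (algebraMap A' B')).map (algebraMap B' (Cpl B' ((I.map (algebraMap A A')).map (algebraMap A' B')) (algebraMap A' B' f')))) :=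
    finiteType_quotient_trans A B' _ ((I.map (algebraMap A A')).map (algebraMap A' B')) hftB'A (cpl_finiteType B' ((I.map (algebraMap A A')).map (algebraMap A' B')) (algebraMap A' B' f'))
  have hq'' : IsRig (((I.map (algebraMap A A')).map (algebraMap A' B')).map (algebraMap B' (Cpl B' ((I.map (algebraMap A A')).map (algebraMap A' B')) (algebraMap A' B' f')))) q' := by
    rw [cpl_map_eq]; exact hq'
  set A1 := Cpl A' (I.map (algebraMap A A')) f' with hA1
  set B1 := Cpl B' ((I.map (algebraMap A A')).map (algebraMap A' B')) (algebraMap A' B' f') with hB1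
  have hAB1 : RigFlat A I B1 :=
    main_S8843 A I B' B1 hAB' (rigFlat_of_flat B' (I.map (algebraMap A B')) B1)
  letI : Algebra A1 B1 := ψ'.toAlgebra
  haveI : IsScalarTower A' A1 B1 := IsScalarTower.of_algebraMap_eq fun a =>
    (RingHom.congr_fun hψ'A a).symm
  haveI : IsScalarTower A A1 B1 := IsScalarTower.of_algebraMap_eq fun a => by
    rw [IsScalarTower.algebraMap_apply A A' A1, ← IsScalarTower.algebraMap_apply A' A1 B1,
      ← IsScalarTower.algebraMap_apply A A' B1]
  have hK1 : I.map (algebraMap A A1) = (I.map (algebraMap A A')).map (algebraMap A' A1) := by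
    have e := Ideal.map_map (I := I) (algebraMap A A') (algebraMap A' A1)
    rw [e, ← IsScalarTower.algebraMap_eq]
  have hL1 : I.map (algebraMap A B1) = ((I.map (algebraMap A A')).map (algebraMap A' B')).map (algebraMap B' B1) := by
    have e1 : ((I.map (algebraMap A A')).map (algebraMap A' B')).map (algebraMap B' B1) = (I.map (algebraMap A B')).map (algebraMap B' B1) :=
      congrArg (Ideal.map (algebraMap B' B1)) hJB'eq
    have e2 := Ideal.map_map (I := I) (algebraMap A B') (algebraMap B' B1)
    rw [e1, e2, ← IsScalarTower.algebraMap_eq]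
  have := flat_atPrime_of_rigFlat A I A1 ((I.map (algebraMap A A')).map (algebraMap A' A1)) hK1 hftA1 B1
    (((I.map (algebraMap A A')).map (algebraMap A' B')).map (algebraMap B' B1)) hL1 hftB1 hAB1 q' hq''
  exact (comp_flat_iff (R := A1) (S := B1) _).2 this

end S8845

section S8845E

variable (A : Type u) [CommRing A] [IsNoetherianRing A] (I : Ideal A) [IsAdicComplete I A]
  (B : Type u) [CommRing B] [Algebra A B] [IsNoetherianRing B]
  [IsAdicComplete (I.map (algebraMap A B)) B]
  (A' : Type u) [CommRing A'] [Algebra A A'] [IsNoetherianRing A']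
  (hftA' : Algebra.FiniteType A (A' ⧸ (I.map (algebraMap A A'))))
  (B' : Type u) [CommRing B'] [Algebra A B'] [Algebra B B'] [Algebra A' B']
  [IsScalarTower A B B'] [IsScalarTower A A' B'] [IsNoetherianRing B']
  [IsAdicComplete (I.map (algebraMap A B')) B']
  (hftB'A' : Algebra.FiniteType A' (B' ⧸ (I.map (algebraMap A B'))))
  [Module.Flat B B'] [Algebra.Etale (A ⧸ I) (A' ⧸ (I.map (algebraMap A A')))]

include hftA' hftB'A' in
theorem main_S8845_etale (hAB : RigFlat A I B) : RigFlat A' (I.map (algebraMap A A')) B' := by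
  haveI : Algebra.FormallyUnramified A (A' ⧸ I.map (algebraMap A A')) :=
    Algebra.FormallyUnramified.comp A (A ⧸ I) _
  exact main_S8845 A I B A' hftA' B' hftB'A' hAB

end S8845E

end Groth.Agent.Helper3.RigPt
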