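import Mathlib
import Groth.Agent.Lib.Helper3.RigPt12

/-!
# Polynomials versus restricted power series at rig-closed primes (S8839)
-/

set_option autoImplicit false
universe u

namespace Groth.Agent.Helper3.RigPt

open Groth.Agent.Helper3.AdicDim Groth.Agent.Helper3.CplLoc

section AdicGen

variable (R : Type u) [CommRing R] [IsNoetherianRing R] (J : Ideal R)

theorem adic_exists_sub_mem (k : ℕ) (t : AdicCompletion J R) :
    ∃ a : R, t - algebraMap R (AdicCompletion J R) a ∈
      (J ^ k).map (algebraMap R (AdicCompletion J R)) := by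
  obtain ⟨a, ha⟩ := Ideal.Quotient.mk_surjective (AdicCompletion.evalₐ J k t)
  refine ⟨a, ?_⟩
  apply Groth.Agent.Helper8.AdicFS.ker_evalₐ_le_map_pow J (IsNoetherian.noetherian _) k
  rw [RingHom.mem_ker, map_sub, AlgHom.commutes, Ideal.Quotient.algebraMap_eq, ha, sub_self]

theorem adic_mem_sup_of_map_mem (K : Ideal R) (k : ℕ) (x : R)
    (hx : algebraMap R (AdicCompletion J R) x ∈ K.map (algebraMap R (AdicCompletion J R))) :
    x ∈ K ⊔ J ^ k := by
  have h1 : (AdicCompletion.evalₐ J k).toRingHom (algebraMap R (AdicCompletion J R) x) ∈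
      (K.map (algebraMap R (AdicCompletion J R))).map (AdicCompletion.evalₐ J k).toRingHom :=
    Ideal.mem_map_of_mem _ hx
  have h2 : (AdicCompletion.evalₐ J k).toRingHom.comp (algebraMap R (AdicCompletion J R)) =
      Ideal.Quotient.mk (J ^ k) := by
    refine RingHom.ext fun a => ?_
    exact AlgHom.commutes (AdicCompletion.evalₐ J k) a
  rw [Ideal.map_map, h2] at h1
  have h3 : (AdicCompletion.evalₐ J k).toRingHom (algebraMap R (AdicCompletion J R) x) =
      Ideal.Quotient.mk (J ^ k) x := AlgHom.commutes (AdicCompletion.evalₐ J k) x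
  rw [h3, Ideal.mem_quotient_iff_mem_sup] at h1
  exact h1

end AdicGen

section Core

variable (A : Type u) [CommRing A] [IsNoetherianRing A] (I : Ideal A) [IsAdicComplete I A]
  (P : Type u) [CommRing P] [Algebra A P] [IsNoetherianRing P] [Algebra.FiniteType A P]

/-- the facts about `P → T = P^` at a rig-closed prime `q` of `T` with rig-closed contraction
to `A`: `P` is dense modulo powers of `q₀ T`, `q = q₀ T`, and a Krull-type injectivity -/
theorem core_facts (J : Ideal P) (hJ : I.map (algebraMap A P) = J)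
    (q : PrimeSpectrum (AdicCompletion J P))
    (hq : IsRig (I.map (algebraMap A (AdicCompletion J P))) q)
    (hp : IsRig I (PrimeSpectrum.comap (algebraMap A (AdicCompletion J P)) q)) :
    (∀ (m : ℕ) (t : AdicCompletion J P), ∃ a : P,
      t - algebraMap P (AdicCompletion J P) a ∈
        ((q.asIdeal.comap (algebraMap P (AdicCompletion J P))) ^ m).map
          (algebraMap P (AdicCompletion J P))) ∧
    q.asIdeal = (q.asIdeal.comap (algebraMap P (AdicCompletion J P))).map
      (algebraMap P (AdicCompletion J P)) ∧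
    (∀ (m : ℕ) (x : P), algebraMap P (AdicCompletion J P) x ∈
        ((q.asIdeal.comap (algebraMap P (AdicCompletion J P))) ^ m).map
          (algebraMap P (AdicCompletion J P)) →
      ∃ u : P, u ∉ q.asIdeal.comap (algebraMap P (AdicCompletion J P)) ∧
        u * x ∈ (q.asIdeal.comap (algebraMap P (AdicCompletion J P))) ^ m) := by
  have fg : J.FG := IsNoetherian.noetherian _
  haveI hTn : IsNoetherianRing (AdicCompletion J P) :=
    Groth.Agent.Helper2.CompleteNoeth.isNoetherianRing_adicCompletion P _ fg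
  haveI hTc := AdicCompletion.isAdicComplete_self J fg
  set T := AdicCompletion J P with hT
  set ι := algebraMap P T with hι
  have hIT : I.map (algebraMap A T) = J.map ι := by
    have e := Ideal.map_map (I := I) (algebraMap A P) ι
    have e' : J.map ι = (I.map (algebraMap A P)).map ι := congrArg (Ideal.map ι) hJ.symm
    rw [e', e, hι, ← IsScalarTower.algebraMap_eq]
  haveI : IsAdicComplete (I.map (algebraMap A T)) T := hIT ▸ hTc
  have hjacT : I.map (algebraMap A T) ≤ (⊥ : Ideal T).jacobson := IsAdicComplete.le_jacobson_bot _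
  have hjacA : I ≤ (⊥ : Ideal A).jacobson := IsAdicComplete.le_jacobson_bot I
  -- density modulo `I T`
  have hdense : ∀ t : T, ∃ a : P, t - ι a ∈ I.map (algebraMap A T) := by
    intro t
    obtain ⟨a, ha⟩ := adic_exists_sub_mem P J 1 t
    rw [pow_one] at ha
    exact ⟨a, hIT ▸ ha⟩
  -- finite type
  have hft : Algebra.FiniteType A (T ⧸ I.map (algebraMap A T)) := by
    let φ : P →ₐ[A] (T ⧸ I.map (algebraMap A T)) :=
      (IsScalarTower.toAlgHom A T _).comp (IsScalarTower.toAlgHom A P T)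
    refine Algebra.FiniteType.of_surjective φ ?_
    intro z
    obtain ⟨t, rfl⟩ := Ideal.Quotient.mk_surjective z
    obtain ⟨a, ha⟩ := hdense t
    refine ⟨a, ?_⟩
    show Ideal.Quotient.mk _ (ι a) = Ideal.Quotient.mk _ t
    rw [eq_comm, Ideal.Quotient.eq]
    exact ha
  set q₀ := q.asIdeal.comap ι with hq₀
  haveI : q₀.IsPrime := Ideal.comap_isPrime ι q.asIdeal
  -- finiteness
  have hfinq : Module.Finite A (T ⧸ q.asIdeal) := ((main_S8829 A I T hft q hq).out 1 2).1 hp
  haveI := hfinq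
  haveI : IsNoetherian A (T ⧸ q.asIdeal) := isNoetherian_of_isNoetherianRing_of_finite A _
  have hfinq₀ : Module.Finite A (P ⧸ q₀) := by
    let φ : (P ⧸ q₀) →ₐ[A] (T ⧸ q.asIdeal) :=
      Ideal.quotientMapₐ q.asIdeal (IsScalarTower.toAlgHom A P T) le_rfl
    have hφ : Function.Injective φ := by
      rw [injective_iff_map_eq_zero]
      intro z hz
      obtain ⟨a, rfl⟩ := Ideal.Quotient.mk_surjective z
      have h1 : Ideal.Quotient.mk q.asIdeal (ι a) = 0 := hz
      rw [Ideal.Quotient.eq_zero_iff_mem] at h1 ⊢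
      exact h1
    exact Module.Finite.of_injective φ.toLinearMap hφ
  haveI := hfinq₀
  -- `M₁ = T / q₀ T`
  set K := q₀.map ι with hK
  have hKq : K ≤ q.asIdeal := Ideal.map_comap_le
  -- decomposition in `M₁`
  have hD : ∀ z : T ⧸ K, ∃ a : P, z - Ideal.Quotient.mk K (ι a) ∈
      (I • ⊤ : Submodule A (T ⧸ K)) := by
    intro z
    obtain ⟨t, rfl⟩ := Ideal.Quotient.mk_surjective z
    obtain ⟨a, ha⟩ := hdense t
    refine ⟨a, ?_⟩
    rw [Ideal.smul_top_eq_map, Submodule.restrictScalars_mem, ← map_sub]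
    have e := Ideal.map_map (I := I) (algebraMap A T) (Ideal.Quotient.mk K)
    have e2 : (Ideal.Quotient.mk K).comp (algebraMap A T) = algebraMap A (T ⧸ K) := rfl
    rw [← e2, ← e]
    exact Ideal.mem_map_of_mem _ ha
  let ψ : (P ⧸ q₀) →ₐ[A] (T ⧸ K) :=
    Ideal.quotientMapₐ K (IsScalarTower.toAlgHom A P T) Ideal.le_comap_map
  have hψmk : ∀ a : P, ψ (Ideal.Quotient.mk q₀ a) = Ideal.Quotient.mk K (ι a) := fun a => rfl
  haveI : IsHausdorff (I.map (algebraMap A T)) (T ⧸ K) := IsHausdorff.of_le_jacobson _ _ hjacT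
  haveI : IsHausdorff I (T ⧸ K) := (IsHausdorff.map_algebraMap_iff (S := T)).1 inferInstance
  have hfinM : Module.Finite A (T ⧸ K) := by
    apply finite_of_complete A I (T ⧸ K)
    refine Module.Finite.of_surjective
      ((Submodule.mkQ (I • ⊤ : Submodule A (T ⧸ K))).comp ψ.toLinearMap) ?_
    intro w
    obtain ⟨z, rfl⟩ := Submodule.Quotient.mk_surjective _ w
    obtain ⟨a, ha⟩ := hD z
    refine ⟨Ideal.Quotient.mk q₀ a, ?_⟩
    show Submodule.Quotient.mk (ψ (Ideal.Quotient.mk q₀ a)) = Submodule.Quotient.mk z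
    rw [hψmk, eq_comm, Submodule.Quotient.eq]
    exact ha
  haveI := hfinM
  -- (S1)
  have hS1 : ∀ t : T, ∃ a : P, t - ι a ∈ K := by
    have htop : (⊤ : Submodule A (T ⧸ K)) ≤ LinearMap.range ψ.toLinearMap := by
      apply Submodule.le_of_le_smul_of_le_jacobson_bot (I := I) Module.Finite.fg_top hjacA
      intro z _
      obtain ⟨a, ha⟩ := hD z
      have h3 : z = Ideal.Quotient.mk K (ι a) + (z - Ideal.Quotient.mk K (ι a)) := by abel
      rw [h3]
      exact Submodule.add_mem_sup ⟨Ideal.Quotient.mk q₀ a, hψmk a⟩ ha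
    intro t
    obtain ⟨z, hz⟩ := htop (Submodule.mem_top (x := Ideal.Quotient.mk K t))
    obtain ⟨a, rfl⟩ := Ideal.Quotient.mk_surjective z
    refine ⟨a, ?_⟩
    have h1 : Ideal.Quotient.mk K (ι a) = Ideal.Quotient.mk K t := hz
    rw [← Ideal.Quotient.eq, h1]
  -- (Sm')
  have hSm' : ∀ (m : ℕ) (u : T), u ∈ (q₀ ^ m).map ι → ∃ a ∈ q₀ ^ m,
      u - ι a ∈ (q₀ ^ (m + 1)).map ι := by
    intro m u hu
    induction hu using Submodule.span_induction with
    | zero => exact ⟨0, zero_mem _, by rw [map_zero, sub_zero]; exact zero_mem _⟩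
    | mem x h =>
      obtain ⟨c, hc, rfl⟩ := h
      exact ⟨c, hc, by rw [sub_self]; exact zero_mem _⟩
    | add x y hx hy ihx ihy =>
      obtain ⟨a, ha, ha'⟩ := ihx
      obtain ⟨b, hb, hb'⟩ := ihy
      refine ⟨a + b, add_mem ha hb, ?_⟩
      have : x + y - ι (a + b) = (x - ι a) + (y - ι b) := by rw [map_add]; ring
      rw [this]
      exact add_mem ha' hb'
    | smul t x hx ih =>
      obtain ⟨a, ha, ha'⟩ := ih
      obtain ⟨b, hb⟩ := hS1 t
      refine ⟨b * a, Ideal.mul_mem_left _ _ ha, ?_⟩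
      have h1 : t • x - ι (b * a) = t * (x - ι a) + (t - ι b) * ι a := by
        rw [smul_eq_mul, map_mul]; ring
      rw [h1]
      refine add_mem (Ideal.mul_mem_left _ _ ha') ?_
      have h2 : (t - ι b) * ι a ∈ K * (q₀ ^ m).map ι :=
        Ideal.mul_mem_mul hb (Ideal.mem_map_of_mem _ ha)
      rw [hK, ← Ideal.map_mul, ← pow_succ'] at h2
      exact h2
  -- (Sm)
  have hSm : ∀ (m : ℕ) (t : T), ∃ a : P, t - ι a ∈ (q₀ ^ m).map ι := by
    intro m
    induction m with
    | zero =>
      intro t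
      exact ⟨0, by rw [pow_zero, Ideal.one_eq_top, Ideal.map_top]; trivial⟩
    | succ m ih =>
      intro t
      obtain ⟨a, ha⟩ := ih t
      obtain ⟨b, -, hb'⟩ := hSm' m _ ha
      refine ⟨a + b, ?_⟩
      have : t - ι (a + b) = t - ι a - ι b := by rw [map_add]; ring
      rw [this]
      exact hb'
  -- (E)
  have hE : q.asIdeal = K := by
    apply le_antisymm _ hKq
    intro b hb
    obtain ⟨a, ha⟩ := hS1 b
    have h1 : ι a ∈ q.asIdeal := by
      have := q.asIdeal.sub_mem hb (hKq ha)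
      rwa [sub_sub_cancel] at this
    have h2 : ι a ∈ K := Ideal.mem_map_of_mem _ h1
    have := K.add_mem ha h2
    rwa [sub_add_cancel] at this
  refine ⟨hSm, hE, ?_⟩
  -- (I'')
  intro m x hx
  have hmem : (Ideal.Quotient.mk (q₀ ^ m) x) ∈
      (⨅ i : ℕ, J ^ i • ⊤ : Submodule P (P ⧸ q₀ ^ m)) := by
    rw [Submodule.mem_iInf]
    intro k
    have h1 := adic_mem_sup_of_map_mem P J (q₀ ^ m) k x hx
    obtain ⟨c, hc, d, hd, hcd⟩ := Submodule.mem_sup.1 h1
    have h2 : Ideal.Quotient.mk (q₀ ^ m) x = d • (1 : P ⧸ q₀ ^ m) := by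
      rw [← hcd, map_add, Ideal.Quotient.eq_zero_iff_mem.2 hc, zero_add, Algebra.smul_def, mul_one]
      rfl
    rw [h2]
    exact Submodule.smul_mem_smul hd Submodule.mem_top
  obtain ⟨r, hr⟩ := (Ideal.mem_iInf_smul_pow_eq_bot_iff J _).1 hmem
  refine ⟨1 - r.1, ?_, ?_⟩
  · intro h1
    have h2 : ι (1 - r.1) ∈ q.asIdeal := h1
    obtain ⟨M, hM, hqM⟩ := Ideal.exists_le_maximal q.asIdeal q.2.ne_top
    have h3 : ι r.1 ∈ M := by
      have : ι r.1 ∈ J.map ι := Ideal.mem_map_of_mem _ r.2
      rw [← hIT] at this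
      exact (hjacT.trans (jacobson_bot_le_of_isMaximal hM)) this
    have h4 : ι (1 - r.1) + ι r.1 ∈ M := M.add_mem (hqM h2) h3
    rw [← map_add, sub_add_cancel, map_one] at h4
    exact hM.ne_top ((Ideal.eq_top_iff_one _).2 h4)
  · rw [← Ideal.Quotient.eq_zero_iff_mem, map_mul, map_sub, map_one, sub_mul, one_mul, sub_eq_zero]
    have h5 : (r : P) • Ideal.Quotient.mk (q₀ ^ m) x = Ideal.Quotient.mk (q₀ ^ m) r.1 *
        Ideal.Quotient.mk (q₀ ^ m) x := by
      rw [Algebra.smul_def]; rfl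
    rw [← h5, hr]

theorem main_S8839_core (J : Ideal P) (hJ : I.map (algebraMap A P) = J)
    (q : PrimeSpectrum (AdicCompletion J P))
    (hq : IsRig (I.map (algebraMap A (AdicCompletion J P))) q)
    (hp : IsRig I (PrimeSpectrum.comap (algebraMap A (AdicCompletion J P)) q))
    (m : ℕ) (hm : 1 ≤ m) :
    (∀ x : Localization.AtPrime
        (PrimeSpectrum.comap (algebraMap P (AdicCompletion J P)) q).asIdeal,
      Localization.localRingHom
        (PrimeSpectrum.comap (algebraMap P (AdicCompletion J P)) q).asIdeal q.asIdeal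
        (algebraMap P (AdicCompletion J P)) rfl x ∈
          IsLocalRing.maximalIdeal (Localization.AtPrime q.asIdeal) ^ m →
      x ∈ IsLocalRing.maximalIdeal (Localization.AtPrime
        (PrimeSpectrum.comap (algebraMap P (AdicCompletion J P)) q).asIdeal) ^ m) ∧
    (∀ y : Localization.AtPrime q.asIdeal, ∃ x : Localization.AtPrime
        (PrimeSpectrum.comap (algebraMap P (AdicCompletion J P)) q).asIdeal,
      y - Localization.localRingHom
        (PrimeSpectrum.comap (algebraMap P (AdicCompletion J P)) q).asIdeal q.asIdeal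
        (algebraMap P (AdicCompletion J P)) rfl x ∈
          IsLocalRing.maximalIdeal (Localization.AtPrime q.asIdeal) ^ m) := by
  obtain ⟨hSm, hE, hI⟩ := core_facts A I P J hJ q hq hp
  set T := AdicCompletion J P with hT
  set ι := algebraMap P T with hι
  set q₀ := (PrimeSpectrum.comap ι q).asIdeal with hq₀
  have hq₀' : q₀ = q.asIdeal.comap ι := rfl
  set L := Localization.AtPrime q.asIdeal with hL
  set L₀ := Localization.AtPrime q₀ with hL₀
  have hpow : q.asIdeal ^ m = (q₀ ^ m).map ι := by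
    rw [Ideal.map_pow, hq₀', ← hE]
  have hmaxL : IsLocalRing.maximalIdeal L ^ m = ((q₀ ^ m).map ι).map (algebraMap T L) := by
    rw [← Localization.AtPrime.map_eq_maximalIdeal (I := q.asIdeal), ← Ideal.map_pow, hpow]
  have hmaxL₀ : IsLocalRing.maximalIdeal L₀ ^ m = (q₀ ^ m).map (algebraMap P L₀) := by
    rw [← Localization.AtPrime.map_eq_maximalIdeal (I := q₀), Ideal.map_pow]
  have hKq : (q₀ ^ m).map ι ≤ q.asIdeal := by
    refine (Ideal.map_mono (Ideal.pow_le_self (by omega))).trans ?_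
    rw [hq₀']
    exact Ideal.map_comap_le
  have hnot : ∀ (t : T) (s : P), t ∉ q.asIdeal → t - ι s ∈ (q₀ ^ m).map ι → s ∉ q₀ := by
    intro t s ht hs h
    apply ht
    have h' : ι s ∈ q.asIdeal := h
    have := q.asIdeal.add_mem (hKq hs) h'
    rwa [sub_add_cancel] at this
  constructor
  · intro x hx
    obtain ⟨a, s, rfl⟩ := IsLocalization.exists_mk'_eq q₀.primeCompl x
    rw [Localization.localRingHom_mk', hmaxL, IsLocalization.mk'_mem_map_algebraMap_iff] at hx
    obtain ⟨t, ht, hta⟩ := hx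
    obtain ⟨s', hs'⟩ := hSm m t
    have hs'q : s' ∉ q₀ := hnot t s' ht hs'
    have h1 : ι (s' * a) ∈ (q₀ ^ m).map ι := by
      have : ι (s' * a) = t * ι a - (t - ι s') * ι a := by rw [map_mul]; ring
      rw [this]
      exact sub_mem hta (Ideal.mul_mem_right _ _ hs')
    obtain ⟨u, hu, hux⟩ := hI m (s' * a) h1
    rw [hmaxL₀, IsLocalization.mk'_mem_map_algebraMap_iff]
    refine ⟨u * s', ?_, by rw [mul_assoc]; exact hux⟩
    exact Submonoid.mul_mem _ hu hs'q
  · intro y
    obtain ⟨b, t, rfl⟩ := IsLocalization.exists_mk'_eq q.asIdeal.primeCompl y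
    obtain ⟨a, ha⟩ := hSm m b
    obtain ⟨s, hs⟩ := hSm m t.1
    have hsq : s ∉ q₀ := hnot t.1 s t.2 hs
    refine ⟨IsLocalization.mk' L₀ a (⟨s, hsq⟩ : q₀.primeCompl), ?_⟩
    rw [Localization.localRingHom_mk', ← IsLocalization.mk'_sub, hmaxL,
      IsLocalization.mk'_mem_map_algebraMap_iff]
    refine ⟨1, Submonoid.one_mem _, ?_⟩
    rw [one_mul]
    have : b * ι s - ι a * (t : T) = (b - ι a) * ι s - ι a * ((t : T) - ι s) := by ring
    show b * ι s - ι a * (t : T) ∈ _
    rw [this]
    exact sub_mem (Ideal.mul_mem_right _ _ ha) (Ideal.mul_mem_left _ _ hs)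

end Core

end Groth.Agent.Helper3.RigPt
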