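import Mathlib

/-!
# Topological finite type from finite type modulo the radical (S8834)
-/

set_option autoImplicit false
universe u

namespace Groth.Agent.Helper3.RigPt

variable (A : Type u) [CommRing A] (B : Type u) [CommRing B] [Algebra A B] [IsNoetherianRing B]

theorem main_S8834 (J : Ideal B) (hft : Algebra.FiniteType A (B ⧸ J.radical)) :
    ∃ s : ℕ, ∃ b : Fin s → B, ∀ (y : B) (n : ℕ),
      ∃ p : MvPolynomial (Fin s) A, y - MvPolynomial.aeval b p ∈ J ^ n := by
  set K := J.radical with hK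
  -- generators of `K`
  obtain ⟨t, g, hg⟩ := Submodule.fg_iff_exists_fin_generating_family.1
    (IsNoetherian.noetherian K)
  have hg' : K = Ideal.span (Set.range g) := hg.symm
  -- algebra generators of `B/K`
  obtain ⟨S, hS⟩ := hft.out
  obtain ⟨r, xb, hxb⟩ : ∃ (r : ℕ) (xb : Fin r → B ⧸ K), Set.range xb = (S : Set (B ⧸ K)) := by
    refine ⟨S.card, fun i => (S.equivFin.symm i : B ⧸ K), ?_⟩
    ext z
    constructor
    · rintro ⟨i, rfl⟩; exact (S.equivFin.symm i).2
    · intro hz; exact ⟨S.equivFin ⟨z, hz⟩, by simp⟩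
  choose x hx using fun i => Ideal.Quotient.mk_surjective (xb i)
  let b : Fin (r + t) → B := Fin.append x g
  let R₀ : Subalgebra A B := Algebra.adjoin A (Set.range b)
  have hxR : ∀ i, x i ∈ R₀ := fun i =>
    Algebra.subset_adjoin ⟨Fin.castAdd t i, by simp [b]⟩
  have hgR : ∀ j, g j ∈ R₀ := fun j =>
    Algebra.subset_adjoin ⟨Fin.natAdd r j, by simp [b]⟩
  -- step 0: every element is congruent mod `K` to an element of `R₀`
  have h0 : ∀ u : B, ∃ w ∈ R₀, u - w ∈ K := by
    intro u
    have hu : Ideal.Quotient.mk K u ∈ Algebra.adjoin A (S : Set (B ⧸ K)) := by rw [hS]; trivial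
    rw [← hxb] at hu
    have hmap : Algebra.adjoin A (Set.range xb) =
        (Algebra.adjoin A (Set.range x)).map (Ideal.Quotient.mkₐ A K) := by
      rw [AlgHom.map_adjoin, ← Set.range_comp]
      congr 2
      funext i
      exact (hx i).symm
    rw [hmap] at hu
    obtain ⟨w, hw, hwu⟩ := hu
    refine ⟨w, Algebra.adjoin_mono ?_ hw, ?_⟩
    · rintro _ ⟨i, rfl⟩
      exact ⟨Fin.castAdd t i, by simp [b]⟩
    · rw [← Ideal.Quotient.eq_zero_iff_mem, map_sub, sub_eq_zero]
      exact hwu.symm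
  -- step N
  have hP : ∀ N : ℕ, ∀ u ∈ K ^ N, ∃ w ∈ R₀, u - w ∈ K ^ (N + 1) := by
    intro N
    induction N with
    | zero =>
      intro u _
      obtain ⟨w, hw, huw⟩ := h0 u
      exact ⟨w, hw, by simpa using huw⟩
    | succ N ih =>
      intro u hu
      rw [pow_succ'] at hu
      refine Submodule.mul_induction_on hu ?_ ?_
      · intro m hm n hn
        rw [hg'] at hm
        obtain ⟨c, rfl⟩ := (Ideal.mem_span_range_iff_exists_fun).1 hm
        have hcn : ∀ j, c j * n ∈ K ^ N := fun j => Ideal.mul_mem_left _ _ hn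
        choose w hw hwc using fun j => ih (c j * n) (hcn j)
        refine ⟨∑ j, w j * g j, Subalgebra.sum_mem _ fun j _ =>
          Subalgebra.mul_mem _ (hw j) (hgR j), ?_⟩
        have : (∑ j, c j * g j) * n - ∑ j, w j * g j = ∑ j, (c j * n - w j) * g j := by
          rw [Finset.sum_mul, ← Finset.sum_sub_distrib]
          refine Finset.sum_congr rfl fun j _ => ?_
          ring
        rw [this]
        refine Ideal.sum_mem _ fun j _ => ?_
        rw [pow_succ (K) (N + 1)]
        refine Ideal.mul_mem_mul (hwc j) ?_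
        rw [hg']
        exact Ideal.subset_span ⟨j, rfl⟩
      · rintro u₁ u₂ ⟨w₁, hw₁, h₁⟩ ⟨w₂, hw₂, h₂⟩
        refine ⟨w₁ + w₂, Subalgebra.add_mem _ hw₁ hw₂, ?_⟩
        have : u₁ + u₂ - (w₁ + w₂) = (u₁ - w₁) + (u₂ - w₂) := by ring
        rw [this]
        exact Ideal.add_mem _ h₁ h₂
  have hQ : ∀ N : ℕ, ∀ y : B, ∃ z ∈ R₀, y - z ∈ K ^ N := by
    intro N
    induction N with
    | zero =>
      intro y
      exact ⟨0, Subalgebra.zero_mem _, by simp⟩
    | succ N ih =>
      intro y
      obtain ⟨z, hz, hyz⟩ := ih y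
      obtain ⟨w, hw, huw⟩ := hP N (y - z) hyz
      refine ⟨z + w, Subalgebra.add_mem _ hz hw, ?_⟩
      have : y - (z + w) = y - z - w := by ring
      rw [this]
      exact huw
  obtain ⟨c, hc⟩ := Ideal.exists_radical_pow_le_of_fg J (IsNoetherian.noetherian J.radical)
  refine ⟨r + t, b, fun y n => ?_⟩
  obtain ⟨z, hz, hyz⟩ := hQ (c * n) y
  have hz' : z ∈ (MvPolynomial.aeval b : MvPolynomial (Fin (r + t)) A →ₐ[A] B).range := by
    rw [← Algebra.adjoin_range_eq_range_aeval]
    exact hz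
  obtain ⟨p, rfl⟩ := hz'
  refine ⟨p, ?_⟩
  have : K ^ (c * n) ≤ J ^ n := by
    rw [pow_mul]
    exact Ideal.pow_right_mono hc n
  exact this hyz

end Groth.Agent.Helper3.RigPt
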