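import Mathlib
import Groth.Prelude.Def_CotT
import Groth.Prelude.Def_Exal
import Groth.Agent.Lib.Lead.CotTA4
import Groth.Agent.Lib.Helper3.RigSm1
import Groth.Agent.Lib.Helper3.RigSm2

/-! A rigid singular affine scheme has no affine smoothing over a smooth affine curve: main theorem
(helper3). -/

set_option autoImplicit false
set_option linter.style.haveILetI false
set_option linter.unusedSectionVars false

universe u

open TensorProduct Algebra.Extension

namespace Groth.Agent.Helper3.RigSm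

theorem main {k : Type u} [Field k] [IsAlgClosed k] (B₀ : Type u) [CommRing B₀] [Algebra k B₀]
    [Algebra.FiniteType k B₀]
    (hsing : ¬ Algebra.Smooth k B₀) (hrigid : Subsingleton (CotT.T1 (CotT.canon k B₀) B₀))
    (A B : Type u) [CommRing A] [CommRing B] [IsDomain A] [Algebra k A] [Algebra.FiniteType k A]
    (hdim : ringKrullDim A = 1) (t : A) (ht : (Ideal.span {t}).IsMaximal)
    [Algebra A B] [Algebra.FiniteType A B] [Module.Flat A B] [Algebra k B] [IsScalarTower k A B]
    (e : (B ⧸ Ideal.span {algebraMap A B t}) ≃ₐ[k] B₀) :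
    ∃ q : PrimeSpectrum B, algebraMap A B t ∉ q.asIdeal ∧ q ∉ Algebra.smoothLocus A B := by
  classical
  by_contra hcon
  push_neg at hcon
  haveI : IsNoetherianRing A := Algebra.FiniteType.isNoetherianRing k A
  haveI : Algebra.FinitePresentation A B :=
    Algebra.FinitePresentation.of_finiteType.mp inferInstance
  let P' := Algebra.Presentation.ofFinitePresentation A B
  have hfg : P'.toGenerators.toExtension.ker.FG := by
    have h1 : P'.toGenerators.toExtension.ker = Ideal.span (Set.range P'.relation) :=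
      P'.span_range_relation_eq_ker.symm
    rw [h1]
    exact Submodule.fg_span (Set.finite_range _)
  have hsub : ↑(PrimeSpectrum.basicOpen (algebraMap A B t)) ⊆ Algebra.smoothLocus A B :=
    fun q hq => hcon q hq
  obtain ⟨m, χ₀, hχ₀⟩ :=
    (Groth.Agent.Lib.Lead.CotTA4.basicOpen_subset_smoothLocus_iff_split P'.toGenerators hfg
      (algebraMap A B t)).mp hsub
  have hsplit : Split P'.toGenerators.toExtension ((algebraMap A B t) ^ m) := ⟨χ₀, hχ₀⟩
  -- trivialisation of the `m`-th neighbourhood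
  have hT := isTrivial_of_T1 k B₀ hrigid
  obtain ⟨π, hπsurj, hπker, hπA⟩ := exists_triv (k := k) (B₀ := B₀) t ht e hT m
  letI algBS : Algebra B ((A ⧸ Ideal.span {t ^ (m + 1)}) ⊗[k] B₀) := π.toAlgebra
  have halgB : ∀ b, algebraMap B ((A ⧸ Ideal.span {t ^ (m + 1)}) ⊗[k] B₀) b = π b := fun _ => rfl
  haveI tow2 : IsScalarTower A B ((A ⧸ Ideal.span {t ^ (m + 1)}) ⊗[k] B₀) :=
    IsScalarTower.of_algebraMap_eq (fun a => by
      rw [halgB, hπA]
      rfl)
  have hsurj : Function.Surjective (MvPolynomial.aeval (R := A ⧸ Ideal.span {t ^ (m + 1)})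
      (fun i => algebraMap B ((A ⧸ Ideal.span {t ^ (m + 1)}) ⊗[k] B₀)
        (P'.toGenerators.val i))) := by
    intro s
    obtain ⟨b, rfl⟩ := hπsurj s
    refine ⟨MvPolynomial.map (algebraMap A (A ⧸ Ideal.span {t ^ (m + 1)}))
      (P'.toGenerators.σ b), ?_⟩
    rw [MvPolynomial.aeval_map_algebraMap]
    have h1 := MvPolynomial.aeval_algebraMap_apply (R := A) (A := B)
      (B := (A ⧸ Ideal.span {t ^ (m + 1)}) ⊗[k] B₀) P'.toGenerators.val (P'.toGenerators.σ b)
    rw [P'.toGenerators.aeval_val_σ] at h1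
    exact h1
  let G' : Algebra.Generators (A ⧸ Ideal.span {t ^ (m + 1)})
      ((A ⧸ Ideal.span {t ^ (m + 1)}) ⊗[k] B₀) _ :=
    Algebra.Generators.ofSurjective _ hsurj
  have hker' : RingHom.ker (algebraMap B ((A ⧸ Ideal.span {t ^ (m + 1)}) ⊗[k] B₀)) ≤
      Ideal.map (algebraMap A B) (RingHom.ker (algebraMap A (A ⧸ Ideal.span {t ^ (m + 1)}))) := by
    have h1 : RingHom.ker (algebraMap A (A ⧸ Ideal.span {t ^ (m + 1)})) =
        Ideal.span {t ^ (m + 1)} := by
      rw [Ideal.Quotient.algebraMap_eq]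
      exact Ideal.mk_ker
    rw [h1]
    exact hπker
  have h1 := split_of_surjective P'.toGenerators G' (fun i => rfl)
    Ideal.Quotient.mk_surjective hker' hsplit
  have h2 := split_generators G'
    ((Algebra.Generators.self k B₀).baseChange (A ⧸ Ideal.span {t ^ (m + 1)})) h1
  have h3 := split_baseChange (Algebra.Generators.self k B₀) (A ⧸ Ideal.span {t ^ (m + 1)}) h2
  have hel : algebraMap B ((A ⧸ Ideal.span {t ^ (m + 1)}) ⊗[k] B₀) ((algebraMap A B t) ^ m) =
      algebraMap (A ⧸ Ideal.span {t ^ (m + 1)}) ((A ⧸ Ideal.span {t ^ (m + 1)}) ⊗[k] B₀)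
        ((Ideal.Quotient.mk (Ideal.span {t ^ (m + 1)}) t) ^ m) := by
    calc algebraMap B ((A ⧸ Ideal.span {t ^ (m + 1)}) ⊗[k] B₀) ((algebraMap A B t) ^ m)
        = algebraMap B ((A ⧸ Ideal.span {t ^ (m + 1)}) ⊗[k] B₀) (algebraMap A B (t ^ m)) :=
          congrArg _ (map_pow (algebraMap A B) t m).symm
      _ = algebraMap A ((A ⧸ Ideal.span {t ^ (m + 1)}) ⊗[k] B₀) (t ^ m) :=
          (IsScalarTower.algebraMap_apply A B _ _).symm
      _ = algebraMap (A ⧸ Ideal.span {t ^ (m + 1)}) ((A ⧸ Ideal.span {t ^ (m + 1)}) ⊗[k] B₀)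
            (algebraMap A (A ⧸ Ideal.span {t ^ (m + 1)}) (t ^ m)) :=
          IsScalarTower.algebraMap_apply A (A ⧸ Ideal.span {t ^ (m + 1)}) _ _
      _ = _ := congrArg _ (map_pow (algebraMap A (A ⧸ Ideal.span {t ^ (m + 1)})) t m)
  have h3' : Split ((Algebra.Generators.self k B₀).toExtension.baseChange
      (T := A ⧸ Ideal.span {t ^ (m + 1)}))
      (algebraMap (A ⧸ Ideal.span {t ^ (m + 1)}) ((A ⧸ Ideal.span {t ^ (m + 1)}) ⊗[k] B₀)
        ((Ideal.Quotient.mk (Ideal.span {t ^ (m + 1)}) t) ^ m)) := by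
    rw [← hel]
    exact h3
  have hne : (Ideal.Quotient.mk (Ideal.span {t ^ (m + 1)}) t) ^ m ≠ 0 := by
    rw [← map_pow, Ne, Ideal.Quotient.eq_zero_iff_mem]
    exact pow_not_mem t (t_ne_zero hdim t ht)
      (fun hu => ht.ne_top (Ideal.span_singleton_eq_top.mpr hu)) m
  obtain ⟨lam, hlam⟩ := exists_functional (k := k) _ hne
  have h4 := split_descend (Algebra.Generators.self k B₀).toExtension
    (A ⧸ Ideal.span {t ^ (m + 1)}) _ lam hlam h3'
  have h5 := formallySmooth_of_split (Algebra.Generators.self k B₀) h4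
  haveI : Algebra.FinitePresentation k B₀ :=
    Algebra.FinitePresentation.of_finiteType.mp inferInstance
  exact hsing ⟨h5, inferInstance⟩

end Groth.Agent.Helper3.RigSm
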