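import Mathlib
import Groth.Prelude.Def_Exal
import Groth.Agent.Lib.Helper3.RigidDef
import Groth.Agent.Lib.Helper3.RigidT1a
import Groth.Agent.Lib.Helper9.ThickAff

/-! Rigidity of affine schemes with vanishing `T¹` under flat deformations over a local Artin
algebra: the scheme level (helper3). -/

set_option autoImplicit false
set_option linter.style.haveILetI false
universe u
open CategoryTheory CategoryTheory.Limits AlgebraicGeometry TensorProduct

namespace Groth.Agent.Helper3.RigidT1

theorem specLevel' (k : Type u) [Field k] (A : Type u) [CommRing A]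
    [IsLocalRing A] [IsArtinianRing A] [Algebra k A] (e : A →ₐ[k] k) (B₀ : Type u) [CommRing B₀]
    [Algebra k B₀] (hT : ∀ E : Exal.Ext k B₀ B₀, E.IsTrivial) (B' : CommRingCat.{u})
    (AB' : CommRingCat.of A ⟶ B') (ι : B' ⟶ CommRingCat.of B₀)
    (hpb : IsPullback (Spec.map ι) (Spec.map (CommRingCat.ofHom (algebraMap k B₀)))
      (Spec.map AB') (Spec.map (CommRingCat.ofHom e.toRingHom)))
    (hfl : AB'.hom.Flat) (hι : Function.Surjective ι.hom) :
    ∃ s : CommRingCat.of B₀ ⟶ B', IsPullback (Spec.map s) (Spec.map AB')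
      (Spec.map (CommRingCat.ofHom (algebraMap k B₀)))
      (Spec.map (CommRingCat.ofHom (algebraMap k A))) ∧ s ≫ ι = 𝟙 _ := by
  letI : Algebra A B' := AB'.hom.toAlgebra
  haveI : Module.Flat A B' := hfl
  have hw : AB' ≫ ι = CommRingCat.ofHom e.toRingHom ≫ CommRingCat.ofHom (algebraMap k B₀) := by
    apply Spec.map_injective
    rw [Spec.map_comp, Spec.map_comp]
    exact hpb.w
  have hcomp : ∀ a : A, ι.hom (algebraMap A B' a) = algebraMap k B₀ (e a) := by
    intro a
    have := congrArg (fun m => m.hom a) hw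
    exact this
  obtain ⟨J, hJ⟩ : ∃ J : Ideal B', J = Ideal.map (algebraMap A B') (RingHom.ker e) := ⟨_, rfl⟩
  have hker : RingHom.ker ι.hom = Ideal.map (algebraMap A B') (RingHom.ker e) := by
    rw [← hJ]
    apply le_antisymm
    · refine RigidDef.ker_le_of_isPullback AB' (CommRingCat.ofHom e.toRingHom)
        (CommRingCat.ofHom (algebraMap k B₀)) ι hpb J
        (CommRingCat.ofHom
          ((Ideal.Quotient.mk J).comp ((algebraMap A B').comp (algebraMap k A)))) ?_
      ext a
      show Ideal.Quotient.mk J (algebraMap A B' a) =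
        Ideal.Quotient.mk J (algebraMap A B' (algebraMap k A (e a)))
      rw [Ideal.Quotient.eq, ← map_sub, hJ]
      apply Ideal.mem_map_of_mem
      rw [RingHom.mem_ker, map_sub, e.commutes]
      simp
    · rw [hJ, Ideal.map_le_iff_le_comap]
      intro a ha
      rw [Ideal.mem_comap, RingHom.mem_ker, hcomp, RingHom.mem_ker.mp ha, map_zero]
  obtain ⟨s, hs, hsk⟩ := exists_section k A e B₀ B' hT ι.hom hι hker hcomp
  obtain ⟨Ψ, h1, h2⟩ := core' k A e B₀ B' ι.hom hker hcomp s hs hsk
  have hpo := RigidDef.isPushout_of_equiv k A B₀ B' (algebraMap A B') s Ψ h1 h2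
  refine ⟨CommRingCat.ofHom s, ?_, ?_⟩
  · exact isPullback_SpecMap_of_isPushout (CommRingCat.ofHom (algebraMap k B₀))
      (CommRingCat.ofHom (algebraMap k A)) (CommRingCat.ofHom s) AB' hpo
  · ext b
    exact hs b

theorem main' (k : Type u) [Field k] (B₀ : Type u) [CommRing B₀] [Algebra k B₀]
    (hT : ∀ E : Exal.Ext k B₀ B₀, E.IsTrivial)
    (A : Type u) [CommRing A] [IsLocalRing A] [IsArtinianRing A] [Algebra k A] (e : A →ₐ[k] k)
    (X' : Scheme.{u}) (g : X' ⟶ Spec (CommRingCat.of A)) [Flat g]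
    (i : Spec (CommRingCat.of B₀) ⟶ X')
    (hsq : IsPullback i (Spec.map (CommRingCat.ofHom (algebraMap k B₀))) g
      (Spec.map (CommRingCat.ofHom e.toRingHom))) :
    ∃ r : X' ⟶ Spec (CommRingCat.of B₀),
      IsPullback r g (Spec.map (CommRingCat.ofHom (algebraMap k B₀)))
        (Spec.map (CommRingCat.ofHom (algebraMap k A))) ∧ i ≫ r = 𝟙 _ := by
  have he : Function.Surjective e := fun c => ⟨algebraMap k A c, by simp⟩
  haveI : IsClosedImmersion (Spec.map (CommRingCat.ofHom e.toRingHom)) :=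
    IsClosedImmersion.spec_of_surjective _ he
  haveI : IsClosedImmersion i :=
    MorphismProperty.of_isPullback (P := @IsClosedImmersion) hsq.flip inferInstance
  haveI : Surjective (Spec.map (CommRingCat.ofHom e.toRingHom)) := by
    refine ⟨fun p => ?_⟩
    have key : ∀ q : PrimeSpectrum A, ∃ q' : PrimeSpectrum k,
        PrimeSpectrum.comap e.toRingHom q' = q := by
      intro q
      haveI : q.asIdeal.IsMaximal := inferInstance
      have hIm : (RingHom.ker e).IsMaximal := RingHom.ker_isMaximal_of_surjective e he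
      have hq : q.asIdeal = RingHom.ker e := by
        rw [IsLocalRing.eq_maximalIdeal hIm, IsLocalRing.eq_maximalIdeal ‹q.asIdeal.IsMaximal›]
      refine ⟨⟨⊥, Ideal.isPrime_bot⟩, ?_⟩
      apply PrimeSpectrum.ext
      show Ideal.comap e.toRingHom ⊥ = q.asIdeal
      rw [hq]; rfl
    obtain ⟨q', hq'⟩ := key p
    exact ⟨q', hq'⟩
  haveI : Surjective i :=
    MorphismProperty.of_isPullback (P := @Surjective) hsq.flip inferInstance
  haveI : IsAffine X' := H9ThickAff.isAffine_of_thickening i ‹Surjective i›.surj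
  let AB' : CommRingCat.of A ⟶ Γ(X', ⊤) := (Scheme.ΓSpecIso (CommRingCat.of A)).inv ≫ g.appTop
  have F2 : g = X'.isoSpec.hom ≫ Spec.map AB' := RigidDef.fact1 _ g
  obtain ⟨ι', hι'def⟩ : ∃ ι' : Γ(X', ⊤) ⟶ CommRingCat.of B₀,
      ι' = i.appTop ≫ (Scheme.ΓSpecIso (CommRingCat.of B₀)).hom := ⟨_, rfl⟩
  have hι' : Spec.map ι' = i ≫ X'.isoSpec.hom := by
    rw [hι'def, Spec.map_comp, ← Scheme.isoSpec_Spec_hom, Scheme.isoSpec_hom_naturality]
  have hpb : IsPullback (Spec.map ι') (Spec.map (CommRingCat.ofHom (algebraMap k B₀)))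
      (Spec.map AB') (Spec.map (CommRingCat.ofHom e.toRingHom)) := by
    refine hsq.of_iso (Iso.refl _) X'.isoSpec (Iso.refl _) (Iso.refl _) ?_ ?_ ?_ ?_
    · rw [Iso.refl_hom, Category.id_comp]; exact hι'.symm
    · simp
    · rw [Iso.refl_hom, Category.comp_id]; exact F2
    · simp
  have hfl : AB'.hom.Flat := by
    have h1 : RingHom.Flat g.appTop.hom :=
      (HasRingHomProperty.iff_of_isAffine (P := @Flat)).mp inferInstance
    show RingHom.Flat (g.appTop.hom.comp (Scheme.ΓSpecIso (CommRingCat.of A)).inv.hom)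
    exact RingHom.Flat.comp (RingHom.Flat.of_bijective
      (ConcreteCategory.bijective_of_isIso (Scheme.ΓSpecIso (CommRingCat.of A)).inv)) h1
  have hι : Function.Surjective ι'.hom := by
    have h1 : Function.Surjective i.appTop.hom :=
      (IsClosedImmersion.isAffine_surjective_of_isAffine i).2
    rw [hι'def]
    show Function.Surjective
      ((Scheme.ΓSpecIso (CommRingCat.of B₀)).hom.hom.comp i.appTop.hom)
    rw [RingHom.coe_comp]
    exact (ConcreteCategory.bijective_of_isIso
      (Scheme.ΓSpecIso (CommRingCat.of B₀)).hom).2.comp h1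
  obtain ⟨s, hs, hsι⟩ := specLevel' k A e B₀ hT Γ(X', ⊤) AB' ι' hpb hfl hι
  refine ⟨X'.isoSpec.hom ≫ Spec.map s, ?_, ?_⟩
  · refine hs.of_iso X'.isoSpec.symm (Iso.refl _) (Iso.refl _) (Iso.refl _) ?_ ?_ ?_ ?_
    · simp
    · rw [Iso.refl_hom, Category.comp_id, Iso.symm_hom, Iso.eq_inv_comp]; exact F2.symm
    · simp
    · simp
  · rw [← Category.assoc, ← hι', ← Spec.map_comp, hsι, Spec.map_id]

end Groth.Agent.Helper3.RigidT1
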