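import Mathlib
import Groth.Prelude.Def_DCoh2

/-!
# A functor computed on models commutes with derived limits (abstract form)
-/

set_option autoImplicit false
universe v₁ v₂ v₃ u₁ u₂ u₃

open CategoryTheory Limits Pretriangulated

namespace Groth.Agent.Helper3.RlimAbs

variable {𝒦 : Type u₁} {𝒟 : Type u₂} {ℰ : Type u₃} [Category.{v₁} 𝒦] [Category.{v₂} 𝒟]
  [Category.{v₃} ℰ]
  [Preadditive 𝒦] [HasZeroObject 𝒦] [HasShift 𝒦 ℤ] [∀ n : ℤ, (shiftFunctor 𝒦 n).Additive]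
  [Pretriangulated 𝒦]
  [Preadditive 𝒟] [HasZeroObject 𝒟] [HasShift 𝒟 ℤ] [∀ n : ℤ, (shiftFunctor 𝒟 n).Additive]
  [Pretriangulated 𝒟]
  [Preadditive ℰ] [HasZeroObject ℰ] [HasShift ℰ ℤ] [∀ n : ℤ, (shiftFunctor ℰ n).Additive]
  [Pretriangulated ℰ]
  (q : 𝒦 ⥤ 𝒟) [q.CommShift ℤ] [q.IsTriangulated] [q.Additive]
  (T : 𝒦 ⥤ ℰ) [T.CommShift ℤ] [T.IsTriangulated] [T.Additive]
  (RF : 𝒟 ⥤ ℰ) (α : T ⟶ q ⋙ RF)

/-- the comparison isomorphism between a product and a model of it -/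
noncomputable def prodIso {C : Type*} [Category C] {X Y : ℕ → C} [HasProduct X] {c : Fan Y}
    (hc : IsLimit c) (e : ∀ n, X n ≅ Y n) : ∏ᶜ X ≅ c.pt where
  hom := Fan.IsLimit.lift hc (fun n => Pi.π X n ≫ (e n).hom)
  inv := Pi.lift (fun n => c.proj n ≫ (e n).inv)
  hom_inv_id := by
    apply Pi.hom_ext
    intro n
    rw [Category.assoc, Pi.lift_π, ← Category.assoc, Fan.IsLimit.fac, Category.assoc,
      Iso.hom_inv_id, Category.comp_id, Category.id_comp]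
  inv_hom_id := by
    refine Fan.IsLimit.hom_ext hc _ _ (fun n => ?_)
    rw [Category.assoc, Fan.IsLimit.fac, ← Category.assoc, Pi.lift_π, Category.assoc,
      Iso.inv_hom_id, Category.comp_id, Category.id_comp]

lemma prodIso_hom_proj {C : Type*} [Category C] {X Y : ℕ → C} [HasProduct X] {c : Fan Y}
    (hc : IsLimit c) (e : ∀ n, X n ≅ Y n) (n : ℕ) :
    (prodIso hc e).hom ≫ c.proj n = Pi.π X n ≫ (e n).hom :=
  Fan.IsLimit.fac hc _ n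

theorem isRlim_of_models
    (K : ℕ → 𝒟) (t : ∀ n, K (n + 1) ⟶ K n) (L : 𝒟) [HasProduct K]
    [HasProduct (fun n => RF.obj (K n))]
    (hL : DCoh.IsRlim K t L)
    (Pn : ℕ → 𝒦) (e : ∀ n, q.obj (Pn n) ≅ K n) (hα : ∀ n, IsIso (α.app (Pn n)))
    (P : 𝒦) (p : ∀ n, P ⟶ Pn n)
    (hq : IsLimit (Fan.mk (q.obj P) (fun n => q.map (p n))))
    (hT : IsLimit (Fan.mk (T.obj P) (fun n => T.map (p n))))
    (τ : ∀ n, Pn (n + 1) ⟶ Pn n) (hτ : ∀ n, q.map (τ n) ≫ (e n).hom = (e (n + 1)).hom ≫ t n)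
    (φ : P ⟶ P) (hφ : ∀ n, φ ≫ p n = p n - p (n + 1) ≫ τ n)
    (Z : 𝒦) (z : Z ⟶ P) (z' : P ⟶ Z⟦(1 : ℤ)⟧) (hZ : Triangle.mk z φ z' ∈ distTriang 𝒦)
    (hαZ : IsIso (α.app Z)) :
    DCoh.IsRlim (fun n => RF.obj (K n)) (fun n => RF.map (t n)) (RF.obj L) := by
  obtain ⟨a, c, hac⟩ := hL
  -- step (i): the product in `𝒟`
  let ψ : ∏ᶜ K ≅ q.obj P := prodIso hq (fun n => (e n).symm)
  have hψ : ∀ n, ψ.hom ≫ q.map (p n) = Pi.π K n ≫ (e n).inv := fun n => prodIso_hom_proj hq _ n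
  have hτ' : ∀ n, (e (n + 1)).inv ≫ q.map (τ n) = t n ≫ (e n).inv := fun n => by
    rw [Iso.inv_comp_eq, ← Category.assoc, Iso.eq_comp_inv, hτ]
  have comm : (Pi.lift fun n => Pi.π K n - Pi.π K (n + 1) ≫ t n) ≫ ψ.hom = ψ.hom ≫ q.map φ := by
    refine Fan.IsLimit.hom_ext hq _ _ (fun n => ?_)
    change (_ ≫ ψ.hom) ≫ q.map (p n) = (ψ.hom ≫ q.map φ) ≫ q.map (p n)
    rw [Category.assoc, Category.assoc, hψ, ← q.map_comp, hφ, q.map_sub, q.map_comp,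
      Preadditive.comp_sub, ← Category.assoc, Pi.lift_π, hψ, ← Category.assoc ψ.hom, hψ,
      Preadditive.sub_comp, Category.assoc, Category.assoc, hτ']
  -- step (ii): `L ≅ q Z`
  have hqZ := q.map_distinguished _ hZ
  let R₁ := (Triangle.mk a (Pi.lift fun n => Pi.π K n - Pi.π K (n + 1) ≫ t n) c).rotate
  let R₂ := (q.mapTriangle.obj (Triangle.mk z φ z')).rotate
  let ρ : R₁ ≅ R₂ := isoTriangleOfIso₁₂ R₁ R₂ (rot_of_distTriang _ hac) (rot_of_distTriang _ hqZ)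
    ψ ψ comm
  let θ : L ≅ q.obj Z := (shiftFunctor 𝒟 (1 : ℤ)).preimageIso (Triangle.π₃.mapIso ρ)
  -- step (iii)
  have hTZ := T.map_distinguished _ hZ
  let κ : RF.obj L ≅ T.obj Z := RF.mapIso θ ≪≫ (asIso (α.app Z)).symm
  let ε : ∀ n, RF.obj (K n) ≅ T.obj (Pn n) := fun n =>
    RF.mapIso (e n).symm ≪≫ (@asIso _ _ _ _ (α.app (Pn n)) (hα n)).symm
  let ψ' : (∏ᶜ fun n => RF.obj (K n)) ≅ T.obj P := prodIso hT ε
  have hψ' : ∀ n, ψ'.hom ≫ T.map (p n) = Pi.π (fun n => RF.obj (K n)) n ≫ (ε n).hom :=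
    fun n => prodIso_hom_proj hT _ n
  have hε : ∀ n, (ε (n + 1)).hom ≫ T.map (τ n) = RF.map (t n) ≫ (ε n).hom := fun n => by
    have hnat := α.naturality (τ n)
    have := hα n
    have := hα (n + 1)
    have h1 : inv (α.app (Pn (n + 1))) ≫ T.map (τ n) =
        RF.map (q.map (τ n)) ≫ inv (α.app (Pn n)) := by
      rw [IsIso.inv_comp_eq, ← Category.assoc, IsIso.eq_comp_inv]
      exact hnat
    dsimp only [ε, Iso.trans_hom, Functor.mapIso_hom, Iso.symm_hom, asIso_inv]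
    rw [Category.assoc, h1, ← Category.assoc, ← Category.assoc (RF.map (t n)), ← RF.map_comp,
      ← RF.map_comp, hτ']
  have comm' : (Pi.lift fun n => Pi.π (fun n => RF.obj (K n)) n -
      Pi.π (fun n => RF.obj (K n)) (n + 1) ≫ RF.map (t n)) ≫ ψ'.hom = ψ'.hom ≫ T.map φ := by
    refine Fan.IsLimit.hom_ext hT _ _ (fun n => ?_)
    change (_ ≫ ψ'.hom) ≫ T.map (p n) = (ψ'.hom ≫ T.map φ) ≫ T.map (p n)
    rw [Category.assoc, Category.assoc, hψ', ← T.map_comp, hφ, T.map_sub, T.map_comp,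
      Preadditive.comp_sub, ← Category.assoc, Pi.lift_π, hψ', ← Category.assoc ψ'.hom, hψ',
      Preadditive.sub_comp, Category.assoc, Category.assoc, hε]
  -- step (iv)
  refine ⟨κ.hom ≫ T.map z ≫ ψ'.inv,
    ψ'.hom ≫ (T.map z' ≫ (T.commShiftIso (1 : ℤ)).hom.app Z) ≫ κ.inv⟦(1 : ℤ)⟧', ?_⟩
  refine isomorphic_distinguished _ hTZ _ (Triangle.isoMk _ _ κ ψ' ψ' ?_ ?_ ?_)
  · change (κ.hom ≫ T.map z ≫ ψ'.inv) ≫ ψ'.hom = κ.hom ≫ T.map z
    rw [Category.assoc, Category.assoc, Iso.inv_hom_id, Category.comp_id]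
  · exact comm'
  · change (ψ'.hom ≫ (T.map z' ≫ (T.commShiftIso (1 : ℤ)).hom.app Z) ≫ κ.inv⟦(1 : ℤ)⟧') ≫
        κ.hom⟦(1 : ℤ)⟧' = ψ'.hom ≫ (T.map z' ≫ (T.commShiftIso (1 : ℤ)).hom.app Z)
    simp only [Category.assoc]
    rw [← Functor.map_comp, Iso.inv_hom_id, CategoryTheory.Functor.map_id]
    erw [Category.comp_id]

end Groth.Agent.Helper3.RlimAbs
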