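import Mathlib
import Groth.Prelude.Def_DCoh2
import Groth.Agent.Lib.Helper3.RlimAbs
import Groth.Agent.Lib.Helper3.DProd
import Groth.Agent.Lib.Helper3.KInjDer
import Groth.Agent.Lib.Helper3.KInjProd

/-!
# The total right derived functor commutes with derived limits
-/

set_option autoImplicit false
set_option linter.unusedSectionVars false
universe w w' v v' u u'

open CategoryTheory Limits Pretriangulated DerivedCategory

namespace Groth.Agent.Helper3.RlimDer

open KInjProd

/-- exactness of products from preservation of epimorphisms -/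
lemma hasExactLimitsOfShape {B : Type u'} [Category.{v'} B] [Abelian B] (J : Type w)
    [HasLimitsOfShape (Discrete J) B]
    [(lim : (Discrete J ⥤ B) ⥤ B).PreservesEpimorphisms] :
    HasExactLimitsOfShape (Discrete J) B := by
  have hlimL : PreservesFiniteLimits (lim : (Discrete J ⥤ B) ⥤ B) := inferInstance
  have h1 := ((Functor.preservesFiniteLimits_tfae (lim : (Discrete J ⥤ B) ⥤ B)).out 3 0).1 hlimL
  exact ⟨((Functor.preservesFiniteColimits_tfae (lim : (Discrete J ⥤ B) ⥤ B)).out 0 3).1
    (fun S hS => And.intro (h1 S hS).1 (by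
      have := hS.epi_g
      infer_instance))⟩

section

variable {A : Type u} [Category.{v} A] [Abelian A] {B : Type u'} [Category.{v'} B] [Abelian B]
  [HasProductsOfShape ℕ A] [HasProductsOfShape ℕ B]
  (F : A ⥤ B) [F.Additive] [PreservesLimitsOfShape (Discrete ℕ) F]

/-- the comparison map `F (∏ I n) ⟶ ∏ F (I n)` -/
noncomputable def θ (I : ℕ → CochainComplex A ℤ) :
    (F.mapHomologicalComplex (ComplexShape.up ℤ)).obj (pK I) ⟶
      pK (fun n => (F.mapHomologicalComplex (ComplexShape.up ℤ)).obj (I n)) :=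
  liftK (fun n => (F.mapHomologicalComplex (ComplexShape.up ℤ)).map (prK I n))

lemma θ_prK (I : ℕ → CochainComplex A ℤ) (n : ℕ) :
    θ F I ≫ prK (fun n => (F.mapHomologicalComplex (ComplexShape.up ℤ)).obj (I n)) n =
      (F.mapHomologicalComplex (ComplexShape.up ℤ)).map (prK I n) :=
  liftK_prK _ n

instance (I : ℕ → CochainComplex A ℤ) : IsIso (θ F I) := by
  have : ∀ i, IsIso ((θ F I).f i) := fun i => by
    change IsIso (piComparison F (fun n => (I n).X i))
    infer_instance
  exact HomologicalComplex.Hom.isIso_of_components _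

end

variable {A : Type u} [Category.{v} A] [Abelian A] [IsGrothendieckAbelian.{v} A]
  [HasDerivedCategory.{w} A] {B : Type u'} [Category.{v'} B] [Abelian B]
  [HasDerivedCategory.{w'} B]
  [HasProductsOfShape ℕ B] [HasExactLimitsOfShape (Discrete ℕ) B]
  (F : A ⥤ B) [F.Additive] [PreservesLimitsOfShape (Discrete ℕ) F]
  {RF : DerivedCategory A ⥤ DerivedCategory B}
  (α : F.mapHomotopyCategory (ComplexShape.up ℤ) ⋙ Qh ⟶ Qh ⋙ RF)
  [RF.IsRightDerivedFunctor α (HomotopyCategory.quasiIso A (ComplexShape.up ℤ))]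

include α in
theorem isRlim (K : ℕ → DerivedCategory A) (t : ∀ n, K (n + 1) ⟶ K n) (L : DerivedCategory A)
    [HasProduct K] [HasProduct fun n => RF.obj (K n)] (hL : DCoh.IsRlim K t L) :
    DCoh.IsRlim (fun n => RF.obj (K n)) (fun n => RF.map (t n)) (RF.obj L) := by
  have : HasProductsOfShape ℕ A := hasProductsOfShape_of_small.{v} A ℕ
  -- K-injective models
  have hres : ∀ n, ∃ (I : CochainComplex A ℤ), I.IsKInjective ∧ Nonempty (Q.obj I ≅ K n) := by
    intro n
    obtain ⟨I, f, hI, hf, _, _⟩ := KInjD.exists_kInjective_resolution (Q.objPreimage (K n))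
    have : IsIso (Q.map f) := (isIso_Q_map_iff_quasiIso A _).2 hf
    exact ⟨I, hI, ⟨(asIso (Q.map f)).symm ≪≫ Q.objObjPreimageIso (K n)⟩⟩
  choose I hI e' using hres
  have : ∀ n, (I n).IsKInjective := hI
  let e : ∀ n, Q.obj (I n) ≅ K n := fun n => (e' n).some
  -- transition maps
  have hg := fun n => exists_Q_map_eq (I (n + 1)) (I n) ((e (n + 1)).hom ≫ t n ≫ (e n).inv)
  choose g hg using hg
  let Φ : pK I ⟶ pK I := liftK (fun n => prK I n - prK I (n + 1) ≫ g n)
  let quot := HomotopyCategory.quotient A (ComplexShape.up ℤ)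
  -- the cone
  obtain ⟨Z, z, z', hZ⟩ := distinguished_cocone_triangle₁ (quot.map Φ)
  have hZK : (HomotopyCategory.subcategoryAcyclic A).rightOrthogonal Z :=
    (HomotopyCategory.subcategoryAcyclic A).rightOrthogonal.ext_of_isTriangulatedClosed₁ _ hZ
      (CochainComplex.IsKInjective.rightOrthogonal (pK I))
      (CochainComplex.IsKInjective.rightOrthogonal (pK I))
  obtain ⟨Z', rfl⟩ := HomotopyCategory.quotient_obj_surjective Z
  have hZ' : CochainComplex.IsKInjective Z' := (CochainComplex.isKInjective_iff_rightOrthogonal Z').2 hZK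
  let FI : ℕ → CochainComplex B ℤ := fun n => (F.mapHomologicalComplex (ComplexShape.up ℤ)).obj (I n)
  refine RlimAbs.isRlim_of_models Qh (F.mapHomotopyCategory (ComplexShape.up ℤ) ⋙ Qh) RF α K t L hL
    (fun n => quot.obj (I n)) e
    (fun n => KInjDer.isIso_unit_app (F.mapHomotopyCategory (ComplexShape.up ℤ) ⋙ Qh) α (I n))
    (quot.obj (pK I)) (fun n => quot.map (prK I n)) (isLimitFan I) ?_
    (fun n => quot.map (g n)) ?_ (quot.map Φ) ?_ (quot.obj Z') z z' hZ
    (KInjDer.isIso_unit_app (F.mapHomotopyCategory (ComplexShape.up ℤ) ⋙ Qh) α Z')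
  · -- the product in `D(B)`
    refine IsLimit.ofIsoLimit (DProd.isLimitFan FI) (Fan.ext (Q.mapIso (asIso (θ F I))).symm ?_)
    intro n
    change Q.map (prK FI n) = Q.map (inv (θ F I)) ≫
      Q.map ((F.mapHomologicalComplex (ComplexShape.up ℤ)).map (prK I n))
    rw [← Q.map_comp]
    congr 1
    rw [IsIso.eq_inv_comp, θ_prK]
  · intro n
    change Q.map (g n) ≫ (e n).hom = _
    rw [hg, Category.assoc, Category.assoc, Iso.inv_hom_id, Category.comp_id]
    try rfl
  · intro n
    rw [← quot.map_comp, liftK_prK, quot.map_sub, quot.map_comp]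

end Groth.Agent.Helper3.RlimDer
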