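import Mathlib
import Groth.Agent.Lib.Helper3.WeylChain1
import Groth.Agent.Lib.Helper3.RootIsog1
import Groth.Agent.Lib.Helper3.WeylLen1

/-!
# Root pairings over ℤ with a base are reduced; reflected bases; closed subsets (towards S8517)
-/

open RootPairing

namespace Groth.Agent.Lib.Helper3.RootClosed1

open Groth.Agent.Lib.Helper3.WeylChain1 Groth.Agent.Lib.Helper3.RootIsog1
  Groth.Agent.Lib.Helper3.WeylLen1

variable {ι M N : Type*} [AddCommGroup M] [AddCommGroup N] [Finite ι]

lemma tf (P : RootPairing ι ℤ M N) :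
    Module.IsTorsionFree ℤ M ∧ Module.IsTorsionFree ℤ N := by
  have h1 : Module.IsReflexive ℤ M := .of_isPerfPair P.toLinearMap
  have h2 : Module.IsReflexive ℤ N := .of_isPerfPair P.flip.toLinearMap
  exact ⟨inferInstance, inferInstance⟩

lemma no_double_simple {P : RootPairing ι ℤ M N} (b : P.Base) {j c : ι} (hj : j ∈ b.support)
    (h : P.root c = (2 : ℤ) • P.root j) : False := by
  classical
  obtain ⟨hM, hN⟩ := tf P
  have hM' : IsAddTorsionFree M := .of_isTorsionFree ℤ M
  have hN' : IsAddTorsionFree N := .of_isTorsionFree ℤ N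
  have hco : P.coroot j = (2 : ℤ) • P.coroot c := RootPairing.coroot_eq_smul_coroot_iff.mpr h
  obtain ⟨m, -, hm⟩ := b.flip.exists_root_eq_sum_nat_or_neg c
  have key : ∀ ε : ℤ, P.coroot c = ε • ∑ k ∈ b.support, (m k : ℤ) • P.coroot k →
      (1 - 2 * ε * m j = 0) := by
    intro ε hε
    have hsum : ∑ k ∈ b.support,
        ((if k = j then 1 else 0) - 2 * ε * (m k : ℤ)) • P.coroot k = 0 := by
      simp_rw [sub_smul, Finset.sum_sub_distrib, mul_smul, ← Finset.smul_sum, ← hε, ← hco]
      simp [Finset.sum_ite_eq', hj, ite_smul]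
    have := linearIndepOn_iff'.mp b.linearIndepOn_coroot b.support _ (subset_refl _) hsum j hj
    simpa using this
  rcases hm with hm | hm
  · have := key 1 (by rw [one_smul]; simpa using hm)
    omega
  · have := key (-1) (by rw [neg_one_smul]; simpa using hm)
    omega

lemma smul_simple_unit {P : RootPairing ι ℤ M N} (b : P.Base) {j a : ι} (hj : j ∈ b.support)
    {n : ℤ} (h : P.root a = n • P.root j) : n = 1 ∨ n = -1 := by
  have h2 : (2 : ℤ) = n * P.pairing j a := by
    have := congrArg (P.coroot' a) h
    rw [P.root_coroot'_eq_pairing, P.pairing_same, map_zsmul, P.root_coroot'_eq_pairing,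
      smul_eq_mul] at this
    exact this
  have hdvd : n ∣ 2 := ⟨_, h2⟩
  have hle : n ≤ 2 := Int.le_of_dvd two_pos hdvd
  have hge : -2 ≤ n := by
    have := Int.le_of_dvd two_pos ((neg_dvd).mpr hdvd)
    omega
  have hn0 : n ≠ 0 := by
    rintro rfl
    simp at h2
  interval_cases n
  · exfalso
    refine no_double_simple b hj (c := P.reflectionPerm a a) ?_
    rw [P.root_reflectionPerm, P.reflection_apply_self, h]
    module
  · right; rfl
  · exact absurd rfl hn0
  · left; rfl
  · exfalso
    exact no_double_simple b hj h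

lemma isPos_reflectionPerm' {P : RootPairing ι ℤ M N} (b : P.Base) {a j : ι} (ha : b.IsPos a)
    (hj : j ∈ b.support) (haj : a ≠ j) : b.IsPos (P.reflectionPerm j a) := by
  classical
  obtain ⟨f, hf₀, hf₁, hf₂⟩ := b.exists_root_eq_sum_int a
  have hf : 0 ≤ f := by
    rcases hf₁ with h' | h'
    · exact h'.le
    · exfalso
      rw [RootPairing.Base.isPos_iff, RootPairing.Base.height_eq_sum hf₂] at ha
      have : ∑ j ∈ b.support, f j ≤ 0 := Finset.sum_nonpos (fun j _ => h'.le j)
      omega
  obtain ⟨p, hp⟩ : ∃ p : ℤ, p = P.pairing a j := ⟨_, rfl⟩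
  have hrefl : P.root (P.reflectionPerm j a) = P.root a - p • P.root j := by
    rw [P.root_reflectionPerm, P.reflection_apply_root, hp]
  have hsum : ∑ k ∈ b.support, (f k - (if k = j then p else 0)) • P.root k =
      P.root (P.reflectionPerm j a) := by
    rw [hrefl]
    simp only [sub_smul, Finset.sum_sub_distrib]
    rw [← hf₂]
    congr 1
    simp [Finset.sum_ite_eq', hj, ite_smul]
  have hsupp : (fun k => f k - (if k = j then p else 0)).support ⊆ b.support := by
    intro k hk
    by_contra hkn
    apply hk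
    have h1 : f k = 0 := by
      by_contra h
      exact hkn (hf₀ h)
    have hkj : k ≠ j := by
      rintro rfl
      exact hkn hj
    simp [h1, hkj]
  have hsign := b.pos_or_neg_of_sum_smul_root_mem _ ⟨_, hsum.symm⟩ hsupp
  by_cases hk : ∃ k ∈ b.support, k ≠ j ∧ 0 < f k
  · obtain ⟨k, hkΔ, hkj, hkpos⟩ := hk
    have hpos : 0 < (fun k => f k - (if k = j then p else 0)) := by
      rcases hsign with h | h
      · exact h
      · exfalso
        have := h.le k
        simp only [hkj, if_false, sub_zero, Pi.zero_apply] at this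
        omega
    rw [RootPairing.Base.isPos_iff, RootPairing.Base.height_eq_sum hsum.symm]
    refine Finset.sum_pos' (fun i _ => hpos.le i) ⟨k, hkΔ, ?_⟩
    simp only [hkj, if_false, sub_zero]
    exact hkpos
  · push Not at hk
    exfalso
    have hzero : ∀ k ∈ b.support, k ≠ j → f k = 0 :=
      fun k hk1 hk2 => le_antisymm (hk k hk1 hk2) (hf k)
    have hroot : P.root a = f j • P.root j := by
      rw [hf₂]
      exact Finset.sum_eq_single_of_mem j hj
        (fun k hk hkj => by rw [hzero k hk hkj, zero_smul])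
    rcases smul_simple_unit b hj hroot with h1 | h1
    · rw [h1, one_smul] at hroot
      exact haj (P.root.injective hroot)
    · have := hf j
      simp only [Pi.zero_apply] at this
      omega

lemma no_double_pos {P : RootPairing ι ℤ M N} (b : P.Base) :
    ∀ n : ℕ, ∀ a c : ι, b.IsPos a → (b.height a).toNat = n →
      P.root c = (2 : ℤ) • P.root a → False := by
  intro n
  induction n using Nat.strong_induction_on with
  | _ n ih =>
    intro a c ha hn h
    obtain ⟨j, hj, hj'⟩ := ha.exists_mem_support_pos_pairingIn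
    rw [P.zero_lt_pairingIn_iff'] at hj'
    by_cases haj : a = j
    · subst haj
      exact no_double_simple b hj h
    · have ha' := isPos_reflectionPerm' b ha hj haj
      have hh : b.height (P.reflectionPerm j a) < b.height a := by
        have h1 := P.reflection_apply_root' ℤ (i := j) (j := a)
        rw [← P.root_reflectionPerm, sub_eq_add_neg, ← neg_smul] at h1
        rw [b.height_add_zsmul h1, RootPairing.Base.height_one_of_mem_support hj]
        simp only [smul_eq_mul, mul_one]
        omega
      have h' : P.root (P.reflectionPerm j c) = (2 : ℤ) • P.root (P.reflectionPerm j a) := by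
        rw [P.root_reflectionPerm, P.root_reflectionPerm, h, map_zsmul]
      have hpos' : 0 < b.height (P.reflectionPerm j a) := ha'
      have hpos : 0 < b.height a := ha
      exact ih (b.height (P.reflectionPerm j a)).toNat (by omega) _ _ ha' rfl h'

lemma no_double {P : RootPairing ι ℤ M N} (b : P.Base) (a c : ι)
    (h : P.root c = (2 : ℤ) • P.root a) : False := by
  by_cases ha : b.IsPos a
  · exact no_double_pos b _ a c ha rfl h
  · have ha' : b.IsPos (P.reflectionPerm a a) := (isPos_neg_iff b a).mpr ha
    refine no_double_pos b _ (P.reflectionPerm a a) (P.reflectionPerm c c) ha' rfl ?_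
    rw [P.root_reflectionPerm, P.reflection_apply_self, P.root_reflectionPerm,
      P.reflection_apply_self, h, smul_neg]

/-- A root pairing over `ℤ` with finitely many roots which admits a base is reduced. -/
theorem isReduced_of_base {P : RootPairing ι ℤ M N} (b : P.Base) : P.IsReduced := by
  obtain ⟨hM, hN⟩ := tf P
  refine ⟨fun i j h => ?_⟩
  by_contra hcon
  push Not at hcon
  have h4 : P.pairing i j * P.pairing j i = 4 :=
    (P.coxeterWeight_eq_four_iff_not_linearIndependent).mpr h
  have hnd : ∀ a c, P.root c = (2 : ℤ) • P.root a → False := no_double b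
  obtain ⟨p, hp⟩ : ∃ p, p = P.pairing i j := ⟨_, rfl⟩
  obtain ⟨q, hq⟩ : ∃ q, q = P.pairing j i := ⟨_, rfl⟩
  rw [← hp, ← hq] at h4
  have hdvd : p ∣ 4 := ⟨_, h4.symm⟩
  have hle : p ≤ 4 := Int.le_of_dvd (by norm_num) hdvd
  have hge : -4 ≤ p := by
    have := Int.le_of_dvd (by norm_num) ((neg_dvd).mpr hdvd)
    omega
  interval_cases p
  · have hq' : q = -1 := by omega
    have := (P.pairing_neg_one_neg_four_iff j i).mp ⟨by rw [← hq, hq'], hp.symm⟩
    refine hnd (P.reflectionPerm j j) i ?_
    rw [P.root_reflectionPerm, P.reflection_apply_self, this]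
    module
  · omega
  · have hq' : q = -2 := by omega
    exact hcon.2 ((P.pairing_neg_two_neg_two_iff i j).mp ⟨hp.symm, by rw [← hq, hq']⟩)
  · have hq' : q = -4 := by omega
    have := (P.pairing_neg_one_neg_four_iff i j).mp ⟨hp.symm, by rw [← hq, hq']⟩
    refine hnd (P.reflectionPerm i i) j ?_
    rw [P.root_reflectionPerm, P.reflection_apply_self, this]
    module
  · omega
  · have hq' : q = 4 := by omega
    exact hnd i j ((P.pairing_one_four_iff i j).mp ⟨hp.symm, by rw [← hq, hq']⟩)
  · have hq' : q = 2 := by omega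
    have := (P.pairing_two_two_iff i j).mp ⟨hp.symm, by rw [← hq, hq']⟩
    exact hcon.1 (by rw [this])
  · omega
  · have hq' : q = 1 := by omega
    exact hnd j i ((P.pairing_one_four_iff j i).mp ⟨by rw [← hq, hq'], hp.symm⟩)

/-! ### Reflected bases -/

lemma refl_mem_closure (P : RootPairing ι ℤ M N) (α : ι) (S : Set ι) {m : M}
    (h : m ∈ AddSubmonoid.closure (P.root '' S)) :
    P.reflection α m ∈ AddSubmonoid.closure (P.root '' ((P.reflectionPerm α) '' S)) := by
  have h1 : (AddSubmonoid.closure (P.root '' S)).map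
      ((P.reflection α).toLinearMap.toAddMonoidHom) =
      AddSubmonoid.closure (P.root '' ((P.reflectionPerm α) '' S)) := by
    rw [AddMonoidHom.map_mclosure, Set.image_image, Set.image_image]
    congr 1
    ext y
    simp [P.root_reflectionPerm]
  rw [← h1]
  exact AddSubmonoid.mem_map_of_mem _ h

lemma li_refl (P : RootPairing ι ℤ M N) (α : ι) (S : Set ι) (h : LinearIndepOn ℤ P.root S) :
    LinearIndepOn ℤ P.root ((P.reflectionPerm α) '' S) := by
  apply LinearIndepOn.image_of_comp
  have : P.root ∘ (P.reflectionPerm α) = (P.reflection α).toLinearMap ∘ P.root := by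
    ext k; simp
  rw [this]
  exact h.map_injOn _ (P.reflection α).injective.injOn

lemma refl_image_image (P : RootPairing ι ℤ M N) (α : ι) (S : Set ι) :
    (P.reflectionPerm α) '' ((P.reflectionPerm α) '' S) = S := by
  rw [Set.image_image]
  simp

lemma clos_refl (P : RootPairing ι ℤ M N) (α : ι) (S : Set ι)
    (h : ∀ i, P.root i ∈ AddSubmonoid.closure (P.root '' S) ∨
      -P.root i ∈ AddSubmonoid.closure (P.root '' S)) (i : ι) :
    P.root i ∈ AddSubmonoid.closure (P.root '' ((P.reflectionPerm α) '' S)) ∨
      -P.root i ∈ AddSubmonoid.closure (P.root '' ((P.reflectionPerm α) '' S)) := by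
  have hi : P.reflectionPerm α (P.reflectionPerm α i) = i := P.reflectionPerm_self α i
  rcases h (P.reflectionPerm α i) with h' | h'
  · left
    have := refl_mem_closure P α _ h'
    rwa [← P.root_reflectionPerm, hi] at this
  · right
    have := refl_mem_closure P α _ h'
    rwa [map_neg, ← P.root_reflectionPerm, hi] at this

/-- The base obtained by reflecting a base in a root. -/
noncomputable def reflBase {P : RootPairing ι ℤ M N} (b : P.Base) (α : ι) : P.Base where
  support := b.support.map (P.reflectionPerm α).toEmbedding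
  linearIndepOn_root := by
    rw [Finset.coe_map]
    exact li_refl P α _ b.linearIndepOn_root
  linearIndepOn_coroot := by
    rw [Finset.coe_map]
    exact li_refl P.flip α _ b.linearIndepOn_coroot
  root_mem_or_neg_mem i := by
    rw [Finset.coe_map]
    exact clos_refl P α _ b.root_mem_or_neg_mem i
  coroot_mem_or_neg_mem i := by
    rw [Finset.coe_map]
    exact clos_refl P.flip α _ b.coroot_mem_or_neg_mem i

lemma reflBase_isPos [Fintype ι] {P : RootPairing ι ℤ M N} [P.IsReduced] (b : P.Base) (α x : ι) :
    (reflBase b α).IsPos x ↔ b.IsPos (P.reflectionPerm α x) := by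
  rw [← pos_iff, ← pos_iff]
  have hs : ((reflBase b α).support : Set ι) = (P.reflectionPerm α) '' (b.support : Set ι) := by
    simp [reflBase]
  rw [hs]
  constructor
  · intro h
    have := refl_mem_closure P α _ h
    rwa [refl_image_image, ← P.root_reflectionPerm] at this
  · intro h
    have := refl_mem_closure P α _ h
    rwa [← P.root_reflectionPerm, P.reflectionPerm_self] at this

/-! ### Closed subsets -/

theorem closed_main [Fintype ι] {P : RootPairing ι ℤ M N} [P.IsReduced] (R₁ R₂ : Set ι)
    (h₂ : ∀ a b c : ι, a ∈ R₂ → b ∈ R₂ → P.root a + P.root b = P.root c → c ∈ R₂)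
    (b₂ : P.Base) (hb₂ : ∀ a, b₂.IsPos a → a ∈ R₂) (hunion : ∀ a, a ∈ R₁ ∨ a ∈ R₂) :
    ∀ n : ℕ, ∀ b : P.Base, (∀ a, b.IsPos a → a ∈ R₁) →
      Set.ncard {a | b.IsPos a ∧ b₂.IsPos a} = n →
      ∃ b' : P.Base, ∀ a, b'.IsPos a → a ∈ R₁ ∧ P.reflectionPerm a a ∈ R₂ := by
  intro n
  induction n using Nat.strong_induction_on with
  | _ n ih =>
    intro b hb hn
    by_cases hall : ∀ α ∈ b.support, P.reflectionPerm α α ∈ R₂
    · refine ⟨b, fun a ha => ⟨hb a ha, ?_⟩⟩
      refine ha.induction_on_add (p := fun a => P.reflectionPerm a a ∈ R₂) hall ?_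
      intro i j k hk hi hj
      refine h₂ _ _ _ hi (hall j hj) ?_
      rw [P.root_reflectionPerm, P.reflection_apply_self, P.root_reflectionPerm,
        P.reflection_apply_self, P.root_reflectionPerm, P.reflection_apply_self, hk, neg_add]
    · push Not at hall
      obtain ⟨α, hα, hαR₂⟩ := hall
      have hαR₁ : P.reflectionPerm α α ∈ R₁ := (hunion _).resolve_right hαR₂
      have hαpos : b.IsPos α := RootPairing.Base.isPos_of_mem_support hα
      have hα₂ : b₂.IsPos α := by
        by_contra h
        exact hαR₂ (hb₂ _ ((isPos_neg_iff b₂ α).mpr h))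
      have hback : ∀ x, b.IsPos (P.reflectionPerm α x) → x ≠ P.reflectionPerm α α →
          b.IsPos x := by
        intro x hx hne
        have hne' : P.reflectionPerm α x ≠ α := by
          intro h
          apply hne
          have h3 := P.reflectionPerm_self α x
          rw [h] at h3
          exact h3.symm
        have := hx.reflectionPerm hα hne'
        rwa [P.reflectionPerm_self] at this
      have hb' : ∀ x, (reflBase b α).IsPos x → x ∈ R₁ := by
        intro x hx
        rw [reflBase_isPos] at hx
        by_cases hxα : x = P.reflectionPerm α α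
        · rw [hxα]; exact hαR₁
        · exact hb x (hback x hx hxα)
      have hsub : {a | (reflBase b α).IsPos a ∧ b₂.IsPos a} ⊆
          {a | b.IsPos a ∧ b₂.IsPos a} \ {α} := by
        rintro x ⟨hx1, hx2⟩
        rw [reflBase_isPos] at hx1
        have hxα : x ≠ P.reflectionPerm α α := by
          rintro rfl
          exact hαR₂ (hb₂ _ hx2)
        refine ⟨⟨hback x hx1 hxα, hx2⟩, ?_⟩
        rintro (rfl : x = α)
        exact ((isPos_neg_iff b x).mp hx1) hαpos
      have hlt : Set.ncard {a | (reflBase b α).IsPos a ∧ b₂.IsPos a} < n := by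
        rw [← hn]
        refine lt_of_le_of_lt (Set.ncard_le_ncard hsub (Set.toFinite _)) ?_
        exact Set.ncard_sdiff_singleton_lt_of_mem ⟨hαpos, hα₂⟩ (Set.toFinite _)
      exact ih _ hlt (reflBase b α) hb' rfl

/-- S8517 in explicit form. -/
theorem closed_subsets (P : RootPairing ι ℤ M N) (R₁ R₂ : Set ι)
    (h₂ : ∀ a b c : ι, a ∈ R₂ → b ∈ R₂ → P.root a + P.root b = P.root c → c ∈ R₂)
    (hb₁ : ∃ b : P.Base,
      {a | P.root a ∈ AddSubmonoid.closure (P.root '' (b.support : Set ι))} ⊆ R₁)
    (hb₂ : ∃ b : P.Base,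
      {a | P.root a ∈ AddSubmonoid.closure (P.root '' (b.support : Set ι))} ⊆ R₂)
    (hunion : R₁ ∪ R₂ = Set.univ) :
    ∃ b : P.Base, {a | P.root a ∈ AddSubmonoid.closure (P.root '' (b.support : Set ι))} ⊆
      {a | a ∈ R₁ ∧ ∃ c ∈ R₂, P.root a = -P.root c} := by
  obtain ⟨b₁, hb₁⟩ := hb₁
  obtain ⟨b₂, hb₂⟩ := hb₂
  have := isReduced_of_base b₁
  have := Fintype.ofFinite ι
  have hu : ∀ a, a ∈ R₁ ∨ a ∈ R₂ := by
    intro a
    have : a ∈ R₁ ∪ R₂ := by rw [hunion]; trivial
    exact this
  obtain ⟨b', hb'⟩ := closed_main R₁ R₂ h₂ b₂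
    (fun a ha => hb₂ ((pos_iff P b₂ a).mpr ha)) hu _ b₁
    (fun a ha => hb₁ ((pos_iff P b₁ a).mpr ha)) rfl
  refine ⟨b', fun a ha => ?_⟩
  have ha' : b'.IsPos a := (pos_iff P b' a).mp ha
  obtain ⟨h1, h2⟩ := hb' a ha'
  refine ⟨h1, P.reflectionPerm a a, h2, ?_⟩
  rw [P.root_reflectionPerm, P.reflection_apply_self, neg_neg]

end Groth.Agent.Lib.Helper3.RootClosed1
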