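import Mathlib
import Groth.Prelude.Def_SpSeq
import Groth.Agent.Lib.Helper3.DescSS

/-!
# Prepending a first page to a spectral sequence starting at the second page
-/

set_option autoImplicit false
universe v u
open CategoryTheory CategoryTheory.Limits

namespace Groth.Agent.Helper3.SS1

open DescSS

variable {C : Type u} [Category.{v} C] [Abelian C]
  (E : E₂CohomologicalSpectralSequence C) (K : ℤ → CochainComplex C ℤ)

/-- the pages -/
noncomputable def pg' (r : ℤ) : HomologicalComplex C (ComplexShape.up' (⟨r, 1 - r⟩ : ℤ × ℤ)) :=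
  if h : 2 ≤ r then E.page r h else pg K r

lemma pg'_two_le (r : ℤ) (h : 2 ≤ r) : pg' E K r = E.page r h := dif_pos h

lemma pg'_one : pg' E K 1 = rowCx K :=
  (dif_neg (by norm_num)).trans (pg_one K)

variable (e : ∀ p q : ℤ, Nonempty ((K q).homology p ≅ (E.page 2 le_rfl).X (p, q)))

include e in
lemma nonempty_iso' (r r' : ℤ) (pq : ℤ × ℤ) (hrr' : r + 1 = r') (hr : 1 ≤ r) :
    Nonempty ((pg' E K r).homology pq ≅ (pg' E K r').X pq) := by
  obtain ⟨p, q⟩ := pq
  by_cases h : r = 1
  · subst h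
    obtain rfl : r' = 2 := by omega
    rw [pg'_one, pg'_two_le E K 2 le_rfl]
    obtain ⟨i⟩ := e p q
    exact ⟨rowHomologyIso K p q ≪≫ i⟩
  · have h2 : 2 ≤ r := by omega
    have h2' : 2 ≤ r' := by omega
    rw [pg'_two_le E K r h2, pg'_two_le E K r' h2']
    exact ⟨E.iso r r' (p, q) hrr' h2⟩

/-- the spectral sequence with the first page prepended -/
noncomputable def ss' : CohomologicalSpectralSequence C 1 where
  page r _ := pg' E K r
  iso r r' pq hrr' hr := Classical.choice (nonempty_iso' E K e r r' pq hrr' hr)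

lemma ss'_page (r : ℤ) (hr : 1 ≤ r) : (ss' E K e).page r hr = pg' E K r := rfl

variable {H : ℤ → C} (a : SpSeq.Abutment E H)

lemma stat' (pq : ℤ × ℤ) : SpSeq.StationaryAt (ss' E K e) pq (a.rk pq) := by
  obtain ⟨h2, hd⟩ := a.stat pq
  refine ⟨by omega, fun r' h₀ hr' => ?_⟩
  have h2' : 2 ≤ r' := by omega
  obtain ⟨d1, d2⟩ := hd r' h2' hr'
  rw [ss'_page, pg'_two_le E K r' h2']
  exact ⟨d1, d2⟩

lemma nonempty_β' (pq : ℤ × ℤ) :
    Nonempty (((ss' E K e).page (a.rk pq) (stat' E K e a pq).1).X pq ≅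
      SpSeq.grPiece (a.fil (pq.1 + pq.2)) (a.anti (pq.1 + pq.2)) pq.1) := by
  rw [ss'_page, pg'_two_le E K (a.rk pq) (a.stat pq).1]
  exact ⟨a.β pq⟩

/-- the abutment of the spectral sequence with the first page prepended -/
noncomputable def abut' : SpSeq.Abutment (ss' E K e) H where
  fil := a.fil
  anti := a.anti
  rk := a.rk
  stat := stat' E K e a
  β pq := Classical.choice (nonempty_β' E K e a pq)

include e in
/-- prepending a first page whose rows are given complexes with cohomology the second page -/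
theorem exists_prepend (ha : ∀ n, a.IsFinite n)
    (hb : ∀ q p, (p < 0 ∨ q < 0) → IsZero ((K q).X p)) :
    ∃ (E' : CohomologicalSpectralSequence C 1) (a' : SpSeq.Abutment E' H),
      (∀ n, a'.IsFinite n) ∧ SpSeq.IsBounded E' ∧
        ∀ p q : ℤ, Nonempty ((E'.page 1 le_rfl).X (p, q) ≅ (K q).X p) := by
  refine ⟨ss' E K e, abut' E K e a, fun n => ha n, ?_, ?_⟩
  · intro n
    apply (Set.finite_Icc (0 : ℤ) n).subset
    intro p hp
    by_contra hp'
    apply hp
    rw [ss'_page, pg'_one]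
    apply hb
    simp only [Set.mem_Icc, not_and_or, not_le] at hp'
    rcases hp' with h | h
    · exact Or.inl h
    · exact Or.inr (by lia)
  · intro p q
    rw [ss'_page, pg'_one]
    exact ⟨Iso.refl _⟩

section Nat

variable (L : ℕ → CochainComplex C ℕ) (Z : C) (hZ : IsZero Z)

include hZ in
/-- the version with rows indexed by natural numbers -/
theorem exists_prepend_nat (ha : ∀ n, a.IsFinite n)
    (e : ∀ p q : ℕ, Nonempty ((L q).homology p ≅ (E.page 2 le_rfl).X ((p : ℤ), (q : ℤ))))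
    (hE : ∀ p q : ℤ, (p < 0 ∨ q < 0) → IsZero ((E.page 2 le_rfl).X (p, q))) :
    ∃ (E' : CohomologicalSpectralSequence C 1) (a' : SpSeq.Abutment E' H),
      (∀ n, a'.IsFinite n) ∧ SpSeq.IsBounded E' ∧
        ∀ p q : ℤ, Nonempty ((E'.page 1 le_rfl).X (p, q) ≅
          if 0 ≤ p ∧ 0 ≤ q then (L q.toNat).X p.toNat else Z) := by
  have hX : ∀ q p : ℤ, Nonempty ((rows L Z q).X p ≅
      if 0 ≤ p ∧ 0 ≤ q then (L q.toNat).X p.toNat else Z) := by
    intro q p
    unfold rows
    by_cases hq : 0 ≤ q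
    · rw [if_pos hq]
      by_cases hp : 0 ≤ p
      · rw [if_pos ⟨hp, hq⟩]
        exact ⟨(L q.toNat).extendXIso ComplexShape.embeddingUpNat
          (show ComplexShape.embeddingUpNat.f p.toNat = p from Int.toNat_of_nonneg hp)⟩
      · rw [if_neg (fun h => hp h.1)]
        refine ⟨IsZero.iso ((L q.toNat).isZero_extend_X ComplexShape.embeddingUpNat p ?_) hZ⟩
        intro i hi
        apply hp
        rw [← hi]
        exact Int.natCast_nonneg i
    · rw [if_neg hq, if_neg (fun h => hq h.2)]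
      exact ⟨Iso.refl _⟩
  have hb : ∀ q p, (p < 0 ∨ q < 0) → IsZero ((rows L Z q).X p) := by
    intro q p h
    obtain ⟨i⟩ := hX q p
    rw [if_neg (by lia)] at i
    exact hZ.of_iso i
  have e' : ∀ p q : ℤ, Nonempty ((rows L Z q).homology p ≅ (E.page 2 le_rfl).X (p, q)) := by
    intro p q
    by_cases hq : 0 ≤ q
    · by_cases hp0 : 0 ≤ p
      · have h1 : ComplexShape.embeddingUpNat.f p.toNat = p := Int.toNat_of_nonneg hp0
        have h2 : rows L Z q = (L q.toNat).extend ComplexShape.embeddingUpNat := if_pos hq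
        rw [h2]
        obtain ⟨i⟩ := e p.toNat q.toNat
        have h3 : ((p.toNat : ℕ) : ℤ) = p := Int.toNat_of_nonneg hp0
        have h4 : ((q.toNat : ℕ) : ℤ) = q := Int.toNat_of_nonneg hq
        rw [h3, h4] at i
        exact ⟨(L q.toNat).extendHomologyIso ComplexShape.embeddingUpNat h1 ≪≫ i⟩
      · refine ⟨IsZero.iso ?_ (hE p q (Or.inl (by lia)))⟩
        apply Groth.Agent.Helper1.SpSeqL.isZero_homology_of_isZero_X
        exact hb q p (Or.inl (by lia))
    · refine ⟨IsZero.iso ?_ (hE p q (Or.inr (by lia)))⟩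
      apply Groth.Agent.Helper1.SpSeqL.isZero_homology_of_isZero_X
      exact hb q p (Or.inr (by lia))
  obtain ⟨E', a', h1, h2, h3⟩ := exists_prepend E (rows L Z) e' a ha hb
  refine ⟨E', a', h1, h2, fun p q => ?_⟩
  obtain ⟨i⟩ := h3 p q
  obtain ⟨j⟩ := hX q p
  exact ⟨i ≪≫ j⟩

end Nat

end Groth.Agent.Helper3.SS1
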