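import Mathlib
import Groth.Prelude.Def_FibDesc
import Groth.Prelude.Def_DeltaF
import Groth.Prelude.Def_RDerDelta
import Groth.Agent.Lib.Helper3.PC5
import Groth.Agent.Lib.Helper3.PShInst
import Groth.Agent.Lib.Helper3.RDerL
import Groth.Agent.Lib.Helper3.DeltaIso2

/-!
# The derived functors of the sections of the right Kan extension to the augmented total category are
computed by the Čech-type complexes
-/

set_option autoImplicit false
set_option backward.isDefEq.respectTransparency false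
open CategoryTheory Limits Opposite TopologicalSpace Pseudofunctor.CoGrothendieck Simplicial DeltaF

universe v u
namespace Groth.Agent.Helper3.SS2

open DC2 DC4 DC5 DC22 PC5

noncomputable section

section generic

variable {A : Type u} [Category.{v} A] [Abelian A]
  (K : A ⥤ CochainComplex AddCommGrpCat.{v} ℕ) [K.Additive]
  (hK : ∀ S : ShortComplex A, S.ShortExact → (S.map K).ShortExact)

/-- the cohomology of an exact functor to cochain complexes, as a cohomological δ-functor -/
def cxDelta : CohDeltaFunctor A AddCommGrpCat.{v} ℕ where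
  F n := K ⋙ HomologicalComplex.homologyFunctor _ _ n
  additive n := inferInstance
  δ S hS n₀ n₁ h := (hK S hS).δ n₀ n₁ h
  δ_natural {S S'} hS hS' φ n₀ n₁ h :=
    (HomologicalComplex.HomologySequence.δ_naturality (K.mapShortComplex.map φ)
      (hK S hS) (hK S' hS') n₀ n₁ h).symm
  exact₂ S hS n := (hK S hS).homology_exact₂ n
  comp_δ S hS n₀ n₁ h := (hK S hS).comp_δ n₀ n₁ h
  exact₃ S hS n₀ n₁ h := (hK S hS).homology_exact₃ n₀ n₁ h
  δ_comp S hS n₀ n₁ h := (hK S hS).δ_comp n₀ n₁ h
  exact₁ S hS n₀ n₁ h := (hK S hS).homology_exact₁ n₀ n₁ h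

end generic

attribute [local instance] PShInst.isGrothendieckAbelian_psh

section ccf

variable {C : Type u} [SmallCategory C] (σ : SimplicialObject C)

instance : (CCF σ).Additive where
  map_add {M M' f g} := by
    ext k : 2
    rfl

lemma ccf_shortExact (S : ShortComplex (Cᵒᵖ ⥤ AddCommGrpCat.{u})) (hS : S.ShortExact) :
    (S.map (CCF σ)).ShortExact := by
  apply HomologicalComplex.shortExact_of_degreewise_shortExact
  intro k
  exact hS.map_of_exact ((evaluation Cᵒᵖ AddCommGrpCat.{u}).obj (op (σ _⦋k⦌)))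

/-- the cohomology of the complexes `M(σ_•)`, as a δ-functor on abelian presheaves -/
def ccfDelta : CohDeltaFunctor (Cᵒᵖ ⥤ AddCommGrpCat.{u}) AddCommGrpCat.{u} ℕ :=
  cxDelta (CCF σ) (ccf_shortExact σ)

lemma ccfDelta_F (n : ℕ) :
    (ccfDelta σ).F n = CCF σ ⋙ HomologicalComplex.homologyFunctor _ _ n := rfl

variable {P : Cᵒᵖ ⥤ AddCommGrpCat.{u}} (π : freeCx σ ⟶ (ChainComplex.single₀ _).obj P) [QuasiIso π]

include π in
lemma ccfDelta_effaceable : (ccfDelta σ).IsEffaceable := by
  intro n X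
  refine ⟨Injective.under X, Injective.ι X, inferInstance, ?_⟩
  exact (isZero_homology_of_injective σ (Injective.under X) π n).eq_of_tgt _ _

end ccf

variable (Y : W' ⥤ TopCat.{u}) (U : Opens (S₀ Y))

/-- sections over `(⋆, U)` of the right Kan extension to the augmented total category -/
abbrev Sσ : ((TP Y)ᵒᵖ ⥤ AddCommGrpCat.{u}) ⥤ AddCommGrpCat.{u} :=
  (FibDesc.incl (FibDesc.topAug Y)).op.ran ⋙
    (evaluation (TA Y)ᵒᵖ AddCommGrpCat.{u}).obj (op ((FibDesc.eps (FibDesc.topAug Y)).obj U))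

instance : PreservesLimitsOfSize.{u, u} ((FibDesc.incl (FibDesc.topAug Y)).op.ran
    (H := AddCommGrpCat.{u})) :=
  ((FibDesc.incl (FibDesc.topAug Y)).op.ranAdjunction AddCommGrpCat.{u}).rightAdjoint_preservesLimits

instance : PreservesFiniteLimits ((FibDesc.incl (FibDesc.topAug Y)).op.ran
    (H := AddCommGrpCat.{u})) :=
  PreservesLimitsOfSize.preservesFiniteLimits _

instance : ((FibDesc.incl (FibDesc.topAug Y)).op.ran (H := AddCommGrpCat.{u})).Additive :=
  Functor.additive_of_preserves_binary_products _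

instance : PreservesFiniteLimits (Sσ Y U) := by
  haveI : PreservesFiniteLimits ((evaluation (TA Y)ᵒᵖ AddCommGrpCat.{u}).obj
    (op ((FibDesc.eps (FibDesc.topAug Y)).obj U))) := inferInstance
  exact comp_preservesFiniteLimits _ _

instance : (Sσ Y U).Additive := Functor.additive_of_preserves_binary_products _

lemma cycHom_d (N : (TP Y)ᵒᵖ ⥤ AddCommGrpCat.{u}) :
    cycHom Y U N ≫ ((CCF (sec Y U)).obj N).d 0 1 = 0 := by
  ext y
  change (((CCF (sec Y U)).obj N).d 0 1).hom ((cycHom Y U N).hom y) = 0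
  rw [← cycOf_eq]
  exact d_cycOf Y U N y

/-- the map to the `0`-cocycles -/
def toCyc (N : (TP Y)ᵒᵖ ⥤ AddCommGrpCat.{u}) :
    (Sσ Y U).obj N ⟶ ((CCF (sec Y U)).obj N).cycles 0 :=
  ((CCF (sec Y U)).obj N).liftCycles (cycHom Y U N) 1 (by simp) (cycHom_d Y U N)

lemma toCyc_i (N : (TP Y)ᵒᵖ ⥤ AddCommGrpCat.{u}) :
    toCyc Y U N ≫ ((CCF (sec Y U)).obj N).iCycles 0 = cycHom Y U N :=
  HomologicalComplex.liftCycles_i _ _ _ _ _

instance isIso_toCyc (N : (TP Y)ᵒᵖ ⥤ AddCommGrpCat.{u}) : IsIso (toCyc Y U N) := by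
  rw [ConcreteCategory.isIso_iff_bijective]
  have hi : Function.Injective (((CCF (sec Y U)).obj N).iCycles 0).hom :=
    (AddCommGrpCat.mono_iff_injective _).1 inferInstance
  have hcomp : ∀ y, (((CCF (sec Y U)).obj N).iCycles 0).hom ((toCyc Y U N).hom y) =
      cycOf Y U N y := fun y =>
    (ConcreteCategory.congr_hom (toCyc_i Y U N) y).trans (cycOf_eq Y U N y).symm
  constructor
  · intro y y' h
    apply cycOf_injective Y U N
    rw [← hcomp, ← hcomp, h]
  · intro z
    have hd : (((CCF (sec Y U)).obj N).d 0 1).hom ((((CCF (sec Y U)).obj N).iCycles 0).hom z) = 0 :=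
      ConcreteCategory.congr_hom (((CCF (sec Y U)).obj N).iCycles_d 0 1) z
    obtain ⟨y, hy⟩ := exists_cycOf Y U N _ hd
    refine ⟨y, hi ?_⟩
    rw [hcomp, hy]

lemma cycHom_naturality {N N' : (TP Y)ᵒᵖ ⥤ AddCommGrpCat.{u}} (g : N ⟶ N') :
    (Sσ Y U).map g ≫ cycHom Y U N' = cycHom Y U N ≫ ((CCF (sec Y U)).map g).f 0 := by
  ext y
  change (cycHom Y U N').hom ((((FibDesc.incl (FibDesc.topAug Y)).op.ran.map g).app _).hom y) =
    (g.app _).hom ((cycHom Y U N).hom y)
  rw [← cycOf_eq, ← cycOf_eq]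
  exact cycOf_naturality Y U g y

lemma toCyc_naturality {N N' : (TP Y)ᵒᵖ ⥤ AddCommGrpCat.{u}} (g : N ⟶ N') :
    (Sσ Y U).map g ≫ toCyc Y U N' =
      toCyc Y U N ≫ HomologicalComplex.cyclesMap ((CCF (sec Y U)).map g) 0 := by
  rw [← cancel_mono (((CCF (sec Y U)).obj N').iCycles 0), Category.assoc, Category.assoc,
    toCyc_i, HomologicalComplex.cyclesMap_i, ← Category.assoc, toCyc_i]
  exact cycHom_naturality Y U g

/-- sections of the right Kan extension are the `0`-th cohomology of the Čech-type complex -/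
def sσIso : Sσ Y U ≅ CCF (sec Y U) ⋙ HomologicalComplex.homologyFunctor _ _ 0 :=
  NatIso.ofComponents
    (fun N => asIso (toCyc Y U N) ≪≫ ((CCF (sec Y U)).obj N).isoHomologyπ₀)
    (fun {N N'} g => by
      change (Sσ Y U).map g ≫ toCyc Y U N' ≫ ((CCF (sec Y U)).obj N').homologyπ 0 =
        (toCyc Y U N ≫ ((CCF (sec Y U)).obj N).homologyπ 0) ≫
          HomologicalComplex.homologyMap ((CCF (sec Y U)).map g) 0
      rw [← Category.assoc, toCyc_naturality, Category.assoc, Category.assoc,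
        HomologicalComplex.homologyπ_naturality])

/-- the δ-functor of the derived functors of `Sσ` -/
def T₂ : CohDeltaFunctor ((TP Y)ᵒᵖ ⥤ AddCommGrpCat.{u}) AddCommGrpCat.{u} ℕ :=
  (RDerL.derivedLES (Sσ Y U)).toCohDeltaFunctor

lemma T₂_eff : (T₂ Y U).IsEffaceable := by
  intro n X
  refine ⟨Injective.under X, Injective.ι X, inferInstance, ?_⟩
  exact (Functor.isZero_rightDerived_obj_injective_succ (Sσ Y U) n (Injective.under X)).eq_of_tgt _ _

/-- the comparison in degree zero -/
def t0 : (T₂ Y U).F 0 ≅ (ccfDelta (sec Y U)).F 0 :=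
  (Sσ Y U).rightDerivedZeroIsoSelf ≪≫ sσIso Y U

/-- the derived functors of the sections of the right Kan extension are the cohomology of the
Čech-type complexes -/
def rightDerivedIso (p : ℕ) :
    (Sσ Y U).rightDerived p ≅ CCF (sec Y U) ⋙ HomologicalComplex.homologyFunctor _ _ p :=
  DeltaIso2.isoOfZero (T₂ Y U) (ccfDelta (sec Y U)) (T₂_eff Y U)
    (ccfDelta_effaceable (sec Y U) (πU Y U)) (t0 Y U) p

end

end Groth.Agent.Helper3.SS2
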