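import Mathlib
import Groth.Prelude.Def_FibDesc
import Groth.Prelude.Def_CohTop
import Groth.Agent.Lib.Helper3.DC19

/-!
# The inverse image along the augmentation, restricted to a level, is the topological inverse image
-/

set_option autoImplicit false
set_option backward.isDefEq.respectTransparency false
open CategoryTheory Limits Opposite TopologicalSpace Pseudofunctor.CoGrothendieck Simplicial

universe u
namespace Groth.Agent.Helper3.SS3

open DC2 DC4 DC5 DC6 DC12 DC19 Groth.Agent.Lib.Helper5

noncomputable section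

section generic

universe v₁ u₁ v₂ u₂ v₃ u₃
variable {C : Type u₁} [Category.{v₁} C] {D : Type u₂} [Category.{v₂} D]
  {H : Type u₃} [Category.{v₃} H]
  (L : C ⥤ D) [∀ F : C ⥤ H, L.HasRightKanExtension F]
  (F : C ⥤ H) [L.HasPointwiseRightKanExtension F]

lemma isIso_ran_leg {X : D} (g : StructuredArrow X L) (hg : IsInitial g) :
    IsIso ((L.ran.obj F).map g.hom ≫ (L.ranCounit.app F).app g.right) :=
  (Functor.isPointwiseRightKanExtensionRanCounit L F X).isIso_π_app_of_isInitial g hg

end generic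

variable (Y : (WithInitial SimplexCategory)ᵒᵖ ⥤ TopCat.{u}) (i : (WithInitial SimplexCategory)ᵒᵖ)

/-- the fibre category -/
abbrev OA : Type u := (FibDesc.topAug Y).obj ⟨op i⟩

instance ι_aug_cocontinuous :
    (ι (FibDesc.topAug Y) i).IsCocontinuous (FibDesc.topAugTop Y i) (JA Y) :=
  FibTot.isCocontinuous_ι _ (isPreFibSite Y) i

instance ι_aug_ran (P : (OA Y i)ᵒᵖ ⥤ AddCommGrpCat.{u}) :
    (ι (FibDesc.topAug Y) i).op.HasPointwiseRightKanExtension P := by
  infer_instance

/-- restriction to a level of the augmented total site -/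
abbrev restrA : ShA Y ⥤ Sheaf (FibDesc.topAugTop Y i) AddCommGrpCat.{u} :=
  FibSite.restr (FibDesc.topAug Y) (FibDesc.topAugTop Y) AddCommGrpCat.{u} i

/-- coextension from a level of the augmented total site -/
abbrev coextA : Sheaf (FibDesc.topAugTop Y i) AddCommGrpCat.{u} ⥤ ShA Y :=
  FibSite.coextend (FibDesc.topAug Y) (FibDesc.topAugTop Y) AddCommGrpCat.{u} i

/-- the adjunction between them -/
def adjRC : restrA Y i ⊣ coextA Y i :=
  (ι (FibDesc.topAug Y) i).sheafAdjunctionCocontinuous AddCommGrpCat.{u}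
    (FibDesc.topAugTop Y i) (JA Y)

/-- the canonical morphism `(i, aᵢ⁻¹ V) ⟶ (⋆, V)` -/
def hV (V : Opens (S₀ Y)) :
    (ι (FibDesc.topAug Y) i).obj ((Opens.map (aug Y i)).obj V) ⟶
      (FibDesc.eps (FibDesc.topAug Y)).obj V :=
  homA Y (t := (ι (FibDesc.topAug Y) i).obj ((Opens.map (aug Y i)).obj V))
    (t' := (FibDesc.eps (FibDesc.topAug Y)).obj V) (toBot i) le_rfl

/-- the corresponding structured arrow -/
def g₀ (V : Opens (S₀ Y)) :
    StructuredArrow (op ((FibDesc.eps (FibDesc.topAug Y)).obj V)) (ι (FibDesc.topAug Y) i).op :=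
  StructuredArrow.mk (Y := op ((Opens.map (aug Y i)).obj V)) (hV Y i V).op

/-- it is initial -/
def isInitial_g₀ (V : Opens (S₀ Y)) : IsInitial (g₀ Y i V) := by
  refine IsInitial.ofUniqueHom (fun g' => ?_) (fun g' m => ?_)
  · let U' : Opens (Y.obj i) := g'.right.unop
    have hle : U' ≤ (Opens.map (aug Y i)).obj V := le_of_hom_eps Y g'.hom.unop
    refine StructuredArrow.homMk (homOfLE hle : U' ⟶ (Opens.map (aug Y i)).obj V).op ?_
    exact Quiver.Hom.unop_inj (hom_eps_ext Y _ _)
  · apply StructuredArrow.ext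
    apply Quiver.Hom.unop_inj
    exact (thin_topAug Y _ _ _).elim _ _

variable (N : (OA Y i)ᵒᵖ ⥤ AddCommGrpCat.{u})

/-- the comparison on sections -/
def κapp (V : Opens (S₀ Y)) :
    ((ι (FibDesc.topAug Y) i).op.ran.obj N).obj (op ((FibDesc.eps (FibDesc.topAug Y)).obj V)) ⟶
      N.obj (op ((Opens.map (aug Y i)).obj V)) :=
  ((ι (FibDesc.topAug Y) i).op.ran.obj N).map (hV Y i V).op ≫
    ((ι (FibDesc.topAug Y) i).op.ranCounit.app N).app (op ((Opens.map (aug Y i)).obj V))

instance isIso_κapp (V : Opens (S₀ Y)) : IsIso (κapp Y i N V) :=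
  isIso_ran_leg (ι (FibDesc.topAug Y) i).op N (g₀ Y i V) (isInitial_g₀ Y i V)

lemma κapp_naturality_V {V V' : Opens (S₀ Y)} (j : V' ⟶ V) :
    ((ι (FibDesc.topAug Y) i).op.ran.obj N).map ((FibDesc.eps (FibDesc.topAug Y)).map j).op ≫
        κapp Y i N V' =
      κapp Y i N V ≫ N.map ((Opens.map (aug Y i)).map j).op := by
  unfold κapp
  have hc : ((ι (FibDesc.topAug Y) i).op.ran.obj N).map
        ((ι (FibDesc.topAug Y) i).map ((Opens.map (aug Y i)).map j)).op ≫
      ((ι (FibDesc.topAug Y) i).op.ranCounit.app N).app (op ((Opens.map (aug Y i)).obj V')) =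
      ((ι (FibDesc.topAug Y) i).op.ranCounit.app N).app (op ((Opens.map (aug Y i)).obj V)) ≫
        N.map ((Opens.map (aug Y i)).map j).op :=
    ((ι (FibDesc.topAug Y) i).op.ranCounit.app N).naturality ((Opens.map (aug Y i)).map j).op
  rw [Category.assoc, ← hc, ← Category.assoc, ← Category.assoc, ← Functor.map_comp,
    ← Functor.map_comp, ← op_comp, ← op_comp]
  have e : hV Y i V' ≫ (FibDesc.eps (FibDesc.topAug Y)).map j =
      (ι (FibDesc.topAug Y) i).map ((Opens.map (aug Y i)).map j) ≫ hV Y i V :=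
    hom_eps_ext Y _ _
  rw [e]

lemma κapp_naturality_N {N N' : (OA Y i)ᵒᵖ ⥤ AddCommGrpCat.{u}} (φ : N ⟶ N') (V : Opens (S₀ Y)) :
    ((ι (FibDesc.topAug Y) i).op.ran.map φ).app (op ((FibDesc.eps (FibDesc.topAug Y)).obj V)) ≫
        κapp Y i N' V =
      κapp Y i N V ≫ φ.app (op ((Opens.map (aug Y i)).obj V)) := by
  unfold κapp
  have hc : ((ι (FibDesc.topAug Y) i).op.ran.map φ).app
        (op ((ι (FibDesc.topAug Y) i).obj ((Opens.map (aug Y i)).obj V))) ≫
      ((ι (FibDesc.topAug Y) i).op.ranCounit.app N').app (op ((Opens.map (aug Y i)).obj V)) =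
      ((ι (FibDesc.topAug Y) i).op.ranCounit.app N).app (op ((Opens.map (aug Y i)).obj V)) ≫
        φ.app (op ((Opens.map (aug Y i)).obj V)) :=
    congrArg (fun t => t.app (op ((Opens.map (aug Y i)).obj V)))
      ((ι (FibDesc.topAug Y) i).op.ranCounit.naturality φ)
  rw [Category.assoc, ← hc, ← Category.assoc, ← Category.assoc]
  congr 1
  exact (((ι (FibDesc.topAug Y) i).op.ran.map φ).naturality (hV Y i V).op).symm

/-- the comparison of presheaves -/
def κpre : (FibDesc.eps (FibDesc.topAug Y)).op ⋙ (ι (FibDesc.topAug Y) i).op.ran.obj N ≅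
    (Opens.map (aug Y i)).op ⋙ N :=
  NatIso.ofComponents (fun V => asIso (κapp Y i N V.unop))
    (fun {V V'} j => κapp_naturality_V Y i N j.unop)

/-- the comparison of sheaves -/
def κsh (M : Sheaf (FibDesc.topAugTop Y i) AddCommGrpCat.{u}) :
    (coextA Y i ⋙ epsS Y).obj M ≅ (CohTop.push (aug Y i)).obj M :=
  (fullyFaithfulSheafToPresheaf _ _).preimageIso (κpre Y i M.obj)

/-- coextension from a level followed by restriction to the base is the direct image -/
def κ : coextA Y i ⋙ epsS Y ≅ CohTop.push (aug Y i) :=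
  NatIso.ofComponents (κsh Y i) (fun {M M'} φ => by
    apply (fullyFaithfulSheafToPresheaf _ _).map_injective
    rw [Functor.map_comp, Functor.map_comp]
    unfold κsh
    rw [Functor.FullyFaithful.preimageIso_hom, Functor.FullyFaithful.preimageIso_hom,
      Functor.FullyFaithful.map_preimage, Functor.FullyFaithful.map_preimage]
    apply NatTrans.ext
    funext V
    exact κapp_naturality_N Y i φ.hom V.unop)

/-- extension from the base followed by restriction to a level is the inverse image -/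
def pullLevelIso : extY Y ⋙ restrA Y i ≅ CohTop.pull (aug Y i) :=
  (((adjExtY Y).comp (adjRC Y i)).ofNatIsoRight (κ Y i)).leftAdjointUniq
    (TopCat.Sheaf.pullbackPushforwardAdjunction AddCommGrpCat.{u} (aug Y i))

/-- restriction to a level of the simplicial part factors through the augmented total site -/
def inclRestr (n : SimplexCategoryᵒᵖ) : inclS Y ⋙ restrN Y n ≅ restrA Y (tA n) :=
  haveI : (ι (FibDesc.topAug Y) ((FibDesc.toAug SimplexCategory).obj n)).IsContinuous
      (FibDesc.partTop (FibDesc.topAug Y) (FibDesc.topAugTop Y) n)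
      (FibDesc.totAug (FibDesc.topAug Y) (FibDesc.topAugTop Y)) := ι_aug_continuous (Y := Y) (tA n)
  Functor.sheafPushforwardContinuousComp' (ιInclIso Y n) AddCommGrpCat.{u} _ _ _

/-- the inverse image along the augmentation, restricted to a level, is the inverse image along
the augmentation map of that level -/
def pullYLevelIso (n : SimplexCategoryᵒᵖ) :
    pullY Y ⋙ restrN Y n ≅ CohTop.pull (aug Y (tA n)) :=
  Functor.associator _ _ _ ≪≫ Functor.isoWhiskerLeft (extY Y) (inclRestr Y n) ≪≫
    pullLevelIso Y (tA n)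

end

end Groth.Agent.Helper3.SS3
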