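import Mathlib
import Groth.Prelude.Def_FibDesc
import Groth.Prelude.Def_CohTop
import Groth.Agent.Lib.Helper3.SS1
import Groth.Agent.Lib.Helper3.SS2
import Groth.Agent.Lib.Helper3.SS3
import Groth.Agent.Lib.Helper3.ConstG
import Groth.Agent.Lib.Helper3.LerayCol3
import Groth.Agent.Lib.Helper3.AbutIf
import Groth.Agent.Lib.Helper5.Misc.RDComp
import Groth.Agent.Lib.Helper5.Misc.RDExact
import Groth.Agent.S0453

/-!
# The descent spectral sequence of an augmented simplicial space of cohomological descent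
-/

set_option autoImplicit false
set_option backward.isDefEq.respectTransparency false
open CategoryTheory Limits Opposite TopologicalSpace Pseudofunctor.CoGrothendieck Simplicial

universe u
namespace Groth.Agent.Helper3.SS4

open DC2 DC4 DC5 DC6 DC12 DC19 PC1 SS2 SS3 Groth.Agent.Lib.Helper5

noncomputable section

attribute [local instance] PShInst.isGrothendieckAbelian_psh

variable (Y : (WithInitial SimplexCategory)ᵒᵖ ⥤ TopCat.{u})

/-- the forgetful functor to presheaves on the total site -/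
abbrev Tf : DShY Y ⥤ ((TP Y)ᵒᵖ ⥤ AddCommGrpCat.{u}) := sheafToPresheaf (KP Y) AddCommGrpCat.{u}

lemma hT (Q : DShY Y) (hQ : Injective Q) (p : ℕ) (hp : 0 < p) :
    IsZero (((Sσ Y ⊤).rightDerived p).obj ((Tf Y).obj Q)) := by
  refine IsZero.of_iso ?_ ((rightDerivedIso Y ⊤ p).app _)
  obtain ⟨k, rfl⟩ := Nat.exists_eq_succ_of_ne_zero hp.ne'
  exact isZero_homology_CxU_of_injective Y Q ⊤ k

/-- evaluation at an object of the total site -/
abbrev evT (t : TP Y) : ((TP Y)ᵒᵖ ⥤ AddCommGrpCat.{u}) ⥤ AddCommGrpCat.{u} :=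
  (evaluation (TP Y)ᵒᵖ AddCommGrpCat.{u}).obj (op t)

/-- sections over an object of a level -/
def evIso (n : SimplexCategoryᵒᵖ) (U : Opens (Y.obj (tA n))) :
    Tf Y ⋙ evT Y ((ιP Y n).obj U) ≅
      restrN Y n ⋙ SiteSec.Γ (Opens.grothendieckTopology (Y.obj (tA n))) U :=
  NatIso.ofComponents (fun G => Iso.refl _) (fun {G G'} φ => by
    rw [Iso.refl_hom, Iso.refl_hom, Category.comp_id, Category.id_comp]
    rfl)

/-- the cohomology presheaf of a sheaf on the total site, over an open set of a level, is the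
derived functor of the sections of the restriction to that level -/
lemma nonempty_level_iso (n : SimplexCategoryᵒᵖ) (G : DShY Y) (q : ℕ) :
    Nonempty ((((Tf Y).rightDerived q).obj G).obj (op ((ιP Y n).obj ⊤)) ≅
      AddCommGrpCat.of (CohTop.H ((restrN Y n).obj G) q)) := by
  have e1 := (Groth.Agent.Lib.Helper5.Misc.RDComp.postIso (Tf Y) (evT Y ((ιP Y n).obj ⊤)) G q).symm
  have e2 := (Groth.Agent.Lib.Helper5.Misc.RDComp.natIso (evIso Y n ⊤) q).app G
  obtain ⟨e3⟩ := LerayCol3.nonempty_iso_row (restrN Y n) (ConstG.G (Y.obj (tA n)))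
    (fun Q hQ k hk => by
      obtain ⟨m, rfl⟩ := Nat.exists_eq_succ_of_ne_zero hk.ne'
      refine IsZero.of_iso ?_ (ConstG.rightDerivedGIso (Y.obj (tA n)) ((restrN Y n).obj Q) (m + 1))
      haveI : TopCat.Sheaf.IsFlasque (X := Y.obj (tA n)) ((restrN Y n).obj Q) :=
        levelFlasque_of_injective Y Q n
      haveI := Groth.Agent.S0453.result (X := Y.obj (tA n)) ((restrN Y n).obj Q) m
      exact AddCommGrpCat.isZero_of_subsingleton _) G
    (fun k hk => by
      obtain ⟨m, rfl⟩ := Nat.exists_eq_succ_of_ne_zero hk.ne'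
      exact Groth.Agent.Lib.Helper5.Misc.RDExact.isZero_rightDerived_succ (restrN Y n) G m) q
  exact ⟨e1 ≪≫ e2 ≪≫ e3 ≪≫ ConstG.rightDerivedGIso (Y.obj (tA n)) ((restrN Y n).obj G) q⟩

/-- global sections on the base -/
abbrev ΓS : BSh Y ⥤ AddCommGrpCat.{u} := ConstG.G (S₀ Y)

instance : PreservesFiniteLimits (ΓS Y) :=
  inferInstanceAs (PreservesFiniteLimits (ConstG.G (S₀ Y)))

instance : (ΓS Y).Additive := inferInstanceAs ((ConstG.G (S₀ Y)).Additive)

/-- the composite is the global sections of the direct image -/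
def compIso : Tf Y ⋙ Sσ Y ⊤ ≅ pushY Y ⋙ ΓS Y :=
  NatIso.ofComponents (fun G => Iso.refl _) (fun {G G'} φ => by
    rw [Iso.refl_hom, Iso.refl_hom, Category.comp_id, Category.id_comp]
    rfl)

lemma nonempty_abut_iso (h : FibDesc.IsCohDescentTop Y) (M : BSh Y) (n : ℕ) :
    Nonempty (((Tf Y ⋙ Sσ Y ⊤).rightDerived n).obj ((pullY Y).obj M) ≅
      AddCommGrpCat.of (CohTop.H M n)) := by
  have h' := h
  obtain ⟨_, _, _, _, _, h6, hFF⟩ := h'
  haveI : PreservesFiniteLimits (pullY Y) := h6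
  have e1 := (Groth.Agent.Lib.Helper5.Misc.RDComp.natIso (compIso Y) n).app ((pullY Y).obj M)
  obtain ⟨e2⟩ := LerayCol3.nonempty_iso_row (pushY Y) (ΓS Y)
    (fun Q hQ k hk => by
      obtain ⟨m, rfl⟩ := Nat.exists_eq_succ_of_ne_zero hk.ne'
      haveI : Injective ((pushY Y).obj Q) := Injective.injective_of_adjoint (adjY Y) Q
      exact Functor.isZero_rightDerived_obj_injective_succ _ m _) ((pullY Y).obj M)
    (fun k hk => isZero_rightDerived_of_isCohDescentTop h M k hk) n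
  haveI := isIso_unit_of_isCohDescentTop h M
  have e3 := ((ΓS Y).rightDerived n).mapIso (asIso ((adjY Y).unit.app M)).symm
  exact ⟨e1 ≪≫ e2 ≪≫ e3 ≪≫ ConstG.rightDerivedGIso (S₀ Y) M n⟩

lemma sec_top (p : ℕ) : (sec Y ⊤) _⦋p⦌ = (ιP Y (op ⦋p⦌)).obj ⊤ := rfl

lemma nonempty_H_iso {X : TopCat.{u}} {F F' : CohTop.Ab X} (e : F ≅ F') (q : ℕ) :
    Nonempty (AddCommGrpCat.of (CohTop.H F q) ≅ AddCommGrpCat.of (CohTop.H F' q)) :=
  ⟨(ConstG.rightDerivedGIso X F q).symm ≪≫ ((ConstG.G X).rightDerived q).mapIso e ≪≫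
    ConstG.rightDerivedGIso X F' q⟩

/-- **The descent spectral sequence** of an augmented simplicial space of cohomological descent -/
theorem exists_descent_ss (h : FibDesc.IsCohDescentTop Y) (M : BSh Y) :
    ∃ (E : CohomologicalSpectralSequence AddCommGrpCat.{u} 1)
      (a : SpSeq.Abutment E (fun n : ℤ =>
        if 0 ≤ n then AddCommGrpCat.of (CohTop.H M n.toNat) else AddCommGrpCat.of PUnit.{u + 1})),
      (∀ n, a.IsFinite n) ∧ SpSeq.IsBounded E ∧
      ∀ p q : ℤ, Nonempty ((E.page 1 le_rfl).X (p, q) ≅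
        (if 0 ≤ p ∧ 0 ≤ q then
          AddCommGrpCat.of (CohTop.H ((CohTop.pull (aug Y (tA (op ⦋p.toNat⦌)))).obj M) q.toNat)
         else AddCommGrpCat.of PUnit.{u + 1})) := by
  obtain ⟨E, a, hfin, hbdd, hE⟩ := GSS.main' (Tf Y) (Sσ Y ⊤) (hT Y) ((pullY Y).obj M)
  obtain ⟨a', hfin'⟩ := AbutIf.exists_abutment_if
    (fun k => ((Tf Y ⋙ Sσ Y ⊤).rightDerived k).obj ((pullY Y).obj M))
    (fun k => AddCommGrpCat.of (CohTop.H M k)) a hfin
    (fun k => nonempty_abut_iso Y h M k)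
  obtain ⟨E', a'', hfin'', hbdd', hE'⟩ := SS1.exists_prepend_nat E a'
    (fun q => (CCF (sec Y ⊤)).obj (((Tf Y).rightDerived q).obj ((pullY Y).obj M)))
    (AddCommGrpCat.of PUnit.{u + 1}) (AddCommGrpCat.isZero_of_subsingleton _) hfin'
    (fun p q => by
      obtain ⟨e⟩ := hE p q
      rw [if_pos ⟨Int.natCast_nonneg p, Int.natCast_nonneg q⟩] at e
      simp only [Int.toNat_natCast] at e
      exact ⟨((rightDerivedIso Y ⊤ p).app _).symm ≪≫ e.symm⟩)
    (fun p q hpq => by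
      obtain ⟨e⟩ := hE p q
      rw [if_neg (by lia)] at e
      exact (isZero_zero _).of_iso e)
  refine ⟨E', a'', hfin'', hbdd', fun p q => ?_⟩
  obtain ⟨e⟩ := hE' p q
  by_cases hpq : 0 ≤ p ∧ 0 ≤ q
  · rw [if_pos hpq] at e ⊢
    obtain ⟨e2⟩ := nonempty_level_iso Y (op ⦋p.toNat⦌) ((pullY Y).obj M) q.toNat
    obtain ⟨e3⟩ := nonempty_H_iso ((pullYLevelIso Y (op ⦋p.toNat⦌)).app M) q.toNat
    exact ⟨e ≪≫ e2 ≪≫ e3⟩
  · rw [if_neg hpq] at e ⊢
    exact ⟨e⟩

end

end Groth.Agent.Helper3.SS4
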