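import Mathlib

/-! helper3: étale charts to affine space over an affine base; smoothness of affine space
(copied from helper6's Witt/Unipotent), the polynomial-ring description `theta` of the global
sections of affine space over an affine base (definition as in helper4's Aff1). -/

set_option autoImplicit false
set_option backward.isDefEq.respectTransparency.types false
universe u

namespace Groth.Agent.Helper3.SecChart

open AlgebraicGeometry CategoryTheory CategoryTheory.Limits AffineSpace MvPolynomial

theorem smooth_affineSpace (σ : Type u) [Finite σ] (S : Scheme.{u}) : Smooth (𝔸(σ; S) ↘ S) :=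
  MorphismProperty.pullback_fst _ _ <| by
  have := isIso_of_isTerminal specULiftZIsTerminal.{u} terminalIsTerminal (terminal.from _)
  rw [← terminal.comp_from (Spec.map (CommRingCat.ofHom MvPolynomial.C)),
    MorphismProperty.cancel_right_of_respectsIso (P := @Smooth),
    HasRingHomProperty.Spec_iff (P := @Smooth), RingHom.Smooth]
  convert! (⟨inferInstance, inferInstance⟩ :
    Algebra.Smooth (ULift.{u} ℤ) (MvPolynomial σ (ULift.{u} ℤ)))
  exact Algebra.algebra_ext _ _ fun _ ↦ rfl

/-- the natural map from the polynomial ring to the global sections of affine space -/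
noncomputable def theta (n : Type u) (S : Scheme.{u}) :
    MvPolynomial n Γ(S, ⊤) →+* Γ(𝔸(n; S), ⊤) :=
  eval₂Hom ((𝔸(n; S) ↘ S).appTop).hom (coord S)

theorem homOfVector_appTop_comp_theta {n : Type u} {S U : Scheme.{u}} (h : U ⟶ S)
    (v : n → Γ(U, ⊤)) :
    ((homOfVector h v).appTop).hom.comp (theta n S) = eval₂Hom h.appTop.hom v := by
  apply MvPolynomial.ringHom_ext
  · intro a
    simp only [theta, RingHom.comp_apply, coe_eval₂Hom, eval₂_C]
    rw [← CommRingCat.comp_apply, ← Scheme.Hom.comp_appTop, homOfVector_over]
  · intro i
    simp only [theta, RingHom.comp_apply, coe_eval₂Hom, eval₂_X]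
    exact homOfVector_appTop_coord h v i

theorem theta_bijective (n : Type u) (S : Scheme.{u}) [IsAffine S] :
    Function.Bijective (theta n S) := by
  have h1 := isoOfIsAffine_hom_appTop (n := n) (S := S)
  have h2 : IsIso (CommRingCat.ofHom (theta n S)) := by
    have h3 : CommRingCat.ofHom (theta n S) =
        (Scheme.ΓSpecIso _).inv ≫ (isoOfIsAffine n S).hom.appTop := by
      rw [h1, Iso.inv_hom_id_assoc]
      rfl
    rw [h3]
    haveI : IsIso ((isoOfIsAffine n S).hom.appTop) := by
      change IsIso ((isoOfIsAffine n S).hom.app ⊤)
      infer_instance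
    infer_instance
  exact ConcreteCategory.bijective_of_isIso (CommRingCat.ofHom (theta n S))

theorem etale_homOfVector_of_affine {n : Type u} {S U : Scheme.{u}} [IsAffine S] [IsAffine U]
    (h : U ⟶ S) (v : n → Γ(U, ⊤))
    (het : (eval₂Hom h.appTop.hom v : MvPolynomial n Γ(S, ⊤) →+* Γ(U, ⊤)).Etale) :
    Etale (homOfVector h v) := by
  rw [HasRingHomProperty.iff_of_isAffine (P := @Etale)]
  let e := RingEquiv.ofBijective (theta n S) (theta_bijective n S)
  have h1 : ((homOfVector h v).appTop).hom =
      (eval₂Hom h.appTop.hom v).comp e.symm.toRingHom := by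
    rw [← homOfVector_appTop_comp_theta h v]
    ext x
    simp only [RingHom.comp_apply]
    congr 1
    exact (e.apply_symm_apply x).symm
  rw [h1]
  exact RingHom.Etale.stableUnderComposition _ _
    (RingHom.Etale.of_bijective e.symm.bijective) het

end Groth.Agent.Helper3.SecChart
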