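import Mathlib
import Groth.Agent.Lib.Helper3.SecChart1

/-! helper3: translations of affine space; restriction of étale charts to smaller opens. -/

set_option autoImplicit false
set_option backward.isDefEq.respectTransparency.types false
universe u

namespace Groth.Agent.Helper3.SecChart

open AlgebraicGeometry CategoryTheory CategoryTheory.Limits AffineSpace MvPolynomial

section Transl

variable {n : Type u} (U : Scheme.{u})

/-- translation of affine space over `U` by (minus) a vector of global functions of `U` -/
noncomputable def transl (a : n → Γ(U, ⊤)) : 𝔸(n; U) ⟶ 𝔸(n; U) :=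
  homOfVector (𝔸(n; U) ↘ U) (fun j => coord U j - (𝔸(n; U) ↘ U).appTop (a j))

theorem transl_over (a : n → Γ(U, ⊤)) : transl U a ≫ 𝔸(n; U) ↘ U = 𝔸(n; U) ↘ U :=
  homOfVector_over _ _

theorem transl_coord (a : n → Γ(U, ⊤)) (j : n) :
    (transl U a).appTop (coord U j) = coord U j - (𝔸(n; U) ↘ U).appTop (a j) :=
  homOfVector_appTop_coord _ _ _

theorem transl_appTop_over (a : n → Γ(U, ⊤)) (r : Γ(U, ⊤)) :
    (transl U a).appTop ((𝔸(n; U) ↘ U).appTop r) = (𝔸(n; U) ↘ U).appTop r := by
  rw [← CommRingCat.comp_apply, ← Scheme.Hom.comp_appTop, transl_over]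

theorem transl_comp (a b : n → Γ(U, ⊤)) : transl U a ≫ transl U b = transl U (a + b) := by
  apply AffineSpace.hom_ext
  · rw [Category.assoc, transl_over, transl_over, transl_over]
  · intro j
    rw [Scheme.Hom.comp_appTop, CommRingCat.comp_apply, transl_coord, map_sub, transl_coord,
      transl_appTop_over, transl_coord, Pi.add_apply, map_add]
    ring

theorem transl_zero : transl U (0 : n → Γ(U, ⊤)) = 𝟙 _ := by
  apply AffineSpace.hom_ext
  · rw [transl_over, Category.id_comp]
  · intro j
    rw [transl_coord, Pi.zero_apply, map_zero, sub_zero]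
    simp

instance isIso_transl (a : n → Γ(U, ⊤)) : IsIso (transl U a) :=
  ⟨transl U (-a), by rw [transl_comp, add_neg_cancel, transl_zero],
    by rw [transl_comp, neg_add_cancel, transl_zero]⟩

theorem homOfVector_comp_transl {V : Scheme.{u}} (g : V ⟶ U) (v : n → Γ(V, ⊤))
    (a : n → Γ(U, ⊤)) :
    homOfVector g v ≫ transl U a = homOfVector g (fun j => v j - g.appTop (a j)) := by
  apply AffineSpace.hom_ext
  · rw [Category.assoc, transl_over, homOfVector_over, homOfVector_over]
  · intro j
    rw [Scheme.Hom.comp_appTop, CommRingCat.comp_apply, transl_coord, map_sub,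
      homOfVector_appTop_coord, homOfVector_appTop_coord, ← CommRingCat.comp_apply,
      ← Scheme.Hom.comp_appTop, homOfVector_over]

theorem etale_homOfVector_sub {V : Scheme.{u}} (g : V ⟶ U) (v : n → Γ(V, ⊤))
    (a : n → Γ(U, ⊤)) (h : Etale (homOfVector g v)) :
    Etale (homOfVector g (fun j => v j - g.appTop (a j))) := by
  rw [← homOfVector_comp_transl]
  infer_instance

end Transl

section Restrict

variable {n : Type u} {X Y : Scheme.{u}} (f : X ⟶ Y)

theorem etale_map_of_isOpenImmersion {S T : Scheme.{u}} (j : S ⟶ T) [IsOpenImmersion j] :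
    Etale (AffineSpace.map n j) :=
  MorphismProperty.of_isPullback (P := @Etale) (isPullback_map (n := n) j).flip inferInstance

theorem etale_restrict {U₀ U : Y.Opens} {W V : X.Opens} (hWU : W ≤ f ⁻¹ᵁ U₀)
    (hU : U ≤ U₀) (hV : V ≤ W) (hVU : V ≤ f ⁻¹ᵁ U) (w : n → Γ(W, ⊤))
    (h : Etale (homOfVector (f.resLE U₀ W hWU) w)) :
    Etale (homOfVector (f.resLE U V hVU) (fun j => (X.homOfLE hV).appTop (w j))) := by
  have key : homOfVector (f.resLE U V hVU) (fun j => (X.homOfLE hV).appTop (w j)) ≫
      AffineSpace.map n (Y.homOfLE hU) = X.homOfLE hV ≫ homOfVector (f.resLE U₀ W hWU) w := by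
    apply AffineSpace.hom_ext
    · rw [Category.assoc, map_over, homOfVector_over_assoc, Category.assoc, homOfVector_over,
        Scheme.Hom.resLE_map, Scheme.Hom.map_resLE]
    · intro j
      rw [Scheme.Hom.comp_appTop, CommRingCat.comp_apply, map_appTop_coord,
        homOfVector_appTop_coord, Scheme.Hom.comp_appTop, CommRingCat.comp_apply,
        homOfVector_appTop_coord]
  haveI := etale_map_of_isOpenImmersion (n := n) (Y.homOfLE hU)
  refine MorphismProperty.of_postcomp (W := @Etale) (W' := @Etale) _
    (AffineSpace.map n (Y.homOfLE hU)) inferInstance ?_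
  rw [key]
  infer_instance

end Restrict

end Groth.Agent.Helper3.SecChart
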