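import Mathlib
import Groth.Agent.Lib.Helper3.SecChart2

/-! helper3: existence of an étale chart to affine space near a smooth point; S3713. -/

set_option autoImplicit false
set_option backward.isDefEq.respectTransparency.types false
universe u

namespace Groth.Agent.Helper3.SecChart

open AlgebraicGeometry CategoryTheory CategoryTheory.Limits AffineSpace MvPolynomial

/-- relabel variables and coefficients -/
noncomputable def relabel (m : ℕ) {A B : Type u} [CommRing A] [CommRing B] (e : A ≃+* B) :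
    MvPolynomial (ULift.{u} (Fin m)) A ≃+* MvPolynomial (Fin m) B :=
  (MvPolynomial.renameEquiv A (Equiv.ulift.{u} (α := Fin m))).toRingEquiv.trans
    (MvPolynomial.mapEquiv (Fin m) e)

theorem relabel_C (m : ℕ) {A B : Type u} [CommRing A] [CommRing B] (e : A ≃+* B) (a : A) :
    relabel m e (C a) = C (e a) := by
  simp [relabel]

theorem relabel_X (m : ℕ) {A B : Type u} [CommRing A] [CommRing B] (e : A ≃+* B)
    (j : ULift.{u} (Fin m)) : relabel m e (X j) = X j.down := by
  simp [relabel]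

theorem exists_etale_chart {X Y : Scheme.{u}} (f : X ⟶ Y) [LocallyOfFinitePresentation f]
    (x : X) (hx : x ∈ f.smoothLocus) :
    ∃ (U₀ : Y.Opens) (W : X.Opens) (hWU : W ≤ f ⁻¹ᵁ U₀) (m : ℕ)
      (w : ULift.{u} (Fin m) → Γ(W, ⊤)), x ∈ W ∧
        Etale (homOfVector (f.resLE U₀ W hWU) w) := by
  obtain ⟨U₀, hU₀, V₀, hV₀, hVU₀, hxV₀, hsm⟩ := exists_smooth_of_formallySmooth_stalk f x hx
  algebraize [(f.appLE U₀ V₀ hVU₀).hom]
  haveI : Algebra.FinitePresentation Γ(Y, U₀) Γ(X, V₀) := Algebra.Smooth.finitePresentation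
  let p := hV₀.primeIdealOf ⟨x, hxV₀⟩
  haveI : Algebra.IsSmoothAt Γ(Y, U₀) p.asIdeal := inferInstanceAs (Algebra.IsSmoothAt _ _)
  obtain ⟨g, hg, m, alg, htower, hstd⟩ :=
    Algebra.IsSmoothAt.exists_isStandardEtale_mvPolynomial (R := Γ(Y, U₀)) (p := p.asIdeal)
  have hxg : x ∈ X.basicOpen g := by
    change g ∉ (hV₀.primeIdealOf ⟨x, hxV₀⟩).asIdeal at hg
    rw [← PrimeSpectrum.mem_basicOpen, IsAffineOpen.primeIdealOf,
      ← hV₀.fromSpec_preimage_basicOpen] at hg
    have h1 : hV₀.fromSpec (hV₀.isoSpec.hom ⟨x, hxV₀⟩) ∈ X.basicOpen g := hg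
    rw [← Scheme.Hom.comp_apply, IsAffineOpen.isoSpec_hom, IsAffineOpen.toSpecΓ_fromSpec] at h1
    exact h1
  have hWU : X.basicOpen g ≤ f ⁻¹ᵁ U₀ := (X.basicOpen_le g).trans hVU₀
  haveI := hV₀.isLocalization_basicOpen g
  let e : Localization.Away g ≃ₐ[Γ(X, V₀)] Γ(X, X.basicOpen g) :=
    IsLocalization.algEquiv (.powers g) _ _
  let W : X.Opens := X.basicOpen g
  let w : ULift.{u} (Fin m) → Γ(W, ⊤) := fun j =>
    W.topIso.inv (e (algebraMap (MvPolynomial (Fin m) Γ(Y, U₀)) (Localization.Away g) (MvPolynomial.X j.down)))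
  refine ⟨U₀, W, hWU, m, w, hxg, ?_⟩
  haveI : IsAffine (U₀ : Scheme.{u}) := hU₀
  haveI : IsAffine (W : Scheme.{u}) := hV₀.basicOpen g
  apply etale_homOfVector_of_affine
  let ρ := relabel m (U₀.topIso.commRingCatIsoToRingEquiv)
  have hfac : (eval₂Hom (f.resLE U₀ W hWU).appTop.hom w :
      MvPolynomial (ULift.{u} (Fin m)) Γ((U₀ : Scheme.{u}), ⊤) →+* Γ((W : Scheme.{u}), ⊤)) =
      (W.topIso.inv.hom.comp e.toRingEquiv.toRingHom).comp
        ((algebraMap (MvPolynomial (Fin m) Γ(Y, U₀)) (Localization.Away g)).comp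
          ρ.toRingHom) := by
    apply MvPolynomial.ringHom_ext
    · intro a
      simp only [RingHom.comp_apply, coe_eval₂Hom, eval₂_C]
      have h1 : ρ.toRingHom (C a) = C (U₀.topIso.hom a) := relabel_C m _ a
      rw [h1]
      have h2 : algebraMap (MvPolynomial (Fin m) Γ(Y, U₀)) (Localization.Away g)
          (C (U₀.topIso.hom a)) =
          algebraMap Γ(X, V₀) (Localization.Away g)
            (algebraMap Γ(Y, U₀) Γ(X, V₀) (U₀.topIso.hom a)) := by
        rw [← MvPolynomial.algebraMap_eq, ← IsScalarTower.algebraMap_apply,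
          ← IsScalarTower.algebraMap_apply]
      rw [h2]
      have h3 : e.toRingEquiv.toRingHom (algebraMap Γ(X, V₀) (Localization.Away g)
          (algebraMap Γ(Y, U₀) Γ(X, V₀) (U₀.topIso.hom a))) =
          algebraMap Γ(X, V₀) Γ(X, X.basicOpen g)
            (algebraMap Γ(Y, U₀) Γ(X, V₀) (U₀.topIso.hom a)) := e.commutes _
      rw [h3]
      have h4 : (f.resLE U₀ W hWU).appTop = U₀.topIso.hom ≫ f.appLE U₀ W hWU ≫ W.topIso.inv :=
        Scheme.Hom.resLE_app_top ..
      have h5 : (f.resLE U₀ W hWU).appTop.hom a =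
          W.topIso.inv.hom ((f.appLE U₀ W hWU).hom (U₀.topIso.hom.hom a)) := by
        rw [h4]; rfl
      have h6 : ∀ r : Γ(Y, U₀), algebraMap Γ(X, V₀) Γ(X, X.basicOpen g)
          (algebraMap Γ(Y, U₀) Γ(X, V₀) r) = (f.appLE U₀ W hWU).hom r := by
        intro r
        change (X.presheaf.map (homOfLE (X.basicOpen_le g)).op).hom
          ((f.appLE U₀ V₀ hVU₀).hom r) = _
        rw [← CommRingCat.comp_apply, Scheme.Hom.appLE_map]
      rw [h5, h6]
    · intro j
      simp only [RingHom.comp_apply, coe_eval₂Hom, eval₂_X]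
      have h1 : ρ.toRingHom (MvPolynomial.X j) = MvPolynomial.X j.down := relabel_X m _ j
      rw [h1]
      rfl
  rw [hfac]
  refine RingHom.Etale.stableUnderComposition _ _ ?_ ?_
  · refine RingHom.Etale.stableUnderComposition _ _ (RingHom.Etale.of_bijective ρ.bijective) ?_
    exact RingHom.etale_algebraMap.mpr inferInstance
  · refine RingHom.Etale.stableUnderComposition _ _
      (RingHom.Etale.of_bijective e.toRingEquiv.bijective) ?_
    exact RingHom.Etale.of_bijective (ConcreteCategory.bijective_of_isIso W.topIso.inv)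


theorem S3713_main {X Y : Scheme.{u}} (f : X ⟶ Y)
    [LocallyOfFinitePresentation f] (i : Y ⟶ X) (hi : i ≫ f = 𝟙 Y) (y : Y) :
    i.base y ∈ f.smoothLocus ↔
      ∃ (U : Y.Opens) (V : X.Opens) (_ : y ∈ U) (hUV : U ≤ i ⁻¹ᵁ V) (hVU : V ≤ f ⁻¹ᵁ U) (m : ℕ)
        (v : ULift.{u} (Fin m) → Γ(V, ⊤)),
        Etale (AffineSpace.homOfVector (f.resLE U V hVU) v) ∧
          ∀ j, (i.resLE V U hUV).appTop (v j) = 0 := by
  have hfi : ∀ z : Y, f.base (i.base z) = z := by
    intro z
    have := congrArg (fun φ => φ.base z) hi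
    simpa using this
  constructor
  · intro hx
    obtain ⟨U₀, W, hWU, m, w, hxW, hw⟩ := exists_etale_chart f (i.base y) hx
    let U : Y.Opens := U₀ ⊓ i ⁻¹ᵁ W
    let V : X.Opens := W ⊓ f ⁻¹ᵁ U
    have hyU : y ∈ U := by
      refine ⟨?_, hxW⟩
      have := hWU hxW
      change f.base (i.base y) ∈ U₀ at this
      rwa [hfi] at this
    have hUV : U ≤ i ⁻¹ᵁ V := by
      intro z hz
      refine ⟨hz.2, ?_⟩
      change f.base (i.base z) ∈ U
      rw [hfi]
      exact hz
    have hVU : V ≤ f ⁻¹ᵁ U := inf_le_right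
    have hU : U ≤ U₀ := inf_le_left
    have hV : V ≤ W := inf_le_left
    have h1 := etale_restrict f hWU hU hV hVU w hw
    let a : ULift.{u} (Fin m) → Γ(U, ⊤) := fun j =>
      (i.resLE V U hUV).appTop ((X.homOfLE hV).appTop (w j))
    have h2 := etale_homOfVector_sub (U : Scheme.{u}) (f.resLE U V hVU) _ a h1
    refine ⟨U, V, hyU, hUV, hVU, m, _, h2, ?_⟩
    intro j
    have h3 : i.resLE V U hUV ≫ f.resLE U V hVU = 𝟙 _ := by
      rw [← cancel_mono U.ι, Category.assoc, Scheme.Hom.resLE_comp_ι,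
        Scheme.Hom.resLE_comp_ι_assoc, hi, Category.comp_id, Category.id_comp]
    have h4 : (i.resLE V U hUV).appTop ((f.resLE U V hVU).appTop (a j)) = a j := by
      rw [← CommRingCat.comp_apply, ← Scheme.Hom.comp_appTop, h3]
      simp
    rw [map_sub, h4]
    exact sub_self _
  · rintro ⟨U, V, hyU, hUV, hVU, m, v, hEt, -⟩
    haveI := smooth_affineSpace (ULift.{u} (Fin m)) (U : Scheme.{u})
    have h1 : Smooth (f.resLE U V hVU) := by
      rw [← homOfVector_over (f.resLE U V hVU) v]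
      infer_instance
    have h2 : Smooth (V.ι ≫ f) := by
      rw [← Scheme.Hom.resLE_comp_ι f hVU]
      infer_instance
    have h3 : V.ι ⁻¹ᵁ f.smoothLocus = ⊤ := by
      rw [Scheme.Hom.preimage_smoothLocus_eq, Scheme.Hom.smoothLocus_eq_top]
    have h4 : (⟨i.base y, hUV hyU⟩ : V) ∈ V.ι ⁻¹ᵁ f.smoothLocus := by
      rw [h3]; trivial
    exact h4

end Groth.Agent.Helper3.SecChart
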