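import Mathlib
import Groth.Agent.Lib.Helper7.UnramBC.Lift

/-!
# A closed morphism with a section and a trivial fibre is an isomorphism near that fibre (helper3)
-/

set_option autoImplicit false
universe u

namespace Groth.Agent.Helper3.SecIso

open AlgebraicGeometry CategoryTheory CategoryTheory.Limits TopologicalSpace

/-- Cancellation: if `f ≫ g` is an open immersion and `g` is unramified (formally unramified and
locally of finite type) then `f` is an open immersion. -/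
theorem isOpenImmersion_of_comp_unramified {A B C : Scheme.{u}} (f : A ⟶ B) (g : B ⟶ C)
    [IsOpenImmersion (f ≫ g)] [LocallyOfFiniteType g] [FormallyUnramified g] :
    IsOpenImmersion f := by
  haveI : MorphismProperty.HasOfPostcompProperty @IsOpenImmersion
      (@LocallyOfFiniteType ⊓ @FormallyUnramified) := by
    rw [MorphismProperty.hasOfPostcompProperty_iff_le_diagonal]
    intro X Y f ⟨hft, hfu⟩
    exact inferInstanceAs <| IsOpenImmersion (pullback.diagonal f)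
  exact MorphismProperty.of_postcomp _ (W' := @LocallyOfFiniteType ⊓ @FormallyUnramified) f g
    ⟨‹_›, ‹_›⟩ ‹_›

/-- Geometric core: given an open immersion `j : W ⟶ X` through whose range the section passes at
`s`, with `j ≫ π` unramified, and the fibre over `s` reduced to the point `ε s`. -/
theorem exists_isIso_restrict {X S W : Scheme.{u}} (π : X ⟶ S) (ε : S ⟶ X) (hε : ε ≫ π = 𝟙 S)
    (hcl : IsClosedMap π) (s : S) (j : W ⟶ X) [IsOpenImmersion j]
    [LocallyOfFiniteType (j ≫ π)] [FormallyUnramified (j ≫ π)] (hs : ε s ∈ Set.range j)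
    (hfib : ∀ x : X, π x = s → x = ε s) :
    ∃ U : S.Opens, s ∈ U ∧ IsIso (π ∣_ U) := by
  let S₁ : S.Opens := ε ⁻¹ᵁ j.opensRange
  have hsS₁ : s ∈ S₁ := hs
  have hr : Set.range (S₁.ι ≫ ε) ⊆ Set.range j := by
    rintro _ ⟨t, rfl⟩
    exact t.2
  let ε₁ : S₁.toScheme ⟶ W := IsOpenImmersion.lift j (S₁.ι ≫ ε) hr
  have hε₁ : ε₁ ≫ j = S₁.ι ≫ ε := IsOpenImmersion.lift_fac _ _ _
  have hε₁π : ε₁ ≫ j ≫ π = S₁.ι := by
    rw [← Category.assoc, hε₁, Category.assoc, hε, Category.comp_id]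
  haveI : IsOpenImmersion (ε₁ ≫ j ≫ π) := by rw [hε₁π]; infer_instance
  haveI : IsOpenImmersion ε₁ := isOpenImmersion_of_comp_unramified ε₁ (j ≫ π)
  let e : S₁.toScheme ⟶ X := S₁.ι ≫ ε
  haveI : IsOpenImmersion e := by
    show IsOpenImmersion (S₁.ι ≫ ε)
    rw [← hε₁]; infer_instance
  have heπ : e ≫ π = S₁.ι := by
    show (S₁.ι ≫ ε) ≫ π = _
    rw [Category.assoc, hε, Category.comp_id]
  let V : X.Opens := e.opensRange
  have hεsV : ε s ∈ V := ⟨⟨s, hsS₁⟩, rfl⟩
  have hC : IsClosed (π '' (V : Set X)ᶜ) := hcl _ V.2.isClosed_compl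
  have hsC : s ∉ π '' (V : Set X)ᶜ := by
    rintro ⟨x, hx, hxs⟩
    exact hx (hfib x hxs ▸ hεsV)
  let U : S.Opens := S₁ ⊓ ⟨(π '' (V : Set X)ᶜ)ᶜ, hC.isOpen_compl⟩
  have hsU : s ∈ U := ⟨hsS₁, hsC⟩
  refine ⟨U, hsU, ?_⟩
  have hUV : π ⁻¹ᵁ U ≤ V := by
    intro x hx
    by_contra hxV
    exact hx.2 ⟨x, hxV, rfl⟩
  have hr2 : Set.range (π ⁻¹ᵁ U).ι ⊆ Set.range e := by
    rw [Scheme.Opens.range_ι]
    exact hUV
  let k : (π ⁻¹ᵁ U).toScheme ⟶ S₁.toScheme := IsOpenImmersion.lift e (π ⁻¹ᵁ U).ι hr2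
  have hk : k ≫ e = (π ⁻¹ᵁ U).ι := IsOpenImmersion.lift_fac _ _ _
  haveI : IsOpenImmersion (k ≫ e) := by rw [hk]; infer_instance
  haveI : IsOpenImmersion k := IsOpenImmersion.of_comp k e
  have hcomp : (π ∣_ U) ≫ U.ι = k ≫ S₁.ι := by
    rw [morphismRestrict_ι, ← hk, Category.assoc, heπ]
  haveI : IsOpenImmersion ((π ∣_ U) ≫ U.ι) := by rw [hcomp]; infer_instance
  haveI : IsOpenImmersion (π ∣_ U) := IsOpenImmersion.of_comp (π ∣_ U) U.ι
  rw [isIso_iff_isOpenImmersion_and_surjective]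
  refine ⟨inferInstance, ⟨?_⟩⟩
  rintro ⟨u, hu⟩
  have hπε : π (ε u) = u := by
    have := congrArg (fun φ : S ⟶ S => φ u) hε
    simpa using this
  have hmem : ε u ∈ π ⁻¹ᵁ U := by
    show π (ε u) ∈ U
    rw [hπε]; exact hu
  refine ⟨⟨ε u, hmem⟩, ?_⟩
  apply Subtype.ext
  have := congrArg (fun φ => φ (⟨ε u, hmem⟩ : (π ⁻¹ᵁ U).toScheme)) (morphismRestrict_ι π U)
  simp only [Scheme.Hom.comp_apply] at this
  exact this.trans hπε

open Groth.Agent.Helper7.UnramBC in
/-- If the fibre of `π` over `s` is `Spec κ(s)` and `π` is locally of finite type on the open `W`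
then `π` is unramified at every point of `W` over `s`. -/
theorem unramAt_of_isIso_fiber {X S : Scheme.{u}} (π : X ⟶ S) (s : S) (W : X.Opens)
    [LocallyOfFiniteType (W.ι ≫ π)] (hs : IsIso (π.fiberToSpecResidueField s))
    (x : W) (hx : π x.1 = s) : UnramAt (W.ι ≫ π) x := by
  have hx' : x.1 ∈ Set.range (π.fiberι s) := by
    rw [Scheme.Hom.range_fiberι]; exact hx
  obtain ⟨y, hy⟩ := hx'
  obtain ⟨z, hz1, -⟩ := Scheme.Pullback.exists_preimage_pullback (f := W.ι) (g := π.fiberι s)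
    x y (by rw [hy]; rfl)
  have hpb : IsPullback (pullback.fst W.ι (π.fiberι s))
      (pullback.snd W.ι (π.fiberι s) ≫ π.fiberToSpecResidueField s) (W.ι ≫ π)
      (S.fromSpecResidueField s) :=
    ((IsPullback.of_hasPullback W.ι (π.fiberι s)).flip.paste_horiz
      (IsPullback.of_hasPullback π (S.fromSpecResidueField s)).flip).flip
  have h1 : FormallyUnramified
      (pullback.snd W.ι (π.fiberι s) ≫ π.fiberToSpecResidueField s) := inferInstance
  have h2 := (formallyUnramified_iff_forall_unramAt _).mp h1 z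
  have h3 := (unramAt_iff_of_isPullback hpb z).mp h2
  rwa [hz1] at h3

open Groth.Agent.Helper7.UnramBC in
theorem S5321_main (X S : Scheme.{u}) (π : X ⟶ S) (ε : S ⟶ X) (hε : ε ≫ π = 𝟙 S)
    (hcl : IsClosedMap π.base) (s : S)
    (hfp : ∃ W : X.Opens, ε.base s ∈ W ∧ LocallyOfFinitePresentation (W.ι ≫ π))
    (hs : IsIso (π.fiberToSpecResidueField s)) :
    ∃ U : S.Opens, s ∈ U ∧ IsIso (π ∣_ U) := by
  obtain ⟨W, hW, hWfp⟩ := hfp
  have hπε : π (ε s) = s := by
    have := congrArg (fun φ : S ⟶ S => φ s) hε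
    simpa using this
  have hun : UnramAt (W.ι ≫ π) ⟨ε s, hW⟩ := unramAt_of_isIso_fiber π s W hs ⟨ε s, hW⟩ hπε
  obtain ⟨U₁, hU₁, hU₁u⟩ := (exists_open_formallyUnramified_iff (W.ι ≫ π) ⟨ε s, hW⟩).mpr hun
  have hfib : ∀ x : X, π x = s → x = ε s := by
    haveI : Subsingleton (π.fiber s) := by
      have e := (asIso (π.fiberToSpecResidueField s)).schemeIsoToHomeo
      haveI : Subsingleton (Spec (S.residueField s)) :=
        inferInstanceAs (Subsingleton (PrimeSpectrum (S.residueField s)))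
      exact e.injective.subsingleton
    intro x hx
    have h1 : x ∈ Set.range (π.fiberι s) := by rw [Scheme.Hom.range_fiberι]; exact hx
    have h2 : ε s ∈ Set.range (π.fiberι s) := by rw [Scheme.Hom.range_fiberι]; exact hπε
    obtain ⟨y, rfl⟩ := h1
    obtain ⟨y', hy'⟩ := h2
    rw [← hy', Subsingleton.elim y y']
  haveI : FormallyUnramified ((U₁.ι ≫ W.ι) ≫ π) := by rw [Category.assoc]; exact hU₁u
  haveI : LocallyOfFiniteType ((U₁.ι ≫ W.ι) ≫ π) := by rw [Category.assoc]; infer_instance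
  refine exists_isIso_restrict π ε hε hcl s (U₁.ι ≫ W.ι) ?_ hfib
  exact ⟨⟨⟨ε s, hW⟩, hU₁⟩, rfl⟩

end Groth.Agent.Helper3.SecIso
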