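import Mathlib

open scoped TensorProduct DirectSum

namespace Groth.Agent.Helper3.Segre

variable {k : Type*} [Field k] {R : Type*} [CommRing R] [Algebra k R] (𝒜 : ℤ → Submodule k R)
  [GradedAlgebra 𝒜] {S : Type*} [CommRing S] [Algebra k S] (ℬ : ℤ → Submodule k S) [GradedAlgebra ℬ]

/-- The "diagonal part" projection `R ⊗ S → R ⊗ S`, `a ⊗ b ↦ ∑ₙ aₙ ⊗ bₙ`. -/
noncomputable def ρ : R ⊗[k] S →ₗ[k] R ⊗[k] S :=
  TensorProduct.lift
    ((DirectSum.toModule k ℤ (S →ₗ[k] R ⊗[k] S) (fun n =>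
        (LinearMap.lcomp k (R ⊗[k] S) (GradedAlgebra.proj ℬ n)) ∘ₗ
          ((TensorProduct.mk k R S) ∘ₗ (𝒜 n).subtype))) ∘ₗ
      (DirectSum.decomposeLinearEquiv 𝒜).toLinearMap)

lemma ρ_tmul_of_mem {p : ℤ} {a : R} (ha : a ∈ 𝒜 p) (b : S) :
    ρ 𝒜 ℬ (a ⊗ₜ[k] b) = a ⊗ₜ[k] (GradedAlgebra.proj ℬ p b) := by
  simp only [ρ, TensorProduct.lift.tmul, LinearMap.coe_comp, LinearEquiv.coe_coe, Function.comp_apply,
    DirectSum.decomposeLinearEquiv_apply]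
  rw [DirectSum.decompose_of_mem 𝒜 ha, ← DirectSum.lof_eq_of k, DirectSum.toModule_lof]
  simp

lemma ρ_tmul_of_mem_of_mem {p q : ℤ} {a : R} (ha : a ∈ 𝒜 p) {b : S} (hb : b ∈ ℬ q) :
    ρ 𝒜 ℬ (a ⊗ₜ[k] b) = if p = q then a ⊗ₜ[k] b else 0 := by
  rw [ρ_tmul_of_mem 𝒜 ℬ ha, GradedAlgebra.proj_apply]
  split_ifs with h
  · subst h
    rw [DirectSum.decompose_of_mem_same ℬ hb]
  · rw [DirectSum.decompose_of_mem_ne ℬ hb (Ne.symm h), TensorProduct.tmul_zero]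

/-- homogeneous pure tensors -/
def gens : Set (R ⊗[k] S) := {x | ∃ p q : ℤ, ∃ a ∈ 𝒜 p, ∃ b ∈ ℬ q, x = a ⊗ₜ[k] b}

/-- diagonal homogeneous pure tensors -/
def diag : Set (R ⊗[k] S) := {x | ∃ n : ℤ, ∃ a ∈ 𝒜 n, ∃ b ∈ ℬ n, x = a ⊗ₜ[k] b}

lemma tmul_mem_span_gens (a : R) (b : S) : a ⊗ₜ[k] b ∈ Submodule.span k (gens 𝒜 ℬ) := by
  classical
  rw [← DirectSum.sum_support_decompose 𝒜 a, ← DirectSum.sum_support_decompose ℬ b,
    TensorProduct.sum_tmul]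
  refine Submodule.sum_mem _ fun p _ => ?_
  rw [TensorProduct.tmul_sum]
  refine Submodule.sum_mem _ fun q _ => ?_
  exact Submodule.subset_span ⟨p, q, _, (DirectSum.decompose 𝒜 a p).2, _,
    (DirectSum.decompose ℬ b q).2, rfl⟩

lemma span_gens_eq_top : Submodule.span k (gens 𝒜 ℬ) = ⊤ := by
  rw [eq_top_iff]
  rintro x -
  induction x using TensorProduct.induction_on with
  | zero => exact Submodule.zero_mem _
  | tmul a b => exact tmul_mem_span_gens 𝒜 ℬ a b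
  | add x y hx hy => exact Submodule.add_mem _ hx hy

lemma ρ_mem_span_diag (x : R ⊗[k] S) : ρ 𝒜 ℬ x ∈ Submodule.span k (diag 𝒜 ℬ) := by
  have hx : x ∈ Submodule.span k (gens 𝒜 ℬ) := by rw [span_gens_eq_top]; trivial
  induction hx using Submodule.span_induction with
  | mem x hx =>
    obtain ⟨p, q, a, ha, b, hb, rfl⟩ := hx
    rw [ρ_tmul_of_mem_of_mem 𝒜 ℬ ha hb]
    split_ifs with h
    · subst h
      exact Submodule.subset_span ⟨p, a, ha, b, hb, rfl⟩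
    · exact Submodule.zero_mem _
  | zero => rw [map_zero]; exact Submodule.zero_mem _
  | add x y _ _ hx hy => rw [map_add]; exact Submodule.add_mem _ hx hy
  | smul c x _ hx => rw [map_smul]; exact Submodule.smul_mem _ _ hx

lemma ρ_eq_self {y : R ⊗[k] S} (hy : y ∈ Submodule.span k (diag 𝒜 ℬ)) : ρ 𝒜 ℬ y = y := by
  induction hy using Submodule.span_induction with
  | mem x hx =>
    obtain ⟨n, a, ha, b, hb, rfl⟩ := hx
    rw [ρ_tmul_of_mem_of_mem 𝒜 ℬ ha hb, if_pos rfl]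
  | zero => rw [map_zero]
  | add x y _ _ hx hy => rw [map_add, hx, hy]
  | smul c x _ hx => rw [map_smul, hx]

lemma ρ_mul {y : R ⊗[k] S} (hy : y ∈ Submodule.span k (diag 𝒜 ℬ)) (x : R ⊗[k] S) :
    ρ 𝒜 ℬ (y * x) = y * ρ 𝒜 ℬ x := by
  have hx : x ∈ Submodule.span k (gens 𝒜 ℬ) := by rw [span_gens_eq_top]; trivial
  induction hy using Submodule.span_induction with
  | mem y hy =>
    obtain ⟨n, a', ha', b', hb', rfl⟩ := hy
    induction hx using Submodule.span_induction with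
    | mem x hx =>
      obtain ⟨p, q, a, ha, b, hb, rfl⟩ := hx
      rw [Algebra.TensorProduct.tmul_mul_tmul,
        ρ_tmul_of_mem_of_mem 𝒜 ℬ (SetLike.mul_mem_graded ha' ha) (SetLike.mul_mem_graded hb' hb),
        ρ_tmul_of_mem_of_mem 𝒜 ℬ ha hb]
      by_cases h : p = q
      · rw [if_pos h, if_pos (by rw [h]), Algebra.TensorProduct.tmul_mul_tmul]
      · rw [if_neg h, if_neg (by intro h'; exact h (add_left_cancel h')), mul_zero]
    | zero => rw [mul_zero, map_zero, mul_zero]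
    | add x y _ _ hx hy => rw [mul_add, map_add, map_add, mul_add, hx, hy]
    | smul c x _ hx => rw [mul_smul_comm, map_smul, map_smul, mul_smul_comm, hx]
  | zero => rw [zero_mul, map_zero, zero_mul]
  | add y y' _ _ hy hy' => rw [add_mul, map_add, add_mul, hy, hy']
  | smul c y _ hy => rw [smul_mul_assoc, map_smul, smul_mul_assoc, hy]


section main

variable {T : Type*} [CommRing T] [Algebra k T] (𝒯 : ℤ → Submodule k T) [GradedAlgebra 𝒯]
  (ψ : T →ₐ[k] R ⊗[k] S)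
  (hdegT : ∀ n : ℤ, (𝒯 n).map ψ.toLinearMap =
    Submodule.span k {x : R ⊗[k] S | ∃ a ∈ 𝒜 n, ∃ b ∈ ℬ n, x = a ⊗ₜ[k] b})

include hdegT

omit [GradedAlgebra 𝒜] [GradedAlgebra ℬ] in
lemma ψ_mem_span_diag (t : T) : ψ t ∈ Submodule.span k (diag 𝒜 ℬ) := by
  classical
  rw [← DirectSum.sum_support_decompose 𝒯 t, map_sum]
  refine Submodule.sum_mem _ fun n _ => ?_
  have h1 : ψ (DirectSum.decompose 𝒯 t n) ∈ (𝒯 n).map ψ.toLinearMap :=
    ⟨_, (DirectSum.decompose 𝒯 t n).2, rfl⟩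
  rw [hdegT n] at h1
  refine Submodule.span_mono ?_ h1
  rintro x ⟨a, ha, b, hb, rfl⟩
  exact ⟨n, a, ha, b, hb, rfl⟩

omit [GradedAlgebra 𝒜] [GradedAlgebra ℬ] [GradedAlgebra 𝒯] in
lemma exists_of_mem_span_diag {y : R ⊗[k] S} (hy : y ∈ Submodule.span k (diag 𝒜 ℬ)) :
    ∃ t : T, ψ t = y := by
  induction hy using Submodule.span_induction with
  | mem x hx =>
    obtain ⟨n, a, ha, b, hb, rfl⟩ := hx
    have h1 : a ⊗ₜ[k] b ∈ (𝒯 n).map ψ.toLinearMap := by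
      rw [hdegT n]
      exact Submodule.subset_span ⟨a, ha, b, hb, rfl⟩
    obtain ⟨t, _, ht⟩ := h1
    exact ⟨t, ht⟩
  | zero => exact ⟨0, map_zero _⟩
  | add x y _ _ hx hy =>
    obtain ⟨t, rfl⟩ := hx
    obtain ⟨t', rfl⟩ := hy
    exact ⟨t + t', map_add _ _ _⟩
  | smul c x _ hx =>
    obtain ⟨t, rfl⟩ := hx
    exact ⟨c • t, map_smul _ _ _⟩

lemma key (I : Ideal T) {z : R ⊗[k] S} (hz : z ∈ I.map ψ) :
    ∀ x : R ⊗[k] S, ∃ i ∈ I, ψ i = ρ 𝒜 ℬ (x * z) := by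
  induction hz using Submodule.span_induction with
  | mem z hz =>
    obtain ⟨i, hi, rfl⟩ := hz
    intro x
    obtain ⟨t, ht⟩ := exists_of_mem_span_diag 𝒜 ℬ 𝒯 ψ hdegT (ρ_mem_span_diag 𝒜 ℬ x)
    refine ⟨i * t, I.mul_mem_right _ hi, ?_⟩
    rw [mul_comm x, ρ_mul 𝒜 ℬ (ψ_mem_span_diag 𝒜 ℬ 𝒯 ψ hdegT i), map_mul, ht]
  | zero => intro x; exact ⟨0, I.zero_mem, by rw [mul_zero, map_zero, map_zero]⟩
  | add z z' _ _ hz hz' =>
    intro x
    obtain ⟨i, hi, h1⟩ := hz x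
    obtain ⟨i', hi', h2⟩ := hz' x
    exact ⟨i + i', I.add_mem hi hi', by rw [mul_add, map_add, map_add, h1, h2]⟩
  | smul y z _ hz =>
    intro x
    obtain ⟨i, hi, h1⟩ := hz (x * y)
    exact ⟨i, hi, by rw [h1, smul_eq_mul, mul_assoc]⟩

lemma comap_map_eq (hψ : Function.Injective ψ) (I : Ideal T) : (I.map ψ).comap ψ = I := by
  refine le_antisymm ?_ Ideal.le_comap_map
  intro t ht
  rw [Ideal.mem_comap] at ht
  obtain ⟨i, hi, h1⟩ := key 𝒜 ℬ 𝒯 ψ hdegT I ht 1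
  rw [one_mul, ρ_eq_self 𝒜 ℬ (ψ_mem_span_diag 𝒜 ℬ 𝒯 ψ hdegT t)] at h1
  rw [← hψ h1]
  exact hi

theorem isNoetherianRing_of_segre [Algebra.FiniteType k R] [Algebra.FiniteType k S]
    (hψ : Function.Injective ψ) : IsNoetherianRing T := by
  have h1 : Algebra.FiniteType R (R ⊗[k] S) := inferInstance
  have h2 : Algebra.FiniteType k (R ⊗[k] S) :=
    Algebra.FiniteType.trans (R := k) (S := R) (A := R ⊗[k] S) inferInstance h1
  have h3 : IsNoetherianRing (R ⊗[k] S) := Algebra.FiniteType.isNoetherianRing k _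
  have hinj : Function.Injective (Ideal.map ψ : Ideal T → Ideal (R ⊗[k] S)) := by
    intro I J h
    rw [← comap_map_eq 𝒜 ℬ 𝒯 ψ hdegT hψ I, ← comap_map_eq 𝒜 ℬ 𝒯 ψ hdegT hψ J, h]
  have hmono : StrictMono (Ideal.map ψ : Ideal T → Ideal (R ⊗[k] S)) :=
    Monotone.strictMono_of_injective (fun _ _ h => Ideal.map_mono h) hinj
  have h4 : WellFoundedGT (Ideal (R ⊗[k] S)) := isNoetherian_iff'.1 h3
  exact isNoetherian_iff'.2 hmono.wellFoundedGT

end main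

end Groth.Agent.Helper3.Segre
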