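import Mathlib

/-! Semilocal rings: completion along an ideal of coheight zero is the product of the
completions of the localizations. Elementary ideal-theoretic lemmas. -/

namespace Groth.Agent.Helper3.SemiLocComp

universe u
variable {R : Type u} [CommRing R]

/-- Contraction of `J R_m` to `R`. -/
noncomputable def locIdeal (J : Ideal R) (m : MaximalSpectrum R) : Ideal R :=
  (J.map (algebraMap R (Localization.AtPrime m.asIdeal))).comap
    (algebraMap R (Localization.AtPrime m.asIdeal))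

lemma mem_locIdeal {J : Ideal R} {m : MaximalSpectrum R} {x : R} :
    x ∈ locIdeal J m ↔ ∃ u, u ∉ m.asIdeal ∧ u * x ∈ J := by
  unfold locIdeal
  rw [Ideal.mem_comap,
    IsLocalization.algebraMap_mem_map_algebraMap_iff m.asIdeal.primeCompl]
  constructor
  · rintro ⟨u, hu, h⟩
    exact ⟨u, hu, h⟩
  · rintro ⟨u, hu, h⟩
    exact ⟨u, hu, h⟩

lemma le_locIdeal (J : Ideal R) (m : MaximalSpectrum R) : J ≤ locIdeal J m :=
  Ideal.le_comap_map

variable (I : Ideal R)

section
variable {I}
variable (hI : ∀ p : Ideal R, p.IsPrime → I ≤ p → p.IsMaximal)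
  {J : Ideal R} (hJ : ∀ p : Ideal R, p.IsPrime → J ≤ p → I ≤ p)
include hJ

/-- Lemma A: local membership at all maximal ideals over `I` implies membership. -/
lemma mem_of_forall_mem_locIdeal (x : R)
    (h : ∀ m : {m : MaximalSpectrum R // I ≤ m.asIdeal}, x ∈ locIdeal J m.1) : x ∈ J := by
  by_contra hx
  set K : Ideal R := J.colon {x} with hK
  have hKtop : K ≠ ⊤ := by
    intro hK'
    have : (1 : R) ∈ K := hK' ▸ Submodule.mem_top
    rw [hK, Submodule.mem_colon_singleton] at this
    exact hx (by simpa using this)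
  obtain ⟨M, hM, hKM⟩ := Ideal.exists_le_maximal K hKtop
  have hJK : J ≤ K := by
    intro j hj
    rw [hK, Submodule.mem_colon_singleton]
    exact J.mul_mem_right x hj
  have hIM : I ≤ M := hJ M hM.isPrime (hJK.trans hKM)
  obtain ⟨u, hu, hux⟩ := mem_locIdeal.mp (h ⟨⟨M, hM⟩, hIM⟩)
  apply hu
  apply hKM
  rw [hK, Submodule.mem_colon_singleton]
  exact hux


include hI

/-- Lemma E: "idempotents" separating the maximal ideals over `I` modulo `J`. -/
lemma exists_sep [Finite (MaximalSpectrum R)] (m₀ : {m : MaximalSpectrum R // I ≤ m.asIdeal}) :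
    ∃ e : R, e - 1 ∈ locIdeal J m₀.1 ∧
      ∀ m : {m : MaximalSpectrum R // I ≤ m.asIdeal}, m ≠ m₀ → e ∈ locIdeal J m.1 := by
  classical
  letI : Fintype {m : MaximalSpectrum R // I ≤ m.asIdeal} := Fintype.ofFinite _
  set K : Ideal R := ⨅ m ∈ (Finset.univ.erase m₀), m.1.asIdeal with hK
  have hsup : m₀.1.asIdeal ⊔ K = ⊤ := by
    apply Ideal.sup_iInf_eq_top
    intro m hm
    have hne : m ≠ m₀ := (Finset.mem_erase.mp hm).1
    apply Ideal.IsMaximal.coprime_of_ne m₀.1.isMaximal m.1.isMaximal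
    intro h
    apply hne
    apply Subtype.ext
    exact (MaximalSpectrum.ext h).symm
  obtain ⟨b, hb, a, ha, hab⟩ := Submodule.mem_sup.mp (hsup ▸ Submodule.mem_top : (1 : R) ∈ _)
  have haK : ∀ m : {m : MaximalSpectrum R // I ≤ m.asIdeal}, m ≠ m₀ → a ∈ m.1.asIdeal := by
    intro m hm
    have := (Ideal.mem_iInf.mp ha) m
    exact (Ideal.mem_iInf.mp this) (Finset.mem_erase.mpr ⟨hm, Finset.mem_univ _⟩)
  have hrad : a * b ∈ J.radical := by
    rw [Ideal.radical_eq_sInf, Ideal.mem_sInf]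
    rintro P ⟨hJP, hP⟩
    have hIP := hJ P hP hJP
    have hPmax := hI P hP hIP
    let mP : {m : MaximalSpectrum R // I ≤ m.asIdeal} := ⟨⟨P, hPmax⟩, hIP⟩
    by_cases h : mP = m₀
    · have : b ∈ mP.1.asIdeal := h ▸ hb
      exact P.mul_mem_left a this
    · exact P.mul_mem_right b (haK mP h)
  obtain ⟨N, hN⟩ := hrad
  have hN' : (a * b) ^ (N + 1) ∈ J := by
    rw [pow_succ]; exact J.mul_mem_right _ hN
  have hcop : IsCoprime (a ^ (N + 1)) (b ^ (N + 1)) := by
    apply IsCoprime.pow
    exact ⟨1, 1, by rw [one_mul, one_mul, add_comm]; exact hab⟩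
  obtain ⟨c, d, hcd⟩ := hcop
  set e := c * a ^ (N + 1) with he
  set e' := d * b ^ (N + 1) with he'
  have hee' : e * e' ∈ J := by
    have : e * e' = c * d * (a * b) ^ (N + 1) := by rw [he, he', mul_pow]; ring
    rw [this]; exact J.mul_mem_left _ hN'
  have he'm₀ : e' ∈ m₀.1.asIdeal :=
    Ideal.mul_mem_left _ _ (Ideal.pow_mem_of_mem _ hb _ (Nat.succ_pos N))
  refine ⟨e, ?_, ?_⟩
  · rw [mem_locIdeal]
    refine ⟨e, ?_, ?_⟩
    · intro hem
      have : (1 : R) ∈ m₀.1.asIdeal := by
        rw [← hcd]; exact Ideal.add_mem _ hem he'm₀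
      exact m₀.1.isMaximal.ne_top ((Ideal.eq_top_iff_one _).mpr this)
    · have : e * (e - 1) = -(e * e') := by
        have : e - 1 = -e' := by rw [← hcd]; ring
        rw [this]; ring
      rw [this]; exact J.neg_mem hee'
  · intro m hm
    rw [mem_locIdeal]
    have hem : e ∈ m.1.asIdeal :=
      Ideal.mul_mem_left _ _ (Ideal.pow_mem_of_mem _ (haK m hm) _ (Nat.succ_pos N))
    refine ⟨e', ?_, ?_⟩
    · intro he'm
      have : (1 : R) ∈ m.1.asIdeal := by
        rw [← hcd]; exact Ideal.add_mem _ hem he'm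
      exact m.1.isMaximal.ne_top ((Ideal.eq_top_iff_one _).mpr this)
    · rw [mul_comm]; exact hee'


/-- Lemma U: elements outside `m` are invertible modulo `J R_m`, with inverse from `R`. -/
lemma exists_inv [Finite (MaximalSpectrum R)] (m : {m : MaximalSpectrum R // I ≤ m.asIdeal})
    (s : R) (hs : s ∉ m.1.asIdeal) : ∃ t : R, s * t - 1 ∈ locIdeal J m.1 := by
  obtain ⟨e, he1, he2⟩ := exists_sep hI hJ m
  have hT : Ideal.span {s} ⊔ Ideal.span {1 - e} ⊔ J = ⊤ := by
    by_contra hne
    obtain ⟨M, hM, hTM⟩ := Ideal.exists_le_maximal _ hne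
    have hJM : J ≤ M := le_sup_right.trans hTM
    have hsM : s ∈ M := hTM (Ideal.mem_sup_left (Ideal.mem_sup_left (Ideal.mem_span_singleton_self s)))
    have heM : 1 - e ∈ M :=
      hTM (Ideal.mem_sup_left (Ideal.mem_sup_right (Ideal.mem_span_singleton_self _)))
    have hIM := hJ M hM.isPrime hJM
    let mM : {m : MaximalSpectrum R // I ≤ m.asIdeal} := ⟨⟨M, hM⟩, hIM⟩
    by_cases h : mM = m
    · apply hs
      have : s ∈ mM.1.asIdeal := hsM
      rwa [h] at this
    · obtain ⟨u, hu, hue⟩ := mem_locIdeal.mp (he2 mM h)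
      have : e ∈ M := (hM.isPrime.mem_or_mem (hJM hue)).resolve_left hu
      have h1 : (1 : R) ∈ M := by
        have := M.add_mem heM this
        simpa using this
      exact hM.ne_top ((Ideal.eq_top_iff_one _).mpr h1)
  obtain ⟨z, hz, j, hj, hzj⟩ := Submodule.mem_sup.mp (hT ▸ Submodule.mem_top : (1 : R) ∈ _)
  obtain ⟨z1, hz1, z2, hz2, hz12⟩ := Submodule.mem_sup.mp hz
  obtain ⟨t, rfl⟩ := Ideal.mem_span_singleton'.mp hz1
  obtain ⟨c, rfl⟩ := Ideal.mem_span_singleton'.mp hz2
  refine ⟨t, ?_⟩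
  have : s * t - 1 = c * (e - 1) - j := by
    have : (1 : R) = t * s + c * (1 - e) + j := by rw [hz12, hzj]
    linear_combination (-1 : R) * this
  rw [this]
  exact Ideal.sub_mem _ (Ideal.mul_mem_left _ _ he1) (le_locIdeal J m.1 hj)

/-- Lemma B: simultaneous approximation modulo `J R_m`. -/
lemma exists_approx [Finite (MaximalSpectrum R)]
    (y : ∀ m : {m : MaximalSpectrum R // I ≤ m.asIdeal}, Localization.AtPrime m.1.asIdeal) :
    ∃ x : R, ∀ m : {m : MaximalSpectrum R // I ≤ m.asIdeal},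
      algebraMap R (Localization.AtPrime m.1.asIdeal) x - y m ∈
        J.map (algebraMap R (Localization.AtPrime m.1.asIdeal)) := by
  classical
  letI : Fintype {m : MaximalSpectrum R // I ≤ m.asIdeal} := Fintype.ofFinite _
  -- local approximations
  have h1 : ∀ m : {m : MaximalSpectrum R // I ≤ m.asIdeal}, ∃ x : R,
      algebraMap R (Localization.AtPrime m.1.asIdeal) x - y m ∈
        J.map (algebraMap R (Localization.AtPrime m.1.asIdeal)) := by
    intro m
    obtain ⟨a, s, hy⟩ := IsLocalization.exists_mk'_eq m.1.asIdeal.primeCompl (y m)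
    obtain ⟨t, ht⟩ := exists_inv hI hJ m s.1 s.2
    refine ⟨t * a, ?_⟩
    have hunit : IsUnit (algebraMap R (Localization.AtPrime m.1.asIdeal) s.1) :=
      IsLocalization.map_units _ s
    rw [← Ideal.unit_mul_mem_iff_mem _ hunit, ← hy, mul_sub, IsLocalization.mul_mk'_eq_mk'_of_mul,
      IsLocalization.mk'_mul_cancel_left, ← map_mul, ← map_sub]
    have : (s : R) * (t * a) - a = (s * t - 1) * a := by ring
    rw [this]
    have := Ideal.mul_mem_right a _ ht
    exact this
  choose x hx using h1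
  choose e he1 he2 using fun m => exists_sep hI hJ (J := J) m
  refine ⟨∑ m, e m * x m, fun m₀ => ?_⟩
  have hsplit : algebraMap R (Localization.AtPrime m₀.1.asIdeal) (∑ m, e m * x m) - y m₀ =
      algebraMap R _ ((e m₀ - 1) * x m₀) + (algebraMap R _ (x m₀) - y m₀) +
        algebraMap R _ (∑ m ∈ Finset.univ.erase m₀, e m * x m) := by
    rw [← Finset.add_sum_erase Finset.univ _ (Finset.mem_univ m₀)]
    simp only [map_add, map_mul, map_sub, map_one]
    ring
  rw [hsplit]
  refine Ideal.add_mem _ (Ideal.add_mem _ ?_ (hx m₀)) ?_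
  · exact Ideal.mul_mem_right _ _ (he1 m₀)
  · rw [map_sum]
    refine Ideal.sum_mem _ (fun m hm => ?_)
    have hne : m₀ ≠ m := fun h => (Finset.mem_erase.mp hm).1 h.symm
    exact Ideal.mul_mem_right _ _ (he2 m m₀ hne)

end

end Groth.Agent.Helper3.SemiLocComp
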