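import Mathlib

/-!
# Algebra of the standard semistable node `V[x, y]/(xy - ϖ)` (helper3, for S14386)
-/

set_option autoImplicit false
universe u

namespace Groth.Agent.Lib.Helper3.Semistab
open MvPolynomial

variable {V : Type u} [CommRing V]

/-- The node ring. -/
abbrev Q (ϖ : V) : Type u :=
  MvPolynomial (Fin 2) V ⧸ Ideal.span {(X 0 * X 1 - C ϖ : MvPolynomial (Fin 2) V)}

/-- The coordinates of the node ring. -/
noncomputable abbrev xq (ϖ : V) (i : Fin 2) : Q ϖ :=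
  Ideal.Quotient.mk (Ideal.span {(X 0 * X 1 - C ϖ : MvPolynomial (Fin 2) V)}) (X i)

theorem xq_mul (ϖ : V) : xq ϖ 0 * xq ϖ 1 =
    Ideal.Quotient.mk (Ideal.span {(X 0 * X 1 - C ϖ : MvPolynomial (Fin 2) V)}) (C ϖ) := by
  rw [← map_mul]
  exact Ideal.Quotient.eq.mpr (Ideal.subset_span rfl)

theorem mkC_mem_span (ϖ : V) (i : Fin 2) :
    Ideal.Quotient.mk (Ideal.span {(X 0 * X 1 - C ϖ : MvPolynomial (Fin 2) V)}) (C ϖ) ∈
      Ideal.span {xq ϖ i} := by
  rw [← xq_mul]
  fin_cases i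
  · exact Ideal.mul_mem_right _ _ (Ideal.subset_span rfl)
  · exact Ideal.mul_mem_left _ _ (Ideal.subset_span rfl)

theorem fin2_eq_of_ne {i j l : Fin 2} (hij : i ≠ j) (hl : l ≠ i) : l = j := by
  have h1 : l.val ≠ i.val := fun h => hl (Fin.ext h)
  have h2 : i.val ≠ j.val := fun h => hij (Fin.ext h)
  have := l.isLt
  have := i.isLt
  have := j.isLt
  exact Fin.ext (by omega)

/-- Setting `x_i = 0` and `x_j = t`. -/
noncomputable def sig (i : Fin 2) : MvPolynomial (Fin 2) V →ₐ[V] Polynomial V :=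
  aeval (fun l => if l = i then 0 else Polynomial.X)

/-- `t ↦ x_j`. -/
noncomputable def iot (j : Fin 2) : Polynomial V →ₐ[V] MvPolynomial (Fin 2) V :=
  Polynomial.aeval (X j)

theorem sig_X_self (i : Fin 2) : sig i (X i : MvPolynomial (Fin 2) V) = 0 := by
  simp [sig]

theorem sig_X_ne (i l : Fin 2) (hl : l ≠ i) :
    sig i (X l : MvPolynomial (Fin 2) V) = Polynomial.X := by
  simp [sig, hl]

theorem sig_C (i : Fin 2) (r : V) : sig i (C r : MvPolynomial (Fin 2) V) = Polynomial.C r := by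
  rw [sig, aeval_C]; rfl

theorem iot_C (j : Fin 2) (r : V) : iot j (Polynomial.C r) = (C r : MvPolynomial (Fin 2) V) := by
  rw [iot, Polynomial.aeval_C]; rfl

theorem iot_X (j : Fin 2) : iot j (Polynomial.X : Polynomial V) = (X j : MvPolynomial (Fin 2) V) := by
  rw [iot, Polynomial.aeval_X]

theorem sub_iot_sig_mem (i j : Fin 2) (hij : i ≠ j) (G : MvPolynomial (Fin 2) V) :
    G - iot j (sig i G) ∈ Ideal.span {(X i : MvPolynomial (Fin 2) V)} := by
  induction G using MvPolynomial.induction_on with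
  | C r =>
    rw [sig_C, iot_C, sub_self]
    exact Ideal.zero_mem _
  | add p q hp hq =>
    rw [map_add, map_add, add_sub_add_comm]
    exact Ideal.add_mem _ hp hq
  | mul_X p l hp =>
    rw [map_mul, map_mul]
    by_cases hl : l = i
    · subst hl
      rw [sig_X_self, map_zero, mul_zero, sub_zero]
      exact Ideal.mul_mem_left _ _ (Ideal.subset_span rfl)
    · have hlj : l = j := fin2_eq_of_ne hij hl
      subst hlj
      rw [sig_X_ne i l hl, iot_X, ← sub_mul]
      exact Ideal.mul_mem_right _ _ hp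

theorem mem_span_of_sig_eq_zero (i j : Fin 2) (hij : i ≠ j) (G : MvPolynomial (Fin 2) V)
    (h : sig i G = 0) : G ∈ Ideal.span {(X i : MvPolynomial (Fin 2) V)} := by
  have h1 := sub_iot_sig_mem i j hij G
  rwa [h, map_zero, sub_zero] at h1

theorem sig_g0 (ϖ : V) (i : Fin 2) :
    sig i (X 0 * X 1 - C ϖ : MvPolynomial (Fin 2) V) = - Polynomial.C ϖ := by
  fin_cases i <;> simp [sig]

theorem xq_mul_cancel [IsDomain V] (ϖ : V) (hϖ : ϖ ≠ 0) (i j : Fin 2) (hij : i ≠ j) (q : Q ϖ)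
    (h : xq ϖ i * q = 0) : q = 0 := by
  obtain ⟨G, rfl⟩ := Ideal.Quotient.mk_surjective q
  rw [← map_mul, Ideal.Quotient.eq_zero_iff_mem, Ideal.mem_span_singleton'] at h
  obtain ⟨H, hH⟩ := h
  have h1 := congrArg (sig i) hH
  rw [map_mul, map_mul, sig_g0, sig_X_self, zero_mul] at h1
  have h3 : sig i H = 0 := by
    rcases mul_eq_zero.mp h1 with h | h
    · exact h
    · exfalso
      rw [neg_eq_zero, Polynomial.C_eq_zero] at h
      exact hϖ h
  obtain ⟨H', hH'⟩ := Ideal.mem_span_singleton'.mp (mem_span_of_sig_eq_zero i j hij H h3)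
  rw [Ideal.Quotient.eq_zero_iff_mem, Ideal.mem_span_singleton']
  refine ⟨H', ?_⟩
  have hX : (X i : MvPolynomial (Fin 2) V) ≠ 0 := X_ne_zero i
  apply mul_left_cancel₀ hX
  rw [← hH, ← hH']
  ring

section Local
variable [IsLocalRing V]

/-- Reduction to the component `x_i = 0` of the closed fibre. -/
noncomputable def pi0 (i : Fin 2) :
    MvPolynomial (Fin 2) V →+* Polynomial (IsLocalRing.ResidueField V) :=
  (Polynomial.mapRingHom (IsLocalRing.residue V)).comp (sig i).toRingHom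

theorem pi0_g0 (ϖ : V) (hϖ : ϖ ∈ IsLocalRing.maximalIdeal V) (i : Fin 2) :
    pi0 i (X 0 * X 1 - C ϖ : MvPolynomial (Fin 2) V) = 0 := by
  simp only [pi0, RingHom.comp_apply, AlgHom.toRingHom_eq_coe, RingHom.coe_coe, sig_g0, map_neg,
    Polynomial.coe_mapRingHom, Polynomial.map_C]
  rw [(IsLocalRing.residue_eq_zero_iff ϖ).mpr hϖ]
  simp

/-- Reduction of the node ring to the component `x_i = 0` of the closed fibre. -/
noncomputable def piQ (ϖ : V) (hϖ : ϖ ∈ IsLocalRing.maximalIdeal V) (i : Fin 2) :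
    Q ϖ →+* Polynomial (IsLocalRing.ResidueField V) :=
  Ideal.Quotient.lift _ (pi0 i) (by
    intro a ha
    obtain ⟨c, rfl⟩ := Ideal.mem_span_singleton'.mp ha
    rw [map_mul, pi0_g0 ϖ hϖ i, mul_zero])

theorem piQ_mk (ϖ : V) (hϖ : ϖ ∈ IsLocalRing.maximalIdeal V) (i : Fin 2)
    (G : MvPolynomial (Fin 2) V) :
    piQ ϖ hϖ i (Ideal.Quotient.mk _ G) = pi0 i G := rfl

theorem piQ_xq_self (ϖ : V) (hϖ : ϖ ∈ IsLocalRing.maximalIdeal V) (i : Fin 2) :
    piQ ϖ hϖ i (xq ϖ i) = 0 := by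
  rw [piQ_mk, pi0]
  simp [sig_X_self]

theorem piQ_xq_ne (ϖ : V) (hϖ : ϖ ∈ IsLocalRing.maximalIdeal V) (i l : Fin 2) (hl : l ≠ i) :
    piQ ϖ hϖ i (xq ϖ l) = Polynomial.X := by
  rw [piQ_mk, pi0]
  simp [sig_X_ne i l hl]

theorem mem_of_pi0_eq_zero (ϖ : V) (hmax : IsLocalRing.maximalIdeal V = Ideal.span {ϖ})
    (i j : Fin 2) (hij : i ≠ j) (G : MvPolynomial (Fin 2) V) (h : pi0 i G = 0) :
    G ∈ Ideal.span {(X i : MvPolynomial (Fin 2) V), C ϖ} := by
  have h1 : sig i G ∈ RingHom.ker (Polynomial.mapRingHom (IsLocalRing.residue V)) := h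
  rw [Polynomial.ker_mapRingHom, IsLocalRing.ker_residue, hmax, Ideal.map_span,
    Set.image_singleton, Ideal.mem_span_singleton'] at h1
  obtain ⟨r, hr⟩ := h1
  have h2 := sub_iot_sig_mem i j hij G
  have h3 : iot j (sig i G) ∈ Ideal.span {(X i : MvPolynomial (Fin 2) V), C ϖ} := by
    rw [← hr, map_mul]
    have h5 : iot j (Polynomial.C ϖ) = (C ϖ : MvPolynomial (Fin 2) V) := by simp [iot]
    rw [h5]
    exact Ideal.mul_mem_left _ _ (Ideal.subset_span (by simp))
  have h4 : G - iot j (sig i G) ∈ Ideal.span {(X i : MvPolynomial (Fin 2) V), C ϖ} :=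
    Ideal.span_mono (by simp) h2
  have h6 := Ideal.add_mem _ h4 h3
  rwa [sub_add_cancel] at h6

theorem ker_piQ (ϖ : V) (hmax : IsLocalRing.maximalIdeal V = Ideal.span {ϖ})
    (hϖ : ϖ ∈ IsLocalRing.maximalIdeal V) (i j : Fin 2) (hij : i ≠ j) :
    RingHom.ker (piQ ϖ hϖ i) = Ideal.span {xq ϖ i} := by
  apply le_antisymm
  · intro q hq
    obtain ⟨G, rfl⟩ := Ideal.Quotient.mk_surjective q
    have h1 : pi0 i G = 0 := hq
    have h2 := mem_of_pi0_eq_zero ϖ hmax i j hij G h1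
    have h3 : Ideal.Quotient.mk (Ideal.span {(X 0 * X 1 - C ϖ : MvPolynomial (Fin 2) V)}) G ∈
        Ideal.map (Ideal.Quotient.mk (Ideal.span {(X 0 * X 1 - C ϖ : MvPolynomial (Fin 2) V)}))
          (Ideal.span {(X i : MvPolynomial (Fin 2) V), C ϖ}) := Ideal.mem_map_of_mem _ h2
    rw [Ideal.map_span] at h3
    refine (Ideal.span_le.mpr ?_) h3
    rintro _ ⟨z, hz, rfl⟩
    rcases hz with rfl | rfl
    · exact Ideal.subset_span rfl
    · exact mkC_mem_span ϖ i
  · rw [Ideal.span_le]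
    rintro _ rfl
    exact piQ_xq_self ϖ hϖ i

/-- The closed point of the node. -/
noncomputable def eps0 : MvPolynomial (Fin 2) V →+* IsLocalRing.ResidueField V :=
  (IsLocalRing.residue V).comp (MvPolynomial.eval (0 : Fin 2 → V))

theorem eps0_g0 (ϖ : V) (hϖ : ϖ ∈ IsLocalRing.maximalIdeal V) :
    eps0 (X 0 * X 1 - C ϖ : MvPolynomial (Fin 2) V) = 0 := by
  simp only [eps0, RingHom.comp_apply, map_sub, map_mul, eval_X, eval_C, Pi.zero_apply]
  rw [(IsLocalRing.residue_eq_zero_iff ϖ).mpr hϖ]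
  simp

/-- The closed point of the node, on the node ring. -/
noncomputable def epsQ (ϖ : V) (hϖ : ϖ ∈ IsLocalRing.maximalIdeal V) :
    Q ϖ →+* IsLocalRing.ResidueField V :=
  Ideal.Quotient.lift _ eps0 (by
    intro a ha
    obtain ⟨c, rfl⟩ := Ideal.mem_span_singleton'.mp ha
    rw [map_mul, eps0_g0 ϖ hϖ, mul_zero])

theorem epsQ_mk (ϖ : V) (hϖ : ϖ ∈ IsLocalRing.maximalIdeal V) (G : MvPolynomial (Fin 2) V) :
    epsQ ϖ hϖ (Ideal.Quotient.mk _ G) = eps0 G := rfl

theorem sub_C_eval_zero_mem (G : MvPolynomial (Fin 2) V) :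
    G - C (MvPolynomial.eval (0 : Fin 2 → V) G) ∈
      Ideal.span {(X 0 : MvPolynomial (Fin 2) V), X 1} := by
  have h : (Ideal.Quotient.mk (Ideal.span {(X 0 : MvPolynomial (Fin 2) V), X 1})).comp
      ((C : V →+* MvPolynomial (Fin 2) V).comp (MvPolynomial.eval (0 : Fin 2 → V))) =
      Ideal.Quotient.mk (Ideal.span {(X 0 : MvPolynomial (Fin 2) V), X 1}) := by
    apply MvPolynomial.ringHom_ext
    · intro r
      simp
    · intro l
      simp only [RingHom.comp_apply, eval_X, Pi.zero_apply, map_zero]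
      symm
      rw [Ideal.Quotient.eq_zero_iff_mem]
      fin_cases l
      · exact Ideal.subset_span (by simp)
      · exact Ideal.subset_span (by simp)
  have h2 := RingHom.congr_fun h G
  simp only [RingHom.comp_apply] at h2
  rw [← Ideal.Quotient.eq_zero_iff_mem, map_sub, h2, sub_self]

theorem ker_epsQ (ϖ : V) (hmax : IsLocalRing.maximalIdeal V = Ideal.span {ϖ})
    (hϖ : ϖ ∈ IsLocalRing.maximalIdeal V) :
    RingHom.ker (epsQ ϖ hϖ) = Ideal.span {xq ϖ 0, xq ϖ 1} := by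
  apply le_antisymm
  · intro q hq
    obtain ⟨G, rfl⟩ := Ideal.Quotient.mk_surjective q
    have h1 : IsLocalRing.residue V (MvPolynomial.eval (0 : Fin 2 → V) G) = 0 := hq
    rw [IsLocalRing.residue_eq_zero_iff, hmax, Ideal.mem_span_singleton'] at h1
    obtain ⟨v, hv⟩ := h1
    have h2 := sub_C_eval_zero_mem G
    have h3 : Ideal.Quotient.mk (Ideal.span {(X 0 * X 1 - C ϖ : MvPolynomial (Fin 2) V)})
        (G - C (MvPolynomial.eval (0 : Fin 2 → V) G)) ∈ Ideal.span {xq ϖ 0, xq ϖ 1} := by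
      have h4 := Ideal.mem_map_of_mem
        (Ideal.Quotient.mk (Ideal.span {(X 0 * X 1 - C ϖ : MvPolynomial (Fin 2) V)})) h2
      rw [Ideal.map_span, Set.image_pair] at h4
      exact h4
    have h5 : Ideal.Quotient.mk (Ideal.span {(X 0 * X 1 - C ϖ : MvPolynomial (Fin 2) V)})
        (C (MvPolynomial.eval (0 : Fin 2 → V) G)) ∈ Ideal.span {xq ϖ 0, xq ϖ 1} := by
      rw [← hv, C_mul, map_mul]
      apply Ideal.mul_mem_left
      exact Ideal.span_mono (by simp) (mkC_mem_span ϖ 0)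
    have h6 := Ideal.add_mem _ h3 h5
    rwa [← map_add, sub_add_cancel] at h6
  · rw [Ideal.span_le]
    rintro _ (rfl | rfl)
    · show epsQ ϖ hϖ (xq ϖ 0) = 0
      rw [epsQ_mk]; simp [eps0]
    · show epsQ ϖ hϖ (xq ϖ 1) = 0
      rw [epsQ_mk]; simp [eps0]

end Local

end Groth.Agent.Lib.Helper3.Semistab
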