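import Mathlib
import Groth.Agent.Lib.Helper3.Semistab1

/-!
# The semistable node: differentials of a function étale on the generic fibre (helper3, S14386)
-/

set_option autoImplicit false
universe u

namespace Groth.Agent.Lib.Helper3.Semistab
open MvPolynomial KaehlerDifferential
open scoped TensorProduct

/-- abstract descent: if `w u = x^a y^b` with `x, y` prime nonzerodivisors not dividing `w`,
then `w` is a unit. -/
theorem descent {B : Type*} [CommRing B] (x y w : B)
    (hx : ∀ b, x * b = 0 → b = 0) (hy : ∀ b, y * b = 0 → b = 0)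
    (hpx : (Ideal.span {x}).IsPrime) (hpy : (Ideal.span {y}).IsPrime)
    (hwx : w ∉ Ideal.span {x}) (hwy : w ∉ Ideal.span {y}) :
    ∀ (n a b : ℕ), a + b = n → ∀ u : B, w * u = x ^ a * y ^ b → IsUnit w := by
  intro n
  induction n with
  | zero =>
    intro a b hab u hu
    have ha : a = 0 := by omega
    have hb : b = 0 := by omega
    subst ha; subst hb
    rw [pow_zero, pow_zero, mul_one] at hu
    exact IsUnit.of_mul_eq_one u hu
  | succ n ih =>
    intro a b hab u hu
    rcases Nat.eq_zero_or_pos a with ha | ha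
    · subst ha
      obtain ⟨b', rfl⟩ : ∃ b', b = b' + 1 := ⟨b - 1, by omega⟩
      have h1 : w * u ∈ Ideal.span {y} := by
        have h0 : x ^ 0 * y ^ (b' + 1) = (x ^ 0 * y ^ b') * y := by ring
        rw [hu, h0]
        exact Ideal.mul_mem_left _ _ (Ideal.subset_span rfl)
      have h2 : u ∈ Ideal.span {y} := (hpy.mem_or_mem h1).resolve_left hwy
      obtain ⟨u', hu'⟩ := Ideal.mem_span_singleton'.mp h2
      apply ih 0 b' (by omega) u'
      have h3 : y * (w * u' - x ^ 0 * y ^ b') = 0 := by
        rw [mul_sub, sub_eq_zero]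
        calc y * (w * u') = w * (u' * y) := by ring
          _ = w * u := by rw [hu']
          _ = x ^ 0 * y ^ (b' + 1) := hu
          _ = y * (x ^ 0 * y ^ b') := by ring
      exact sub_eq_zero.mp (hy _ h3)
    · obtain ⟨a', rfl⟩ : ∃ a', a = a' + 1 := ⟨a - 1, by omega⟩
      have h1 : w * u ∈ Ideal.span {x} := by
        have h0 : x ^ (a' + 1) * y ^ b = (x ^ a' * y ^ b) * x := by ring
        rw [hu, h0]
        exact Ideal.mul_mem_left _ _ (Ideal.subset_span rfl)
      have h2 : u ∈ Ideal.span {x} := (hpx.mem_or_mem h1).resolve_left hwx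
      obtain ⟨u', hu'⟩ := Ideal.mem_span_singleton'.mp h2
      apply ih a' b (by omega) u'
      have h3 : x * (w * u' - x ^ a' * y ^ b) = 0 := by
        rw [mul_sub, sub_eq_zero]
        calc x * (w * u') = w * (u' * x) := by ring
          _ = w * u := by rw [hu']
          _ = x ^ (a' + 1) * y ^ b := hu
          _ = x * (x ^ a' * y ^ b) := by ring
      exact sub_eq_zero.mp (hx _ h3)

/-- differentials on a quotient by an element dividing a coefficient -/
theorem D_quot_eq_zero {R B : Type*} [CommRing R] [CommRing B] [Algebra R B] (x y f a b : B)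
    (hab : D R B f = a • D R B x + b • D R B y) (hb : b ∈ Ideal.span {x}) :
    D R (B ⧸ Ideal.span {x}) (Ideal.Quotient.mk (Ideal.span {x}) f) = 0 := by
  have h1 := congrArg (KaehlerDifferential.map R R B (B ⧸ Ideal.span {x})) hab
  rw [KaehlerDifferential.map_D, map_add, map_smul, map_smul, KaehlerDifferential.map_D,
    KaehlerDifferential.map_D] at h1
  have h0 : algebraMap B (B ⧸ Ideal.span {x}) x = 0 :=
    Ideal.Quotient.eq_zero_iff_mem.mpr (Ideal.subset_span rfl)
  have hb0 : algebraMap B (B ⧸ Ideal.span {x}) b = 0 := Ideal.Quotient.eq_zero_iff_mem.mpr hb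
  rw [h0, map_zero, smul_zero, zero_add, ← algebraMap_smul (B ⧸ Ideal.span {x}) b, hb0,
    zero_smul] at h1
  exact h1

/-- étale over the polynomial ring: all differentials are multiples of `d(φ X)` -/
theorem exists_smul_of_etale {R S : Type*} [CommRing R] [CommRing S] [Algebra R S]
    (φ : Polynomial R →+* S) (hφ : φ.Etale)
    (hC : ∀ r, φ (Polynomial.C r) = algebraMap R S r) (s : S) :
    ∃ c : S, D R S s = c • D R S (φ Polynomial.X) := by
  letI : Algebra (Polynomial R) S := φ.toAlgebra
  haveI : IsScalarTower R (Polynomial R) S :=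
    IsScalarTower.of_algebraMap_eq (fun r => (hC r).symm)
  haveI : Algebra.Etale (Polynomial R) S := hφ
  have hex := KaehlerDifferential.exact_mapBaseChange_map R (Polynomial R) S
  obtain ⟨ξ, hξ⟩ := (hex (D R S s)).mp (Subsingleton.elim _ _)
  have hrange : ∀ ξ : S ⊗[Polynomial R] Ω[Polynomial R⁄R],
      ∃ c : S, KaehlerDifferential.mapBaseChange R (Polynomial R) S ξ =
        c • D R S (φ Polynomial.X) := by
    intro ξ
    induction ξ using TensorProduct.induction_on with
    | zero => exact ⟨0, by simp⟩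
    | tmul c ω =>
      refine ⟨c * φ (KaehlerDifferential.polynomialEquiv R ω), ?_⟩
      have hω : ω = (KaehlerDifferential.polynomialEquiv R ω) • D R (Polynomial R) Polynomial.X :=
        ((KaehlerDifferential.polynomialEquiv R).symm_apply_apply ω).symm
      rw [KaehlerDifferential.mapBaseChange_tmul]
      conv_lhs => rw [hω]
      rw [map_smul, KaehlerDifferential.map_D, mul_smul,
        ← algebraMap_smul S (KaehlerDifferential.polynomialEquiv R ω)]
      rfl
    | add a b ha hb =>
      obtain ⟨c1, h1⟩ := ha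
      obtain ⟨c2, h2⟩ := hb
      exact ⟨c1 + c2, by rw [map_add, h1, h2, add_smul]⟩
  obtain ⟨c, hc⟩ := hrange ξ
  exact ⟨c, by rw [← hξ, hc]⟩

section Theta
variable (V : Type u) [CommRing V]

/-- the logarithmic derivation `x ∂_x - y ∂_y` on the polynomial ring -/
noncomputable def thetaP : Derivation V (MvPolynomial (Fin 2) V) (MvPolynomial (Fin 2) V) :=
  mkDerivation V (fun l => if l = 0 then X 0 else - X 1)

theorem thetaP_X0 : thetaP V (X 0) = X 0 := by
  rw [thetaP, mkDerivation_X, if_pos rfl]

theorem thetaP_X1 : thetaP V (X 1) = - X 1 := by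
  rw [thetaP, mkDerivation_X, if_neg (by decide)]

variable {V}

theorem thetaP_g0 (ϖ : V) : thetaP V (X 0 * X 1 - C ϖ) = 0 := by
  rw [map_sub, Derivation.leibniz, thetaP_X0, thetaP_X1, ← MvPolynomial.algebraMap_eq,
    Derivation.map_algebraMap, smul_eq_mul, smul_eq_mul]
  ring

/-- the logarithmic derivation on the node ring -/
noncomputable def thetaQ (ϖ : V) : Derivation V (Q ϖ) (Q ϖ) :=
  Derivation.liftOfSurjective
    (f := Ideal.Quotient.mkₐ V (Ideal.span {(X 0 * X 1 - C ϖ : MvPolynomial (Fin 2) V)}))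
    (Ideal.Quotient.mkₐ_surjective V _) (d := thetaP V) (by
      intro G hG
      rw [Ideal.Quotient.mkₐ_eq_mk, Ideal.Quotient.eq_zero_iff_mem] at hG ⊢
      obtain ⟨c, rfl⟩ := Ideal.mem_span_singleton'.mp hG
      rw [Derivation.leibniz, thetaP_g0, smul_zero, zero_add, smul_eq_mul]
      exact Ideal.mul_mem_right _ _ (Ideal.subset_span rfl))

theorem thetaQ_mk (ϖ : V) (G : MvPolynomial (Fin 2) V) :
    thetaQ ϖ (Ideal.Quotient.mkₐ V (Ideal.span {(X 0 * X 1 - C ϖ : MvPolynomial (Fin 2) V)}) G) =
      Ideal.Quotient.mkₐ V (Ideal.span {(X 0 * X 1 - C ϖ : MvPolynomial (Fin 2) V)})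
        (thetaP V G) := by
  unfold thetaQ
  exact Derivation.liftOfSurjective_apply _ _ G

theorem thetaQ_xq0 (ϖ : V) : thetaQ ϖ (xq ϖ 0) = xq ϖ 0 := by
  have h := thetaQ_mk ϖ (X 0)
  rw [thetaP_X0] at h
  exact h

theorem thetaQ_xq1 (ϖ : V) : thetaQ ϖ (xq ϖ 1) = - xq ϖ 1 := by
  have h := thetaQ_mk ϖ (X 1)
  rw [thetaP_X1, map_neg] at h
  exact h

variable (ϖ : V) (B' : Type*) [CommRing B'] [Algebra V B'] [Algebra (Q ϖ) B']
  [IsScalarTower V (Q ϖ) B'] [Algebra.FormallyEtale (Q ϖ) B']

/-- the linear form on differentials of a formally étale algebra over the node ring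
induced by the logarithmic derivation -/
noncomputable def thetaT : Ω[B'⁄V] →ₗ[B'] B' :=
  (LinearMap.liftBaseChange B'
      ((Algebra.linearMap (Q ϖ) B') ∘ₗ (thetaQ ϖ).liftKaehlerDifferential)) ∘ₗ
    (KaehlerDifferential.tensorKaehlerEquivOfFormallyEtale V (Q ϖ) B').symm.toLinearMap

theorem thetaT_D (q : Q ϖ) :
    thetaT ϖ B' (D V B' (algebraMap (Q ϖ) B' q)) = algebraMap (Q ϖ) B' (thetaQ ϖ q) := by
  rw [thetaT, LinearMap.comp_apply, LinearEquiv.coe_coe,
    KaehlerDifferential.tensorKaehlerEquivOfFormallyEtale_symm_D_algebraMap,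
    LinearMap.liftBaseChange_tmul, one_smul, LinearMap.comp_apply,
    Derivation.liftKaehlerDifferential_comp_D, Algebra.linearMap_apply]

end Theta

section Node
variable {V : Type u} [CommRing V] [IsDomain V] [IsDiscreteValuationRing V]
  (ϖ : V) (hϖ : Irreducible ϖ) (h : Q ϖ) (hh : h ∉ Ideal.span {xq ϖ 0, xq ϖ 1})

/-- coordinates in the localization -/
noncomputable abbrev xb (i : Fin 2) : Localization.Away h :=
  algebraMap (Q ϖ) (Localization.Away h) (xq ϖ i)

include hϖ in
theorem mem_max : ϖ ∈ IsLocalRing.maximalIdeal V := by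
  rw [hϖ.maximalIdeal_eq]
  exact Ideal.mem_span_singleton_self ϖ

include hϖ in
theorem prime_span_xq (i j : Fin 2) (hij : i ≠ j) : (Ideal.span {xq ϖ i}).IsPrime := by
  rw [← ker_piQ ϖ hϖ.maximalIdeal_eq (mem_max ϖ hϖ) i j hij]
  exact RingHom.ker_isPrime _

include hϖ in
theorem prime_span_pair : (Ideal.span {xq ϖ 0, xq ϖ 1}).IsPrime := by
  rw [← ker_epsQ ϖ hϖ.maximalIdeal_eq (mem_max ϖ hϖ)]
  exact RingHom.ker_isPrime _

include hϖ hh in
theorem disj_pair : Disjoint (Submonoid.powers h : Set (Q ϖ))
    (Ideal.span {xq ϖ 0, xq ϖ 1} : Set (Q ϖ)) := by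
  rw [Set.disjoint_left]
  rintro _ ⟨n, rfl⟩ hn
  exact hh ((prime_span_pair ϖ hϖ).mem_of_pow_mem n hn)

include hϖ hh in
theorem disj_single (i j : Fin 2) (hij : i ≠ j) : Disjoint (Submonoid.powers h : Set (Q ϖ))
    (Ideal.span {xq ϖ i} : Set (Q ϖ)) := by
  rw [Set.disjoint_left]
  rintro _ ⟨n, rfl⟩ hn
  have h1 : h ∈ Ideal.span {xq ϖ i} := (prime_span_xq ϖ hϖ i j hij).mem_of_pow_mem n hn
  apply hh
  refine Ideal.span_mono ?_ h1
  fin_cases i <;> simp

include hϖ hh in
theorem prime_span_xb (i j : Fin 2) (hij : i ≠ j) : (Ideal.span {xb ϖ h i}).IsPrime := by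
  have h1 := IsLocalization.isPrime_of_isPrime_disjoint (Submonoid.powers h) (Localization.Away h)
    _ (prime_span_xq ϖ hϖ i j hij) (disj_single ϖ hϖ h hh i j hij)
  rwa [Ideal.map_span, Set.image_singleton] at h1

include hϖ hh in
theorem prime_span_pair_b : (Ideal.span {xb ϖ h 0, xb ϖ h 1}).IsPrime := by
  have h1 := IsLocalization.isPrime_of_isPrime_disjoint (Submonoid.powers h) (Localization.Away h)
    _ (prime_span_pair ϖ hϖ) (disj_pair ϖ hϖ h hh)
  rwa [Ideal.map_span, Set.image_pair] at h1

include hϖ hh in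
theorem xb_notMem (i j : Fin 2) (hij : i ≠ j) : xb ϖ h j ∉ Ideal.span {xb ϖ h i} := by
  intro hmem
  have h1 : xq ϖ j ∈ (Ideal.map (algebraMap (Q ϖ) (Localization.Away h))
      (Ideal.span {xq ϖ i})).under (Q ϖ) := by
    rw [Ideal.under_def, Ideal.mem_comap, Ideal.map_span, Set.image_singleton]
    exact hmem
  rw [IsLocalization.under_map_of_isPrime_disjoint (Submonoid.powers h) (Localization.Away h)
    (prime_span_xq ϖ hϖ i j hij) (disj_single ϖ hϖ h hh i j hij)] at h1
  rw [← ker_piQ ϖ hϖ.maximalIdeal_eq (mem_max ϖ hϖ) i j hij, RingHom.mem_ker,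
    piQ_xq_ne ϖ (mem_max ϖ hϖ) i j (Ne.symm hij)] at h1
  exact Polynomial.X_ne_zero h1

include hϖ in
theorem xb_mul_cancel (i j : Fin 2) (hij : i ≠ j) (b : Localization.Away h)
    (hb : xb ϖ h i * b = 0) : b = 0 := by
  obtain ⟨q, s, rfl⟩ := IsLocalization.exists_mk'_eq (Submonoid.powers h) b
  rw [IsLocalization.mul_mk'_eq_mk'_of_mul, IsLocalization.mk'_eq_zero_iff] at hb
  obtain ⟨m, hm⟩ := hb
  rw [IsLocalization.mk'_eq_zero_iff]
  refine ⟨m, ?_⟩
  apply xq_mul_cancel ϖ hϖ.ne_zero i j hij
  rw [← hm]
  ring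

theorem algebraMap_pi : algebraMap V (Localization.Away h) ϖ = xb ϖ h 0 * xb ϖ h 1 := by
  rw [IsScalarTower.algebraMap_apply V (Q ϖ) (Localization.Away h), ← map_mul, xq_mul]
  rfl

theorem D_mem_span (f : Localization.Away h) : ∃ a b : Localization.Away h,
    D V (Localization.Away h) f =
      a • D V (Localization.Away h) (xb ϖ h 0) + b • D V (Localization.Away h) (xb ϖ h 1) := by
  have key : ∀ G : MvPolynomial (Fin 2) V,
      D V (Localization.Away h) (algebraMap (Q ϖ) (Localization.Away h)
        (Ideal.Quotient.mk _ G)) ∈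
      Submodule.span (Localization.Away h)
        {D V (Localization.Away h) (xb ϖ h 0), D V (Localization.Away h) (xb ϖ h 1)} := by
    intro G
    induction G using MvPolynomial.induction_on with
    | C r =>
      have h1 : algebraMap (Q ϖ) (Localization.Away h) (Ideal.Quotient.mk _ (C r)) =
          algebraMap V (Localization.Away h) r := by
        rw [IsScalarTower.algebraMap_apply V (Q ϖ) (Localization.Away h)]
        rfl
      rw [h1, Derivation.map_algebraMap]
      exact Submodule.zero_mem _
    | add p q hp hq =>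
      rw [map_add, map_add, map_add]
      exact Submodule.add_mem _ hp hq
    | mul_X p l hp =>
      rw [map_mul, map_mul, Derivation.leibniz]
      apply Submodule.add_mem
      · apply Submodule.smul_mem
        fin_cases l
        · exact Submodule.subset_span (by simp)
        · exact Submodule.subset_span (by simp)
      · exact Submodule.smul_mem _ _ hp
  have htop := KaehlerDifferential.span_range_map_derivation_of_isLocalization V (Q ϖ)
    (Localization.Away h) (Submonoid.powers h)
  have h2 : D V (Localization.Away h) f ∈ Submodule.span (Localization.Away h)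
      {D V (Localization.Away h) (xb ϖ h 0), D V (Localization.Away h) (xb ϖ h 1)} := by
    have h1 : D V (Localization.Away h) f ∈ (⊤ : Submodule (Localization.Away h) _) := trivial
    rw [← htop] at h1
    refine (Submodule.span_le.mpr ?_) h1
    rintro _ ⟨q, rfl⟩
    obtain ⟨G, rfl⟩ := Ideal.Quotient.mk_surjective q
    rw [Function.comp_apply, KaehlerDifferential.map_D]
    exact key G
  obtain ⟨a, b, hab⟩ := Submodule.mem_span_pair.mp h2
  exact ⟨a, b, hab.symm⟩

include hϖ hh in
theorem core (f : Localization.Away h)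
    (hf : ((algebraMap (Localization.Away h)
        (Localization.Away (algebraMap V (Localization.Away h) ϖ))).comp
          (Polynomial.aeval f : Polynomial V →ₐ[V] Localization.Away h).toRingHom).Etale) :
    ∃ a b : Localization.Away h,
      D V (Localization.Away h) f =
        a • D V (Localization.Away h) (xb ϖ h 0) + b • D V (Localization.Away h) (xb ϖ h 1) ∧
      (b ∈ Ideal.span {xb ϖ h 0} ∨ a ∈ Ideal.span {xb ϖ h 1}) := by
  obtain ⟨a, b, hab⟩ := D_mem_span ϖ h f
  refine ⟨a, b, hab, ?_⟩
  haveI : Algebra.FormallyEtale (Q ϖ) (Localization.Away h) :=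
    Algebra.FormallyEtale.of_isLocalization (Submonoid.powers h)
  haveI : Algebra.FormallyEtale (Localization.Away h)
      (Localization.Away (algebraMap V (Localization.Away h) ϖ)) :=
    Algebra.FormallyEtale.of_isLocalization
      (Submonoid.powers (algebraMap V (Localization.Away h) ϖ))
  haveI : Algebra.FormallyEtale (Q ϖ)
      (Localization.Away (algebraMap V (Localization.Away h) ϖ)) :=
    Algebra.FormallyEtale.comp (Q ϖ) (Localization.Away h) _
  obtain ⟨w, hw⟩ : ∃ w, w = a * xb ϖ h 0 - b * xb ϖ h 1 := ⟨_, rfl⟩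
  have e0 : ∀ i, algebraMap (Localization.Away h)
      (Localization.Away (algebraMap V (Localization.Away h) ϖ)) (xb ϖ h i) =
      algebraMap (Q ϖ) (Localization.Away (algebraMap V (Localization.Away h) ϖ)) (xq ϖ i) :=
    fun i => (IsScalarTower.algebraMap_apply (Q ϖ) (Localization.Away h) _ _).symm
  have hDf : D V (Localization.Away (algebraMap V (Localization.Away h) ϖ))
      (algebraMap (Localization.Away h) _ f) =
      a • D V (Localization.Away (algebraMap V (Localization.Away h) ϖ))
        (algebraMap (Localization.Away h) _ (xb ϖ h 0)) +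
      b • D V (Localization.Away (algebraMap V (Localization.Away h) ϖ))
        (algebraMap (Localization.Away h) _ (xb ϖ h 1)) := by
    have h1 := congrArg (KaehlerDifferential.map V V (Localization.Away h)
      (Localization.Away (algebraMap V (Localization.Away h) ϖ))) hab
    rw [KaehlerDifferential.map_D, map_add, map_smul, map_smul, KaehlerDifferential.map_D,
      KaehlerDifferential.map_D] at h1
    exact h1
  have hθf : thetaT ϖ (Localization.Away (algebraMap V (Localization.Away h) ϖ))
      (D V _ (algebraMap (Localization.Away h) _ f)) =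
      algebraMap (Localization.Away h) _ w := by
    rw [hDf, map_add,
      ← algebraMap_smul (Localization.Away (algebraMap V (Localization.Away h) ϖ)) a,
      ← algebraMap_smul (Localization.Away (algebraMap V (Localization.Away h) ϖ)) b,
      map_smul, map_smul, e0, e0, thetaT_D, thetaT_D, thetaQ_xq0, thetaQ_xq1, map_neg, ← e0, ← e0,
      hw, map_sub, map_mul, map_mul, smul_eq_mul, smul_eq_mul]
    ring
  obtain ⟨c, hc⟩ := exists_smul_of_etale _ hf (fun r => by
    simp only [RingHom.comp_apply, AlgHom.toRingHom_eq_coe, RingHom.coe_coe, Polynomial.aeval_C]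
    exact (IsScalarTower.algebraMap_apply V (Localization.Away h) _ r).symm)
    (algebraMap (Localization.Away h) _ (xb ϖ h 0))
  have hφX : ((algebraMap (Localization.Away h)
        (Localization.Away (algebraMap V (Localization.Away h) ϖ))).comp
          (Polynomial.aeval f : Polynomial V →ₐ[V] Localization.Away h).toRingHom) Polynomial.X =
      algebraMap (Localization.Away h) _ f := by
    simp
  have h1 := congrArg (thetaT ϖ (Localization.Away (algebraMap V (Localization.Away h) ϖ))) hc
  rw [map_smul, hφX, hθf, e0, thetaT_D, thetaQ_xq0, ← e0, smul_eq_mul] at h1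
  have hϖu : IsUnit (algebraMap (Localization.Away h)
      (Localization.Away (algebraMap V (Localization.Away h) ϖ))
      (algebraMap V (Localization.Away h) ϖ)) := IsLocalization.Away.algebraMap_isUnit _
  have hx0u : IsUnit (algebraMap (Localization.Away h)
      (Localization.Away (algebraMap V (Localization.Away h) ϖ)) (xb ϖ h 0)) := by
    have hmul : algebraMap (Localization.Away h)
        (Localization.Away (algebraMap V (Localization.Away h) ϖ))
        (algebraMap V (Localization.Away h) ϖ) =
        algebraMap (Localization.Away h) _ (xb ϖ h 0) *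
          algebraMap (Localization.Away h) _ (xb ϖ h 1) := by
      rw [← map_mul]
      exact congrArg _ (algebraMap_pi ϖ h)
    rw [hmul] at hϖu
    exact isUnit_of_mul_isUnit_left hϖu
  have hwu : IsUnit (algebraMap (Localization.Away h)
      (Localization.Away (algebraMap V (Localization.Away h) ϖ)) w) := by
    rw [h1] at hx0u
    exact isUnit_of_mul_isUnit_right hx0u
  obtain ⟨u, M, huM⟩ : ∃ (u : Localization.Away h) (M : ℕ),
      w * u = (algebraMap V (Localization.Away h) ϖ) ^ M := by
    obtain ⟨z, hz⟩ := hwu.exists_right_inv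
    obtain ⟨u0, s, hzs⟩ := IsLocalization.exists_mk'_eq
      (Submonoid.powers (algebraMap V (Localization.Away h) ϖ)) z
    rw [← hzs] at hz
    obtain ⟨m, hm⟩ := s.2
    have hspec := IsLocalization.mk'_spec
      (Localization.Away (algebraMap V (Localization.Away h) ϖ)) u0 s
    have h2 : algebraMap (Localization.Away h)
        (Localization.Away (algebraMap V (Localization.Away h) ϖ)) (w * u0) =
        algebraMap (Localization.Away h) _ (s : Localization.Away h) := by
      rw [map_mul, ← hspec, ← mul_assoc, hz, one_mul]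
    obtain ⟨⟨_, r, rfl⟩, hr⟩ := (IsLocalization.eq_iff_exists
      (Submonoid.powers (algebraMap V (Localization.Away h) ϖ)) _).mp h2
    refine ⟨(algebraMap V (Localization.Away h) ϖ) ^ r * u0, m + r, ?_⟩
    have hm' : (algebraMap V (Localization.Away h) ϖ) ^ m = (s : Localization.Away h) := hm
    rw [pow_add, hm']
    have hr' : (algebraMap V (Localization.Away h) ϖ) ^ r * (w * u0) =
        (algebraMap V (Localization.Away h) ϖ) ^ r * (s : Localization.Away h) := hr
    linear_combination hr'
  rw [algebraMap_pi, mul_pow] at huM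
  by_contra hcon
  rw [not_or] at hcon
  have hw0 : w ∉ Ideal.span {xb ϖ h 0} := by
    intro hwm
    apply hcon.1
    have h3 : b * xb ϖ h 1 ∈ Ideal.span {xb ϖ h 0} := by
      have h4 : b * xb ϖ h 1 = a * xb ϖ h 0 - w := by rw [hw]; ring
      rw [h4]
      exact Ideal.sub_mem _ (Ideal.mul_mem_left _ _ (Ideal.subset_span rfl)) hwm
    exact ((prime_span_xb ϖ hϖ h hh 0 1 (by decide)).mem_or_mem h3).resolve_right
      (xb_notMem ϖ hϖ h hh 0 1 (by decide))
  have hw1 : w ∉ Ideal.span {xb ϖ h 1} := by
    intro hwm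
    apply hcon.2
    have h3 : a * xb ϖ h 0 ∈ Ideal.span {xb ϖ h 1} := by
      have h4 : a * xb ϖ h 0 = w + b * xb ϖ h 1 := by rw [hw]; ring
      rw [h4]
      exact Ideal.add_mem _ hwm (Ideal.mul_mem_left _ _ (Ideal.subset_span rfl))
    exact ((prime_span_xb ϖ hϖ h hh 1 0 (by decide)).mem_or_mem h3).resolve_right
      (xb_notMem ϖ hϖ h hh 1 0 (by decide))
  have hunit := descent (xb ϖ h 0) (xb ϖ h 1) w (xb_mul_cancel ϖ hϖ h 0 1 (by decide))
    (xb_mul_cancel ϖ hϖ h 1 0 (by decide)) (prime_span_xb ϖ hϖ h hh 0 1 (by decide))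
    (prime_span_xb ϖ hϖ h hh 1 0 (by decide)) hw0 hw1 (M + M) M M rfl u huM
  have hwm : w ∈ Ideal.span {xb ϖ h 0, xb ϖ h 1} := by
    rw [hw]
    exact Ideal.sub_mem _ (Ideal.mul_mem_left _ _ (Ideal.subset_span (by simp)))
      (Ideal.mul_mem_left _ _ (Ideal.subset_span (by simp)))
  exact (prime_span_pair_b ϖ hϖ h hh).ne_top (Ideal.eq_top_of_isUnit_mem _ hwm hunit)

end Node

end Groth.Agent.Lib.Helper3.Semistab
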