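import Mathlib
import Groth.Agent.Lib.Helper3.Semistab2

/-!
# The semistable node: a function with `df = 0` on a component is not quasi-finite (helper3, S14386)
-/

set_option autoImplicit false
universe u

namespace Groth.Agent.Lib.Helper3.Semistab
open MvPolynomial KaehlerDifferential

section Part2
variable {V : Type u} [CommRing V] [IsDomain V] [IsDiscreteValuationRing V]
  (ϖ : V) (hϖ : Irreducible ϖ) (h : Q ϖ) (hh : h ∉ Ideal.span {xq ϖ 0, xq ϖ 1})

omit [IsDomain V] [IsDiscreteValuationRing V] in
theorem pi0_C [IsLocalRing V] (i : Fin 2) (r : V) :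
    pi0 i (C r : MvPolynomial (Fin 2) V) = Polynomial.C (IsLocalRing.residue V r) := by
  simp only [pi0, RingHom.comp_apply, AlgHom.toRingHom_eq_coe, RingHom.coe_coe, sig_C,
    Polynomial.coe_mapRingHom, Polynomial.map_C]

omit [IsDomain V] [IsDiscreteValuationRing V] in
/-- constant coefficient of the reduction equals the value at the closed point -/
theorem constantCoeff_pi0 [IsLocalRing V] (i : Fin 2) (G : MvPolynomial (Fin 2) V) :
    PowerSeries.constantCoeff ((pi0 i G : Polynomial (IsLocalRing.ResidueField V)) :
      PowerSeries (IsLocalRing.ResidueField V)) = eps0 G := by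
  induction G using MvPolynomial.induction_on with
  | C r =>
    rw [pi0_C, Polynomial.coe_C, PowerSeries.constantCoeff_C]
    simp [eps0]
  | add p q hp hq => rw [map_add, Polynomial.coe_add, map_add, map_add, hp, hq]
  | mul_X p l hp =>
    rw [map_mul, Polynomial.coe_mul, map_mul, map_mul, hp]
    congr 1
    have h2 : eps0 (X l : MvPolynomial (Fin 2) V) = 0 := by simp [eps0]
    rw [h2]
    by_cases hl : l = i
    · subst hl
      have h3 : pi0 l (X l : MvPolynomial (Fin 2) V) = 0 := by simp [pi0, sig_X_self]
      rw [h3]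
      simp
    · have h3 : pi0 i (X l : MvPolynomial (Fin 2) V) = Polynomial.X := by
        simp [pi0, sig_X_ne i l hl]
      rw [h3, Polynomial.coe_X, PowerSeries.constantCoeff_X]

include hϖ hh in
theorem not_quasiFinite [CharZero (IsLocalRing.ResidueField V)] (i j : Fin 2) (hij : i ≠ j)
    (f ci cj : Localization.Away h)
    (hab : D V (Localization.Away h) f =
      ci • D V (Localization.Away h) (xb ϖ h i) + cj • D V (Localization.Away h) (xb ϖ h j))
    (hcj : cj ∈ Ideal.span {xb ϖ h i}) :
    ¬ (Polynomial.aeval f : Polynomial V →ₐ[V] Localization.Away h).toRingHom.QuasiFinite := by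
  intro hqf
  have hmax := hϖ.maximalIdeal_eq
  have hϖm := mem_max ϖ hϖ
  obtain ⟨ρQ, hρQ⟩ : ∃ ρQ : Q ϖ →+* PowerSeries (IsLocalRing.ResidueField V),
      ρQ = (Polynomial.coeToPowerSeries.ringHom).comp (piQ ϖ hϖm i) := ⟨_, rfl⟩
  have hρQ' : ∀ q, ρQ q = ((piQ ϖ hϖm i q : Polynomial (IsLocalRing.ResidueField V)) :
      PowerSeries (IsLocalRing.ResidueField V)) := fun q => by rw [hρQ]; rfl
  have hcc : ∀ q, PowerSeries.constantCoeff (ρQ q) = epsQ ϖ hϖm q := by
    intro q
    obtain ⟨G, rfl⟩ := Ideal.Quotient.mk_surjective q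
    rw [hρQ', piQ_mk, epsQ_mk]
    exact constantCoeff_pi0 i G
  have hunit : IsUnit (ρQ h) := by
    rw [PowerSeries.isUnit_iff_constantCoeff, hcc]
    apply IsUnit.mk0
    intro h0
    apply hh
    rw [← ker_epsQ ϖ hmax hϖm]
    exact h0
  obtain ⟨ρ, hρdef⟩ : ∃ ρ : Localization.Away h →+* PowerSeries (IsLocalRing.ResidueField V),
      ρ = IsLocalization.Away.lift h hunit := ⟨_, rfl⟩
  have hρ : ∀ q, ρ (algebraMap (Q ϖ) (Localization.Away h) q) = ρQ q := fun q => by
    rw [hρdef]
    exact IsLocalization.Away.lift_eq h hunit q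
  have hker : ∀ b, ρ b = 0 → b ∈ Ideal.span {xb ϖ h i} := by
    intro b hb
    obtain ⟨q, s, rfl⟩ := IsLocalization.exists_mk'_eq (Submonoid.powers h) b
    have hspec := IsLocalization.mk'_spec (Localization.Away h) q s
    have h1 : ρQ q = 0 := by rw [← hρ, ← hspec, map_mul, hb, zero_mul]
    rw [hρQ'] at h1
    have h2 : piQ ϖ hϖm i q = 0 := by
      apply Polynomial.coe_injective
      rw [h1, Polynomial.coe_zero]
    have h3 : q ∈ Ideal.span {xq ϖ i} := by
      rw [← ker_piQ ϖ hmax hϖm i j hij]
      exact h2
    rw [IsLocalization.mk'_eq_mul_mk'_one]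
    apply Ideal.mul_mem_right
    have h4 := Ideal.mem_map_of_mem (algebraMap (Q ϖ) (Localization.Away h)) h3
    rwa [Ideal.map_span, Set.image_singleton] at h4
  letI : Algebra (Localization.Away h) (PowerSeries (IsLocalRing.ResidueField V)) := ρ.toAlgebra
  have hρV : ∀ v : V, ρ (algebraMap V (Localization.Away h) v) =
      PowerSeries.C (IsLocalRing.residue V v) := by
    intro v
    rw [IsScalarTower.algebraMap_apply V (Q ϖ) (Localization.Away h), hρ, hρQ']
    have h1 : algebraMap V (Q ϖ) v = Ideal.Quotient.mk _ (C v) := rfl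
    rw [h1, piQ_mk, pi0_C, Polynomial.coe_C]
  haveI : IsScalarTower V (Localization.Away h) (PowerSeries (IsLocalRing.ResidueField V)) :=
    IsScalarTower.of_algebraMap_eq (fun v => by
      rw [RingHom.algebraMap_toAlgebra, hρV, PowerSeries.algebraMap_apply]
      rfl)
  let d' : Derivation V (Localization.Away h) (PowerSeries (IsLocalRing.ResidueField V)) :=
    ((PowerSeries.derivative (IsLocalRing.ResidueField V)).restrictScalars V).compAlgebraMap
      (Localization.Away h)
  have hd' : ∀ b, d' b = PowerSeries.derivative (IsLocalRing.ResidueField V) (ρ b) := fun b => rfl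
  have h1 := congrArg d'.liftKaehlerDifferential hab
  rw [Derivation.liftKaehlerDifferential_comp_D, map_add, map_smul, map_smul,
    Derivation.liftKaehlerDifferential_comp_D, Derivation.liftKaehlerDifferential_comp_D,
    hd', hd', hd'] at h1
  have hxi : ρ (xb ϖ h i) = 0 := by rw [hρ, hρQ', piQ_xq_self, Polynomial.coe_zero]
  have hcj0 : ρ cj = 0 := by
    obtain ⟨c', rfl⟩ := Ideal.mem_span_singleton'.mp hcj
    rw [map_mul, hxi, mul_zero]
  rw [hxi, map_zero, smul_zero, zero_add, Algebra.smul_def, RingHom.algebraMap_toAlgebra, hcj0,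
    zero_mul] at h1
  have hconst : ρ f = PowerSeries.C (PowerSeries.constantCoeff (ρ f)) := by
    apply PowerSeries.derivative.ext
    · rw [h1, PowerSeries.derivative_C]
    · simp
  obtain ⟨c, hc⟩ := IsLocalRing.residue_surjective (PowerSeries.constantCoeff (ρ f))
  have hfc : f - algebraMap V (Localization.Away h) c ∈ Ideal.span {xb ϖ h i} := by
    apply hker
    rw [map_sub, hρV, hc, ← hconst, sub_self]
  letI : Algebra (Polynomial V) (Localization.Away h) :=
    (Polynomial.aeval f : Polynomial V →ₐ[V] Localization.Away h).toRingHom.toAlgebra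
  haveI : Algebra.QuasiFinite (Polynomial V) (Localization.Away h) := hqf
  haveI hP : (Ideal.span {xb ϖ h i}).IsPrime := prime_span_xb ϖ hϖ h hh i j hij
  haveI hM : (Ideal.span {xb ϖ h 0, xb ϖ h 1}).IsPrime := prime_span_pair_b ϖ hϖ h hh
  have hle : Ideal.span {xb ϖ h i} ≤ Ideal.span {xb ϖ h 0, xb ϖ h 1} :=
    Ideal.span_mono (by fin_cases i <;> simp)
  have hunder : (Ideal.span {xb ϖ h i}).under (Polynomial V) =
      (Ideal.span {xb ϖ h 0, xb ϖ h 1}).under (Polynomial V) := by
    apply le_antisymm
    · exact Ideal.comap_mono hle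
    · intro p hp
      rw [Ideal.mem_under] at hp ⊢
      have hpe : algebraMap (Polynomial V) (Localization.Away h) p = Polynomial.aeval f p := rfl
      rw [hpe] at hp ⊢
      have hdiff : Polynomial.aeval f p -
          Polynomial.aeval (algebraMap V (Localization.Away h) c) p ∈
          Ideal.span {xb ϖ h i} := by
        rw [Polynomial.aeval_def, Polynomial.aeval_def, Polynomial.eval₂_eq_eval_map,
          Polynomial.eval₂_eq_eval_map]
        obtain ⟨z, hz⟩ := Polynomial.sub_dvd_eval_sub f (algebraMap V (Localization.Away h) c)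
          (p.map (algebraMap V (Localization.Away h)))
        rw [hz]
        exact Ideal.mul_mem_right _ _ hfc
      have hc' : Polynomial.aeval (algebraMap V (Localization.Away h) c) p =
          algebraMap V (Localization.Away h) (p.eval c) := by
        rw [Polynomial.aeval_algebraMap_apply, Polynomial.coe_aeval_eq_eval]
      have h5 : algebraMap V (Localization.Away h) (p.eval c) ∈
          Ideal.span {xb ϖ h 0, xb ϖ h 1} := by
        rw [← hc']
        have h9 : Polynomial.aeval (algebraMap V (Localization.Away h) c) p =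
            Polynomial.aeval f p - (Polynomial.aeval f p -
              Polynomial.aeval (algebraMap V (Localization.Away h) c) p) := by ring
        rw [h9]
        exact Ideal.sub_mem _ hp (hle hdiff)
      have h6 : p.eval c ∈ IsLocalRing.maximalIdeal V := by
        have h7 : Ideal.comap (algebraMap V (Localization.Away h))
            (Ideal.span {xb ϖ h 0, xb ϖ h 1}) ≤ IsLocalRing.maximalIdeal V :=
          IsLocalRing.le_maximalIdeal (Ideal.comap_ne_top _ hM.ne_top)
        exact h7 h5
      rw [hmax, Ideal.mem_span_singleton'] at h6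
      obtain ⟨v, hv⟩ := h6
      have h8 : algebraMap V (Localization.Away h) (p.eval c) ∈ Ideal.span {xb ϖ h i} := by
        rw [← hv, map_mul, algebraMap_pi]
        apply Ideal.mul_mem_left
        fin_cases i
        · exact Ideal.mul_mem_right _ _ (Ideal.subset_span rfl)
        · exact Ideal.mul_mem_left _ _ (Ideal.subset_span rfl)
      have h10 : Polynomial.aeval f p = (Polynomial.aeval f p -
          Polynomial.aeval (algebraMap V (Localization.Away h) c) p) +
          Polynomial.aeval (algebraMap V (Localization.Away h) c) p := by ring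
      rw [h10]
      refine Ideal.add_mem _ hdiff ?_
      rw [hc']
      exact h8
  have heq := Algebra.QuasiFinite.eq_of_le_of_under_eq (R := Polynomial V) _ _ hle hunder
  apply xb_notMem ϖ hϖ h hh i j hij
  rw [heq]
  exact Ideal.subset_span (by fin_cases j <;> simp)

end Part2

end Groth.Agent.Lib.Helper3.Semistab
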