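import Mathlib
import Groth.Agent.Lib.Helper3.SepFam1
import Groth.Agent.Lib.Helper5.Stalk.Faithful

/-! Separating families of homomorphisms of modules: descent along faithfully flat morphisms
(helper3): S4908. -/

set_option autoImplicit false
set_option backward.isDefEq.respectTransparency.types false
set_option synthInstance.maxHeartbeats 400000
set_option linter.style.haveILetI false
universe u

open AlgebraicGeometry CategoryTheory CategoryTheory.Limits TopologicalSpace

namespace Groth.Agent.Helper3.SepFam

open Groth.Agent.Lib.Helper5.StalkAdj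

/-- a section of a product of modules all of whose components vanish is zero -/
theorem pi_section_ext {X : Scheme.{u}} {ι : Type u} (G : ι → X.Modules) (V : X.Opens)
    (x y : Γ(∏ᶜ G, V)) (hxy : ∀ i, (Pi.π G i).app V x = (Pi.π G i).app V y) : x = y := by
  let E := SheafOfModules.evaluation X.ringCatSheaf (Opposite.op V)
  have hlim := isLimitOfPreserves E (limit.isLimit (Discrete.functor G))
  refine Concrete.isLimit_ext (Discrete.functor G ⋙ E) hlim x y ?_
  rintro ⟨i⟩
  exact hxy i

/-- a family of homomorphisms is separating iff the induced map to the product is a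
monomorphism; this is the direction producing the monomorphism -/
theorem separating_of_mono_lift {X : Scheme.{u}} (F : X.Modules) {ι : Type u}
    (G : ι → X.Modules) (u : ∀ i, F ⟶ G i) [Mono (Pi.lift u)] (V : X.Opens) (t : Γ(F, V))
    (ht : ∀ i, (u i).app V t = 0) : t = 0 := by
  apply app_injective_of_mono (Pi.lift u) V
  rw [map_zero]
  apply pi_section_ext
  intro i
  rw [map_zero]
  have h1 : (u i).app V t = (Pi.π G i).app V ((Pi.lift u).app V t) := by
    conv_lhs => rw [← Pi.lift_π u i]
    rfl
  rw [← h1, ht i]

theorem S4908_main {X X' : Scheme.{u}} (F : X.Modules) {ι : Type u}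
    (G : ι → X.Modules) (u : ∀ i, F ⟶ G i) (g : X' ⟶ X) [Flat g] [Surjective g]
    (h : ∀ (V : X'.Opens) (t : ↑(((Scheme.Modules.pullback g).obj F).presheaf.obj (Opposite.op V))),
      (∀ i, (Scheme.Modules.Hom.mapPresheaf ((Scheme.Modules.pullback g).map (u i))).app
        (Opposite.op V) t = 0) → t = 0) :
    ∀ (V : X.Opens) (t : ↑(F.presheaf.obj (Opposite.op V))),
      (∀ i, (Scheme.Modules.Hom.mapPresheaf (u i)).app (Opposite.op V) t = 0) → t = 0 := by
  have hk : ∀ i, kernel.ι (Pi.lift u) ≫ u i = 0 := by
    intro i
    rw [← Pi.lift_π u i, ← Category.assoc, kernel.condition, zero_comp]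
  haveI : Mono ((Scheme.Modules.pullback g).map (kernel.ι (Pi.lift u))) := inferInstance
  have hid : 𝟙 ((Scheme.Modules.pullback g).obj (kernel (Pi.lift u))) = 0 := by
    apply Scheme.Modules.hom_ext
    intro V
    ext s
    show s = 0
    apply app_injective_of_mono ((Scheme.Modules.pullback g).map (kernel.ι (Pi.lift u))) V
    rw [map_zero]
    apply h V
    intro i
    show ((Scheme.Modules.pullback g).map (u i)).app V
      (((Scheme.Modules.pullback g).map (kernel.ι (Pi.lift u))).app V s) = 0
    have h1 : (Scheme.Modules.pullback g).map (kernel.ι (Pi.lift u)) ≫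
        (Scheme.Modules.pullback g).map (u i) = 0 := by
      rw [← Functor.map_comp, hk i, Functor.map_zero]
    have h2 := congrArg (fun ψ => ψ.app V s) h1
    exact h2
  haveI := pullback_faithful g
  have hidK : 𝟙 (kernel (Pi.lift u)) = 0 := by
    apply (Scheme.Modules.pullback g).map_injective
    rw [CategoryTheory.Functor.map_id, Functor.map_zero, hid]
  haveI : Mono (Pi.lift u) :=
    (Preadditive.mono_iff_isZero_kernel (Pi.lift u)).2 ((IsZero.iff_id_eq_zero _).2 hidK)
  intro V t ht
  exact separating_of_mono_lift F G u V t ht

end Groth.Agent.Helper3.SepFam
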