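import Mathlib

/-!
# `D(A) ⥤ D(A/P)` is essentially surjective (helper3)
-/
set_option autoImplicit false
open CategoryTheory CategoryTheory.Limits

namespace Groth.Agent.Helper3.SerreDer1

universe w w' v v' u u'

variable {A : Type u} [Category.{v} A] [Abelian A]
  (P : ObjectProperty A) [P.IsSerreClass]
  {Q : Type u'} [Category.{v'} Q] [Abelian Q]
  (L : A ⥤ Q) [L.IsLocalization P.isoModSerre]

include P in
lemma exists_up (X : A) (Z : Q) (φ : L.obj X ⟶ Z) :
    ∃ (Y : A) (e : L.obj Y ≅ Z) (d : X ⟶ Y), L.map d ≫ e.hom = φ := by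
  haveI : L.EssSurj := Localization.essSurj L P.isoModSerre
  let Y₀ := L.objPreimage Z
  let e₀ : L.obj Y₀ ≅ Z := L.objObjPreimageIso Z
  obtain ⟨fr, hfr⟩ := Localization.exists_leftFraction L P.isoModSerre (φ ≫ e₀.inv)
  haveI : IsIso (L.map fr.s) := Localization.inverts L P.isoModSerre _ fr.hs
  refine ⟨fr.Y', (asIso (L.map fr.s)).symm ≪≫ e₀, fr.f, ?_⟩
  have h : L.map fr.f ≫ inv (L.map fr.s) = φ ≫ e₀.inv := hfr.symm
  change L.map fr.f ≫ inv (L.map fr.s) ≫ e₀.hom = φ
  rw [← Category.assoc, h, Category.assoc, e₀.inv_hom_id, Category.comp_id]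

include P in
lemma exists_down (X : A) (Z : Q) (φ : Z ⟶ L.obj X) :
    ∃ (Y : A) (e : L.obj Y ≅ Z) (d : Y ⟶ X), L.map d = e.hom ≫ φ := by
  haveI : L.EssSurj := Localization.essSurj L P.isoModSerre
  let Y₀ := L.objPreimage Z
  let e₀ : L.obj Y₀ ≅ Z := L.objObjPreimageIso Z
  obtain ⟨fr, hfr⟩ := Localization.exists_rightFraction L P.isoModSerre (e₀.hom ≫ φ)
  haveI : IsIso (L.map fr.s) := Localization.inverts L P.isoModSerre _ fr.hs
  refine ⟨fr.X', asIso (L.map fr.s) ≪≫ e₀, fr.f, ?_⟩
  have h : inv (L.map fr.s) ≫ L.map fr.f = e₀.hom ≫ φ := hfr.symm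
  change L.map fr.f = (L.map fr.s ≫ e₀.hom) ≫ φ
  rw [Category.assoc, ← h, IsIso.hom_inv_id_assoc]

variable (K : CochainComplex Q ℤ)

/-- the state of the recursion: a lift of `K.X n` -/
abbrev St (n : ℤ) : Type _ := Σ X : A, (L.obj X ≅ K.X n)

include P in
lemma exists_st0 : Nonempty (St L K 0) := by
  haveI : L.EssSurj := Localization.essSurj L P.isoModSerre
  exact ⟨⟨L.objPreimage (K.X 0), L.objObjPreimageIso _⟩⟩

noncomputable def st0 : St L K 0 := (exists_st0 P L K).some

noncomputable def up (k : ℤ) (s : St L K k) : St L K (k + 1) :=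
  ⟨(exists_up P L s.1 (K.X (k + 1)) (s.2.hom ≫ K.d k (k + 1))).choose,
    (exists_up P L s.1 (K.X (k + 1)) (s.2.hom ≫ K.d k (k + 1))).choose_spec.choose⟩

lemma up_spec (k : ℤ) (s : St L K k) :
    ∃ d : s.1 ⟶ (up P L K k s).1, L.map d ≫ (up P L K k s).2.hom = s.2.hom ≫ K.d k (k + 1) :=
  (exists_up P L s.1 (K.X (k + 1)) (s.2.hom ≫ K.d k (k + 1))).choose_spec.choose_spec

noncomputable def down (k : ℤ) (s : St L K k) : St L K (k - 1) :=
  ⟨(exists_down P L s.1 (K.X (k - 1)) (K.d (k - 1) k ≫ s.2.inv)).choose,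
    (exists_down P L s.1 (K.X (k - 1)) (K.d (k - 1) k ≫ s.2.inv)).choose_spec.choose⟩

lemma down_spec (k : ℤ) (s : St L K k) :
    ∃ d : (down P L K k s).1 ⟶ s.1,
      L.map d ≫ s.2.hom = (down P L K k s).2.hom ≫ K.d (k - 1) k := by
  obtain ⟨d, hd⟩ : ∃ d : (down P L K k s).1 ⟶ s.1,
      L.map d = (down P L K k s).2.hom ≫ K.d (k - 1) k ≫ s.2.inv :=
    (exists_down P L s.1 (K.X (k - 1)) (K.d (k - 1) k ≫ s.2.inv)).choose_spec.choose_spec
  refine ⟨d, ?_⟩
  rw [hd, Category.assoc, Category.assoc, s.2.inv_hom_id, Category.comp_id]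

/-- the chosen lifts -/
noncomputable def T (n : ℤ) : St L K n :=
  Int.inductionOn' n 0 (st0 P L K) (fun k _ s => up P L K k s) (fun k _ s => down P L K k s)

lemma exists_d (i j : ℤ) (hij : i + 1 = j) :
    ∃ d : (T P L K i).1 ⟶ (T P L K j).1,
      L.map d ≫ (T P L K j).2.hom = (T P L K i).2.hom ≫ K.d i j := by
  by_cases hi : 0 ≤ i
  · subst hij
    have e : T P L K (i + 1) = up P L K i (T P L K i) := Int.inductionOn'_add_one hi
    rw [e]
    exact up_spec P L K i _
  · have hj : j ≤ 0 := by omega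
    obtain rfl : i = j - 1 := by omega
    have e : T P L K (j - 1) = down P L K j (T P L K j) := Int.inductionOn'_sub_one hj
    rw [e]
    exact down_spec P L K j _

/-- the lifted objects -/
noncomputable def X (n : ℤ) : A := (T P L K n).1

/-- the comparison isomorphisms -/
noncomputable def e (n : ℤ) : L.obj (X P L K n) ≅ K.X n := (T P L K n).2

/-- the lifted differentials (not yet of square zero) -/
noncomputable def D (i j : ℤ) (hij : i + 1 = j) : X P L K i ⟶ X P L K j :=
  (exists_d P L K i j hij).choose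

lemma D_spec (i j : ℤ) (hij : i + 1 = j) :
    L.map (D P L K i j hij) ≫ (e P L K j).hom = (e P L K i).hom ≫ K.d i j :=
  (exists_d P L K i j hij).choose_spec

/-- two-fold composites -/
noncomputable def dd (i k : ℤ) (h : i + 2 = k) : X P L K i ⟶ X P L K k :=
  D P L K i (i + 1) rfl ≫ D P L K (i + 1) k (by omega)

/-- three-fold composites -/
noncomputable def ddd (i k : ℤ) (h : i + 3 = k) : X P L K i ⟶ X P L K k :=
  D P L K i (i + 1) rfl ≫ dd P L K (i + 1) k (by omega)

lemma map_dd (i k : ℤ) (h : i + 2 = k) : L.map (dd P L K i k h) = 0 := by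
  rw [← cancel_mono (e P L K k).hom, zero_comp]
  unfold dd
  rw [L.map_comp, Category.assoc, D_spec, ← Category.assoc, D_spec, Category.assoc,
    K.d_comp_d, comp_zero]

lemma dd_comp_D (a i j : ℤ) (h : a + 2 = i) (hij : i + 1 = j) :
    dd P L K a i h ≫ D P L K i j hij = ddd P L K a j (by omega) := by
  obtain rfl : i = a + 1 + 1 := by omega
  unfold ddd dd
  rw [Category.assoc]

lemma D_comp_D (i j k : ℤ) (hij : i + 1 = j) (hjk : j + 1 = k) :
    D P L K i j hij ≫ D P L K j k hjk = dd P L K i k (by omega) := by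
  subst hij
  rfl

variable [L.Additive]

lemma map_ddd (i k : ℤ) (h : i + 3 = k) : L.map (ddd P L K i k h) = 0 := by
  unfold ddd
  rw [L.map_comp, map_dd, comp_zero]

/-- the map whose cokernel is the corrected object -/
noncomputable def ψ (n : ℤ) : X P L K (n - 2) ⊞ X P L K (n - 3) ⟶ X P L K n :=
  biprod.desc (dd P L K (n - 2) n (by omega)) (ddd P L K (n - 3) n (by omega))

lemma map_ψ (n : ℤ) : L.map (ψ P L K n) = 0 := by
  unfold ψ
  rw [biprod.desc_eq, L.map_add, L.map_comp, L.map_comp, map_dd, map_ddd, comp_zero, comp_zero,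
    add_zero]

/-- the corrected objects -/
noncomputable abbrev Y (n : ℤ) : A := cokernel (ψ P L K n)

noncomputable def π (n : ℤ) : X P L K n ⟶ Y P L K n := cokernel.π (ψ P L K n)

instance (n : ℤ) : Epi (π P L K n) :=
  inferInstanceAs (Epi (cokernel.π (ψ P L K n)))

lemma dd_π (a j : ℤ) (h : a + 2 = j) : dd P L K a j h ≫ π P L K j = 0 := by
  obtain rfl : a = j - 2 := by omega
  have : dd P L K (j - 2) j h = biprod.inl ≫ ψ P L K j := by
    unfold ψ
    rw [biprod.inl_desc]
  rw [this, Category.assoc]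
  unfold π
  rw [cokernel.condition, comp_zero]

lemma ddd_π (a j : ℤ) (h : a + 3 = j) : ddd P L K a j h ≫ π P L K j = 0 := by
  obtain rfl : a = j - 3 := by omega
  have : ddd P L K (j - 3) j h = biprod.inr ≫ ψ P L K j := by
    unfold ψ
    rw [biprod.inr_desc]
  rw [this, Category.assoc]
  unfold π
  rw [cokernel.condition, comp_zero]

lemma ψ_D_π (i j : ℤ) (hij : i + 1 = j) : ψ P L K i ≫ D P L K i j hij ≫ π P L K j = 0 := by
  unfold ψ
  apply biprod.hom_ext'
  · rw [biprod.inl_desc_assoc, comp_zero, ← Category.assoc, dd_comp_D, ddd_π]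
  · rw [biprod.inr_desc_assoc, comp_zero]
    unfold ddd
    rw [Category.assoc, ← Category.assoc (dd P L K _ _ _), dd_comp_D, ddd_π, comp_zero]

/-- the corrected differentials -/
noncomputable def d' (i j : ℤ) (hij : i + 1 = j) : Y P L K i ⟶ Y P L K j :=
  cokernel.desc (ψ P L K i) (D P L K i j hij ≫ π P L K j) (ψ_D_π P L K i j hij)

lemma π_d' (i j : ℤ) (hij : i + 1 = j) :
    π P L K i ≫ d' P L K i j hij = D P L K i j hij ≫ π P L K j :=
  cokernel.π_desc _ _ _

lemma d'_comp (i j k : ℤ) (hij : i + 1 = j) (hjk : j + 1 = k) :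
    d' P L K i j hij ≫ d' P L K j k hjk = 0 := by
  rw [← cancel_epi (π P L K i), comp_zero, ← Category.assoc, π_d', Category.assoc, π_d',
    ← Category.assoc, D_comp_D, dd_π]

/-- the lifted complex -/
noncomputable def cx : CochainComplex A ℤ :=
  CochainComplex.of (Y P L K) (fun n => d' P L K n (n + 1) rfl)
    (fun n => d'_comp P L K n (n + 1) (n + 1 + 1) rfl rfl)

lemma cx_d (i j : ℤ) (hij : i + 1 = j) : (cx P L K).d i j = d' P L K i j hij := by
  subst hij
  exact CochainComplex.of_d (Y P L K) (fun n => d' P L K n (n + 1) rfl) i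

variable [PreservesFiniteLimits L] [PreservesFiniteColimits L]

lemma isIso_map_π (n : ℤ) : IsIso (L.map (π P L K n)) := by
  let S : ShortComplex A := ShortComplex.mk (ψ P L K n) (π P L K n) (cokernel.condition _)
  have hS : S.Exact := ShortComplex.exact_cokernel _
  have hS' : (S.map L).Exact := hS.map L
  haveI : Mono (L.map (π P L K n)) := hS'.mono_g (map_ψ P L K n)
  haveI : Epi (L.map (π P L K n)) := inferInstance
  exact isIso_of_mono_of_epi _

/-- the comparison isomorphisms for the corrected objects -/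
noncomputable def e' (n : ℤ) : L.obj (Y P L K n) ≅ K.X n :=
  haveI := isIso_map_π P L K n
  (asIso (L.map (π P L K n))).symm ≪≫ e P L K n

lemma map_π_e' (n : ℤ) : L.map (π P L K n) ≫ (e' P L K n).hom = (e P L K n).hom := by
  haveI := isIso_map_π P L K n
  unfold e'
  change L.map (π P L K n) ≫ inv (L.map (π P L K n)) ≫ _ = _
  rw [IsIso.hom_inv_id_assoc]

lemma map_d'_e' (i j : ℤ) (hij : i + 1 = j) :
    L.map (d' P L K i j hij) ≫ (e' P L K j).hom = (e' P L K i).hom ≫ K.d i j := by
  haveI := isIso_map_π P L K i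
  rw [← cancel_epi (L.map (π P L K i)), ← Category.assoc, ← L.map_comp, π_d', L.map_comp,
    Category.assoc, map_π_e', D_spec, ← Category.assoc, map_π_e']

/-- the image of the lifted complex is isomorphic to `K` -/
noncomputable def cxIso : (L.mapHomologicalComplex (ComplexShape.up ℤ)).obj (cx P L K) ≅ K :=
  HomologicalComplex.Hom.isoOfComponents (fun n => e' P L K n) (by
    intro i j hij
    have hij' : i + 1 = j := hij
    symm
    change L.map ((cx P L K).d i j) ≫ (e' P L K j).hom = (e' P L K i).hom ≫ K.d i j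
    rw [cx_d P L K i j hij']
    exact map_d'_e' P L K i j hij')

include P in
theorem essSurj [HasDerivedCategory.{w} A] [HasDerivedCategory.{w'} Q] :
    L.mapDerivedCategory.EssSurj where
  mem_essImage Z := by
    let K₀ : CochainComplex Q ℤ := DerivedCategory.Q.objPreimage Z
    let i₀ : DerivedCategory.Q.obj K₀ ≅ Z := DerivedCategory.Q.objObjPreimageIso Z
    exact ⟨DerivedCategory.Q.obj (cx P L K₀),
      ⟨L.mapDerivedCategoryFactors.app (cx P L K₀) ≪≫
        DerivedCategory.Q.mapIso (cxIso P L K₀) ≪≫ i₀⟩⟩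

end Groth.Agent.Helper3.SerreDer1
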