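import Mathlib
import Groth.Agent.Lib.Helper3.DerAdj
import Groth.Agent.Lib.Helper3.PCohN

/-!
# `D(A) → D(A/P)` is a Verdier localization when `A → A/P` has a fully faithful left adjoint
-/

open CategoryTheory Category Limits Pretriangulated DerivedCategory Triangulated

universe w w' v v' u u'

namespace Groth.Agent.Helper3.SerreQ

variable {A : Type u} [Category.{v} A] [Abelian A] [HasDerivedCategory.{w} A]
  (P : ObjectProperty A) [P.IsSerreClass]
  {B : Type u'} [Category.{v'} B] [Abelian B] [HasDerivedCategory.{w'} B]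
  (v : A ⥤ B) [v.IsLocalization P.isoModSerre] [v.Additive] [PreservesFiniteLimits v]
  [PreservesFiniteColimits v]

lemma isZero_of_homology (K : DerivedCategory A)
    (h : ∀ n : ℤ, IsZero ((homologyFunctor A n).obj K)) : IsZero K := by
  have h1 : K.IsLE 0 := (isLE_iff K 0).2 (fun i _ => h i)
  have h2 : K.IsGE 1 := (isGE_iff K 1).2 (fun i _ => h i)
  exact TStructure.t.isZero K 0 1 (by lia)

/-- the objects with cohomology in `P` -/
abbrev DP : ObjectProperty (DerivedCategory A) :=
  fun X => ∀ n : ℤ, P ((homologyFunctor A n).obj X)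

include v in
lemma isZero_map_iff (Z : DerivedCategory A) :
    IsZero (v.mapDerivedCategory.obj Z) ↔ DP P Z := by
  constructor
  · intro hZ n
    have h1 : IsZero ((homologyFunctor B n).obj (v.mapDerivedCategory.obj Z)) :=
      (homologyFunctor B n).map_isZero hZ
    have h2 : IsZero (v.obj ((homologyFunctor A n).obj Z)) :=
      h1.of_iso (Groth.Agent.Helper3.PCohN.homologyMapIso v Z n).symm
    exact (ObjectProperty.SerreClassLocalization.isZero_obj_iff v P _).1 h2
  · intro hZ
    refine isZero_of_homology _ (fun n => ?_)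
    have h2 : IsZero (v.obj ((homologyFunctor A n).obj Z)) :=
      (ObjectProperty.SerreClassLocalization.isZero_obj_iff v P _).2 (hZ n)
    exact h2.of_iso (Groth.Agent.Helper3.PCohN.homologyMapIso v Z n)

include v in
lemma trW_iff {X Y : DerivedCategory A} (g : X ⟶ Y) :
    (DP P).trW g ↔ IsIso (v.mapDerivedCategory.map g) := by
  constructor
  · rintro ⟨Z, a, b, hT, hZ⟩
    have hFT := v.mapDerivedCategory.map_distinguished _ hT
    exact (Triangle.isZero₃_iff_isIso₁ _ hFT).1 ((isZero_map_iff P v Z).2 hZ)
  · intro hg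
    obtain ⟨Z, a, b, hT⟩ := distinguished_cocone_triangle g
    have hFT := v.mapDerivedCategory.map_distinguished _ hT
    exact ⟨Z, a, b, hT, (isZero_map_iff P v Z).1 ((Triangle.isZero₃_iff_isIso₁ _ hFT).2 hg)⟩

lemma exists_arrow_iso_Q_map {X Y : DerivedCategory A} (g : X ⟶ Y) :
    ∃ (K L : CochainComplex A ℤ) (f : K ⟶ L), Nonempty (Arrow.mk (Q.map f) ≅ Arrow.mk g) := by
  let φ := (Qh (C := A)).mapArrow.objPreimage (Arrow.mk g)
  let e : (Qh (C := A)).mapArrow.obj φ ≅ Arrow.mk g := (Qh (C := A)).mapArrow.objObjPreimageIso _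
  obtain ⟨f, hf⟩ := (HomotopyCategory.quotient A (ComplexShape.up ℤ)).map_surjective
    (show (HomotopyCategory.quotient A (ComplexShape.up ℤ)).obj φ.left.as ⟶
      (HomotopyCategory.quotient A (ComplexShape.up ℤ)).obj φ.right.as from φ.hom)
  refine ⟨φ.left.as, φ.right.as, f, ⟨?_ ≪≫ e⟩⟩
  refine Arrow.isoMk ((quotientCompQhIso A).symm.app _) ((quotientCompQhIso A).symm.app _) ?_
  have := (quotientCompQhIso A).inv.naturality f
  dsimp at this ⊢
  refine Eq.trans ?_ this.symm
  congr 1
  exact congrArg Qh.map hf.symm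

section main

variable (u : B ⥤ A) (adj : u ⊣ v) [IsIso adj.unit]

include adj in
theorem isLocalization_mapDerivedCategory :
    v.mapDerivedCategory.IsLocalization (DP P).trW := by
  have : u.Additive := adj.left_adjoint_additive
  let uC := u.mapHomologicalComplex (ComplexShape.up ℤ)
  let vC := v.mapHomologicalComplex (ComplexShape.up ℤ)
  let adjC : uC ⊣ vC := Groth.Agent.Helper3.DerAdj.adjC adj _
  have hunit : ∀ K : CochainComplex B ℤ, IsIso (adjC.unit.app K) := by
    intro K
    have : ∀ n, IsIso ((adjC.unit.app K).f n) := fun n => by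
      change IsIso (adj.unit.app (K.X n))
      infer_instance
    exact HomologicalComplex.Hom.isIso_of_components _
  have : IsIso adjC.unit := NatIso.isIso_of_isIso_app _
  have ff := adjC.fullyFaithfulLOfIsIsoUnit
  have : uC.Full := ff.full
  have : uC.Faithful := ff.faithful
  have h1 : vC.IsLocalization ((MorphismProperty.isomorphisms _).inverseImage vC) :=
    adjC.isLocalization'
  let W₃ : MorphismProperty (CochainComplex A ℤ) :=
    (HomologicalComplex.quasiIso B (ComplexShape.up ℤ)).inverseImage vC
  have h2 : (vC ⋙ Q).IsLocalization W₃ := by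
    refine Functor.IsLocalization.comp vC Q ((MorphismProperty.isomorphisms _).inverseImage vC)
      (HomologicalComplex.quasiIso B (ComplexShape.up ℤ)) W₃ ?_ ?_ ?_
    · intro K L f hf
      exact Localization.inverts Q (HomologicalComplex.quasiIso B (ComplexShape.up ℤ)) _ hf
    · intro K L f hf
      have : IsIso (vC.map f) := hf
      change QuasiIso (vC.map f)
      infer_instance
    · intro K L g hg
      have e : Arrow.mk (vC.map (uC.map g)) ≅ Arrow.mk g :=
        Arrow.isoMk (asIso (adjC.unit.app K)).symm (asIso (adjC.unit.app L)).symm (by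
          have := adjC.unit.naturality g
          dsimp at this ⊢
          rw [← cancel_epi (adjC.unit.app K), ← reassoc_of% this]
          simp)
      refine ⟨_, _, uC.map g, ?_, ⟨e⟩⟩
      exact ((HomologicalComplex.quasiIso B (ComplexShape.up ℤ)).arrow_mk_iso_iff e).2 hg
  have h3 : (Q ⋙ v.mapDerivedCategory).IsLocalization W₃ :=
    Functor.IsLocalization.of_iso W₃ v.mapDerivedCategoryFactors.symm
  have hW₃ : ∀ {K L : CochainComplex A ℤ} (f : K ⟶ L),
      W₃ f ↔ IsIso (v.mapDerivedCategory.map (Q.map f)) := by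
    intro K L f
    change QuasiIso (vC.map f) ↔ _
    rw [← isIso_Q_map_iff_quasiIso]
    have := v.mapDerivedCategoryFactors_hom_naturality f
    constructor
    · intro h
      have h' : IsIso (v.mapDerivedCategory.map (Q.map f) ≫
          v.mapDerivedCategoryFactors.hom.app L) := by rw [this]; infer_instance
      exact IsIso.of_isIso_comp_right _ (v.mapDerivedCategoryFactors.hom.app L)
    · intro h
      have h' : IsIso (v.mapDerivedCategoryFactors.hom.app K ≫ Q.map (vC.map f)) := by
        rw [← this]; infer_instance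
      exact IsIso.of_isIso_comp_left (v.mapDerivedCategoryFactors.hom.app K) _
  refine Functor.IsLocalization.of_comp Q v.mapDerivedCategory
    (HomologicalComplex.quasiIso A (ComplexShape.up ℤ)) (DP P).trW W₃ ?_ ?_
  · intro K L f hf
    have : QuasiIso f := hf
    change QuasiIso (vC.map f)
    infer_instance
  · ext X Y g
    rw [trW_iff P v g]
    constructor
    · intro hg
      obtain ⟨K, L, f, ⟨e⟩⟩ := exists_arrow_iso_Q_map g
      refine ⟨K, L, f, (hW₃ f).2 ?_, ⟨e⟩⟩
      exact ((MorphismProperty.isomorphisms _).arrow_mk_iso_iff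
        (v.mapDerivedCategory.mapArrow.mapIso e)).2 hg
    · rintro ⟨K, L, f, hf, ⟨e⟩⟩
      exact ((MorphismProperty.isomorphisms _).arrow_mk_iso_iff
        (v.mapDerivedCategory.mapArrow.mapIso e)).1 ((hW₃ f).1 hf)

end main

end Groth.Agent.Helper3.SerreQ
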