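import Mathlib

/-!
# Subcomplexes with terms in a Serre class (step lemma)
-/

namespace Groth.Agent.Helper3.SerreSub

open CategoryTheory CategoryTheory.Limits

universe v u

variable {A : Type u} [Category.{v} A] [Abelian A] (P : ObjectProperty A)

/-- a subobject of `K.X n` lying in `P` -/
structure Piece (K : CochainComplex A ℤ) (n : ℤ) where
  obj : A
  ι : obj ⟶ K.X n
  mono : Mono ι
  prop : P obj

variable {P}

/-- the relation between consecutive pieces -/
def Rel {K : CochainComplex A ℤ} {i j : ℤ} (_ : i + 1 = j) (p : Piece P K i) (q : Piece P K j) :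
    Prop :=
  ∃ δ : p.obj ⟶ q.obj, δ ≫ q.ι = p.ι ≫ K.d i j ∧
    (∀ ⦃T : A⦄ (x : T ⟶ q.obj) (y : T ⟶ K.X i), x ≫ q.ι = y ≫ K.d i j →
      ∃ (T' : A) (π : T' ⟶ T) (_ : Epi π) (m : T' ⟶ p.obj), π ≫ x = m ≫ δ) ∧
    (∀ ⦃T : A⦄ (z : T ⟶ K.X i), z ≫ K.d i j = 0 → ∀ (h : ℤ) (_ : h + 1 = i),
      ∃ (T' : A) (π : T' ⟶ T) (_ : Epi π) (m : T' ⟶ p.obj) (_ : m ≫ δ = 0) (y : T' ⟶ K.X h),
        π ≫ z = m ≫ p.ι + y ≫ K.d h i)

variable [P.IsSerreClass]

lemma prop_biprod' {X Y : A} (hX : P X) (hY : P Y) : P (X ⊞ Y) := by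
  have hS : (ShortComplex.mk (biprod.inl : X ⟶ X ⊞ Y) biprod.snd (by simp)).ShortExact :=
    (ShortComplex.Splitting.ofHasBinaryBiproduct X Y).shortExact
  exact P.prop_X₂_of_shortExact hS hX hY

theorem exists_step
    (hlift : ∀ (X Y : A) (π : X ⟶ Y), Epi π → P Y →
      ∃ (X' : A) (i : X' ⟶ X), Mono i ∧ P X' ∧ Epi (i ≫ π))
    (K : CochainComplex A ℤ) {i j : ℤ} (hij : i + 1 = j) (hH : P (K.homology i))
    (q : Piece P K j) : ∃ p : Piece P K i, Rel hij p q := by
  haveI := q.mono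
  -- the preimage of `q` under `d`
  let X := pullback (K.d i j) q.ι
  let fst : X ⟶ K.X i := pullback.fst _ _
  let snd : X ⟶ q.obj := pullback.snd _ _
  have hcond : fst ≫ K.d i j = snd ≫ q.ι := pullback.condition
  haveI : Mono fst := by dsimp [fst]; infer_instance
  have hT : P (image snd) := P.prop_of_mono (image.ι snd) q.prop
  obtain ⟨X1, i1, hi1, hX1, hepi1⟩ := hlift X (image snd) (factorThruImage snd) inferInstance hT
  obtain ⟨X2, i2, hi2, hX2, hepi2⟩ :=
    hlift (K.cycles i) (K.homology i) (K.homologyπ i) inferInstance hH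
  let u2 : X2 ⟶ X := pullback.lift (i2 ≫ K.iCycles i) 0 (by simp)
  have hu2fst : u2 ≫ fst = i2 ≫ K.iCycles i := pullback.lift_fst _ _ _
  have hu2snd : u2 ≫ snd = 0 := pullback.lift_snd _ _ _
  let u : X1 ⊞ X2 ⟶ X := biprod.desc i1 u2
  have hM : P (image u) := P.prop_of_epi (factorThruImage u) (prop_biprod' hX1 hX2)
  refine ⟨⟨image u, image.ι u ≫ fst, mono_comp _ _, hM⟩, image.ι u ≫ snd, ?_, ?_, ?_⟩
  · dsimp
    rw [Category.assoc, Category.assoc, hcond]
  · intro T x y hxy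
    let t : T ⟶ X := pullback.lift y x hxy.symm
    have ht : t ≫ snd = x := pullback.lift_snd _ _ _
    obtain ⟨T', π, hπ, m1, hm1⟩ :=
      surjective_up_to_refinements_of_epi (i1 ≫ factorThruImage snd) (t ≫ factorThruImage snd)
    refine ⟨T', π, hπ, m1 ≫ biprod.inl ≫ factorThruImage u, ?_⟩
    have h1 := hm1 =≫ image.ι snd
    simp only [Category.assoc, image.fac] at h1
    dsimp
    rw [Category.assoc, Category.assoc, image.fac_assoc]
    have : (biprod.inl : X1 ⟶ X1 ⊞ X2) ≫ u = i1 := biprod.inl_desc _ _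
    rw [reassoc_of% this, ← h1, ht]
  · intro T z hz h hh
    have hnext : (ComplexShape.up ℤ).next i = j := by simp [← hij]
    have hprev : (ComplexShape.up ℤ).prev i = h := by simp [← hh]
    let zt : T ⟶ K.cycles i := K.liftCycles z j hnext hz
    obtain ⟨T', π, hπ, m2, hm2⟩ :=
      surjective_up_to_refinements_of_epi (i2 ≫ K.homologyπ i) (zt ≫ K.homologyπ i)
    have h2 : (π ≫ zt) ≫ K.homologyπ i = (m2 ≫ i2) ≫ K.homologyπ i := by
      simpa only [Category.assoc] using hm2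
    obtain ⟨T'', π', hπ', x₁, hx₁⟩ :=
      (K.comp_homologyπ_eq_iff_up_to_refinements h i hprev (π ≫ zt) (m2 ≫ i2)).1 h2
    refine ⟨T'', π' ≫ π, epi_comp _ _, π' ≫ m2 ≫ biprod.inr ≫ factorThruImage u, ?_, x₁, ?_⟩
    · dsimp
      simp only [Category.assoc, image.fac_assoc]
      have : (biprod.inr : X2 ⟶ X1 ⊞ X2) ≫ u = u2 := biprod.inr_desc _ _
      rw [reassoc_of% this, hu2snd, comp_zero, comp_zero]
    · have h3 := hx₁ =≫ K.iCycles i
      simp only [Category.assoc, Preadditive.add_comp, HomologicalComplex.liftCycles_i,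
        HomologicalComplex.toCycles_i, zt] at h3
      dsimp
      simp only [Category.assoc, image.fac_assoc]
      have : (biprod.inr : X2 ⟶ X1 ⊞ X2) ≫ u = u2 := biprod.inr_desc _ _
      rw [reassoc_of% this, hu2fst]
      exact h3

end Groth.Agent.Helper3.SerreSub
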