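import Groth.Agent.Lib.Helper3.SerreSub1

/-!
# Subcomplexes with terms in a Serre class: the construction
-/

namespace Groth.Agent.Helper3.SerreSub

open CategoryTheory CategoryTheory.Limits

universe v u

variable {A : Type u} [Category.{v} A] [Abelian A] {P : ObjectProperty A} [P.IsSerreClass]

/-- the full piece at a place where the complex vanishes -/
noncomputable def zeroPiece (K : CochainComplex A ℤ) (n : ℤ) (hn : IsZero (K.X n)) :
    Piece P K n := ⟨K.X n, 𝟙 _, inferInstance, P.prop_of_isZero hn⟩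

lemma rel_of_isZero (K : CochainComplex A ℤ) {i j : ℤ} (hij : i + 1 = j)
    (hi : IsZero (K.X i)) (hj : IsZero (K.X j)) (p : Piece P K i) (q : Piece P K j) :
    Rel hij p q := by
  haveI := q.mono
  haveI := p.mono
  have hq : IsZero q.obj := by
    rw [IsZero.iff_id_eq_zero, ← cancel_mono q.ι]
    exact hj.eq_of_tgt _ _
  refine ⟨0, hj.eq_of_tgt _ _, ?_, ?_⟩
  · intro T x y _
    exact ⟨T, 𝟙 _, inferInstance, 0, hq.eq_of_tgt _ _⟩
  · intro T z _ h _
    exact ⟨T, 𝟙 _, inferInstance, 0, by simp, 0, hi.eq_of_tgt _ _⟩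

section Seq

variable (hlift : ∀ (X Y : A) (π : X ⟶ Y), Epi π → P Y →
      ∃ (X' : A) (i : X' ⟶ X), Mono i ∧ P X' ∧ Epi (i ≫ π))
  (K : CochainComplex A ℤ) (b : ℤ) [K.IsStrictlyLE b] (hH : ∀ n, P (K.homology n))

/-- the pieces -/
noncomputable def pc (n : ℤ) : Piece P K n :=
  Int.inductionOn' (motive := fun n => Piece P K n) n (b + 1)
    (zeroPiece K (b + 1) (K.isZero_of_isStrictlyLE b (b + 1) (by omega)))
    (fun k hk _ => zeroPiece K (k + 1) (K.isZero_of_isStrictlyLE b (k + 1) (by omega)))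
    (fun k _ q => (exists_step hlift K (i := k - 1) (j := k) (by omega) (hH (k - 1)) q).choose)

lemma pc_of_gt (n : ℤ) (hn : b < n) :
    pc hlift K b hH n = zeroPiece K n (K.isZero_of_isStrictlyLE b n hn) := by
  by_cases h : n = b + 1
  · subst h
    unfold pc
    rw [Int.inductionOn'_self]
  · obtain ⟨k, rfl⟩ : ∃ k, n = k + 1 := ⟨n - 1, by omega⟩
    unfold pc
    rw [Int.inductionOn'_add_one (by omega)]

lemma pc_pred (k : ℤ) (hk : k ≤ b + 1) :
    pc hlift K b hH (k - 1) =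
      (exists_step hlift K (i := k - 1) (j := k) (by omega) (hH (k - 1))
        (pc hlift K b hH k)).choose := by
  unfold pc
  rw [Int.inductionOn'_sub_one hk]

lemma pc_rel (i j : ℤ) (hij : i + 1 = j) :
    Rel hij (pc hlift K b hH i) (pc hlift K b hH j) := by
  obtain rfl : i = j - 1 := by omega
  by_cases hj : j ≤ b + 1
  · rw [pc_pred hlift K b hH j hj]
    exact (exists_step hlift K (i := j - 1) (j := j) (by omega) (hH (j - 1))
        (pc hlift K b hH j)).choose_spec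
  · exact rel_of_isZero K hij (K.isZero_of_isStrictlyLE b _ (by omega))
      (K.isZero_of_isStrictlyLE b _ (by omega)) _ _

/-- the differentials -/
noncomputable def δ (n : ℤ) : (pc hlift K b hH n).obj ⟶ (pc hlift K b hH (n + 1)).obj :=
  (pc_rel hlift K b hH n (n + 1) rfl).choose

lemma δ_ι (n : ℤ) :
    δ hlift K b hH n ≫ (pc hlift K b hH (n + 1)).ι = (pc hlift K b hH n).ι ≫ K.d n (n + 1) :=
  (pc_rel hlift K b hH n (n + 1) rfl).choose_spec.1

lemma δ_bdry (n : ℤ) ⦃T : A⦄ (x : T ⟶ (pc hlift K b hH (n + 1)).obj) (y : T ⟶ K.X n)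
    (hxy : x ≫ (pc hlift K b hH (n + 1)).ι = y ≫ K.d n (n + 1)) :
    ∃ (T' : A) (π : T' ⟶ T) (_ : Epi π) (m : T' ⟶ (pc hlift K b hH n).obj),
      π ≫ x = m ≫ δ hlift K b hH n :=
  (pc_rel hlift K b hH n (n + 1) rfl).choose_spec.2.1 x y hxy

lemma δ_cyc (n : ℤ) ⦃T : A⦄ (z : T ⟶ K.X n) (hz : z ≫ K.d n (n + 1) = 0) (h : ℤ)
    (hh : h + 1 = n) :
    ∃ (T' : A) (π : T' ⟶ T) (_ : Epi π) (m : T' ⟶ (pc hlift K b hH n).obj)
      (_ : m ≫ δ hlift K b hH n = 0) (y : T' ⟶ K.X h),
      π ≫ z = m ≫ (pc hlift K b hH n).ι + y ≫ K.d h n :=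
  (pc_rel hlift K b hH n (n + 1) rfl).choose_spec.2.2 z hz h hh

lemma δ_sq (n : ℤ) : δ hlift K b hH n ≫ δ hlift K b hH (n + 1) = 0 := by
  haveI := (pc hlift K b hH (n + 1 + 1)).mono
  rw [← cancel_mono (pc hlift K b hH (n + 1 + 1)).ι, Category.assoc, δ_ι, reassoc_of% (δ_ι hlift K b hH n),
    K.d_comp_d, comp_zero, zero_comp]

/-- the subcomplex, as a complex in `A` -/
noncomputable def subA : CochainComplex A ℤ :=
  CochainComplex.of (fun n => (pc hlift K b hH n).obj) (δ hlift K b hH) (δ_sq hlift K b hH)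

lemma subA_d (n : ℤ) : (subA hlift K b hH).d n (n + 1) = δ hlift K b hH n := by
  exact CochainComplex.of_d (fun n => (pc hlift K b hH n).obj) (δ hlift K b hH) n

/-- the inclusion of the subcomplex -/
noncomputable def subAι : subA hlift K b hH ⟶ K where
  f n := (pc hlift K b hH n).ι
  comm' := by
    rintro i j (rfl : i + 1 = j)
    rw [subA_d]
    exact (δ_ι hlift K b hH i).symm

lemma subA_bdry (i j : ℤ) (hij : i + 1 = j) ⦃T : A⦄ (x : T ⟶ (subA hlift K b hH).X j)
    (y : T ⟶ K.X i) (hxy : x ≫ (subAι hlift K b hH).f j = y ≫ K.d i j) :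
    ∃ (T' : A) (π : T' ⟶ T) (_ : Epi π) (m : T' ⟶ (subA hlift K b hH).X i),
      π ≫ x = m ≫ (subA hlift K b hH).d i j := by
  subst hij
  rw [subA_d]
  exact δ_bdry hlift K b hH i x y hxy

lemma subA_cyc (h i j : ℤ) (hh : h + 1 = i) (hij : i + 1 = j) ⦃T : A⦄ (z : T ⟶ K.X i)
    (hz : z ≫ K.d i j = 0) :
    ∃ (T' : A) (π : T' ⟶ T) (_ : Epi π) (m : T' ⟶ (subA hlift K b hH).X i)
      (_ : m ≫ (subA hlift K b hH).d i j = 0) (y : T' ⟶ K.X h),
      π ≫ z = m ≫ (subAι hlift K b hH).f i + y ≫ K.d h i := by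
  subst hij
  rw [subA_d]
  exact δ_cyc hlift K b hH i z hz h hh

lemma isZero_subA_X (n : ℤ) (hn : b < n) : IsZero ((subA hlift K b hH).X n) := by
  change IsZero (pc hlift K b hH n).obj
  rw [pc_of_gt hlift K b hH n hn]
  exact K.isZero_of_isStrictlyLE b n hn

lemma prop_subA_X (n : ℤ) : P ((subA hlift K b hH).X n) := (pc hlift K b hH n).prop

instance : (subA hlift K b hH).IsStrictlyLE b := by
  rw [CochainComplex.isStrictlyLE_iff]
  intro n hn
  exact isZero_subA_X hlift K b hH n hn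

instance quasiIso_subAι : QuasiIso (subAι hlift K b hH) := by
  rw [quasiIso_iff]
  intro n
  rw [quasiIsoAt_iff_isIso_homologyMap]
  haveI : Mono (HomologicalComplex.homologyMap (subAι hlift K b hH) n) := by
    rw [HomologicalComplex.mono_homologyMap_iff_up_to_refinements (subAι hlift K b hH)
      (n - 1) n (n + 1) (by simp) (by simp)]
    intro T x₂ _ y₁ h
    exact subA_bdry hlift K b hH (n - 1) n (by omega) x₂ y₁ h
  haveI : Epi (HomologicalComplex.homologyMap (subAι hlift K b hH) n) := by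
    rw [HomologicalComplex.epi_homologyMap_iff_up_to_refinements (subAι hlift K b hH)
      (n - 1) n (n + 1) (by simp) (by simp)]
    intro T y₂ hy₂
    exact subA_cyc hlift K b hH (n - 1) n (n + 1) (by omega) rfl y₂ hy₂
  exact isIso_of_mono_of_epi _

end Seq

end Groth.Agent.Helper3.SerreSub
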