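import Groth.Agent.Lib.Helper3.SerreSub2

/-!
# `D⁻(P) ≃ D⁻_P(A)` for a Serre class with the lifting property
-/

namespace Groth.Agent.Helper3.SerreSub

open CategoryTheory CategoryTheory.Limits DerivedCategory

universe w w' v u

variable {A : Type u} [Category.{v} A] [Abelian A] {P : ObjectProperty A} [P.IsSerreClass]

section Lift

/-- a complex in `A` with terms in `P`, seen as a complex in the full subcategory -/
noncomputable def liftCx (L : CochainComplex A ℤ) (hL : ∀ n, P (L.X n)) :
    CochainComplex P.FullSubcategory ℤ where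
  X n := ⟨L.X n, hL n⟩
  d i j := ObjectProperty.homMk (L.d i j)
  shape i j hij := by
    apply ObjectProperty.hom_ext
    exact L.shape i j hij
  d_comp_d' i j k _ _ := by
    apply ObjectProperty.hom_ext
    exact L.d_comp_d i j k

/-- the image of `liftCx` in `A` is the original complex -/
noncomputable def liftCxIso (L : CochainComplex A ℤ) (hL : ∀ n, P (L.X n)) :
    (P.ι.mapHomologicalComplex (ComplexShape.up ℤ)).obj (liftCx L hL) ≅ L :=
  HomologicalComplex.Hom.isoOfComponents (fun n => Iso.refl _) (by
    intro i j _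
    dsimp [liftCx]
    erw [Category.id_comp, Category.comp_id]
    rfl)

lemma isStrictlyLE_liftCx (L : CochainComplex A ℤ) (hL : ∀ n, P (L.X n)) (b : ℤ)
    [L.IsStrictlyLE b] : (liftCx L hL).IsStrictlyLE b := by
  rw [CochainComplex.isStrictlyLE_iff]
  intro n hn
  rw [IsZero.iff_id_eq_zero]
  apply ObjectProperty.hom_ext
  exact (L.isZero_of_isStrictlyLE b n hn).eq_of_src _ _

end Lift

/-- the key lemma: a bounded above complex with cohomology in `P` is quasi-isomorphic to a
bounded above complex of objects of `P` -/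
theorem exists_subcomplex
    (hlift : ∀ (X Y : A) (π : X ⟶ Y), Epi π → P Y →
      ∃ (X' : A) (i : X' ⟶ X), Mono i ∧ P X' ∧ Epi (i ≫ π))
    (K : CochainComplex A ℤ) (b : ℤ) [K.IsStrictlyLE b] (hH : ∀ n, P (K.homology n)) :
    ∃ (M : CochainComplex P.FullSubcategory ℤ) (_ : M.IsStrictlyLE b)
      (φ : (P.ι.mapHomologicalComplex (ComplexShape.up ℤ)).obj M ⟶ K), QuasiIso φ := by
  refine ⟨liftCx (subA hlift K b hH) (prop_subA_X hlift K b hH),
    isStrictlyLE_liftCx _ _ b, (liftCxIso _ _).hom ≫ subAι hlift K b hH, ?_⟩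
  infer_instance

end Groth.Agent.Helper3.SerreSub
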