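import Groth.Agent.Lib.Helper3.SerreSub3

/-!
# `D⁻(P) ≃ D⁻_P(A)` for a Serre class with the lifting property: derived categories
-/

namespace Groth.Agent.Helper3.SerreSub

open CategoryTheory CategoryTheory.Limits DerivedCategory

universe w w' v u

section General

variable {A : Type u} [Category.{v} A] [Abelian A] [HasDerivedCategory.{w} A]

/-- a morphism of complexes which vanishes in the derived category is killed, up to homotopy,
by a quasi-isomorphism -/
lemma exists_homotopy_zero {X Y : CochainComplex A ℤ} (g : X ⟶ Y) (hg : Q.map g = 0) :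
    ∃ (X' : CochainComplex A ℤ) (s : X' ⟶ X) (_ : QuasiIso s), Nonempty (Homotopy (s ≫ g) 0) := by
  have h1 : Qh.map ((HomotopyCategory.quotient A (ComplexShape.up ℤ)).map g) =
      Qh.map ((HomotopyCategory.quotient A (ComplexShape.up ℤ)).map (0 : X ⟶ Y)) := by
    have e := (quotientCompQhIso A).hom.naturality g
    dsimp at e
    rw [hg, comp_zero] at e
    rw [Functor.map_zero, Functor.map_zero]
    rw [← cancel_mono ((quotientCompQhIso A).hom.app Y), e, zero_comp]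
  obtain ⟨Z, s, hs, fac⟩ := (MorphismProperty.map_eq_iff_precomp Qh
    (HomotopyCategory.quasiIso A (ComplexShape.up ℤ)) _ _).1 h1
  obtain ⟨Z, rfl⟩ := HomotopyCategory.quotient_obj_surjective Z
  obtain ⟨s, rfl⟩ := (HomotopyCategory.quotient _ _).map_surjective s
  rw [HomotopyCategory.quotient_map_mem_quasiIso_iff] at hs
  refine ⟨Z, s, ?_, ⟨HomotopyCategory.homotopyOfEq _ _ ?_⟩⟩
  · exact hs
  · rw [Functor.map_comp, fac, Functor.map_zero, Functor.map_zero, comp_zero]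

end General

variable {A : Type u} [Category.{v} A] [Abelian A] [HasDerivedCategory.{w} A]
  (P : ObjectProperty A) [P.IsSerreClass] [P.IsClosedUnderKernels] [P.IsClosedUnderCokernels]
  [P.IsClosedUnderFiniteProducts] [HasDerivedCategory.{w'} P.FullSubcategory]
  [PreservesFiniteLimits P.ι] [PreservesFiniteColimits P.ι]

lemma prop_homology_map (M : CochainComplex P.FullSubcategory ℤ) (n : ℤ) :
    P (((P.ι.mapHomologicalComplex (ComplexShape.up ℤ)).obj M).homology n) :=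
  P.prop_of_iso ((M.sc n).mapHomologyIso P.ι).symm (M.homology n).property

lemma quasiIso_of_map {M N : CochainComplex P.FullSubcategory ℤ} (f : M ⟶ N)
    (hf : QuasiIso ((P.ι.mapHomologicalComplex (ComplexShape.up ℤ)).map f)) : QuasiIso f :=
  (HomologicalComplex.quasiIso_map_iff_of_preservesHomology f P.ι).1 hf

variable {P}

variable (hlift : ∀ (X Y : A) (π : X ⟶ Y), Epi π → P Y →
      ∃ (X' : A) (i : X' ⟶ X), Mono i ∧ P X' ∧ Epi (i ≫ π))

include hlift

theorem essSurj_part (K : DerivedCategory A) (b : ℤ) (hK : K.IsLE b)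
    (hP : ∀ n : ℤ, P ((homologyFunctor A n).obj K)) :
    ∃ M : DerivedCategory P.FullSubcategory, M.IsLE b ∧
      Nonempty (P.ι.mapDerivedCategory.obj M ≅ K) := by
  obtain ⟨K₀, hK₀, ⟨eK⟩⟩ := K.exists_iso_Q_obj_of_isLE b
  have hH : ∀ n, P (K₀.homology n) := fun n =>
    P.prop_of_iso ((homologyFunctor A n).mapIso eK ≪≫ (homologyFunctorFactors A n).app K₀) (hP n)
  obtain ⟨M, hM, φ, hφ⟩ := exists_subcomplex hlift K₀ b hH
  haveI : IsIso (Q.map φ) := (isIso_Q_map_iff_quasiIso _ φ).2 hφ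
  exact ⟨Q.obj M, inferInstance,
    ⟨(P.ι.mapDerivedCategoryFactors).app M ≪≫ asIso (Q.map φ) ≪≫ eK.symm⟩⟩

theorem surjective_of_Q (M₀ N₀ : CochainComplex P.FullSubcategory ℤ) (b : ℤ) [M₀.IsStrictlyLE b] :
    Function.Surjective (fun φ : Q.obj M₀ ⟶ Q.obj N₀ => P.ι.mapDerivedCategory.map φ) := by
  intro ψ
  let e := P.ι.mapDerivedCategoryFactors
  let ψ' : Q.obj ((P.ι.mapHomologicalComplex (ComplexShape.up ℤ)).obj M₀) ⟶
      Q.obj ((P.ι.mapHomologicalComplex (ComplexShape.up ℤ)).obj N₀) :=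
    e.inv.app M₀ ≫ ψ ≫ e.hom.app N₀
  obtain ⟨Z, hZ, s, hs, g, hψ'⟩ := right_fac_of_isStrictlyLE ψ' b
  have hsq : QuasiIso s := (isIso_Q_map_iff_quasiIso _ s).1 hs
  have hZH : ∀ n, P (Z.homology n) := fun n =>
    P.prop_of_iso (asIso (HomologicalComplex.homologyMap s n)).symm (prop_homology_map P M₀ n)
  obtain ⟨M₁, hM₁, t, ht⟩ := exists_subcomplex hlift Z b hZH
  obtain ⟨s₁, hs₁⟩ := (P.ι.mapHomologicalComplex (ComplexShape.up ℤ)).map_surjective (t ≫ s)
  obtain ⟨g₁, hg₁⟩ := (P.ι.mapHomologicalComplex (ComplexShape.up ℤ)).map_surjective (t ≫ g)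
  have hs₁q : QuasiIso s₁ := quasiIso_of_map P s₁ (by rw [hs₁]; infer_instance)
  haveI : IsIso (Q.map s₁) := (isIso_Q_map_iff_quasiIso _ s₁).2 hs₁q
  haveI : IsIso (Q.map t) := (isIso_Q_map_iff_quasiIso _ t).2 ht
  refine ⟨inv (Q.map s₁) ≫ Q.map g₁, ?_⟩
  dsimp only
  have n1 := e.hom.naturality s₁
  have n2 := e.hom.naturality g₁
  dsimp at n1 n2
  rw [hs₁] at n1
  rw [hg₁] at n2
  have hψ : ψ = e.hom.app M₀ ≫ ψ' ≫ e.inv.app N₀ := by
    simp [ψ']
  rw [Functor.map_comp, Functor.map_inv, hψ, hψ']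
  rw [← cancel_epi (P.ι.mapDerivedCategory.map (Q.map s₁)), IsIso.hom_inv_id_assoc]
  rw [← cancel_mono (e.hom.app N₀), n2, reassoc_of% n1]
  simp only [Functor.map_comp, Category.assoc, Iso.inv_hom_id_app, Functor.comp_obj,
    Category.comp_id, IsIso.hom_inv_id_assoc]

theorem injective_of_Q [P.ι.mapDerivedCategory.Additive]
    (M₀ N₀ : CochainComplex P.FullSubcategory ℤ) (b : ℤ) [M₀.IsStrictlyLE b] :
    Function.Injective (fun φ : Q.obj M₀ ⟶ Q.obj N₀ => P.ι.mapDerivedCategory.map φ) := by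
  intro φ₁ φ₂ h
  dsimp only at h
  rw [← sub_eq_zero] at h ⊢
  rw [← Functor.map_sub] at h
  generalize φ₁ - φ₂ = φ at h
  let e := P.ι.mapDerivedCategoryFactors
  obtain ⟨Z, hZ, s, hs, g, hφ⟩ := right_fac_of_isStrictlyLE φ b
  have hsq : QuasiIso s := (isIso_Q_map_iff_quasiIso _ s).1 hs
  have hg0 : P.ι.mapDerivedCategory.map (Q.map g) = 0 := by
    rw [hφ, Functor.map_comp, Functor.map_inv] at h
    rw [← cancel_epi (inv (P.ι.mapDerivedCategory.map (Q.map s))), h, comp_zero]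
  have hg1 : Q.map ((P.ι.mapHomologicalComplex (ComplexShape.up ℤ)).map g) = 0 := by
    have n1 := e.hom.naturality g
    dsimp at n1
    rw [hg0, zero_comp] at n1
    rw [← cancel_epi (e.hom.app Z), ← n1, comp_zero]
  obtain ⟨Z', s', hs', ⟨H⟩⟩ := exists_homotopy_zero _ hg1
  haveI : Z'.IsLE b := by
    haveI := hs'
    exact (HomologicalComplex.isSupported_iff_of_quasiIso s'
      (ComplexShape.embeddingUpIntLE b)).2 inferInstance
  have hZ1 : ∀ n, P ((Z'.truncLE b).homology n) := fun n =>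
    P.prop_of_iso ((asIso (HomologicalComplex.homologyMap s' n)).symm ≪≫
      (asIso (HomologicalComplex.homologyMap (Z'.ιTruncLE b) n)).symm) (prop_homology_map P Z n)
  obtain ⟨M₂, hM₂, t₂, ht₂⟩ := exists_subcomplex hlift (Z'.truncLE b) b hZ1
  obtain ⟨t₁, ht₁⟩ := (P.ι.mapHomologicalComplex (ComplexShape.up ℤ)).map_surjective
    (t₂ ≫ Z'.ιTruncLE b ≫ s')
  have ht₁q : QuasiIso t₁ := quasiIso_of_map P t₁ (by rw [ht₁]; infer_instance)
  haveI : IsIso (Q.map t₁) := (isIso_Q_map_iff_quasiIso _ t₁).2 ht₁q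
  have H' : Homotopy ((P.ι.mapHomologicalComplex (ComplexShape.up ℤ)).map (t₁ ≫ g))
      ((P.ι.mapHomologicalComplex (ComplexShape.up ℤ)).map 0) :=
    (Homotopy.ofEq (by rw [Functor.map_comp, ht₁]; simp)).trans
      ((H.compLeft (t₂ ≫ Z'.ιTruncLE b)).trans (Homotopy.ofEq (by simp)))
  have h0 : Q.map (t₁ ≫ g) = Q.map 0 := Q_map_eq_of_homotopy _ (P.ι.preimageHomotopy H')
  rw [Functor.map_comp, Functor.map_zero] at h0
  have hg2 : Q.map g = 0 := by
    rw [← cancel_epi (Q.map t₁), h0, comp_zero]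
  rw [hφ, hg2, comp_zero]

end Groth.Agent.Helper3.SerreSub
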