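import Mathlib
import Groth.Agent.Lib.Helper3.FiltFin

set_option autoImplicit false
universe u
open CategoryTheory Limits Opposite TopologicalSpace

namespace Groth.Agent.Helper3.ShSetColim

variable {X : TopCat.{u}} {J : Type u} [SmallCategory J] [IsFiltered J] (F : J ⥤ X.Sheaf (Type u))

/-- the underlying diagram of presheaves -/
noncomputable abbrev D : J ⥤ ((Opens X)ᵒᵖ ⥤ Type u) :=
  F ⋙ sheafToPresheaf (Opens.grothendieckTopology X) (Type u)

/-- the presheaf colimit -/
noncomputable abbrev P : (Opens X)ᵒᵖ ⥤ Type u := colimit (D F)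

/-- the inclusions into the presheaf colimit -/
noncomputable abbrev inc (i : J) : (F.obj i).obj ⟶ P F := colimit.ι (D F) i

/-- the presheaf colimit is computed sectionwise -/
noncomputable def isColimitEval (W : Opens X) :
    IsColimit (((evaluation (Opens X)ᵒᵖ (Type u)).obj (op W)).mapCocone (colimit.cocone (D F))) :=
  isColimitOfPreserves _ (colimit.isColimit _)

lemma rep (W : Opens X) (s : (P F).obj (op W)) :
    ∃ (i : J) (x : (F.obj i).obj.obj (op W)), (inc F i).app (op W) x = s :=
  Types.jointly_surjective_of_isColimit (isColimitEval F W) s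

lemma rep₂ (W : Opens X) (s s' : (P F).obj (op W)) :
    ∃ (i : J) (x x' : (F.obj i).obj.obj (op W)),
      (inc F i).app (op W) x = s ∧ (inc F i).app (op W) x' = s' :=
  Types.FilteredColimit.jointly_surjective_of_isColimit₂ (isColimitEval F W) s s'

lemma eq_of (W : Opens X) (i : J) (x x' : (F.obj i).obj.obj (op W))
    (h : (inc F i).app (op W) x = (inc F i).app (op W) x') :
    ∃ (j : J) (f : i ⟶ j), (F.map f).hom.app (op W) x = (F.map f).hom.app (op W) x' :=
  (Types.FilteredColimit.isColimit_eq_iff' (isColimitEval F W) x x').1 h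

lemma inc_map {i j : J} (f : i ⟶ j) (W : Opens X) (x : (F.obj i).obj.obj (op W)) :
    (inc F j).app (op W) ((F.map f).hom.app (op W) x) = (inc F i).app (op W) x := by
  have h : (D F).map f ≫ inc F j = inc F i := colimit.w (D F) f
  exact ConcreteCategory.congr_hom (NatTrans.congr_app h (op W)) x

lemma inc_res (i : J) {W W' : Opens X} (g : W' ⟶ W) (x : (F.obj i).obj.obj (op W)) :
    (P F).map g.op ((inc F i).app (op W) x) = (inc F i).app (op W') ((F.obj i).obj.map g.op x) :=
  (ConcreteCategory.congr_hom ((inc F i).naturality g.op) x).symm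

lemma map_res {i j : J} (f : i ⟶ j) {W W' : Opens X} (g : W' ⟶ W) (x : (F.obj i).obj.obj (op W)) :
    (F.obj j).obj.map g.op ((F.map f).hom.app (op W) x) =
      (F.map f).hom.app (op W') ((F.obj i).obj.map g.op x) :=
  (ConcreteCategory.congr_hom ((F.map f).hom.naturality g.op) x).symm

lemma map_comp_app {i j l : J} (f : i ⟶ j) (g : j ⟶ l) (W : Opens X) (x : (F.obj i).obj.obj (op W)) :
    (F.map (f ≫ g)).hom.app (op W) x = (F.map g).hom.app (op W) ((F.map f).hom.app (op W) x) := by
  rw [F.map_comp]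
  rfl

/-- the sheafification map of the presheaf colimit -/
noncomputable abbrev θ : P F ⟶ sheafify (Opens.grothendieckTopology X) (P F) :=
  toSheafify (Opens.grothendieckTopology X) (P F)

/-- the sheafified colimit as a sheaf -/
noncomputable abbrev Ps : X.Sheaf (Type u) :=
  (presheafToSheaf (Opens.grothendieckTopology X) (Type u)).obj (P F)

lemma θ_res {W W' : Opens X} (g : W' ⟶ W) (s : (P F).obj (op W)) :
    (sheafify (Opens.grothendieckTopology X) (P F)).map g.op ((θ F).app (op W) s) =
      (θ F).app (op W') ((P F).map g.op s) :=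
  (ConcreteCategory.congr_hom ((θ F).naturality g.op) s).symm

/-- sections identified by sheafification agree locally -/
lemma loc_eq (V : Opens X) (s s' : (P F).obj (op V)) (h : (θ F).app (op V) s = (θ F).app (op V) s')
    (y : X) (hy : y ∈ V) :
    ∃ (W : Opens X) (g : W ⟶ V), y ∈ W ∧ (P F).map g.op s = (P F).map g.op s' := by
  have hli : Presheaf.equalizerSieve (F := P F) s s' ∈ Opens.grothendieckTopology X V :=
    Presheaf.equalizerSieve_mem (Opens.grothendieckTopology X) (θ F) s s' h
  obtain ⟨W, g, hg, hyW⟩ := hli y hy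
  exact ⟨W, g, hyW, hg⟩

/-- sections of the sheafification are locally in the image -/
lemma loc_im (V : Opens X) (t : (sheafify (Opens.grothendieckTopology X) (P F)).obj (op V))
    (y : X) (hy : y ∈ V) :
    ∃ (W : Opens X) (g : W ⟶ V), y ∈ W ∧ ∃ s : (P F).obj (op W),
      (θ F).app (op W) s = (sheafify (Opens.grothendieckTopology X) (P F)).map g.op t := by
  have hls : Presheaf.imageSieve (θ F) t ∈ Opens.grothendieckTopology X V :=
    Presheaf.imageSieve_mem (Opens.grothendieckTopology X) (θ F) t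
  obtain ⟨W, g, hg, hyW⟩ := hls y hy
  exact ⟨W, g, hyW, hg⟩

/-- injectivity on sections when the transition maps are injective -/
lemma inj_mono
    (hmono : ∀ (i j : J) (h : i ⟶ j) (V : Opens X), Function.Injective ((F.map h).hom.app (op V)))
    (V : Opens X) (s s' : (P F).obj (op V)) (h : (θ F).app (op V) s = (θ F).app (op V) s') :
    s = s' := by
  obtain ⟨i, x, x', rfl, rfl⟩ := rep₂ F V s s'
  have hx : x = x' := by
    have hpt : ∀ y : V, ∃ (W : Opens X) (g : W ⟶ V), y.1 ∈ W ∧
        (F.obj i).obj.map g.op x = (F.obj i).obj.map g.op x' := by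
      intro y
      obtain ⟨W, g, hyW, hg⟩ := loc_eq F V _ _ h y.1 y.2
      rw [inc_res, inc_res] at hg
      obtain ⟨j, f, hf⟩ := eq_of F W i _ _ hg
      exact ⟨W, g, hyW, hmono i j f W hf⟩
    choose W g hyW hg using hpt
    exact TopCat.Sheaf.eq_of_locally_eq' (F.obj i) W V g
      (fun y hy => Opens.mem_iSup.2 ⟨⟨y, hy⟩, hyW ⟨y, hy⟩⟩) x x' hg
  rw [hx]

/-- injectivity on sections over a quasi-compact open -/
lemma inj_qc (V : Opens X) (hV : IsCompact (V : Set X)) (s s' : (P F).obj (op V))
    (h : (θ F).app (op V) s = (θ F).app (op V) s') : s = s' := by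
  obtain ⟨i, x, x', rfl, rfl⟩ := rep₂ F V s s'
  have hpt : ∀ y : V, ∃ (W : Opens X) (g : W ⟶ V), y.1 ∈ W ∧ ∃ (j : J) (f : i ⟶ j),
      (F.obj j).obj.map g.op ((F.map f).hom.app (op V) x) =
        (F.obj j).obj.map g.op ((F.map f).hom.app (op V) x') := by
    intro y
    obtain ⟨W, g, hyW, hg⟩ := loc_eq F V _ _ h y.1 y.2
    rw [inc_res, inc_res] at hg
    obtain ⟨j, f, hf⟩ := eq_of F W i _ _ hg
    refine ⟨W, g, hyW, j, f, ?_⟩
    rw [map_res, map_res, hf]
  choose W g hyW hjf using hpt
  obtain ⟨t, ht⟩ := hV.elim_finite_subcover (fun y : V => (W y : Set X)) (fun y => (W y).2)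
    (fun y hy => Set.mem_iUnion.2 ⟨⟨y, hy⟩, hyW ⟨y, hy⟩⟩)
  obtain ⟨j, f, hj⟩ := FiltFin.exists_common_arrow i
    (fun (k : t) j f => (F.obj j).obj.map (g k.1).op ((F.map f).hom.app (op V) x) =
        (F.obj j).obj.map (g k.1).op ((F.map f).hom.app (op V) x'))
    (by
      intro k j l f f' hP
      change (F.obj l).obj.map (g k.1).op ((F.map (f ≫ f')).hom.app (op V) x) =
        (F.obj l).obj.map (g k.1).op ((F.map (f ≫ f')).hom.app (op V) x')
      rw [map_comp_app, map_comp_app, map_res F f', map_res F f', hP])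
    (fun k => hjf k.1)
  have hx : (F.map f).hom.app (op V) x = (F.map f).hom.app (op V) x' :=
    TopCat.Sheaf.eq_of_locally_eq' (F.obj j) (fun k : t => W k.1) V (fun k => g k.1)
      (fun y hy => by
        obtain ⟨z, hz⟩ := Set.mem_iUnion.1 (ht hy)
        obtain ⟨hzt, hyz⟩ := Set.mem_iUnion.1 hz
        exact Opens.mem_iSup.2 ⟨⟨z, hzt⟩, hyz⟩) _ _ hj
  rw [← inc_map F f V x, ← inc_map F f V x', hx]

/-- surjectivity on sections, given a finite cover on which the section is in the image and with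
injectivity on the pairwise intersections -/
lemma surj_of {κ : Type*} [Finite κ] (V : Opens X)
    (t : (sheafify (Opens.grothendieckTopology X) (P F)).obj (op V))
    (W : κ → Opens X) (g : ∀ k, W k ⟶ V) (hcov : V ≤ iSup W)
    (hloc : ∀ k, ∃ s : (P F).obj (op (W k)),
      (θ F).app (op (W k)) s = (sheafify (Opens.grothendieckTopology X) (P F)).map (g k).op t)
    (hinj : ∀ (k k' : κ) (s s' : (P F).obj (op (W k ⊓ W k'))),
      (θ F).app (op (W k ⊓ W k')) s = (θ F).app (op (W k ⊓ W k')) s' → s = s') :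
    ∃ s : (P F).obj (op V), (θ F).app (op V) s = t := by
  choose sk hsk using hloc
  have hrep : ∃ i, ∀ k, ∃ x : (F.obj i).obj.obj (op (W k)), (inc F i).app (op (W k)) x = sk k :=
    FiltFin.exists_common_obj
      (fun k i => ∃ x : (F.obj i).obj.obj (op (W k)), (inc F i).app (op (W k)) x = sk k)
      (fun k i j f ⟨x, hx⟩ => ⟨(F.map f).hom.app _ x, (inc_map F f _ x).trans hx⟩)
      (fun k => by
        obtain ⟨i, x, hx⟩ := rep F _ (sk k)
        exact ⟨i, x, hx⟩)
  obtain ⟨i, hi⟩ := hrep
  choose x hx using hi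
  have hpair : ∀ kk : κ × κ, ∃ (j : J) (f : i ⟶ j),
      (F.obj j).obj.map (Opens.infLELeft (W kk.1) (W kk.2)).op ((F.map f).hom.app _ (x kk.1)) =
      (F.obj j).obj.map (Opens.infLERight (W kk.1) (W kk.2)).op ((F.map f).hom.app _ (x kk.2)) := by
    rintro ⟨k, k'⟩
    have e : (inc F i).app (op (W k ⊓ W k')) ((F.obj i).obj.map (Opens.infLELeft (W k) (W k')).op (x k)) =
        (inc F i).app (op (W k ⊓ W k')) ((F.obj i).obj.map (Opens.infLERight (W k) (W k')).op (x k')) := by
      apply hinj k k'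
      rw [← inc_res, ← inc_res, hx, hx, ← θ_res, ← θ_res, hsk, hsk]
      have e' : ∀ (k₀ : κ) (q : W k ⊓ W k' ⟶ W k₀),
          (sheafify (Opens.grothendieckTopology X) (P F)).map q.op
            ((sheafify (Opens.grothendieckTopology X) (P F)).map (g k₀).op t) =
          (sheafify (Opens.grothendieckTopology X) (P F)).map (q ≫ g k₀).op t := by
        intro k₀ q
        rw [op_comp, (sheafify (Opens.grothendieckTopology X) (P F)).map_comp]
        rfl
      rw [e', e']
      exact congrArg (fun q => (sheafify (Opens.grothendieckTopology X) (P F)).map (Quiver.Hom.op q) t)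
        (Subsingleton.elim _ _)
    obtain ⟨j, f, hf⟩ := eq_of F _ i _ _ e
    refine ⟨j, f, ?_⟩
    rw [map_res, map_res]
    exact hf
  obtain ⟨j, f, hj⟩ := FiltFin.exists_common_arrow i
    (fun (kk : κ × κ) j f =>
      (F.obj j).obj.map (Opens.infLELeft (W kk.1) (W kk.2)).op ((F.map f).hom.app _ (x kk.1)) =
      (F.obj j).obj.map (Opens.infLERight (W kk.1) (W kk.2)).op ((F.map f).hom.app _ (x kk.2)))
    (by
      intro kk j l f f' hP
      change (F.obj l).obj.map (Opens.infLELeft (W kk.1) (W kk.2)).op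
          ((F.map (f ≫ f')).hom.app _ (x kk.1)) =
        (F.obj l).obj.map (Opens.infLERight (W kk.1) (W kk.2)).op
          ((F.map (f ≫ f')).hom.app _ (x kk.2))
      rw [map_comp_app, map_comp_app, map_res F f', map_res F f', hP])
    hpair
  obtain ⟨τ, hτ, -⟩ := TopCat.Sheaf.existsUnique_gluing' (F.obj j) W V g hcov
    (fun k => (F.map f).hom.app _ (x k)) (fun k k' => hj (k, k'))
  refine ⟨(inc F j).app (op V) τ, ?_⟩
  apply TopCat.Sheaf.eq_of_locally_eq' (Ps F) W V g hcov
  intro k
  refine Eq.trans ?_ (hsk k)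
  refine (θ_res F (g k) _).trans ?_
  rw [inc_res, hτ, inc_map, hx]

section Transfer

variable (c : Cocone F) (hc : IsColimit c)

/-- the sheafified colimit cocone -/
noncomputable abbrev c₀ : Cocone F := Sheaf.sheafifyCocone (colimit.cocone (D F))

/-- it is a colimit -/
noncomputable def hc₀ : IsColimit (c₀ F) := Sheaf.isColimitSheafifyCocone _ (colimit.isColimit _)

/-- comparison with an arbitrary colimit cocone -/
noncomputable def e : (c₀ F).pt ≅ c.pt := (hc₀ F).coconePointUniqueUpToIso hc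

lemma c₀_ι_apply (i : J) (W : Opens X) (x : (F.obj i).obj.obj (op W)) :
    ((c₀ F).ι.app i).hom.app (op W) x = (θ F).app (op W) ((inc F i).app (op W) x) := by
  have h := Sheaf.sheafifyCocone_ι_app_val (colimit.cocone (D F)) i
  exact ConcreteCategory.congr_hom (NatTrans.congr_app h (op W)) x

lemma c_ι_apply (i : J) (W : Opens X) (x : (F.obj i).obj.obj (op W)) :
    (c.ι.app i).hom.app (op W) x =
      (e F c hc).hom.hom.app (op W) ((θ F).app (op W) ((inc F i).app (op W) x)) := by
  have h : (c₀ F).ι.app i ≫ (e F c hc).hom = c.ι.app i :=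
    IsColimit.comp_coconePointUniqueUpToIso_hom (hc₀ F) hc i
  have h' : ((c₀ F).ι.app i).hom ≫ (e F c hc).hom.hom = (c.ι.app i).hom :=
    congrArg (fun m => m.hom) h
  rw [← c₀_ι_apply]
  exact (ConcreteCategory.congr_hom (NatTrans.congr_app h' (op W)) x).symm

lemma e_injective (W : Opens X) : Function.Injective ((e F c hc).hom.hom.app (op W)) := by
  intro a b hab
  have h : (e F c hc).hom ≫ (e F c hc).inv = 𝟙 _ := (e F c hc).hom_inv_id
  have h' : (e F c hc).hom.hom ≫ (e F c hc).inv.hom = 𝟙 _ := congrArg (fun m => m.hom) h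
  have ha := ConcreteCategory.congr_hom (NatTrans.congr_app h' (op W)) a
  have hb := ConcreteCategory.congr_hom (NatTrans.congr_app h' (op W)) b
  have := congrArg ((e F c hc).inv.hom.app (op W)) hab
  exact ha.symm.trans (this.trans hb)

lemma e_surjective (W : Opens X) : Function.Surjective ((e F c hc).hom.hom.app (op W)) := by
  intro a
  have h : (e F c hc).inv ≫ (e F c hc).hom = 𝟙 _ := (e F c hc).inv_hom_id
  have h' : (e F c hc).inv.hom ≫ (e F c hc).hom.hom = 𝟙 _ := congrArg (fun m => m.hom) h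
  exact ⟨(e F c hc).inv.hom.app (op W) a, ConcreteCategory.congr_hom (NatTrans.congr_app h' (op W)) a⟩

end Transfer

section Psi

variable (c : Cocone F) (hc : IsColimit c) (U : Opens X)

/-- sections over `U` -/
noncomputable abbrev ev : X.Sheaf (Type u) ⥤ Type u :=
  TopCat.Sheaf.forget (Type u) X ⋙ (evaluation (Opens X)ᵒᵖ (Type u)).obj (op U)

/-- the comparison map -/
noncomputable abbrev Ψ : colimit (F ⋙ ev U) ⟶ (ev U).obj c.pt :=
  colimit.desc (F ⋙ ev U) ((ev U).mapCocone c)

lemma Ψ_ι (i : J) (x : (F.obj i).obj.obj (op U)) :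
    Ψ F c U (colimit.ι (F ⋙ ev U) i x) = (c.ι.app i).hom.app (op U) x :=
  ConcreteCategory.congr_hom (colimit.ι_desc ((ev U).mapCocone c) i) x

include hc in
theorem injective_Ψ
    (hinj : ∀ s s' : (P F).obj (op U), (θ F).app (op U) s = (θ F).app (op U) s' → s = s') :
    Function.Injective (Ψ F c U) := by
  intro a b hab
  obtain ⟨i, x, x', rfl, rfl⟩ :=
    Types.FilteredColimit.jointly_surjective_of_isColimit₂ (colimit.isColimit (F ⋙ ev U)) a b
  change Ψ F c U (colimit.ι (F ⋙ ev U) i x) = Ψ F c U (colimit.ι (F ⋙ ev U) i x') at hab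
  rw [Ψ_ι, Ψ_ι, c_ι_apply F c hc, c_ι_apply F c hc] at hab
  obtain ⟨j, f, hf⟩ := eq_of F U i x x' (hinj _ _ (e_injective F c hc U hab))
  exact (Types.FilteredColimit.isColimit_eq_iff' (colimit.isColimit (F ⋙ ev U)) x x').2 ⟨j, f, hf⟩

include hc in
theorem surjective_Ψ
    (hsurj : ∀ t : (sheafify (Opens.grothendieckTopology X) (P F)).obj (op U),
      ∃ s : (P F).obj (op U), (θ F).app (op U) s = t) :
    Function.Surjective (Ψ F c U) := by
  intro a
  obtain ⟨t, ht⟩ := e_surjective F c hc U a
  obtain ⟨s, hs⟩ := hsurj t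
  obtain ⟨i, x, hx⟩ := rep F U s
  refine ⟨colimit.ι (F ⋙ ev U) i x, ?_⟩
  rw [Ψ_ι, c_ι_apply F c hc, hx, hs, ht]

end Psi

end Groth.Agent.Helper3.ShSetColim
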