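import Mathlib
import Groth.Prelude.Def_CohCx
import Groth.Agent.Lib.Helper3.CohPre
import Groth.Agent.Lib.Helper3.CechSS
import Groth.Agent.Lib.Helper3.AcyClass
import Groth.Agent.Lib.Helper3.CovW
import Groth.Agent.Lib.Helper3.H0Iso
import Groth.Agent.Lib.Helper3.SpVan

set_option autoImplicit false
universe u
open CategoryTheory Limits Opposite

namespace Groth.Agent.Helper3.SieveAcy

variable {C : Type u} [SmallCategory C] (J : GrothendieckTopology C)

/-- free ⊣ forget for presheaves (sheaves for the trivial topology) -/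
noncomputable abbrev adjB : Sheaf.composeAndSheafify (⊥ : GrothendieckTopology C) AddCommGrpCat.free.{u} ⊣
    sheafCompose (⊥ : GrothendieckTopology C) (forget AddCommGrpCat.{u}) :=
  Sheaf.adjunction ⊥ AddCommGrpCat.adj.{u}

/-- a sieve as a sheaf of sets for the trivial topology -/
abbrev KR {X : C} (R : Sieve X) : Sheaf (⊥ : GrothendieckTopology C) (Type u) :=
  ⟨R.functor, Presheaf.isSheaf_bot _⟩

example {X : C} (R : Sieve X) :
    (Sheaf.composeAndSheafify (⊥ : GrothendieckTopology C) AddCommGrpCat.free.{u}).obj (KR R) =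
      CechSS.Abot R.functor := rfl

variable {J}

/-- the family of restrictions of a section, as a morphism out of the sieve -/
def famHom {X : C} (R : Sieve X) (M : Sheaf J AddCommGrpCat.{u}) (s : M.obj.obj (op X)) :
    KR R ⟶ (sheafCompose (⊥ : GrothendieckTopology C) (forget AddCommGrpCat.{u})).obj
      ((CohPre.T C J).obj M) :=
  ⟨{ app := fun V => TypeCat.ofHom fun f => M.obj.map f.1.op s
     naturality := by
      intro V W h
      ext f
      change M.obj.map (h.unop ≫ f.1).op s = M.obj.map h (M.obj.map f.1.op s)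
      rw [op_comp, M.obj.map_comp]
      rfl }⟩

lemma famHom_apply {X : C} (R : Sieve X) (M : Sheaf J AddCommGrpCat.{u}) (s : M.obj.obj (op X))
    (V : Cᵒᵖ) (f : R.functor.obj V) : (famHom R M s).hom.app V f = M.obj.map f.1.op s := rfl

lemma zero_hom_app_apply {M N : Sheaf (⊥ : GrothendieckTopology C) AddCommGrpCat.{u}} (V : Cᵒᵖ)
    (y : M.obj.obj V) : (0 : M ⟶ N).hom.app V y = 0 := rfl

/-- the family of restrictions of `s`, over the sieve where `s` lifts, lifts to `S.X₂` if
`Ext¹(ℤ[R], S.X₁)` vanishes -/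
theorem exists_family_lift (S : ShortComplex (Sheaf J AddCommGrpCat.{u})) (hS : S.ShortExact)
    {U : C} (s : S.X₃.obj.obj (op U))
    (h1 : ∀ x : Abelian.Ext.{u} (CechSS.Abot (Presheaf.imageSieve S.g.hom s).functor)
      ((CohPre.T C J).obj S.X₁) 1, x = 0) :
    ∃ τ : CechSS.Abot (Presheaf.imageSieve S.g.hom s).functor ⟶ (CohPre.T C J).obj S.X₂,
      τ ≫ (CohPre.T C J).map S.g =
        (adjB.homEquiv (KR (Presheaf.imageSieve S.g.hom s)) ((CohPre.T C J).obj S.X₃)).symm
          (famHom (Presheaf.imageSieve S.g.hom s) S.X₃ s) := by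
  let R : Sieve U := Presheaf.imageSieve S.g.hom s
  let T := CohPre.T C J
  let A := CechSS.Abot R.functor
  let σ' := famHom R S.X₃ s
  let σ : A ⟶ T.obj S.X₃ := (adjB.homEquiv (KR R) (T.obj S.X₃)).symm σ'
  let g' := T.map S.g
  let c := cokernel.π g'
  have hσc : σ ≫ c = 0 := by
    apply (adjB.homEquiv (KR R) _).injective
    rw [Adjunction.homEquiv_naturality_right, Equiv.apply_symm_apply]
    have h0 : (0 : A ⟶ cokernel g') = σ ≫ 0 := comp_zero.symm
    rw [h0, Adjunction.homEquiv_naturality_right, Equiv.apply_symm_apply]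
    ext V f
    obtain ⟨t, ht⟩ := f.2
    change c.hom.app V (S.X₃.obj.map f.1.op s) =
      (0 : T.obj S.X₃ ⟶ cokernel g').hom.app V (S.X₃.obj.map f.1.op s)
    rw [zero_hom_app_apply, ← ht]
    have hz : g' ≫ c = 0 := cokernel.condition g'
    have h2 : (g' ≫ c).hom.app V t = (0 : T.obj S.X₂ ⟶ cokernel g').hom.app V t := by rw [hz]
    rw [zero_hom_app_apply] at h2
    exact h2
  have he'ι' : Abelian.factorThruImage g' ≫ Abelian.image.ι g' = g' := Abelian.image.fac g'
  let σ'' : A ⟶ Abelian.image g' := kernel.lift c σ hσc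
  have hσ'' : σ'' ≫ Abelian.image.ι g' = σ := kernel.lift_ι _ _ _
  let S' : ShortComplex (Sheaf (⊥ : GrothendieckTopology C) AddCommGrpCat.{u}) :=
    ShortComplex.mk (T.map S.f) (Abelian.factorThruImage g') (by
      rw [← cancel_mono (Abelian.image.ι g'), Category.assoc, he'ι', zero_comp, ← T.map_comp,
        S.zero, T.map_zero])
  have hmono : Mono (T.map S.f) := by
    have := hS.mono_f
    infer_instance
  have hST : (S.map T).Exact :=
    hS.exact.map_of_mono_of_preservesKernel T hS.mono_f inferInstance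
  let φ : S' ⟶ S.map T :=
    { τ₁ := 𝟙 _
      τ₂ := 𝟙 _
      τ₃ := Abelian.image.ι g'
      comm₁₂ := (Category.id_comp _).trans (Category.comp_id _).symm
      comm₂₃ := (Category.id_comp _).trans he'ι'.symm }
  have hφ1 : Epi φ.τ₁ := by
    change Epi (𝟙 ((CohPre.T C J).obj S.X₁))
    infer_instance
  have hφ2 : IsIso φ.τ₂ := by
    change IsIso (𝟙 ((CohPre.T C J).obj S.X₂))
    infer_instance
  have hφ3 : Mono φ.τ₃ := by
    change Mono (Abelian.image.ι ((CohPre.T C J).map S.g))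
    infer_instance
  have hS'ex : S'.Exact :=
    (ShortComplex.exact_iff_of_epi_of_isIso_of_mono φ).2 hST
  have hS' : S'.ShortExact :=
    { exact := hS'ex
      mono_f := hmono
      epi_g := by dsimp [S']; infer_instance }
  have hx : (Abelian.Ext.mk₀ σ'').comp hS'.extClass (zero_add 1) = 0 := h1 _
  obtain ⟨x₂, hx₂⟩ := Abelian.Ext.covariant_sequence_exact₃ A hS' (Abelian.Ext.mk₀ σ'') (zero_add 1) hx
  obtain ⟨τ, rfl⟩ := (Abelian.Ext.mk₀_bijective _ _).2 x₂
  rw [Abelian.Ext.mk₀_comp_mk₀] at hx₂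
  have hτ : τ ≫ Abelian.factorThruImage g' = σ'' := (Abelian.Ext.mk₀_bijective _ _).1 hx₂
  refine ⟨τ, ?_⟩
  change τ ≫ g' = σ
  rw [← he'ι', ← Category.assoc, hτ, hσ'']

/-- if `Ext¹(ℤ[R], S.X₁)` vanishes for all covering sieves then `S.g` is surjective on sections -/
theorem surjective_of_ext_one (S : ShortComplex (Sheaf J AddCommGrpCat.{u})) (hS : S.ShortExact)
    (h1 : ∀ (X : C) (R : Sieve X), R ∈ J X →
      ∀ x : Abelian.Ext.{u} (CechSS.Abot R.functor) ((CohPre.T C J).obj S.X₁) 1, x = 0)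
    (U : C) : Function.Surjective (S.g.hom.app (op U)) := by
  intro s
  have := hS.epi_g
  have hls : Presheaf.IsLocallySurjective J S.g.hom :=
    (Sheaf.isLocallySurjective_iff_epi' (φ := S.g)).2 inferInstance
  let R := Presheaf.imageSieve S.g.hom s
  have hR : R ∈ J U := Presheaf.imageSieve_mem J S.g.hom s
  obtain ⟨τ, hτ⟩ := exists_family_lift S hS s (h1 U R hR)
  let τ' := adjB.homEquiv (KR R) _ τ
  have hτ' : τ' ≫ (sheafCompose (⊥ : GrothendieckTopology C) (forget AddCommGrpCat.{u})).map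
      ((CohPre.T C J).map S.g) = famHom R S.X₃ s := by
    rw [← Adjunction.homEquiv_naturality_right, hτ, Equiv.apply_symm_apply]
  let x : Presieve.FamilyOfElements (S.X₂.obj ⋙ forget AddCommGrpCat.{u}) R.arrows :=
    fun V f hf => τ'.hom.app (op V) ⟨f, hf⟩
  have hx : x.Compatible := by
    intro V₁ V₂ W g₁ g₂ f₁ f₂ h₁ h₂ e
    have n1 := ConcreteCategory.congr_hom (τ'.hom.naturality g₁.op) ⟨f₁, h₁⟩
    have n2 := ConcreteCategory.congr_hom (τ'.hom.naturality g₂.op) ⟨f₂, h₂⟩
    have key : (KR R).obj.map g₁.op ⟨f₁, h₁⟩ = (KR R).obj.map g₂.op ⟨f₂, h₂⟩ := by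
      apply Subtype.ext
      exact e
    change τ'.hom.app (op W) ((KR R).obj.map g₁.op ⟨f₁, h₁⟩) = _ at n1
    change τ'.hom.app (op W) ((KR R).obj.map g₂.op ⟨f₂, h₂⟩) = _ at n2
    exact n1.symm.trans ((congrArg (τ'.hom.app (op W)) key).trans n2)
  have hsh2 : Presieve.IsSheaf J (S.X₂.obj ⋙ forget AddCommGrpCat.{u}) :=
    (isSheaf_iff_isSheaf_of_type J _).1
      ((sheafCompose J (forget AddCommGrpCat.{u})).obj S.X₂).property
  have hsh3 : Presieve.IsSheaf J (S.X₃.obj ⋙ forget AddCommGrpCat.{u}) :=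
    (isSheaf_iff_isSheaf_of_type J _).1
      ((sheafCompose J (forget AddCommGrpCat.{u})).obj S.X₃).property
  obtain ⟨t, ht, -⟩ := hsh2 R hR x hx
  refine ⟨t, ?_⟩
  refine (hsh3 R hR).isSeparatedFor.ext ?_
  intro V f hf
  have h3 := congrArg (fun m => m.hom.app (op V) ⟨f, hf⟩) hτ'
  have h4 : S.X₂.obj.map f.op t = x f hf := ht f hf
  have h5 : S.g.hom.app (op V) (x f hf) = S.X₃.obj.map f.op s := h3
  change S.X₃.obj.map f.op (S.g.hom.app (op U) t) = S.X₃.obj.map f.op s
  rw [← h5, ← h4]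
  exact (ConcreteCategory.congr_hom (S.g.hom.naturality f.op) t).symm

/-- a short exact sequence of sheaves which is surjective on sections is short exact as a
sequence of presheaves -/
theorem shortExact_T (S : ShortComplex (Sheaf J AddCommGrpCat.{u})) (hS : S.ShortExact)
    (hsurj : ∀ U : C, Function.Surjective (S.g.hom.app (op U))) :
    (S.map (CohPre.T C J)).ShortExact := by
  have hmono : Mono ((CohPre.T C J).map S.f) := by
    have := hS.mono_f
    infer_instance
  have hex : (S.map (CohPre.T C J)).Exact :=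
    hS.exact.map_of_mono_of_preservesKernel (CohPre.T C J) hS.mono_f inferInstance
  have hls : Presheaf.IsLocallySurjective (⊥ : GrothendieckTopology C) ((CohPre.T C J).map S.g).hom :=
    Presheaf.isLocallySurjective_of_surjective _ _ (fun V => hsurj V.unop)
  have hepi : Epi ((CohPre.T C J).map S.g) :=
    (Sheaf.isLocallySurjective_iff_epi' (φ := (CohPre.T C J).map S.g)).1 hls
  exact { exact := hex, mono_f := hmono, epi_g := hepi }

variable (J) in
/-- vanishing of the higher `Ext` groups out of the free abelian presheaves on covering sieves -/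
def Pc (M : Sheaf J AddCommGrpCat.{u}) : Prop :=
  ∀ (X : C) (R : Sieve X), R ∈ J X → ∀ (q : ℕ)
    (x : Abelian.Ext.{u} (CechSS.Abot R.functor) ((CohPre.T C J).obj M) (q + 1)), x = 0

theorem pc_closure (S : ShortComplex (Sheaf J AddCommGrpCat.{u})) (hS : S.ShortExact)
    (h1 : Pc J S.X₁) (h2 : Injective S.X₂) :
    Pc J S.X₃ ∧ ∀ U : C, Function.Surjective (S.g.hom.app (op U)) := by
  have hsurj := surjective_of_ext_one S hS (fun X R hR x => h1 X R hR 0 x)
  refine ⟨?_, hsurj⟩
  have hST := shortExact_T S hS hsurj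
  intro X R hR q x₃
  have hx₃ : x₃.comp hST.extClass (rfl : q + 1 + 1 = q + 1 + 1) = 0 := h1 X R hR (q + 1) _
  obtain ⟨x₂, hx₂⟩ := Abelian.Ext.covariant_sequence_exact₃ (CechSS.Abot R.functor) hST x₃ rfl hx₃
  have : Injective (S.map (CohPre.T C J)).X₂ := (CohPre.T C J).injective_obj_of_injective h2
  have hx₂0 : x₂ = 0 := Abelian.Ext.eq_zero_of_injective x₂
  rw [← hx₂, hx₂0]
  exact Abelian.Ext.zero_comp (CechSS.Abot R.functor) (q + 1)
    (Abelian.Ext.mk₀ (S.map (CohPre.T C J)).g) _ _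

/-- sheaves with vanishing higher `Ext` out of covering sieves are acyclic on all objects -/
theorem acyclic_of_pc (F : Sheaf J AddCommGrpCat.{u}) (hF : Pc J F) (U : C) (q : ℕ) :
    Subsingleton (CohSite.HU F (q + 1) U) := by
  refine ⟨fun x y => ?_⟩
  have h := AcyClass.ext_eq_zero (CohCx.freeSheaf J U) (Pc J) (by
    intro S hS h1 h2
    obtain ⟨h3, hsurj⟩ := pc_closure S hS h1 h2
    refine ⟨h3, fun ψ => ?_⟩
    obtain ⟨t, ht⟩ := hsurj U (CohFree.homEquivSect J U S.X₃ ψ)
    refine ⟨(CohFree.homEquivSect J U S.X₂).symm t, ?_⟩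
    apply (CohFree.homEquivSect J U S.X₃).injective
    rw [← ht]
    have h4 : CohFree.homEquivSect J U S.X₂ ((CohFree.homEquivSect J U S.X₂).symm t) = t :=
      AddEquiv.apply_symm_apply _ _
    exact congrArg (S.g.hom.app (op U)) h4) q F hF
  exact (h x).trans (h y).symm

/-- `Ext` into a zero object vanishes -/
lemma ext_eq_zero_of_isZero {𝒜 : Type*} [Category 𝒜] [Abelian 𝒜] [HasExt.{u} 𝒜] {A Z : 𝒜}
    (hZ : IsZero Z) (n : ℕ) (x : Abelian.Ext.{u} A Z n) : x = 0 := by
  have h1 : x = x.comp (Abelian.Ext.mk₀ (𝟙 Z)) (add_zero n) := (Abelian.Ext.comp_mk₀_id x).symm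
  rw [h1, hZ.eq_of_src (𝟙 Z) 0, Abelian.Ext.mk₀_zero, Abelian.Ext.comp_zero]

/-- acyclic sheaves have vanishing higher `Ext` out of covering sieves -/
theorem pc_of_acyclic (F : Sheaf J AddCommGrpCat.{u})
    (hF : ∀ (X : C) (q : ℕ), Subsingleton (CohSite.HU F (q + 1) X)) : Pc J F := by
  intro X R hR q x
  obtain ⟨E, a, hfin, hbdd, hE⟩ := CechSS.main J R.functor (CohCx.freeSheaf J X)
    (CovW.freeSieveIso J R hR).symm F
  have hz : ∀ p q' : ℤ, q' ≠ 0 → IsZero ((E.page 2 le_rfl).X (p, q')) := by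
    intro p q' hq'
    obtain ⟨e⟩ := hE p q'
    refine IsZero.of_iso ?_ e
    split_ifs with hpq
    · obtain ⟨m, rfl⟩ : ∃ m : ℕ, q' = (m : ℤ) + 1 := ⟨(q' - 1).toNat, by omega⟩
      have hm : ((m : ℤ) + 1).toNat = m + 1 := by omega
      rw [hm]
      have hzero : IsZero ((PShInst.botF C).obj (F.cohomologyPresheaf (m + 1))) := by
        apply Functor.map_isZero
        apply Functor.isZero
        intro V
        exact @AddCommGrpCat.isZero_of_subsingleton _ (hF V.unop m)
      have : Subsingleton (Abelian.Ext.{u} (CechSS.Abot R.functor)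
          ((PShInst.botF C).obj (F.cohomologyPresheaf (m + 1))) p.toNat) :=
        ⟨fun x y => (ext_eq_zero_of_isZero hzero _ x).trans (ext_eq_zero_of_isZero hzero _ y).symm⟩
      exact AddCommGrpCat.isZero_of_subsingleton _
    · exact AddCommGrpCat.isZero_of_subsingleton _
  obtain ⟨e1⟩ := SpVan.iso_row0 E a 2 le_rfl le_rfl ((q + 1 : ℕ) : ℤ) (hfin _) hz
  obtain ⟨e2⟩ := hE ((q + 1 : ℕ) : ℤ) 0
  rw [if_pos (by omega)] at e1
  rw [if_pos (by omega)] at e2
  simp only [Int.toNat_natCast, Int.toNat_zero] at e1 e2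
  have e3 := (Abelian.extFunctorObj (CechSS.Abot R.functor) (q + 1)).mapIso
    ((PShInst.botF C).mapIso (H0Iso.iso J F))
  have hz0 : IsZero (AddCommGrpCat.of (Abelian.Ext.{u} (CohCx.freeSheaf J X) F (q + 1))) :=
    @AddCommGrpCat.isZero_of_subsingleton _ (hF X q)
  have hz1 : IsZero (AddCommGrpCat.of (Abelian.Ext.{u} (CechSS.Abot R.functor)
      ((CohPre.T C J).obj F) (q + 1))) :=
    hz0.of_iso (e3.symm ≪≫ e2.symm ≪≫ e1.symm)
  have := AddCommGrpCat.subsingleton_of_isZero hz1
  exact Subsingleton.elim _ _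

end Groth.Agent.Helper3.SieveAcy
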