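import Mathlib
import Groth.Agent.Lib.Helper3.AbHomol

set_option autoImplicit false
universe u
open CategoryTheory CategoryTheory.Limits Opposite Simplicial AlgebraicTopology
  AlgebraicTopology.DoldKan

namespace Groth.Agent.Helper3.SimpAb

open AbHomol

variable (X : SimplicialObject AddCommGrpCat.{u})

/-- the alternating face map complex -/
noncomputable abbrev KK : ChainComplex AddCommGrpCat.{u} ℕ :=
  (alternatingFaceMapComplex AddCommGrpCat.{u}).obj X

lemma sum_apply {A B : AddCommGrpCat.{u}} {κ : Type*} (s : Finset κ) (g : κ → (A ⟶ B)) (x : A) :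
    (∑ i ∈ s, g i) x = ∑ i ∈ s, (g i) x := by
  classical
  induction s using Finset.induction_on with
  | empty => simp
  | insert a s ha ih =>
    rw [Finset.sum_insert ha, Finset.sum_insert ha, ← ih]
    rfl

lemma d_apply (n : ℕ) (x : X _⦋n + 1⦌) :
    (KK X).d (n + 1) n x = ∑ i : Fin (n + 2), (-1 : ℤ) ^ (i : ℕ) • (X.δ i x) := by
  have h : (KK X).d (n + 1) n = ∑ i : Fin (n + 2), (-1 : ℤ) ^ (i : ℕ) • X.δ i :=
    AlternatingFaceMapComplex.obj_d_eq X n
  rw [h, sum_apply]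
  rfl

/-- if the higher faces vanish then the differential is the zeroth face -/
lemma d_apply_of_faces (n : ℕ) (w : X _⦋n + 1⦌) (hw : ∀ i : Fin (n + 1), X.δ i.succ w = 0) :
    (KK X).d (n + 1) n w = X.δ 0 w := by
  rw [d_apply, Fin.sum_univ_succ]
  simp only [Fin.val_zero, pow_zero, one_smul]
  rw [Finset.sum_eq_zero, add_zero]
  intro i _
  rw [hw i, smul_zero]

/-- higher faces of `PInfty` vanish -/
lemma PInfty_faces (n : ℕ) (w : X _⦋n + 1⦌) (i : Fin (n + 1)) :
    X.δ i.succ ((PInfty.f (n + 1) : X _⦋n + 1⦌ ⟶ X _⦋n + 1⦌) w) = 0 := by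
  have h := HigherFacesVanish.of_P (X := X) (n + 1) n i (by omega)
  rw [← PInfty_f] at h
  have := congrArg (fun m => m w) h
  exact this

/-- `PInfty` is the identity up to a boundary on cycles -/
lemma PInfty_cycle (j k : ℕ) (hk : (ComplexShape.down ℕ).next j = k) (x : (KK X).X j)
    (hx : (KK X).d j k x = 0) :
    ∃ v : X _⦋j + 1⦌, (PInfty.f j : (KK X).X j ⟶ (KK X).X j) x = x + (KK X).d (j + 1) j v := by
  obtain ⟨v, hv⟩ := homotopy_apply (homotopyPInftyToId X) (j + 1) j k (by simp) hk x hx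
  exact ⟨v, hv⟩


/-- the underlying simplicial set -/
abbrev UU : SSet.{u} := X ⋙ forget AddCommGrpCat.{u}

/-- the free simplicial abelian group functor -/
noncomputable abbrev WW : SSet.{u} ⥤ SimplicialObject AddCommGrpCat.{u} :=
  (SimplicialObject.whiskering (Type u) AddCommGrpCat.{u}).obj AddCommGrpCat.free

/-- the free simplicial abelian group on the underlying simplicial set -/
noncomputable abbrev FF : SimplicialObject AddCommGrpCat.{u} := (WW).obj (UU X)

/-- generators of `FF X` -/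
noncomputable def gen {n : SimplexCategoryᵒᵖ} (x : X.obj n) : (FF X).obj n := FreeAbelianGroup.of x

lemma FF_map_gen {n m : SimplexCategoryᵒᵖ} (θ : n ⟶ m) (x : X.obj n) :
    (FF X).map θ (gen X x) = gen X (X.map θ x) := by
  change FreeAbelianGroup.map _ (FreeAbelianGroup.of x) = _
  rw [FreeAbelianGroup.map_of_apply]
  rfl

lemma FF_δ_gen {n : ℕ} (i : Fin (n + 2)) (x : X _⦋n + 1⦌) :
    (FF X).δ i (gen X x) = gen X (X.δ i x) := FF_map_gen X _ x

/-- the augmentation `ℤ[X] ⟶ X` -/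
noncomputable def eps : FF X ⟶ X where
  app n := cov (X.obj n)
  naturality n m θ := by
    apply fr_hom_ext
    intro a
    change (cov (X.obj m)) ((FF X).map θ (gen X a)) = X.map θ (cov (X.obj n) (FreeAbelianGroup.of a))
    rw [FF_map_gen, cov_apply]
    exact cov_apply _ _

lemma eps_gen {n : SimplexCategoryᵒᵖ} (x : X.obj n) : (eps X).app n (gen X x) = x :=
  cov_apply _ _

/-- the Hurewicz element attached to `x` -/
noncomputable def hur {n : SimplexCategoryᵒᵖ} (x : X.obj n) : (FF X).obj n := gen X x - gen X 0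

lemma eps_hur {n : SimplexCategoryᵒᵖ} (x : X.obj n) : (eps X).app n (hur X x) = x := by
  unfold hur
  rw [map_sub, eps_gen, eps_gen, sub_zero]

lemma FF_δ_hur {n : ℕ} (i : Fin (n + 2)) (x : X _⦋n + 1⦌) :
    (FF X).δ i (hur X x) = hur X (X.δ i x) := by
  unfold hur
  rw [map_sub, FF_δ_gen, FF_δ_gen, map_zero]

lemma hur_zero {n : SimplexCategoryᵒᵖ} : hur X (0 : X.obj n) = 0 := sub_self _

/-- `hur` of an element with vanishing higher faces -/
lemma d_hur (n : ℕ) (w : X _⦋n + 1⦌) (hw : ∀ i : Fin (n + 1), X.δ i.succ w = 0) :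
    (KK (FF X)).d (n + 1) n (hur X w) = hur X (X.δ 0 w) := by
  apply (d_apply_of_faces (FF X) n (hur X w) ?_).trans (FF_δ_hur X 0 w)
  intro i
  rw [FF_δ_hur, hw, hur_zero]

/-- `hur` of a normalized element is a cycle -/
lemma d_hur_of_normalized (n : ℕ) (w : X _⦋n + 1⦌) (hw : ∀ i : Fin (n + 2), X.δ i w = 0) :
    (KK (FF X)).d (n + 1) n (hur X w) = 0 := by
  rw [d_hur X n w (fun i => hw i.succ), hw 0, hur_zero]


/-- a cycle is homologous to a normalized one, whose Hurewicz element is a cycle -/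
lemma norm_rep (j k : ℕ) (hk : (ComplexShape.down ℕ).next j = k) (x : (KK X).X j)
    (hx : (KK X).d j k x = 0) :
    (∃ v : X _⦋j + 1⦌,
      (PInfty.f j : (KK X).X j ⟶ (KK X).X j) x = x + (KK X).d (j + 1) j v) ∧
    (KK (FF X)).d j k (hur X ((PInfty.f j : (KK X).X j ⟶ (KK X).X j) x)) = 0 := by
  refine ⟨PInfty_cycle X j k hk x hx, ?_⟩
  cases j with
  | zero =>
    obtain rfl : k = 0 := by rw [← hk]; exact ChainComplex.next_nat_zero
    rw [(KK (FF X)).shape 0 0 (by simp)]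
    rfl
  | succ m =>
    have hkm : m = k := by rw [← hk]; exact (ChainComplex.next_nat_succ m).symm
    subst hkm
    apply d_hur_of_normalized
    have hhigh : ∀ i : Fin (m + 1),
        X.δ i.succ ((PInfty.f (m + 1) : X _⦋m + 1⦌ ⟶ X _⦋m + 1⦌) x) = 0 :=
      fun i => PInfty_faces X m x i
    have h0 : X.δ 0 ((PInfty.f (m + 1) : X _⦋m + 1⦌ ⟶ X _⦋m + 1⦌) x) = 0 := by
      rw [← d_apply_of_faces X m _ hhigh]
      have := comm_apply (PInfty : KK X ⟶ KK X) (m + 1) m x
      refine this.symm.trans ?_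
      exact (congrArg _ hx).trans (map_zero _)
    intro i
    refine Fin.cases h0 (fun i => hhigh i) i

variable {X} {Y : SimplicialObject AddCommGrpCat.{u}} (f : X ⟶ Y)

/-- the underlying map of simplicial sets -/
abbrev Uf : UU X ⟶ UU Y := Functor.whiskerRight f (forget AddCommGrpCat.{u})

lemma WW_map_gen (g : UU Y ⟶ UU X) {n : SimplexCategoryᵒᵖ} (y : Y.obj n) :
    ((WW).map g).app n (gen Y y) = gen X (g.app n y) := by
  change FreeAbelianGroup.map _ (FreeAbelianGroup.of y) = _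
  rw [FreeAbelianGroup.map_of_apply]
  rfl

lemma WW_map_Uf_hur {n : SimplexCategoryᵒᵖ} (x : X.obj n) :
    ((WW).map (Uf f)).app n (hur X x) = hur Y (f.app n x) := by
  unfold hur
  rw [map_sub, WW_map_gen, WW_map_gen]
  change gen Y (f.app n x) - gen Y (f.app n 0) = _
  rw [map_zero]

lemma eps_naturality : (WW).map (Uf f) ≫ eps Y = eps X ≫ f := by
  apply NatTrans.ext
  funext n
  apply fr_hom_ext
  intro a
  change (eps Y).app n (((WW).map (Uf f)).app n (gen X a)) = f.app n ((eps X).app n (gen X a))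
  rw [WW_map_gen, eps_gen, eps_gen]
  rfl

lemma eps_naturality_apply {n : SimplexCategoryᵒᵖ} (z : (FF X).obj n) :
    (eps Y).app n (((WW).map (Uf f)).app n z) = f.app n ((eps X).app n z) := by
  have := congrArg (fun m => m.app n z) (eps_naturality f)
  exact this

/-- the chain complex functor -/
noncomputable abbrev CC := alternatingFaceMapComplex AddCommGrpCat.{u}

/-- homotopic maps of simplicial sets agree up to boundaries on cycles of the free
simplicial abelian groups -/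
lemma htpy_bdry {S T : SSet.{u}} {a b : S ⟶ T}
    (H : Nonempty (SSet.Homotopy a b) ∨ Nonempty (SSet.Homotopy b a))
    (j k : ℕ) (hk : (ComplexShape.down ℕ).next j = k)
    (z : (KK ((WW).obj S)).X j) (hz : (KK ((WW).obj S)).d j k z = 0) :
    ∃ v : ((WW).obj T) _⦋j + 1⦌,
      ((CC).map ((WW).map a)).f j z =
        ((CC).map ((WW).map b)).f j z + (KK ((WW).obj T)).d (j + 1) j v := by
  rcases H with H | H
  · obtain ⟨H⟩ := H
    exact homotopy_apply
      ((H.toSimplicialObjectHomotopy.whiskerRight AddCommGrpCat.free).toChainHomotopy)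
      (j + 1) j k (by simp) hk z hz
  · obtain ⟨H⟩ := H
    obtain ⟨v, hv⟩ := homotopy_apply
      ((H.toSimplicialObjectHomotopy.whiskerRight AddCommGrpCat.free).toChainHomotopy)
      (j + 1) j k (by simp) hk z hz
    refine ⟨-v, ?_⟩
    rw [map_neg]
    exact eq_add_neg_of_add_eq hv.symm


theorem main (g : UU Y ⟶ UU X)
    (hX : Nonempty (SSet.Homotopy (Uf f ≫ g) (𝟙 _)) ∨ Nonempty (SSet.Homotopy (𝟙 _) (Uf f ≫ g)))
    (hY : Nonempty (SSet.Homotopy (g ≫ Uf f) (𝟙 _)) ∨ Nonempty (SSet.Homotopy (𝟙 _) (g ≫ Uf f))) :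
    QuasiIso ((CC).map f) := by
  rw [quasiIso_iff]
  intro j
  rw [quasiIsoAt_iff_isIso_homologyMap]
  obtain ⟨k, hk⟩ : ∃ k, (ComplexShape.down ℕ).next j = k := ⟨_, rfl⟩
  apply isIso_homologyMap_of ((CC).map f) (j + 1) j k (by simp) hk
  · -- injectivity
    intro x hx y hy
    obtain ⟨⟨v₀, hv₀⟩, hz⟩ := norm_rep X j k hk x hx
    generalize hx' : (PInfty.f j : (KK X).X j ⟶ (KK X).X j) x = x' at hv₀ hz
    have hw : ∀ i : Fin (j + 1),
        Y.δ i.succ ((PInfty.f (j + 1) : Y _⦋j + 1⦌ ⟶ Y _⦋j + 1⦌) y) = 0 :=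
      fun i => PInfty_faces Y j y i
    generalize hw' : (PInfty.f (j + 1) : Y _⦋j + 1⦌ ⟶ Y _⦋j + 1⦌) y = w at hw
    have hfx' : f.app (op ⦋j⦌) x' = Y.δ 0 w := by
      have h1 : f.app (op ⦋j⦌) x' =
          (PInfty.f j : (KK Y).X j ⟶ (KK Y).X j) (f.app (op ⦋j⦌) x) := by
        rw [← hx']
        have := congrArg (fun m => m x) (PInfty_f_naturality j f)
        exact this.symm
      have h2 : f.app (op ⦋j⦌) x = (KK Y).d (j + 1) j y := hy
      have h3 := comm_apply (PInfty : KK Y ⟶ KK Y) (j + 1) j y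
      rw [h1, h2]
      refine h3.trans ?_
      rw [hw']
      exact d_apply_of_faces Y j w hw
    have hφz : ((WW).map (Uf f)).app (op ⦋j⦌) (hur X x') =
        (KK (FF Y)).d (j + 1) j (hur Y w) := by
      rw [WW_map_Uf_hur, hfx', d_hur Y j w hw]
    obtain ⟨v₁, hv₁⟩ := htpy_bdry hX j k hk (hur X x') hz
    have e1 : ((CC).map ((WW).map (Uf f ≫ g))).f j (hur X x') =
        ((WW).map g).app (op ⦋j⦌) (((WW).map (Uf f)).app (op ⦋j⦌) (hur X x')) := by
      rw [Functor.map_comp]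
      rfl
    have e2 : ((CC).map ((WW).map (𝟙 (UU X)))).f j (hur X x') = hur X x' := by
      have h1 : (WW).map (𝟙 (UU X)) = 𝟙 _ := (WW).map_id _
      rw [h1, (CC).map_id]
      rfl
    have e3 : ((WW).map g).app (op ⦋j⦌) ((KK (FF Y)).d (j + 1) j (hur Y w)) =
        (KK (FF X)).d (j + 1) j (((WW).map g).app (op ⦋j + 1⦌) (hur Y w)) :=
      comm_apply ((CC).map ((WW).map g)) (j + 1) j (hur Y w)
    rw [e1, e2, hφz, e3] at hv₁
    -- hur X x' = d (γ (hur Y w)) - d v₁
    have hzb : hur X x' = (KK (FF X)).d (j + 1) j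
        (((WW).map g).app (op ⦋j + 1⦌) (hur Y w) - v₁) := by
      rw [map_sub, hv₁, add_sub_cancel_right]
    have e4 : (eps X).app (op ⦋j⦌) ((KK (FF X)).d (j + 1) j
        (((WW).map g).app (op ⦋j + 1⦌) (hur Y w) - v₁)) =
        (KK X).d (j + 1) j ((eps X).app (op ⦋j + 1⦌)
          (((WW).map g).app (op ⦋j + 1⦌) (hur Y w) - v₁)) :=
      comm_apply ((CC).map (eps X)) (j + 1) j _
    have hx'b : x' = (KK X).d (j + 1) j ((eps X).app (op ⦋j + 1⦌)
          (((WW).map g).app (op ⦋j + 1⦌) (hur Y w) - v₁)) := by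
      rw [← e4, ← hzb, eps_hur]
    refine ⟨(eps X).app (op ⦋j + 1⦌) (((WW).map g).app (op ⦋j + 1⦌) (hur Y w) - v₁) - v₀, ?_⟩
    rw [map_sub, ← hx'b, hv₀, add_sub_cancel_right]
  · -- surjectivity
    intro y hy
    obtain ⟨⟨v₀, hv₀⟩, hz⟩ := norm_rep Y j k hk y hy
    generalize hy' : (PInfty.f j : (KK Y).X j ⟶ (KK Y).X j) y = y' at hv₀ hz
    obtain ⟨v₁, hv₁⟩ := htpy_bdry hY j k hk (hur Y y') hz
    have e1 : ((CC).map ((WW).map (g ≫ Uf f))).f j (hur Y y') =
        ((WW).map (Uf f)).app (op ⦋j⦌) (((WW).map g).app (op ⦋j⦌) (hur Y y')) := by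
      rw [Functor.map_comp]
      rfl
    have e2 : ((CC).map ((WW).map (𝟙 (UU Y)))).f j (hur Y y') = hur Y y' := by
      have h1 : (WW).map (𝟙 (UU Y)) = 𝟙 _ := (WW).map_id _
      rw [h1, (CC).map_id]
      rfl
    rw [e1, e2] at hv₁
    refine ⟨(eps X).app (op ⦋j⦌) (((WW).map g).app (op ⦋j⦌) (hur Y y')), ?_,
      -(v₀ + (eps Y).app (op ⦋j + 1⦌) v₁), ?_⟩
    · have c1 := comm_apply ((CC).map (eps X)) j k (((WW).map g).app (op ⦋j⦌) (hur Y y'))
      have c2 := comm_apply ((CC).map ((WW).map g)) j k (hur Y y')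
      refine c1.symm.trans ?_
      refine (congrArg _ c2.symm).trans ?_
      rw [hz, map_zero, map_zero]
    · have n1 := eps_naturality_apply f (((WW).map g).app (op ⦋j⦌) (hur Y y'))
      have c3 : (eps Y).app (op ⦋j⦌) ((KK (FF Y)).d (j + 1) j v₁) =
          (KK Y).d (j + 1) j ((eps Y).app (op ⦋j + 1⦌) v₁) :=
        comm_apply ((CC).map (eps Y)) (j + 1) j v₁
      have e5 : ((CC).map f).f j ((eps X).app (op ⦋j⦌) (((WW).map g).app (op ⦋j⦌) (hur Y y'))) =
          f.app (op ⦋j⦌) ((eps X).app (op ⦋j⦌) (((WW).map g).app (op ⦋j⦌) (hur Y y'))) := rfl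
      rw [e5, ← n1, hv₁, map_add, eps_hur, c3, hv₀, map_neg, map_add]
      abel

end Groth.Agent.Helper3.SimpAb
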