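import Mathlib
import Groth.Prelude.Def_Wider
import Groth.Prelude.Def_CAlg
import Groth.Prelude.Def_DRing2
import Groth.Prelude.Def_EGA4b
import Groth.Agent.Lib.Helper3.SkExt1

/-!
# Openness of the `(S_k)`-locus over a ring with a dualizing complex
-/

set_option autoImplicit false
universe u
open CategoryTheory CategoryTheory.Limits Pretriangulated Triangulated Opposite

attribute [local instance] HasDerivedCategory.standard

namespace Groth.Agent.Helper3.SkExt

open DerivedCategory Groth.Agent.Helper3.DualCx Groth.Agent.Helper3.RegGlDim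
  Groth.Agent.Helper3.DualFun Groth.Agent.Helper3.DualSupp

theorem main_S18715 (A : Type u) [CommRing A] [IsNoetherianRing A]
    (ω : Dual.D A) (hω : Dual.IsDualizing A ω) (M : Type u) [AddCommGroup M] [Module A M]
    [Module.Finite A M] (k : ℕ) (hk : 1 ≤ k) :
    IsOpen {p : PrimeSpectrum A | EGA4.HasSkAt k A M p.asIdeal} := by
  obtain ⟨j, hj1, hcov⟩ := exists_dimFun hω
  have hmono : ∀ p q : PrimeSpectrum A, p < q → j p < j q :=
    fun p q hpq => strictMono_of_covBy j hcov p.asIdeal p rfl q hpq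
  have hmono' : ∀ p q : PrimeSpectrum A, p ≤ q → j p ≤ j q := by
    intro p q hpq
    rcases hpq.lt_or_eq with h | h
    · exact (hmono p q h).le
    · rw [h]
  obtain ⟨a, b, hab⟩ := hω.finite_injective_dimension
  have hr : ∀ (N : Type u) [AddCommGroup N] [Module A N] (p : PrimeSpectrum A) (i : ℤ),
      p ∈ ES ω i N → a ≤ i ∧ i ≤ b := by
    intro N _ _ p i hi
    by_contra hcon
    have h1 : i < a ∨ b < i := by omega
    rw [ES_eq_empty_of_van ω i N (hab N i h1)] at hi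
    exact hi
  -- the ideal cutting out `ES i ∩ ES i'`
  let I : ℤ × ℤ → Ideal A := fun x =>
    Module.annihilator A (Dual.inD A M ⟶ ω⟦x.1⟧) ⊔ Module.annihilator A (Dual.inD A M ⟶ ω⟦x.2⟧)
  have hI : ∀ (x : ℤ × ℤ) (p : PrimeSpectrum A),
      I x ≤ p.asIdeal ↔ p ∈ ES ω x.1 M ∧ p ∈ ES ω x.2 M := by
    intro x p
    haveI := finite_ext hω M x.1
    haveI := finite_ext hω M x.2
    simp only [I, sup_le_iff, ES, Module.mem_support_iff_of_finite]
  have hIs : ∀ (x : ℤ × ℤ) (p : PrimeSpectrum A),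
      p ∈ Module.support A (A ⧸ I x) ↔ I x ≤ p.asIdeal := by
    intro x p
    rw [Module.mem_support_iff_of_finite, Ideal.annihilator_quotient]
  rw [← isClosed_compl_iff]
  have hcompl : {p : PrimeSpectrum A | EGA4.HasSkAt k A M p.asIdeal}ᶜ =
      ⋃ x ∈ (Finset.Icc a b ×ˢ Finset.Icc a b).filter (fun x => x.2 < x.1),
        ⋃ l ∈ Finset.Ico a (x.1 + k), ES ω l (A ⧸ I x) := by
    ext p
    simp only [Set.mem_compl_iff, Set.mem_setOf_eq, Set.mem_iUnion, Finset.mem_filter,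
      Finset.mem_product, Finset.mem_Icc, Finset.mem_Ico, exists_prop]
    rw [Groth.Agent.Helper8.Loc.hasSkAt_iff]
    constructor
    · intro hbad
      push Not at hbad
      obtain ⟨Q, hQprime, hQp, hQbad⟩ := hbad
      let q : PrimeSpectrum A := ⟨Q, hQprime⟩
      obtain ⟨i, j', hlt, hi, hj', hjq⟩ := (not_skPt_iff hω j hj1 hcov M k q).1 hQbad
      refine ⟨(i, j'), ⟨⟨hr M q i hi, hr M q j' hj'⟩, hlt⟩, ?_⟩
      have hIq : I (i, j') ≤ q.asIdeal := (hI (i, j') q).2 ⟨hi, hj'⟩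
      obtain ⟨Q', hQ'min, hQ'le⟩ := Ideal.exists_minimalPrimes_le hIq
      let q' : PrimeSpectrum A := ⟨Q', hQ'min.1.1⟩
      have hq'supp : q' ∈ Module.support A (A ⧸ I (i, j')) := (hIs (i, j') q').2 hQ'min.1.2
      have hq'min : ∀ q'' : PrimeSpectrum A, q'' ∈ Module.support A (A ⧸ I (i, j')) →
          q'' ≤ q' → q'' = q' := by
        intro q'' hq'' hle
        have h1 : I (i, j') ≤ q''.asIdeal := (hIs (i, j') q'').1 hq''
        have h2 : q''.asIdeal ≤ Q' := (PrimeSpectrum.asIdeal_le_asIdeal _ _).2 hle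
        have h3 : Q' ≤ q''.asIdeal := hQ'min.2 ⟨q''.isPrime, h1⟩ h2
        exact PrimeSpectrum.ext (le_antisymm h2 h3)
      obtain ⟨hmem, -⟩ := mem_ES_of_minimal hω j hj1 (A ⧸ I (i, j')) q' hq'supp hq'min
      have hq'q : q' ≤ q := (PrimeSpectrum.asIdeal_le_asIdeal _ _).1 hQ'le
      have hqp : q ≤ p := (PrimeSpectrum.asIdeal_le_asIdeal _ _).1 hQp
      have hq'p : q' ≤ p := hq'q.trans hqp
      have hpmem : p ∈ ES ω (j q') (A ⧸ I (i, j')) := Module.mem_support_mono hq'p hmem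
      have h1 := hmono' q' q hq'q
      refine ⟨j q', ⟨(hr _ p _ hpmem).1, ?_⟩, hpmem⟩
      show j q' < i + k
      omega
    · rintro ⟨x, ⟨-, hlt⟩, l, ⟨hl1, hl2⟩, hmem⟩ hgood
      obtain ⟨q, hq1, hq2, hq3⟩ := exists_le_of_mem_ES hω j hj1 hmono p (A ⧸ I x) l hmem
      have hIq : I x ≤ q.asIdeal := (hIs x q).1 hq1
      obtain ⟨h1, h2⟩ := (hI x q).1 hIq
      have hbad := (not_skPt_iff hω j hj1 hcov M k q).2 ⟨x.1, x.2, hlt, h1, h2, by omega⟩
      exact hbad (hgood q.asIdeal ((PrimeSpectrum.asIdeal_le_asIdeal _ _).2 hq2))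
  rw [hcompl]
  refine Set.Finite.isClosed_biUnion (Finset.finite_toSet _) (fun x _ => ?_)
  refine Set.Finite.isClosed_biUnion (Finset.finite_toSet _) (fun l _ => ?_)
  haveI := finite_ext hω (A ⧸ I x) l
  show IsClosed (Module.support A (Dual.inD A (A ⧸ I x) ⟶ ω⟦l⟧))
  rw [Module.support_eq_zeroLocus]
  exact PrimeSpectrum.isClosed_zeroLocus _

end Groth.Agent.Helper3.SkExt
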