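import Mathlib
import Groth.Prelude.Def_Wider
import Groth.Prelude.Def_CAlg
import Groth.Prelude.Def_DRing2
import Groth.Prelude.Def_EGA4b
import Groth.Agent.Lib.Helper3.SkExt5
import Groth.Agent.Lib.Helper8.Refl4

/-!
# The dualizing module is reflexive; reflexive powers are `(S_2)` (S18723)
-/

set_option autoImplicit false
universe u
open CategoryTheory CategoryTheory.Limits Pretriangulated Triangulated Opposite

attribute [local instance] HasDerivedCategory.standard

namespace Groth.Agent.Helper3.SkExt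

open DerivedCategory Groth.Agent.Helper3.DualCx Groth.Agent.Helper3.RegGlDim
  Groth.Agent.Helper3.DualFun Groth.Agent.Helper3.DualSupp Groth.Agent.Helper3.LowOmega
  Groth.Agent.Helper3.GorBC

section DualDepth

open LocCoh Groth.Agent.Helper8.Depth Groth.Agent.Helper8.Refl

variable {A : Type u} [CommRing A] [IsNoetherianRing A]

/-- depth and `(S_2)` of the dual of a finite module -/
theorem dual_depth_sk (I : Ideal A) (P : Type u) [AddCommGroup P] [Module A P]
    [Module.Finite A P] :
    (2 ≤ idealDepth I A → 2 ≤ idealDepth I (Module.Dual A P)) ∧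
    (HasSk 2 A A → HasSk 2 A (Module.Dual A P)) := by
  obtain ⟨n, m, u, ⟨e⟩⟩ := exists_ker_equiv_dual (A := A) P
  have hd := idealDepth_ker I u
  have hs := hasSk_ker u
  have hc : idealDepth I (Module.Dual A P) = idealDepth I (LinearMap.ker u) := idealDepth_congr e
  refine ⟨fun h => ?_, fun h => ?_⟩
  · rw [hc]
    exact hd.2 (le_trans h (idealDepth_le_pi I A n))
      (le_trans (le_trans (by norm_num) h) (idealDepth_le_pi I A (m + 1)))
  · refine hasSk_of_linearEquiv 2 e.symm (hs.2 ?_ (hasSk_pi 1 ?_ (m + 1)) (hasSk_pi 2 h n))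
    · intro q _
      rw [Module.mem_support_iff_of_finite]
      intro x hx
      rw [Module.mem_annihilator] at hx
      have h1 := congrFun (hx (Pi.single 0 1)) 0
      simp only [Pi.smul_apply, Pi.single_eq_same, smul_eq_mul, mul_one, Pi.zero_apply] at h1
      rw [h1]
      exact zero_mem _
    · rw [Groth.Agent.Helper8.Serre.hasSk_self_iff] at h ⊢
      intro q _
      refine le_trans (min_le_min ?_ le_rfl) (h q)
      norm_num

end DualDepth

theorem main_S18723 (A : Type u) [CommRing A] [IsNoetherianRing A]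
    [IsLocalRing A] (ω : Dual.D A) (hω : Dual.IsDualizing A ω) (n : ℕ) (hd : ringKrullDim A = n)
    (J : Ideal A) (hJ : 2 ≤ J.height)
    (hoff : ∀ p : PrimeSpectrum A, ¬ J ≤ p.asIdeal →
      (∀ i : ℤ, i ≠ 0 → p ∉ Module.support A (Dual.HD A ω i)) ∧
      Module.Free (Localization.AtPrime p.asIdeal)
        (LocalizedModule p.asIdeal.primeCompl (Dual.HD A ω 0)) ∧
      Module.finrank (Localization.AtPrime p.asIdeal)
        (LocalizedModule p.asIdeal.primeCompl (Dual.HD A ω 0)) = 1) :
    (LocCoh.HasSk 1 A A →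
      (EGA4.IsEquidim A ∧ Dual.IsNormalized A (ω⟦(n : ℤ)⟧)) ∧
      Module.IsReflexive A (Dual.HD A ω 0) ∧ LocCoh.HasSk 2 A (Dual.HD A ω 0)) ∧
    (LocCoh.HasSk 2 A A → ∀ m : ℕ,
      LocCoh.HasSk 2 A (Module.Dual A (Module.Dual A (TensorPower A m (Dual.HD A ω 0)))) ∧
      2 ≤ LocCoh.idealDepth J
        (Module.Dual A (Module.Dual A (TensorPower A m (Dual.HD A ω 0))))) := by
  haveI := hω.finite_cohomology 0
  have hJ1 : 1 ≤ J.height := le_trans (by norm_num) hJ
  obtain ⟨⟨h1, h2, h3⟩, h4⟩ := main_S18720 A ω hω n hd J hJ1 (fun p hp => (hoff p hp).1)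
  refine ⟨fun hS1 => ⟨⟨h1, h2⟩, ?_, h3⟩, fun hS2 m => ?_⟩
  · have hA : 1 ≤ LocCoh.idealDepth J A := by
      have h := Groth.Agent.Helper8.Depth.le_idealDepth_of_hasSk A 1 J hS1 (fun p hp _ => by
        rw [Groth.Agent.Helper8.Depth.supportDim_localizedModule_self]
        have h1 : J.height ≤ p.asIdeal.height := Ideal.height_mono hp
        have h2 : (1 : ℕ∞) ≤ p.asIdeal.height := le_trans hJ1 h1
        have h3 : ((1 : ℕ∞) : WithBot ℕ∞) ≤ (p.asIdeal.height : WithBot ℕ∞) :=
          WithBot.coe_le_coe.mpr h2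
        exact h3)
      exact_mod_cast h
    refine Groth.Agent.Helper8.Refl.isReflexive_of_idealDepth_two J hA (Dual.HD A ω 0) ?_ (h4 hJ)
    intro p hp
    obtain ⟨-, hfree, -⟩ := hoff p hp
    have hfin : Module.Finite (Localization.AtPrime p.asIdeal)
        (LocalizedModule p.asIdeal.primeCompl (Dual.HD A ω 0)) :=
      Module.Finite.of_isLocalizedModule p.asIdeal.primeCompl
        (LocalizedModule.mkLinearMap p.asIdeal.primeCompl (Dual.HD A ω 0))
    exact @Module.IsReflexive.of_finite_of_free _ _ _ _ _ hfin hfree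
  · haveI : Module.Finite A (TensorPower A m (Dual.HD A ω 0)) := by
      unfold TensorPower
      infer_instance
    have hJA := Groth.Agent.Helper8.Refl.two_le_idealDepth_self hS2 J hJ
    have := dual_depth_sk J (Module.Dual A (TensorPower A m (Dual.HD A ω 0)))
    exact ⟨this.2 hS2, this.1 hJA⟩

end Groth.Agent.Helper3.SkExt
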