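import Mathlib
import Groth.Prelude.Def_Curv2
import Groth.Agent.Lib.Helper7.FieldBC
import Groth.Agent.Lib.Helper4.GrpArtin2
import Groth.Agent.Lib.Helper6.Normal.Scheme
import Groth.Agent.Lib.Helper6.Normal.SepGenRed
import Groth.Agent.Lib.Helper6.Normal.SchemeBC
import Groth.Agent.Lib.Helper1.Conn1
import Groth.Agent.Lib.Helper7.SmoothBC.GeomRed
import Groth.Agent.Lib.Helper7.NormFib.BC

/-!
# A variety with a smooth rational point is geometrically integral (helper3)
-/

set_option autoImplicit false
set_option linter.unusedSectionVars false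
set_option linter.style.haveILetI false
universe u
open CategoryTheory CategoryTheory.Limits AlgebraicGeometry

namespace Groth.Agent.Lib.Helper3.SmRat1

/-- an integral finite type `k`-scheme with a nonempty open subscheme smooth over `k` which has a
section is geometrically irreducible -/
theorem geomIrr_of_smooth_open {k : Type u} [Field k] {X : Scheme.{u}}
    (f : X ⟶ Spec (CommRingCat.of k)) [IsIntegral X] [LocallyOfFiniteType f] [QuasiCompact f]
    (U : X.Opens) (hU : (U : Set X).Nonempty) [Smooth (U.ι ≫ f)]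
    (σ : Spec (CommRingCat.of k) ⟶ (U : Scheme.{u})) (hσ : σ ≫ U.ι ≫ f = 𝟙 _) :
    GeometricallyIrreducible f := by
  haveI : Subsingleton ↥(Spec (CommRingCat.of k)) :=
    inferInstanceAs (Subsingleton (PrimeSpectrum k))
  haveI : IsLocallyNoetherian X := LocallyOfFiniteType.isLocallyNoetherian f
  haveI : Nonempty ↥(U : Scheme.{u}) := ⟨⟨hU.some, hU.some_mem⟩⟩
  haveI : IsIntegral (U : Scheme.{u}) := isIntegral_of_isOpenImmersion U.ι
  haveI : ConnectedSpace ↥(U : Scheme.{u}) := inferInstance
  haveI hgc : GeometricallyConnected (U.ι ≫ f) :=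
    Groth.Agent.Lib.Helper4.GrpArtin2.geomConn (U.ι ≫ f) σ hσ
  -- `U.ι` is scheme theoretically dominant
  haveI : IsDominant U.ι := by
    rw [isDominant_iff, DenseRange, Scheme.Opens.range_ι]
    exact U.isOpen.dense hU
  haveI : IsSchemeTheoreticallyDominant U.ι := IsSchemeTheoreticallyDominant.of_isDominant U.ι
  refine ⟨fun K _ y Z fst snd h => ?_⟩
  -- the base change of `U`
  have hW : IsPullback (pullback.fst U.ι fst) (pullback.snd U.ι fst ≫ snd) (U.ι ≫ f) y :=
    (IsPullback.of_hasPullback U.ι fst).paste_vert h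
  haveI : ConnectedSpace ↥(pullback U.ι fst) :=
    GeometricallyConnected.geometrically_connectedSpace (f := U.ι ≫ f) y _ _ hW
  haveI : Smooth (pullback.snd U.ι fst ≫ snd) :=
    MorphismProperty.of_isPullback (P := @Smooth) hW inferInstance
  haveI : QuasiCompact (pullback.snd U.ι fst ≫ snd) :=
    MorphismProperty.of_isPullback (P := @QuasiCompact) hW inferInstance
  haveI : IsLocallyNoetherian (pullback U.ι fst) :=
    LocallyOfFiniteType.isLocallyNoetherian (pullback.snd U.ι fst ≫ snd)
  haveI : CompactSpace ↥(pullback U.ι fst) :=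
    QuasiCompact.compactSpace_of_compactSpace (pullback.snd U.ι fst ≫ snd)
  haveI : IsNoetherian (pullback U.ι fst) := {}
  have hnormK : Pi1.IsNormalScheme (Spec (CommRingCat.of K)) :=
    (Groth.Agent.Lib.Helper6.Normal.isNormalScheme_Spec_iff (CommRingCat.of K)).mpr
      (Groth.Agent.Lib.Helper6.Normal.isNormalRing_of_field K)
  have hnormW : Pi1.IsNormalScheme (pullback U.ι fst) :=
    Groth.Agent.Lib.Helper6.Normal.isNormalScheme_of_smooth (pullback.snd U.ι fst ≫ snd) hnormK
  haveI : IrreducibleSpace ↥(pullback U.ι fst) :=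
    Groth.Agent.Helper1.Conn1.irreducibleSpace_of_connected _ fun w => (hnormW w).1
  -- density of the base change of `U`
  haveI : Flat fst :=
    MorphismProperty.of_isPullback (P := @Flat) h.flip
      (Groth.Agent.Helper7.NormFib.flat_of_spec_field y)
  haveI : IsSchemeTheoreticallyDominant (pullback.snd U.ι fst) := inferInstance
  haveI : IsDominant (pullback.snd U.ι fst) := inferInstance
  have hd : DenseRange (pullback.snd U.ι fst) := (pullback.snd U.ι fst).denseRange
  have hirr : IsIrreducible (Set.range (pullback.snd U.ι fst)) := by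
    rw [← Set.image_univ]
    exact (IrreducibleSpace.isIrreducible_univ _).image _
      (pullback.snd U.ι fst).continuous.continuousOn
  have h2 := hirr.closure
  rw [hd.closure_range] at h2
  exact (irreducibleSpace_def _).mpr h2

/-- main theorem -/
theorem main (k : Type u) [Field k] (X : Scheme.{u}) [X.Over (Spec (CommRingCat.of k))]
    [IsIntegral X]
    [LocallyOfFiniteType (X ↘ (Spec (CommRingCat.of k)))]
    [QuasiCompact (X ↘ (Spec (CommRingCat.of k)))]
    (x : ↥X) (hx : Function.Surjective (Curv2.resMap k X x))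
    (hsm : x ∈ (X ↘ (Spec (CommRingCat.of k))).smoothLocus) :
    GeometricallyIntegral (X ↘ (Spec (CommRingCat.of k))) := by
  set f := X ↘ (Spec (CommRingCat.of k)) with hf
  set U := f.smoothLocus with hUdef
  haveI : Smooth (U.ι ≫ f) := by
    rw [← Scheme.Hom.smoothLocus_eq_top_iff, ← Scheme.Hom.preimage_smoothLocus_eq]
    exact Scheme.Opens.ι_preimage_self U
  -- the section
  haveI hiso : IsIso (X.fromSpecResidueField x ≫ f) :=
    Groth.Agent.Helper7.FieldBC.isIso_of_resMap_surjective k X x hx
  let s : Spec (CommRingCat.of k) ⟶ X := inv (X.fromSpecResidueField x ≫ f) ≫ X.fromSpecResidueField x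
  have hs : s ≫ f = 𝟙 _ := by
    simp only [s, Category.assoc]
    exact IsIso.inv_hom_id _
  have hrange : Set.range s ⊆ Set.range U.ι := by
    rw [Scheme.Opens.range_ι]
    rintro _ ⟨z, rfl⟩
    have : s z ∈ Set.range (X.fromSpecResidueField x) := by
      simp only [s, Scheme.Hom.comp_apply]
      exact ⟨_, rfl⟩
    rw [Scheme.range_fromSpecResidueField] at this
    rw [Set.mem_singleton_iff.mp this]
    exact hsm
  let σ : Spec (CommRingCat.of k) ⟶ (U : Scheme.{u}) := IsOpenImmersion.lift U.ι s hrange
  have hσ : σ ≫ U.ι ≫ f = 𝟙 _ := by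
    rw [← Category.assoc, IsOpenImmersion.lift_fac, hs]
  haveI : GeometricallyIrreducible f := geomIrr_of_smooth_open f U ⟨x, hsm⟩ σ hσ
  haveI : GeometricallyReduced f := by
    rw [Groth.Agent.Helper7.SmoothBC.geometricallyReduced_iff_dense_smooth_open k X f]
    exact ⟨U, U.isOpen.dense ⟨x, hsm⟩, inferInstance⟩
  exact GeometricallyIntegral.of_geometricallyReduced_of_geometricallyIrreducible f

end Groth.Agent.Lib.Helper3.SmRat1
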