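import Mathlib
import Groth.Agent.Lib.Helper2.CompletionDVR

/-!
# A smooth point with trivial residue extension over a DVR admits a DVR-valued quasi-section
(the completion of the base)
-/

open IsLocalRing

universe u

namespace Groth.Agent.Helper3.SmoothDvr

theorem main
    (B : Type u) [CommRing B] [IsDomain B] [IsDiscreteValuationRing B]
    (A : Type u) [CommRing A] [Algebra B A]
    (p : Ideal A) [p.IsPrime] (hp : p.comap (algebraMap B A) = IsLocalRing.maximalIdeal B)
    [Algebra.IsSmoothAt B p]
    (hres : Function.Surjective ((algebraMap A p.ResidueField).comp (algebraMap B A))) :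
    ∃ (B' : Type u) (_ : CommRing B') (_ : IsDomain B') (_ : IsDiscreteValuationRing B') (ψ : A →+* B'),
      Ideal.comap ψ (IsLocalRing.maximalIdeal B') = p ∧
      Function.Injective (ψ.comp (algebraMap B A)) ∧
      Ideal.map (ψ.comp (algebraMap B A)) (IsLocalRing.maximalIdeal B) = IsLocalRing.maximalIdeal B' ∧
      Function.Surjective ((IsLocalRing.residue B').comp (ψ.comp (algebraMap B A))) := by
  obtain ⟨hdom, hdvr⟩ :=
    (Groth.Agent.Helper2.CompletionDVR.dvr_iff B).mp ⟨inferInstance, inferInstance⟩
  have hsurj : Function.Surjective (algebraMap B p.ResidueField) := by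
    intro x
    obtain ⟨b, hb⟩ := hres x
    refine ⟨b, ?_⟩
    rw [← hb, IsScalarTower.algebraMap_apply B A p.ResidueField]
    rfl
  have hzero : ∀ a ∈ maximalIdeal B, (Algebra.ofId B p.ResidueField) a = 0 := by
    intro a ha
    rw [← hp, Ideal.mem_comap] at ha
    change algebraMap B p.ResidueField a = 0
    rw [IsScalarTower.algebraMap_apply B A p.ResidueField, Ideal.algebraMap_residueField_eq_zero]
    exact ha
  let e0 : (B ⧸ maximalIdeal B) →ₐ[B] p.ResidueField :=
    Ideal.Quotient.liftₐ (maximalIdeal B) (Algebra.ofId B p.ResidueField) hzero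
  have he0 : Function.Bijective e0 := by
    letI : Field (B ⧸ maximalIdeal B) := Ideal.Quotient.field _
    refine ⟨(e0 : (B ⧸ maximalIdeal B) →+* p.ResidueField).injective, ?_⟩
    intro x
    obtain ⟨b, hb⟩ := hsurj x
    exact ⟨Ideal.Quotient.mk _ b, by rw [← hb]; rfl⟩
  let e : (B ⧸ maximalIdeal B) ≃ₐ[B] p.ResidueField := AlgEquiv.ofBijective e0 he0
  let f : Localization.AtPrime p →ₐ[B] (B ⧸ maximalIdeal B) :=
    (e.symm : p.ResidueField →ₐ[B] (B ⧸ maximalIdeal B)).comp
      (IsScalarTower.toAlgHom B (Localization.AtPrime p) p.ResidueField)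
  obtain ⟨g, hg⟩ := Algebra.FormallySmooth.exists_adicCompletionEvalOneₐ_comp_eq
    (R := B) (A := Localization.AtPrime p) (S := B) (I := maximalIdeal B) f
  have hmax : maximalIdeal (AdicCompletion (maximalIdeal B) B) =
      RingHom.ker (AdicCompletion.evalOneₐ (maximalIdeal B)).toRingHom := by
    rw [AdicCompletion.ker_evalOneₐ_eq_map _ (maximalIdeal B).fg_of_isNoetherianRing,
      AdicCompletion.maximalIdeal_eq_map]
  have hev : ∀ x : Localization.AtPrime p,
      AdicCompletion.evalOneₐ (maximalIdeal B) (g x) = f x := fun x => AlgHom.congr_fun hg x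
  have hff : Module.FaithfullyFlat B (AdicCompletion (maximalIdeal B) B) :=
    Module.FaithfullyFlat.of_flat_of_isLocalHom
  have hinj : Function.Injective (algebraMap B (AdicCompletion (maximalIdeal B) B)) :=
    FaithfulSMul.algebraMap_injective B _
  let ψ : A →+* AdicCompletion (maximalIdeal B) B :=
    (g : Localization.AtPrime p →+* AdicCompletion (maximalIdeal B) B).comp
      (algebraMap A (Localization.AtPrime p))
  have hψ : ψ.comp (algebraMap B A) = algebraMap B (AdicCompletion (maximalIdeal B) B) := by
    refine RingHom.ext fun b => ?_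
    change g (algebraMap A (Localization.AtPrime p) (algebraMap B A b)) = _
    rw [← IsScalarTower.algebraMap_apply B A (Localization.AtPrime p)]
    exact g.commutes b
  refine ⟨AdicCompletion (maximalIdeal B) B, inferInstance, hdom, hdvr, ψ, ?_, ?_, ?_, ?_⟩
  · ext a
    rw [Ideal.mem_comap, hmax, RingHom.mem_ker]
    change AdicCompletion.evalOneₐ (maximalIdeal B) (g (algebraMap A (Localization.AtPrime p) a)) = 0
      ↔ _
    rw [hev]
    change e.symm (algebraMap (Localization.AtPrime p) p.ResidueField
      (algebraMap A (Localization.AtPrime p) a)) = 0 ↔ _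
    rw [map_eq_zero_iff _ e.symm.injective,
      ← IsScalarTower.algebraMap_apply A (Localization.AtPrime p) p.ResidueField,
      Ideal.algebraMap_residueField_eq_zero]
  · rw [hψ]; exact hinj
  · rw [hψ]; exact AdicCompletion.maximalIdeal_eq_map.symm
  · rw [hψ]
    intro y
    obtain ⟨x, rfl⟩ := IsLocalRing.residue_surjective y
    obtain ⟨b, hb⟩ := Ideal.Quotient.mk_surjective (AdicCompletion.evalOneₐ (maximalIdeal B) x)
    refine ⟨b, ?_⟩
    change IsLocalRing.residue _ (algebraMap B (AdicCompletion (maximalIdeal B) B) b) = _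
    rw [← sub_eq_zero, ← map_sub, IsLocalRing.residue_eq_zero_iff, hmax, RingHom.mem_ker]
    change AdicCompletion.evalOneₐ (maximalIdeal B) _ = 0
    rw [map_sub, sub_eq_zero, ← hb]
    exact (AdicCompletion.evalOneₐ (maximalIdeal B)).commutes b

end Groth.Agent.Helper3.SmoothDvr
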