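import Mathlib
import Groth.Prelude.Def_SpSeq

/-!
# Filtered complexes (`Def_SpSeq`): basic lattice lemmas and convergence for finite filtrations
-/

set_option autoImplicit false
open CategoryTheory CategoryTheory.Limits

namespace Groth.Agent.Helper3.SpFil

universe v u
variable {A : Type u} [Category.{v} A] [Abelian A]

open SpSeq SpSeq.FilObj SpSeq.FilCx

lemma fil_eq_top_of_le (K : FilObj A) {a p : ℤ} (ha : K.fil a = ⊤) (h : p ≤ a) : K.fil p = ⊤ :=
  top_le_iff.mp (ha ▸ K.anti h)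

lemma fil_eq_bot_of_le (K : FilObj A) {b p : ℤ} (hb : K.fil b = ⊥) (h : b ≤ p) : K.fil p = ⊥ :=
  le_bot_iff.mp (hb ▸ K.anti h)

lemma isZero_subquot_of_eq {X : A} (Z B : Subobject X) (h : B ≤ Z) (e : B = Z) :
    IsZero (subquot Z B h) := by
  subst e
  unfold subquot
  haveI : IsIso (B.ofLE B h) := by
    rw [Subobject.ofLE_refl]; infer_instance
  exact isZero_cokernel_of_epi _

lemma pullback_arrow_comp_factors {X Y : A} (f : X ⟶ Y) (T : Subobject Y) :
    ∃ g : (((Subobject.pullback f).obj T : Subobject X) : A) ⟶ (T : A),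
      g ≫ T.arrow = ((Subobject.pullback f).obj T).arrow ≫ f := by
  rw [Subobject.pullback_obj]
  refine ⟨(Subobject.underlyingIso _).hom ≫ pullback.fst _ _, ?_⟩
  rw [Category.assoc, pullback.condition, ← Category.assoc, Subobject.underlyingIso_hom_comp_eq_mk]

lemma pullback_bot {X Y : A} (f : X ⟶ Y) :
    (Subobject.pullback f).obj ⊥ = kernelSubobject f := by
  apply le_antisymm
  · apply le_kernelSubobject
    obtain ⟨g, hg⟩ := pullback_arrow_comp_factors f ⊥
    rw [← hg, Subobject.bot_arrow, comp_zero]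
  · exact kernelSubobject_le_pullback f ⊥

lemma imageSubobject_top_arrow_comp {X Y : A} (f : X ⟶ Y) :
    imageSubobject ((⊤ : Subobject X).arrow ≫ f) = imageSubobject f :=
  imageSubobject_iso_comp _ f

lemma imageSubobject_arrow_comp_of_eq_top {X Y : A} (S : Subobject X) (h : S = ⊤) (f : X ⟶ Y) :
    imageSubobject (S.arrow ≫ f) = imageSubobject f := by
  subst h
  exact imageSubobject_top_arrow_comp f

lemma imageSubobject_arrow_comp_le {X Y : A} (S : Subobject X) (f : X ⟶ Y) :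
    imageSubobject (S.arrow ≫ f) ≤ imageSubobject f :=
  imageSubobject_comp_le _ f

lemma imageSubobject_eq_top_of_epi {X Y : A} (f : X ⟶ Y) [Epi f] : imageSubobject f = ⊤ := by
  haveI : IsIso (imageSubobject f).arrow := by
    haveI : Epi (imageSubobject f).arrow := epi_of_epi_fac (imageSubobject_arrow_comp f)
    exact isIso_of_mono_of_epi _
  exact Subobject.eq_top_of_isIso_arrow _

lemma imageSubobject_eq_bot_of_isZero {X Y : A} (f : X ⟶ Y) (h : IsZero X) :
    imageSubobject f = ⊥ := by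
  rw [h.eq_of_src f 0]
  exact imageSubobject_zero

section Finite

variable (K : FilCx A)

lemma XFil_fil (n p : ℤ) : (K.XFil n).fil p = K.filX p n := rfl

/-- page zero vanishes outside the support of the filtration -/
lemma isZero_E_zero_of_top (n p : ℤ) (h : K.filX (p + 1) n = ⊤) : IsZero (K.E 0 p n) := by
  have hp : K.filX p n = ⊤ := top_le_iff.mp (h ▸ K.filX_anti n (by omega : p ≤ p + 1))
  apply isZero_subquot_of_eq
  simp only [ZSub, BSub, h, hp, le_top, sup_of_le_right]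

lemma isZero_E_zero_of_bot (n p : ℤ) (h : K.filX p n = ⊥) : IsZero (K.E 0 p n) := by
  have hp : K.filX (p + 1) n = ⊥ := le_bot_iff.mp (h ▸ K.filX_anti n (by omega : p ≤ p + 1))
  apply isZero_subquot_of_eq
  simp only [ZSub, BSub, h, hp, bot_inf_eq, bot_sup_eq]

theorem isBounded_zero (hK : ∀ n : ℤ, (K.XFil n).IsFinite) : K.IsBounded 0 := by
  intro n
  obtain ⟨⟨a, ha⟩, ⟨b, hb⟩⟩ := hK n
  apply Set.Finite.subset (Set.finite_Icc a b)
  intro p hp
  simp only [Set.mem_setOf_eq] at hp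
  rw [Set.mem_Icc]
  by_contra hcon
  apply hp
  by_cases h1 : a ≤ p
  · have h2 : b < p := by omega
    exact isZero_E_zero_of_bot K n p (fil_eq_bot_of_le (K.XFil n) hb (by omega))
  · exact isZero_E_zero_of_top K n p (fil_eq_top_of_le (K.XFil n) ha (by omega))

lemma isIso_arrow_f_of_top (p m : ℤ) (h : K.filX p m = ⊤) : IsIso ((K.fil p).arrow.f m) :=
  (Subobject.isIso_iff_mk_eq_top _).2 h

lemma isZero_step_X_of_bot (p m : ℤ) (h : K.filX p m = ⊥) :
    IsZero ((K.fil p : CochainComplex A ℤ).X m) := by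
  have h1 : Subobject.mk ((K.fil p).arrow.f m) = ⊥ := h
  rw [Subobject.mk_eq_bot_iff_zero] at h1
  exact IsZero.of_mono_eq_zero _ h1

theorem filH_eq_top (p n : ℤ) (h1 : K.filX p (n - 1) = ⊤) (h2 : K.filX p n = ⊤)
    (h3 : K.filX p (n + 1) = ⊤) : K.filH p n = ⊤ := by
  haveI := isIso_arrow_f_of_top K p _ h1
  haveI := isIso_arrow_f_of_top K p _ h2
  haveI := isIso_arrow_f_of_top K p _ h3
  haveI : IsIso (HomologicalComplex.homologyMap (K.fil p).arrow n) := by
    apply ShortComplex.isIso_homologyMap_of_epi_of_isIso_of_mono'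
    · have : (ComplexShape.up ℤ).prev n = n - 1 := by simp
      change Epi ((K.fil p).arrow.f ((ComplexShape.up ℤ).prev n))
      rw [this]; infer_instance
    · change IsIso ((K.fil p).arrow.f n)
      infer_instance
    · have : (ComplexShape.up ℤ).next n = n + 1 := by simp
      change Mono ((K.fil p).arrow.f ((ComplexShape.up ℤ).next n))
      rw [this]; infer_instance
  exact imageSubobject_eq_top_of_epi _

theorem filH_eq_bot (p n : ℤ) (h : K.filX p n = ⊥) : K.filH p n = ⊥ := by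
  apply imageSubobject_eq_bot_of_isZero
  have hz := isZero_step_X_of_bot K p n h
  exact ShortComplex.isZero_homology_of_isZero_X₂ _ hz

theorem hFil_isFinite (hK : ∀ n : ℤ, (K.XFil n).IsFinite) (n : ℤ) : (K.HFil n).IsFinite := by
  obtain ⟨⟨a₀, ha₀⟩, _⟩ := hK (n - 1)
  obtain ⟨⟨a₁, ha₁⟩, ⟨b, hb⟩⟩ := hK n
  obtain ⟨⟨a₂, ha₂⟩, _⟩ := hK (n + 1)
  refine ⟨⟨min a₀ (min a₁ a₂), ?_⟩, ⟨b, ?_⟩⟩
  · exact filH_eq_top K _ n (fil_eq_top_of_le (K.XFil (n - 1)) ha₀ (by omega))
      (fil_eq_top_of_le (K.XFil n) ha₁ (by omega)) (fil_eq_top_of_le (K.XFil (n + 1)) ha₂ (by omega))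
  · exact filH_eq_bot K b n hb


/-- `ZSub r` equals `ZTop` as soon as `F^{p+r} K^{n+1} = 0`. -/
lemma ZSub_eq_ZTop (r : ℕ) (p n : ℤ) (h : K.filX (p + r) (n + 1) = ⊥) :
    K.ZSub r p n = K.ZTop p n := by
  simp only [ZSub, ZTop, h, pullback_bot]

lemma ZTop_le_ZSub (r : ℕ) (p n : ℤ) : K.ZTop p n ≤ K.ZSub r p n :=
  sup_le_sup_right (inf_le_inf_left _ (kernelSubobject_le_pullback _ _)) _

/-- `BSub r` equals `BBot` as soon as `F^{p-r+1} K^{n-1} = K^{n-1}`. -/
lemma BSub_eq_BBot (r : ℕ) (p n : ℤ) (h : K.filX (p - r + 1) (n - 1) = ⊤) :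
    K.BSub r p n = K.BBot p n := by
  simp only [BSub, BBot, imageSubobject_arrow_comp_of_eq_top _ h]

lemma BSub_le_BBot (r : ℕ) (p n : ℤ) : K.BSub r p n ≤ K.BBot p n :=
  sup_le_sup_right (inf_le_inf_left _ (imageSubobject_arrow_comp_le _ _)) _

theorem isRegular_of_finite (hK : ∀ n : ℤ, (K.XFil n).IsFinite) : K.IsRegular := by
  intro p n
  obtain ⟨_, ⟨b, hb⟩⟩ := hK (n + 1)
  refine ⟨(b - p).toNat, fun r hr => ?_⟩
  rw [ZSub_eq_ZTop K r p n (fil_eq_bot_of_le (K.XFil (n + 1)) hb (by omega)),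
    ZSub_eq_ZTop K _ p n (fil_eq_bot_of_le (K.XFil (n + 1)) hb (by omega))]

theorem weaklyConverges_of_finite (hK : ∀ n : ℤ, (K.XFil n).IsFinite) : K.WeaklyConverges := by
  intro p n
  constructor
  · obtain ⟨_, ⟨b, hb⟩⟩ := hK (n + 1)
    constructor
    · rintro _ ⟨r, rfl⟩
      exact ZTop_le_ZSub K r p n
    · intro S hS
      have := hS ⟨(b - p).toNat, rfl⟩
      simp only at this
      rwa [ZSub_eq_ZTop K _ p n (fil_eq_bot_of_le (K.XFil (n + 1)) hb (by omega))] at this
  · obtain ⟨⟨a, ha⟩, _⟩ := hK (n - 1)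
    constructor
    · rintro _ ⟨r, rfl⟩
      exact BSub_le_BBot K r p n
    · intro S hS
      have := hS ⟨(p + 1 - a).toNat, rfl⟩
      simp only at this
      rwa [BSub_eq_BBot K _ p n (fil_eq_top_of_le (K.XFil (n - 1)) ha (by omega))] at this

end Finite

section General

/-- a finite filtered object is separated, exhaustive and complete -/
theorem isSeparated_of_isFinite (L : FilObj A) (h : L.IsFinite) : L.IsSeparated := by
  obtain ⟨_, ⟨b, hb⟩⟩ := h
  constructor
  · rintro _ ⟨p, rfl⟩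
    exact bot_le
  · intro S hS
    exact hb ▸ hS ⟨b, rfl⟩

theorem isExhaustive_of_isFinite (L : FilObj A) (h : L.IsFinite) : L.IsExhaustive := by
  obtain ⟨⟨a, ha⟩, _⟩ := h
  constructor
  · rintro _ ⟨p, rfl⟩
    exact le_top
  · intro S hS
    exact ha ▸ hS ⟨a, rfl⟩

lemma π_quotMap (L : FilObj A) {p q : ℤ} (h : p ≤ q) :
    cokernel.π (L.fil q).arrow ≫ L.quotMap h = cokernel.π (L.fil p).arrow := by
  unfold quotMap
  rw [cokernel.π_desc]

lemma isIso_π_of_bot (L : FilObj A) (p : ℤ) (hp : L.fil p = ⊥) :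
    IsIso (cokernel.π (L.fil p).arrow) := by
  have h0 : (L.fil p).arrow = 0 := by
    rw [hp, Subobject.bot_arrow]
  exact cokernel.π_of_zero h0

theorem isComplete_of_discrete (L : FilObj A) (h : L.IsDiscrete) : L.IsComplete := by
  obtain ⟨b, hb⟩ := h
  intro T f hf
  haveI := isIso_π_of_bot L b hb
  refine ⟨f b ≫ inv (cokernel.π (L.fil b).arrow), fun p => ?_⟩
  by_cases hp : p ≤ b
  · rw [← hf p b hp, ← π_quotMap L hp, Category.assoc, IsIso.inv_hom_id_assoc]
  · have hbp : b ≤ p := by omega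
    haveI := isIso_π_of_bot L p (fil_eq_bot_of_le L hb hbp)
    have h1 : L.quotMap hbp = inv (cokernel.π (L.fil p).arrow) ≫ cokernel.π (L.fil b).arrow := by
      rw [← π_quotMap L hbp, IsIso.inv_hom_id_assoc]
    rw [← hf b p hbp, h1, Category.assoc, Category.assoc, Category.assoc, IsIso.hom_inv_id_assoc,
      IsIso.inv_hom_id, Category.comp_id]

end General

/-- **S6792** -/
theorem main_S6792 (K : FilCx A) (hK : ∀ n : ℤ, (K.XFil n).IsFinite) :
    K.IsBounded 0 ∧ (∀ n : ℤ, (K.HFil n).IsFinite) ∧ K.Converges :=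
  ⟨isBounded_zero K hK, hFil_isFinite K hK,
    isRegular_of_finite K hK,
    ⟨weaklyConverges_of_finite K hK, fun n =>
      ⟨isSeparated_of_isFinite _ (hFil_isFinite K hK n),
        isExhaustive_of_isFinite _ (hFil_isFinite K hK n)⟩⟩,
    fun n => isComplete_of_discrete _ (hFil_isFinite K hK n).2⟩

end Groth.Agent.Helper3.SpFil
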