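import Groth.Agent.Lib.Helper3.SpFil

/-!
# Filtered complexes (`Def_SpSeq`): convergence under cohomological conditions (S6794)
-/

set_option autoImplicit false
open CategoryTheory CategoryTheory.Limits

namespace Groth.Agent.Helper3.SpFil

universe v u
variable {A : Type u} [Category.{v} A] [Abelian A]

open SpSeq SpSeq.FilObj SpSeq.FilCx

section Mem

lemma factors_iff_comp_cokernel {X T : A} (S : Subobject X) (x : T ⟶ X) :
    S.Factors x ↔ x ≫ cokernel.π S.arrow = 0 := by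
  constructor
  · intro h
    rw [← S.factorThru_arrow x h, Category.assoc, cokernel.condition, comp_zero]
  · intro h
    have h1 := Subobject.factors_comp_arrow (P := S) (Abelian.monoLift S.arrow x h)
    rwa [Abelian.monoLift_comp] at h1

lemma le_of_epi_factors {X T : A} {S S' : Subobject X} (π : T ⟶ (S : A)) [Epi π]
    (h : S'.Factors (π ≫ S.arrow)) : S ≤ S' := by
  apply Subobject.le_of_factors
  rw [factors_iff_comp_cokernel] at h ⊢
  rw [Category.assoc] at h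
  exact (cancel_epi π).1 (h.trans comp_zero.symm)

lemma exists_refinement_of_image_factors {X Y T : A} (f : X ⟶ Y) (x : T ⟶ Y)
    (h : (imageSubobject f).Factors x) :
    ∃ (T' : A) (π : T' ⟶ T) (_ : Epi π) (y : T' ⟶ X), π ≫ x = y ≫ f := by
  obtain ⟨T', π, hπ, y, hy⟩ := surjective_up_to_refinements_of_epi (factorThruImageSubobject f)
    ((imageSubobject f).factorThru x h)
  refine ⟨T', π, hπ, y, ?_⟩
  rw [← (imageSubobject f).factorThru_arrow x h, ← Category.assoc, hy, Category.assoc,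
    imageSubobject_arrow_comp]

end Mem

section Cx

variable (K : FilCx A)

/-- the `p`-th step as a complex -/
noncomputable abbrev F (p : ℤ) : CochainComplex A ℤ := (K.fil p : CochainComplex A ℤ)

/-- the inclusion `F^p K ⟶ K` -/
noncomputable abbrev ι (p : ℤ) : F K p ⟶ K.obj := (K.fil p).arrow

lemma stepLE_ι {p q : ℤ} (h : p ≤ q) : K.stepLE h ≫ ι K p = ι K q :=
  Subobject.ofLE_arrow _

@[reassoc]
lemma stepLE_f_ι {p q : ℤ} (h : p ≤ q) (n : ℤ) :
    (K.stepLE h).f n ≫ (ι K p).f n = (ι K q).f n := by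
  rw [← HomologicalComplex.comp_f, stepLE_ι]

lemma mem_filX {T : A} (p n : ℤ) (x : T ⟶ K.obj.X n) :
    (K.filX p n).Factors x ↔ ∃ x' : T ⟶ (F K p).X n, x' ≫ (ι K p).f n = x :=
  Subobject.mk_factors_iff _ _

lemma mem_filX_of {T : A} (p n : ℤ) (x' : T ⟶ (F K p).X n) :
    (K.filX p n).Factors (x' ≫ (ι K p).f n) :=
  (mem_filX K p n _).2 ⟨x', rfl⟩

lemma mem_filX_of_le {T : A} {p q : ℤ} (h : p ≤ q) (n : ℤ) (x' : T ⟶ (F K q).X n) :
    (K.filX p n).Factors (x' ≫ (ι K q).f n) :=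
  Subobject.factors_of_le _ (K.filX_anti n h) (mem_filX_of K q n x')

/-- a morphism to `F^p K^n` whose image in `K^n` is a cycle is a cycle -/
lemma cycle_of_ι {T : A} (p n n' : ℤ) (x' : T ⟶ (F K p).X n)
    (h : (x' ≫ (ι K p).f n) ≫ K.obj.d n n' = 0) : x' ≫ (F K p).d n n' = 0 := by
  rw [← cancel_mono ((ι K p).f n'), Category.assoc, ← (ι K p).comm, zero_comp]
  rw [Category.assoc] at h
  exact h

/-- membership in the image of `d` restricted to `F^q K^{n-1}` -/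
lemma mem_image_d {T : A} (q m n : ℤ) (t : T ⟶ (F K q).X m) :
    (imageSubobject ((K.filX q m).arrow ≫ K.obj.d m n)).Factors
      ((t ≫ (ι K q).f m) ≫ K.obj.d m n) := by
  have h : t ≫ (ι K q).f m =
      (t ≫ (Subobject.underlyingIso ((ι K q).f m)).inv) ≫ (K.filX q m).arrow := by
    rw [Category.assoc]
    congr 1
    exact (Subobject.underlyingIso_arrow _).symm
  rw [h, Category.assoc]
  exact imageSubobject_factors_comp_self _ _

end Cx


section Mem2

lemma factors_sub {X T : A} (S : Subobject X) (f g : T ⟶ X) (hf : S.Factors f) (hg : S.Factors g) :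
    S.Factors (f - g) := by
  rw [factors_iff_comp_cokernel] at hf hg ⊢
  rw [Preadditive.sub_comp, hf, hg, sub_zero]

end Mem2

section Main

variable (K : FilCx A)

/-- Lemma Z -/
lemma inf_pullback_le_ZTop (p q n : ℤ) (hq : p + 1 ≤ q)
    (h : IsZero ((F K q).homology (n + 1))) :
    K.filX p n ⊓ (Subobject.pullback (K.obj.d n (n + 1))).obj (K.filX q (n + 1)) ≤ K.ZTop p n := by
  obtain ⟨S, hS⟩ : ∃ S, S = K.filX p n ⊓
    (Subobject.pullback (K.obj.d n (n + 1))).obj (K.filX q (n + 1)) := ⟨_, rfl⟩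
  rw [← hS]
  have hx1 : (K.filX p n).Factors S.arrow := by
    rw [hS]; exact Subobject.inf_arrow_factors_left _ _
  have hx2 : (K.filX q (n + 1)).Factors (S.arrow ≫ K.obj.d n (n + 1)) := by
    rw [hS]
    exact (Limits.pullback_factors_iff _ _ _).1 (Subobject.inf_arrow_factors_right _ _)
  obtain ⟨w, hw⟩ := (mem_filX K q (n + 1) _).1 hx2
  have hwc : w ≫ (F K q).d (n + 1) (n + 1 + 1) = 0 :=
    cycle_of_ι K q (n + 1) (n + 1 + 1) w (by
      rw [hw, Category.assoc, K.obj.d_comp_d, comp_zero])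
  have hex : (F K q).ExactAt (n + 1) := by
    rwa [HomologicalComplex.exactAt_iff_isZero_homology]
  rw [HomologicalComplex.exactAt_iff_exact_up_to_refinements _ n (n + 1) (n + 1 + 1)
    (by simp) (by simp)] at hex
  obtain ⟨T, π, hπ, v, hv⟩ := hex w hwc
  have hcyc : (π ≫ S.arrow - v ≫ (ι K q).f n) ≫ K.obj.d n (n + 1) = 0 := by
    rw [Preadditive.sub_comp, Category.assoc, ← hw, ← Category.assoc, hv, Category.assoc,
      Category.assoc, (ι K q).comm, sub_self]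
  apply le_of_epi_factors π
  have e1 : π ≫ S.arrow = (π ≫ S.arrow - v ≫ (ι K q).f n) + v ≫ (ι K q).f n := by abel
  rw [e1]
  apply Subobject.factors_add
  · apply Subobject.sup_factors_of_factors_left
    rw [Subobject.inf_factors]
    refine ⟨?_, (kernelSubobject_factors_iff _ _).2 hcyc⟩
    exact factors_sub _ _ _ (Subobject.factors_of_factors_right _ hx1)
      (mem_filX_of_le K (by omega) n v)
  · apply Subobject.sup_factors_of_factors_right
    exact mem_filX_of_le K hq n v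

/-- Lemma B -/
lemma inf_image_le (p p' n : ℤ) (hp : p' ≤ p)
    (h : Mono (HomologicalComplex.homologyMap (ι K p') n)) :
    K.filX p n ⊓ imageSubobject (K.obj.d (n - 1) n) ≤
      K.filX p n ⊓ imageSubobject ((K.filX p' (n - 1)).arrow ≫ K.obj.d (n - 1) n) := by
  obtain ⟨S, hS⟩ : ∃ S, S = K.filX p n ⊓ imageSubobject (K.obj.d (n - 1) n) := ⟨_, rfl⟩
  rw [← hS]
  have hx1 : (K.filX p n).Factors S.arrow := by
    rw [hS]; exact Subobject.inf_arrow_factors_left _ _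
  have hx2 : (imageSubobject (K.obj.d (n - 1) n)).Factors S.arrow := by
    rw [hS]; exact Subobject.inf_arrow_factors_right _ _
  obtain ⟨x', hx'⟩ := (mem_filX K p' n _).1 (Subobject.factors_of_le _ (K.filX_anti n hp) hx1)
  obtain ⟨T₁, π₁, hπ₁, y, hy⟩ := exists_refinement_of_image_factors _ _ hx2
  have hc : (π₁ ≫ x') ≫ (F K p').d n (n + 1) = 0 :=
    cycle_of_ι K p' n (n + 1) _ (by
      rw [Category.assoc π₁, hx', hy, Category.assoc, K.obj.d_comp_d, comp_zero])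
  rw [HomologicalComplex.mono_homologyMap_iff_up_to_refinements _ (n - 1) n (n + 1)
    (by simp) (by simp)] at h
  obtain ⟨T₂, π₂, hπ₂, z, hz⟩ := h (π₁ ≫ x') hc y (by rw [Category.assoc, hx', hy])
  apply le_of_epi_factors (π₂ ≫ π₁)
  rw [Subobject.inf_factors]
  refine ⟨Subobject.factors_of_factors_right _ hx1, ?_⟩
  have e1 : (π₂ ≫ π₁) ≫ S.arrow = (z ≫ (ι K p').f (n - 1)) ≫ K.obj.d (n - 1) n := by
    rw [Category.assoc, ← hx', ← Category.assoc π₁, ← Category.assoc π₂, hz, Category.assoc,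
      Category.assoc, (ι K p').comm]
  rw [e1]
  exact mem_image_d K p' (n - 1) n z

/-- Lemma E1a' -/
lemma inf_kernel_le (p q' n : ℤ) (hq' : q' ≤ p) (h : IsZero ((F K p).homology n)) :
    K.filX p n ⊓ kernelSubobject (K.obj.d n (n + 1)) ≤
      K.filX p n ⊓ imageSubobject ((K.filX q' (n - 1)).arrow ≫ K.obj.d (n - 1) n) := by
  obtain ⟨S, hS⟩ : ∃ S, S = K.filX p n ⊓ kernelSubobject (K.obj.d n (n + 1)) := ⟨_, rfl⟩
  rw [← hS]
  have hx1 : (K.filX p n).Factors S.arrow := by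
    rw [hS]; exact Subobject.inf_arrow_factors_left _ _
  have hx2 : S.arrow ≫ K.obj.d n (n + 1) = 0 := by
    rw [← kernelSubobject_factors_iff, hS]; exact Subobject.inf_arrow_factors_right _ _
  obtain ⟨x', hx'⟩ := (mem_filX K p n _).1 hx1
  have hc : x' ≫ (F K p).d n (n + 1) = 0 :=
    cycle_of_ι K p n (n + 1) _ (by rw [hx', hx2])
  have hex : (F K p).ExactAt n := by
    rwa [HomologicalComplex.exactAt_iff_isZero_homology]
  rw [HomologicalComplex.exactAt_iff_exact_up_to_refinements _ (n - 1) n (n + 1)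
    (by simp) (by simp)] at hex
  obtain ⟨T, π, hπ, t, ht⟩ := hex x' hc
  apply le_of_epi_factors π
  rw [Subobject.inf_factors]
  refine ⟨Subobject.factors_of_factors_right _ hx1, ?_⟩
  have e1 : π ≫ S.arrow =
      ((t ≫ (K.stepLE hq').f (n - 1)) ≫ (ι K q').f (n - 1)) ≫ K.obj.d (n - 1) n := by
    rw [← hx', ← Category.assoc, ht]
    simp only [Category.assoc]
    rw [stepLE_f_ι_assoc, (ι K p).comm]
  rw [e1]
  exact mem_image_d K q' (n - 1) n _

/-- Lemma E1a -/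
lemma ZSub_le_BSub_of_isZero (p q q' n : ℤ) (hq : p + 1 ≤ q) (hq' : q' ≤ p)
    (h1 : IsZero ((F K q).homology (n + 1))) (h2 : IsZero ((F K p).homology n)) :
    K.filX p n ⊓ (Subobject.pullback (K.obj.d n (n + 1))).obj (K.filX q (n + 1)) ≤
      (K.filX p n ⊓ imageSubobject ((K.filX q' (n - 1)).arrow ≫ K.obj.d (n - 1) n)) ⊔
        K.filX (p + 1) n :=
  (inf_pullback_le_ZTop K p q n hq h1).trans (sup_le_sup_right (inf_kernel_le K p q' n hq' h2) _)

/-- Lemma E1b -/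
lemma ZSub_le_BSub_of_iso (p q q' n : ℤ) (hq : p + 1 ≤ q) (hq' : q' ≤ p)
    (h1 : Mono (HomologicalComplex.homologyMap (ι K q) (n + 1)))
    (h2 : Epi (HomologicalComplex.homologyMap (ι K q) n))
    (h3 : Mono (HomologicalComplex.homologyMap (ι K p) n)) :
    K.filX p n ⊓ (Subobject.pullback (K.obj.d n (n + 1))).obj (K.filX q (n + 1)) ≤
      (K.filX p n ⊓ imageSubobject ((K.filX q' (n - 1)).arrow ≫ K.obj.d (n - 1) n)) ⊔
        K.filX (p + 1) n := by
  obtain ⟨S, hS⟩ : ∃ S, S = K.filX p n ⊓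
    (Subobject.pullback (K.obj.d n (n + 1))).obj (K.filX q (n + 1)) := ⟨_, rfl⟩
  rw [← hS]
  have hx1 : (K.filX p n).Factors S.arrow := by
    rw [hS]; exact Subobject.inf_arrow_factors_left _ _
  have hx2 : (K.filX q (n + 1)).Factors (S.arrow ≫ K.obj.d n (n + 1)) := by
    rw [hS]
    exact (Limits.pullback_factors_iff _ _ _).1 (Subobject.inf_arrow_factors_right _ _)
  obtain ⟨x₀, hx₀⟩ := (mem_filX K p n _).1 hx1
  obtain ⟨w, hw⟩ := (mem_filX K q (n + 1) _).1 hx2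
  have hwc : w ≫ (F K q).d (n + 1) (n + 1 + 1) = 0 :=
    cycle_of_ι K q (n + 1) (n + 1 + 1) w (by
      rw [hw, Category.assoc, K.obj.d_comp_d, comp_zero])
  rw [HomologicalComplex.mono_homologyMap_iff_up_to_refinements _ n (n + 1) (n + 1 + 1)
    (by simp) (by simp)] at h1
  obtain ⟨T₁, π₁, hπ₁, v, hv⟩ := h1 w hwc S.arrow hw
  obtain ⟨c, hc⟩ : ∃ c : T₁ ⟶ K.obj.X n, c = π₁ ≫ S.arrow - v ≫ (ι K q).f n := ⟨_, rfl⟩
  have hcyc : c ≫ K.obj.d n (n + 1) = 0 := by
    rw [hc, Preadditive.sub_comp, Category.assoc, ← hw, ← Category.assoc, hv, Category.assoc,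
      Category.assoc, (ι K q).comm, sub_self]
  rw [HomologicalComplex.epi_homologyMap_iff_up_to_refinements _ (n - 1) n (n + 1)
    (by simp) (by simp)] at h2
  obtain ⟨T₂, π₂, hπ₂, u', hu', b, hb⟩ := h2 c hcyc
  have hpq : p ≤ q := by omega
  obtain ⟨c₀, hc₀⟩ : ∃ c₀ : T₁ ⟶ (F K p).X n, c₀ = π₁ ≫ x₀ - v ≫ (K.stepLE hpq).f n := ⟨_, rfl⟩
  have hc₀ι : c₀ ≫ (ι K p).f n = c := by
    rw [hc₀, hc, Preadditive.sub_comp, Category.assoc, hx₀, Category.assoc, stepLE_f_ι]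
  obtain ⟨e, he⟩ : ∃ e : T₂ ⟶ (F K p).X n, e = π₂ ≫ c₀ - u' ≫ (K.stepLE hpq).f n := ⟨_, rfl⟩
  have heι : e ≫ (ι K p).f n = b ≫ K.obj.d (n - 1) n := by
    rw [he, Preadditive.sub_comp, Category.assoc, hc₀ι, hb, Category.assoc, stepLE_f_ι,
      add_sub_cancel_left]
  have hec : e ≫ (F K p).d n (n + 1) = 0 :=
    cycle_of_ι K p n (n + 1) _ (by rw [heι, Category.assoc, K.obj.d_comp_d, comp_zero])
  rw [HomologicalComplex.mono_homologyMap_iff_up_to_refinements _ (n - 1) n (n + 1)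
    (by simp) (by simp)] at h3
  obtain ⟨T₃, π₃, hπ₃, t, ht⟩ := h3 e hec b heι
  apply le_of_epi_factors (π₃ ≫ π₂ ≫ π₁)
  have e1 : π₁ ≫ S.arrow = c + v ≫ (ι K q).f n := by rw [hc]; abel
  have e2 : π₂ ≫ c = u' ≫ (ι K q).f n + e ≫ (ι K p).f n := by rw [heι, hb]
  have hkey : (π₃ ≫ π₂ ≫ π₁) ≫ S.arrow =
      (t ≫ (F K p).d (n - 1) n) ≫ (ι K p).f n +
        (π₃ ≫ u' + π₃ ≫ π₂ ≫ v) ≫ (ι K q).f n := by
    calc (π₃ ≫ π₂ ≫ π₁) ≫ S.arrow = π₃ ≫ π₂ ≫ (π₁ ≫ S.arrow) := by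
            simp only [Category.assoc]
      _ = π₃ ≫ (π₂ ≫ c) + π₃ ≫ π₂ ≫ v ≫ (ι K q).f n := by
            rw [e1, Preadditive.comp_add, Preadditive.comp_add]
      _ = (π₃ ≫ u' ≫ (ι K q).f n + (π₃ ≫ e) ≫ (ι K p).f n) +
            π₃ ≫ π₂ ≫ v ≫ (ι K q).f n := by
            rw [e2, Preadditive.comp_add, Category.assoc]
      _ = _ := by
            rw [ht]
            simp only [Preadditive.add_comp, Category.assoc]
            abel
  rw [hkey]
  apply Subobject.factors_add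
  · apply Subobject.sup_factors_of_factors_left
    rw [Subobject.inf_factors]
    refine ⟨mem_filX_of K p n _, ?_⟩
    have e3 : (t ≫ (F K p).d (n - 1) n) ≫ (ι K p).f n =
        ((t ≫ (K.stepLE hq').f (n - 1)) ≫ (ι K q').f (n - 1)) ≫ K.obj.d (n - 1) n := by
      simp only [Category.assoc]
      rw [stepLE_f_ι_assoc, (ι K p).comm]
    rw [e3]
    exact mem_image_d K q' (n - 1) n _
  · apply Subobject.sup_factors_of_factors_right
    exact mem_filX_of_le K hq n _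

end Main


section S6794

variable (K : FilCx A)

lemma ZSub_le_of (r : ℕ) (p n : ℤ) (S : Subobject (K.obj.X n))
    (h : K.filX p n ⊓ (Subobject.pullback (K.obj.d n (n + 1))).obj (K.filX (p + r) (n + 1)) ≤ S)
    (h' : K.filX (p + 1) n ≤ S) : K.ZSub r p n ≤ S := by
  unfold FilCx.ZSub
  exact sup_le h h'

lemma le_BSub_of (r : ℕ) (p n : ℤ) (S : Subobject (K.obj.X n))
    (h : S ≤ (K.filX p n ⊓ imageSubobject ((K.filX (p - r + 1) (n - 1)).arrow ≫
      K.obj.d (n - 1) n)) ⊔ K.filX (p + 1) n) : S ≤ K.BSub r p n := by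
  unfold FilCx.BSub
  exact h

lemma le_BSub_right (r : ℕ) (p n : ℤ) : K.filX (p + 1) n ≤ K.BSub r p n := by
  unfold FilCx.BSub
  exact le_sup_right

lemma le_ZTop_right (p n : ℤ) : K.filX (p + 1) n ≤ K.ZTop p n := by
  unfold FilCx.ZTop
  exact le_sup_right

variable (h0 : ∀ n : ℤ, ∃ p₀ : ℤ, ∀ p : ℤ, p₀ ≤ p →
    IsZero ((K.fil p : CochainComplex A ℤ).homology n))
  (h1 : ∀ n : ℤ, ∃ p₁ : ℤ, ∀ p : ℤ, p ≤ p₁ →
    IsIso (HomologicalComplex.homologyMap (K.fil p).arrow n))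

include h0 in
lemma exists_ZSub_eq_ZTop (p n : ℤ) : ∃ r₀ : ℕ, ∀ r : ℕ, r₀ ≤ r → K.ZSub r p n = K.ZTop p n := by
  obtain ⟨p₀, hp₀⟩ := h0 (n + 1)
  refine ⟨max 1 (p₀ - p).toNat, fun r hr => le_antisymm ?_ (ZTop_le_ZSub K r p n)⟩
  have hr1 : 1 ≤ r := le_trans (le_max_left _ _) hr
  have hr2 : (p₀ - p).toNat ≤ r := le_trans (le_max_right _ _) hr
  apply ZSub_le_of K r p n _ _ (le_ZTop_right K p n)
  exact inf_pullback_le_ZTop K p (p + r) n (by omega) (hp₀ _ (by omega))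

include h1 in
lemma exists_BSub_eq_BBot (p n : ℤ) : ∃ r₀ : ℕ, ∀ r : ℕ, r₀ ≤ r → K.BSub r p n = K.BBot p n := by
  obtain ⟨p₁, hp₁⟩ := h1 n
  refine ⟨(p + 1 - min p p₁).toNat, fun r hr => le_antisymm (BSub_le_BBot K r p n) ?_⟩
  apply le_BSub_of
  unfold FilCx.BBot
  apply sup_le_sup_right
  haveI := hp₁ (p - r + 1) (by omega)
  exact inf_image_le K p (p - r + 1) n (by omega) inferInstance

include h0 h1 in
theorem hFil_isFinite' (n : ℤ) : (K.HFil n).IsFinite := by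
  obtain ⟨p₀, hp₀⟩ := h0 n
  obtain ⟨p₁, hp₁⟩ := h1 n
  refine ⟨⟨p₁, ?_⟩, ⟨p₀, ?_⟩⟩
  · haveI := hp₁ p₁ le_rfl
    exact imageSubobject_eq_top_of_epi _
  · exact imageSubobject_eq_bot_of_isZero _ (hp₀ p₀ le_rfl)

include h0 h1 in
theorem isBounded_one : K.IsBounded 1 := by
  intro n
  obtain ⟨a₀, ha₀⟩ := h0 n
  obtain ⟨a₁, ha₁⟩ := h0 (n + 1)
  obtain ⟨b₀, hb₀⟩ := h1 n
  obtain ⟨b₁, hb₁⟩ := h1 (n + 1)
  apply Set.Finite.subset (Set.finite_Icc (min b₀ b₁ - 1) (max a₀ a₁))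
  intro p hp
  simp only [Set.mem_setOf_eq] at hp
  rw [Set.mem_Icc]
  by_contra hcon
  apply hp
  apply isZero_subquot_of_eq
  apply le_antisymm (K.BSub_le_ZSub 1 p n)
  apply ZSub_le_of K 1 p n _ _ (le_BSub_right K 1 p n)
  apply le_BSub_of
  by_cases hlo : min b₀ b₁ - 1 ≤ p
  · have hhi : max a₀ a₁ < p := by omega
    exact ZSub_le_BSub_of_isZero K p (p + (1 : ℕ)) (p - (1 : ℕ) + 1) n
      (by push_cast; omega) (by push_cast; omega) (ha₁ _ (by push_cast; omega)) (ha₀ _ (by omega))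
  · haveI := hb₁ (p + (1 : ℕ)) (by push_cast; omega)
    haveI := hb₀ (p + (1 : ℕ)) (by push_cast; omega)
    haveI := hb₀ p (by omega)
    exact ZSub_le_BSub_of_iso K p (p + (1 : ℕ)) (p - (1 : ℕ) + 1) n
      (by push_cast; omega) (by push_cast; omega) inferInstance inferInstance inferInstance

include h0 h1 in
/-- **S6794** -/
theorem main_S6794 : K.IsBounded 1 ∧ (∀ n : ℤ, (K.HFil n).IsFinite) ∧ K.Converges := by
  refine ⟨isBounded_one K h0 h1, hFil_isFinite' K h0 h1, ?_, ⟨?_, fun n =>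
      ⟨isSeparated_of_isFinite _ (hFil_isFinite' K h0 h1 n),
        isExhaustive_of_isFinite _ (hFil_isFinite' K h0 h1 n)⟩⟩,
    fun n => isComplete_of_discrete _ (hFil_isFinite' K h0 h1 n).2⟩
  · intro p n
    obtain ⟨r₀, hr₀⟩ := exists_ZSub_eq_ZTop K h0 p n
    exact ⟨r₀, fun r hr => (hr₀ r hr).trans (hr₀ r₀ le_rfl).symm⟩
  · intro p n
    constructor
    · obtain ⟨r₀, hr₀⟩ := exists_ZSub_eq_ZTop K h0 p n
      constructor
      · rintro _ ⟨r, rfl⟩
        exact ZTop_le_ZSub K r p n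
      · intro S hS
        have := hS ⟨r₀, rfl⟩
        simp only at this
        rwa [hr₀ r₀ le_rfl] at this
    · obtain ⟨r₀, hr₀⟩ := exists_BSub_eq_BBot K h1 p n
      constructor
      · rintro _ ⟨r, rfl⟩
        exact BSub_le_BBot K r p n
      · intro S hS
        have := hS ⟨r₀, rfl⟩
        simp only at this
        rwa [hr₀ r₀ le_rfl] at this

end S6794

end Groth.Agent.Helper3.SpFil
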