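import Mathlib
import Groth.Prelude.Def_SpSeq

set_option autoImplicit false
universe v u
open CategoryTheory Limits SpSeq

namespace Groth.Agent.Helper3.SubQuotMap

variable {A : Type u} [Category.{v} A] [Abelian A]

section Basic

variable {X : A} (Z B : Subobject X) (h : B ≤ Z)

/-- the subquotient, reducible form of `SpSeq.subquot` -/
noncomputable abbrev SQ : A := cokernel (B.ofLE Z h)

lemma SQ_eq : SQ Z B h = subquot Z B h := rfl

/-- the projection `Z ⟶ Z/B` -/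
noncomputable def q : (Z : A) ⟶ SQ Z B h := cokernel.π (B.ofLE Z h)

instance : Epi (q Z B h) := by unfold q; infer_instance

lemma q_eq_zero_iff {T : A} (z : T ⟶ (Z : A)) : z ≫ q Z B h = 0 ↔ B.Factors (z ≫ Z.arrow) := by
  constructor
  · intro hz
    have ex : (ShortComplex.mk (B.ofLE Z h) (cokernel.π (B.ofLE Z h))
        (cokernel.condition _)).Exact := ShortComplex.exact_cokernel _
    haveI : Mono (ShortComplex.mk (B.ofLE Z h) (cokernel.π (B.ofLE Z h))
        (cokernel.condition _)).f := by dsimp; infer_instance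
    have hl := ex.lift_f z hz
    dsimp at hl
    rw [← hl, Category.assoc, Subobject.ofLE_arrow]
    exact Subobject.factors_comp_arrow _
  · intro hb
    have e : B.factorThru _ hb ≫ B.ofLE Z h = z := by
      rw [← cancel_mono Z.arrow, Category.assoc, Subobject.ofLE_arrow, Subobject.factorThru_arrow]
    unfold q
    rw [← e, Category.assoc, cokernel.condition, comp_zero]

/-- the class in `Z/B` of a generalized element of `Z` -/
noncomputable def cls {T : A} (x : T ⟶ X) (hx : Z.Factors x) : T ⟶ SQ Z B h :=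
  Z.factorThru x hx ≫ q Z B h

lemma cls_eq_zero_iff {T : A} (x : T ⟶ X) (hx : Z.Factors x) :
    cls Z B h x hx = 0 ↔ B.Factors x := by
  unfold cls
  rw [q_eq_zero_iff, Subobject.factorThru_arrow]

lemma comp_cls {T T' : A} (π : T' ⟶ T) (x : T ⟶ X) (hx : Z.Factors x) :
    π ≫ cls Z B h x hx = cls Z B h (π ≫ x) (Subobject.factors_of_factors_right π hx) := by
  unfold cls
  rw [← Category.assoc]
  congr 1
  rw [← cancel_mono Z.arrow, Category.assoc, Subobject.factorThru_arrow, Subobject.factorThru_arrow]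

lemma cls_congr {T : A} (x y : T ⟶ X) (hx : Z.Factors x) (e : x = y) :
    cls Z B h x hx = cls Z B h y (e ▸ hx) := by
  subst e; rfl

lemma cls_sub {T : A} (x y : T ⟶ X) (hx : Z.Factors x) (hy : Z.Factors y)
    (hxy : Z.Factors (x - y)) :
    cls Z B h (x - y) hxy = cls Z B h x hx - cls Z B h y hy := by
  unfold cls
  rw [← Preadditive.sub_comp]
  congr 1
  rw [← cancel_mono Z.arrow, Preadditive.sub_comp, Subobject.factorThru_arrow,
    Subobject.factorThru_arrow, Subobject.factorThru_arrow]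

lemma exists_cls {T : A} (t : T ⟶ SQ Z B h) :
    ∃ (T' : A) (π : T' ⟶ T) (_ : Epi π) (x : T' ⟶ X) (hx : Z.Factors x),
      π ≫ t = cls Z B h x hx := by
  obtain ⟨T', π, hπ, z, hz⟩ := surjective_up_to_refinements_of_epi (q Z B h) t
  refine ⟨T', π, hπ, z ≫ Z.arrow, Subobject.factors_comp_arrow _, ?_⟩
  rw [hz]
  unfold cls
  congr 1
  rw [← cancel_mono Z.arrow, Subobject.factorThru_arrow]

end Basic

section Map

variable {X Y : A} (f : X ⟶ Y) {Z B : Subobject X} (h : B ≤ Z) {Z' B' : Subobject Y} (h' : B' ≤ Z')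
  (hZ : Z'.Factors (Z.arrow ≫ f)) (hB : B'.Factors (B.arrow ≫ f))

include hZ in
lemma factors_Z {T : A} (x : T ⟶ X) (hx : Z.Factors x) : Z'.Factors (x ≫ f) := by
  rw [← Z.factorThru_arrow x hx, Category.assoc]
  exact Subobject.factors_of_factors_right _ hZ

include hB in
lemma factors_B {T : A} (x : T ⟶ X) (hx : B.Factors x) : B'.Factors (x ≫ f) := by
  rw [← B.factorThru_arrow x hx, Category.assoc]
  exact Subobject.factors_of_factors_right _ hB

/-- the map induced on subquotients -/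
noncomputable def sqMap : SQ Z B h ⟶ SQ Z' B' h' :=
  cokernel.desc _ (Z'.factorThru (Z.arrow ≫ f) hZ ≫ q Z' B' h') (by
    rw [← Category.assoc, q_eq_zero_iff, Category.assoc, Subobject.factorThru_arrow,
      ← Category.assoc, Subobject.ofLE_arrow]
    exact hB)

lemma cls_sqMap {T : A} (x : T ⟶ X) (hx : Z.Factors x) :
    cls Z B h x hx ≫ sqMap f h h' hZ hB = cls Z' B' h' (x ≫ f) (factors_Z f hZ x hx) := by
  unfold cls sqMap q
  rw [Category.assoc, cokernel.π_desc, ← Category.assoc]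
  congr 1
  rw [← cancel_mono Z'.arrow, Category.assoc, Subobject.factorThru_arrow,
    Subobject.factorThru_arrow, ← Category.assoc, Subobject.factorThru_arrow]

lemma mono_sqMap (hm : ∀ ⦃T : A⦄ (x : T ⟶ X), Z.Factors x → B'.Factors (x ≫ f) → B.Factors x) :
    Mono (sqMap f h h' hZ hB) := by
  apply Preadditive.mono_of_cancel_zero
  intro T t ht
  obtain ⟨T', π, hπ, x, hx, e⟩ := exists_cls Z B h t
  rw [← cancel_epi π, comp_zero, e, cls_eq_zero_iff Z B h x hx]
  apply hm x hx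
  rw [← cls_eq_zero_iff Z' B' h' _ (factors_Z f hZ x hx), ← cls_sqMap f h h' hZ hB x hx, ← e,
    Category.assoc, ht, comp_zero]

lemma epi_sqMap (he : ∀ ⦃T : A⦄ (y : T ⟶ Y), Z'.Factors y →
    ∃ (T' : A) (π : T' ⟶ T) (_ : Epi π) (x : T' ⟶ X), Z.Factors x ∧ B'.Factors (π ≫ y - x ≫ f)) :
    Epi (sqMap f h h' hZ hB) := by
  rw [epi_iff_surjective_up_to_refinements]
  intro T t
  obtain ⟨T', π, hπ, y, hy, e⟩ := exists_cls Z' B' h' t
  obtain ⟨T'', π', hπ', x, hx, hb⟩ := he y hy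
  refine ⟨T'', π' ≫ π, epi_comp _ _, cls Z B h x hx, ?_⟩
  rw [cls_sqMap, Category.assoc, e, comp_cls Z' B' h' π' y hy, ← sub_eq_zero,
    ← cls_sub Z' B' h' _ _ _ _ (Subobject.factors_of_le _ h' hb), cls_eq_zero_iff]
  exact hb

end Map

section Exact

variable {X₁ X₂ X₃ : A} (f : X₁ ⟶ X₂) (g : X₂ ⟶ X₃)
  {Z₁ B₁ : Subobject X₁} (h₁ : B₁ ≤ Z₁) {Z₂ B₂ : Subobject X₂} (h₂ : B₂ ≤ Z₂)
  {Z₃ B₃ : Subobject X₃} (h₃ : B₃ ≤ Z₃)
  (hZf : Z₂.Factors (Z₁.arrow ≫ f)) (hBf : B₂.Factors (B₁.arrow ≫ f))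
  (hZg : Z₃.Factors (Z₂.arrow ≫ g)) (hBg : B₃.Factors (B₂.arrow ≫ g))

lemma sqMap_comp_zero (hw : B₃.Factors (Z₁.arrow ≫ f ≫ g)) :
    sqMap f h₁ h₂ hZf hBf ≫ sqMap g h₂ h₃ hZg hBg = 0 := by
  rw [← cancel_epi (q Z₁ B₁ h₁), comp_zero]
  have : q Z₁ B₁ h₁ = cls Z₁ B₁ h₁ Z₁.arrow (Subobject.factors_self _) := by
    unfold cls
    have : Z₁.factorThru Z₁.arrow (Subobject.factors_self _) = 𝟙 _ := by
      rw [← cancel_mono Z₁.arrow, Subobject.factorThru_arrow, Category.id_comp]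
    rw [this, Category.id_comp]
  rw [this, ← Category.assoc, cls_sqMap, cls_sqMap, cls_eq_zero_iff, Category.assoc]
  exact hw

lemma exact_sqMap (hw : B₃.Factors (Z₁.arrow ≫ f ≫ g))
    (hex : ∀ ⦃T : A⦄ (x₂ : T ⟶ X₂), Z₂.Factors x₂ → B₃.Factors (x₂ ≫ g) →
      ∃ (T' : A) (π : T' ⟶ T) (_ : Epi π) (x₁ : T' ⟶ X₁),
        Z₁.Factors x₁ ∧ B₂.Factors (π ≫ x₂ - x₁ ≫ f)) :
    (ShortComplex.mk (sqMap f h₁ h₂ hZf hBf) (sqMap g h₂ h₃ hZg hBg)
      (sqMap_comp_zero f g h₁ h₂ h₃ hZf hBf hZg hBg hw)).Exact := by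
  rw [ShortComplex.exact_iff_exact_up_to_refinements]
  intro T t ht
  dsimp at t ht
  obtain ⟨T', π, hπ, x₂, hx₂, e⟩ := exists_cls Z₂ B₂ h₂ t
  have hb : B₃.Factors (x₂ ≫ g) := by
    rw [← cls_eq_zero_iff Z₃ B₃ h₃ _ (factors_Z g hZg x₂ hx₂), ← cls_sqMap g h₂ h₃ hZg hBg x₂ hx₂, ← e,
      Category.assoc, ht, comp_zero]
  obtain ⟨T'', π', hπ', x₁, hx₁, hb₂⟩ := hex x₂ hx₂ hb
  refine ⟨T'', π' ≫ π, epi_comp _ _, cls Z₁ B₁ h₁ x₁ hx₁, ?_⟩
  dsimp
  rw [cls_sqMap, Category.assoc, e, comp_cls Z₂ B₂ h₂ π' x₂ hx₂, ← sub_eq_zero,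
    ← cls_sub Z₂ B₂ h₂ _ _ _ _ (Subobject.factors_of_le _ h₂ hb₂), cls_eq_zero_iff]
  exact hb₂

end Exact

section Sup

lemma exists_of_sup_factors {X T : A} (S S' : Subobject X) (x : T ⟶ X) (hx : (S ⊔ S').Factors x) :
    ∃ (T' : A) (π : T' ⟶ T) (_ : Epi π) (a b : T' ⟶ X),
      S.Factors a ∧ S'.Factors b ∧ π ≫ x = a + b := by
  have hle : S ⊔ S' ≤ imageSubobject (biprod.desc S.arrow S'.arrow) := by
    apply sup_le
    · refine Subobject.le_of_comm (biprod.inl ≫ factorThruImageSubobject _) ?_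
      rw [Category.assoc, imageSubobject_arrow_comp, biprod.inl_desc]
    · refine Subobject.le_of_comm (biprod.inr ≫ factorThruImageSubobject _) ?_
      rw [Category.assoc, imageSubobject_arrow_comp, biprod.inr_desc]
  have hx' := Subobject.factors_of_le x hle hx
  obtain ⟨T', π, hπ, y, hy⟩ := surjective_up_to_refinements_of_epi
    (factorThruImageSubobject (biprod.desc S.arrow S'.arrow))
    ((imageSubobject (biprod.desc S.arrow S'.arrow)).factorThru x hx')
  refine ⟨T', π, hπ, (y ≫ biprod.fst) ≫ S.arrow, (y ≫ biprod.snd) ≫ S'.arrow,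
    Subobject.factors_comp_arrow _, Subobject.factors_comp_arrow _, ?_⟩
  have h1 := congrArg (fun t => t ≫ (imageSubobject (biprod.desc S.arrow S'.arrow)).arrow) hy
  beta_reduce at h1
  rw [Category.assoc, Subobject.factorThru_arrow, Category.assoc, imageSubobject_arrow_comp] at h1
  rw [h1]
  have h2 : y = (y ≫ biprod.fst) ≫ biprod.inl + (y ≫ biprod.snd) ≫ biprod.inr := by
    rw [Category.assoc, Category.assoc, ← Preadditive.comp_add, biprod.total, Category.comp_id]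
  conv_lhs => rw [h2]
  simp only [Preadditive.add_comp, Category.assoc, biprod.inl_desc, biprod.inr_desc]

lemma sup_factors_add {X T : A} (S S' : Subobject X) (a b : T ⟶ X) (ha : S.Factors a)
    (hb : S'.Factors b) : (S ⊔ S').Factors (a + b) :=
  Subobject.factors_add _ _ (Subobject.factors_of_le _ le_sup_left ha)
    (Subobject.factors_of_le _ le_sup_right hb)

lemma factors_sub {X T : A} (S : Subobject X) (f g : T ⟶ X) (hf : S.Factors f) (hg : S.Factors g) :
    S.Factors (f - g) := by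
  rw [sub_eq_add_neg]
  refine Subobject.factors_add _ _ hf ?_
  rw [← S.factorThru_arrow g hg, ← Preadditive.neg_comp]
  exact Subobject.factors_comp_arrow _

end Sup

section WeakSerre

open ComposableArrows

variable (P : ObjectProperty A) [P.IsClosedUnderIsomorphisms]
  (h0 : ∃ Z : A, IsZero Z ∧ P Z)
  (hP : ∀ S : ComposableArrows A 4, S.Exact → P (S.obj 0) → P (S.obj 1) → P (S.obj 3) →
    P (S.obj 4) → P (S.obj 2))

include h0 in
lemma prop_of_isZero (X : A) (hX : IsZero X) : P X := by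
  obtain ⟨Z, hZ, hPZ⟩ := h0
  exact P.prop_of_iso (hZ.iso hX) hPZ

include h0 hP in
lemma prop_of_kernel {K E E' : A} (i : K ⟶ E) (d : E ⟶ E') [Mono i] (w : i ≫ d = 0)
    (ex : (ShortComplex.mk i d w).Exact) (hE : P E) (hE' : P E') : P K := by
  obtain ⟨Z, hZ, hPZ⟩ := h0
  have e1 : (ShortComplex.mk (0 : Z ⟶ Z) (0 : Z ⟶ K) (by simp)).Exact := by
    rw [ShortComplex.exact_iff_mono _ (by simp)]
    exact ⟨fun _ _ _ => hZ.eq_of_tgt _ _⟩
  have e2 : (ShortComplex.mk (0 : Z ⟶ K) i (by simp)).Exact := by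
    rw [ShortComplex.exact_iff_mono _ (by simp)]
    dsimp; infer_instance
  have hex : (mk₄ (0 : Z ⟶ Z) (0 : Z ⟶ K) i d).Exact :=
    exact_of_δ₀ e1.exact_toComposableArrows
      (exact_of_δ₀ e2.exact_toComposableArrows ex.exact_toComposableArrows)
  exact hP _ hex hPZ hPZ hE hE'

include h0 hP in
lemma prop_of_cokernel {E' K Q : A} (d : E' ⟶ K) (p : K ⟶ Q) [Epi p] (w : d ≫ p = 0)
    (ex : (ShortComplex.mk d p w).Exact) (hE' : P E') (hK : P K) : P Q := by
  obtain ⟨Z, hZ, hPZ⟩ := h0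
  have e2 : (ShortComplex.mk p (0 : Q ⟶ Z) (by simp)).Exact := by
    rw [ShortComplex.exact_iff_epi _ (by simp)]
    dsimp; infer_instance
  have e3 : (ShortComplex.mk (0 : Q ⟶ Z) (0 : Z ⟶ Z) (by simp)).Exact := by
    rw [ShortComplex.exact_iff_epi _ (by simp)]
    exact ⟨fun _ _ _ => hZ.eq_of_src _ _⟩
  have hex : (mk₄ d p (0 : Q ⟶ Z) (0 : Z ⟶ Z)).Exact :=
    exact_of_δ₀ ex.exact_toComposableArrows
      (exact_of_δ₀ e2.exact_toComposableArrows e3.exact_toComposableArrows)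
  exact hP _ hex hE' hK hPZ hPZ

include h0 hP in
lemma prop_of_extension {K E Q : A} (i : K ⟶ E) (p : E ⟶ Q) [Mono i] [Epi p] (w : i ≫ p = 0)
    (ex : (ShortComplex.mk i p w).Exact) (hK : P K) (hQ : P Q) : P E := by
  obtain ⟨Z, hZ, hPZ⟩ := h0
  have e1 : (ShortComplex.mk (0 : Z ⟶ K) i (by simp)).Exact := by
    rw [ShortComplex.exact_iff_mono _ (by simp)]
    dsimp; infer_instance
  have e3 : (ShortComplex.mk p (0 : Q ⟶ Z) (by simp)).Exact := by
    rw [ShortComplex.exact_iff_epi _ (by simp)]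
    dsimp; infer_instance
  have hex : (mk₄ (0 : Z ⟶ K) i p (0 : Q ⟶ Z)).Exact :=
    exact_of_δ₀ e1.exact_toComposableArrows
      (exact_of_δ₀ ex.exact_toComposableArrows e3.exact_toComposableArrows)
  exact hP _ hex hPZ hK hQ hPZ

omit [P.IsClosedUnderIsomorphisms] in
lemma prop_of_mono_epi [P.IsClosedUnderIsomorphisms] {X Y : A} (f : X ⟶ Y) [Mono f] [Epi f]
    (hX : P X) : P Y := by
  haveI := isIso_of_mono_of_epi f
  exact P.prop_of_iso (asIso f) hX

omit [P.IsClosedUnderIsomorphisms] in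
lemma prop_of_mono_epi' [P.IsClosedUnderIsomorphisms] {X Y : A} (f : X ⟶ Y) [Mono f] [Epi f]
    (hY : P Y) : P X := by
  haveI := isIso_of_mono_of_epi f
  exact P.prop_of_iso (asIso f).symm hY

end WeakSerre

end Groth.Agent.Helper3.SubQuotMap
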