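import Groth.Agent.Lib.Helper3.SpFilB
import Groth.Agent.Lib.Helper3.SubQuotMap

/-!
# The pages of the spectral sequence of a filtered complex: `E_{r+1}` as homology of `E_r` (S6793)
-/

set_option autoImplicit false
open CategoryTheory CategoryTheory.Limits

namespace Groth.Agent.Helper3.SpPage

universe v u
variable {A : Type u} [Category.{v} A] [Abelian A]

open SpSeq SpSeq.FilObj SpSeq.FilCx Groth.Agent.Helper3.SpFil Groth.Agent.Helper3.SubQuotMap

section Mem

lemma factors_of_epi_comp {X T T' : A} (S : Subobject X) (π : T' ⟶ T) [Epi π] (x : T ⟶ X)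
    (h : S.Factors (π ≫ x)) : S.Factors x := by
  rw [factors_iff_comp_cokernel] at h ⊢
  rw [Category.assoc] at h
  exact (cancel_epi π).1 (h.trans comp_zero.symm)

variable (K : FilCx A)

lemma filX_d {T : A} (p n m : ℤ) (x : T ⟶ K.obj.X n) (hx : (K.filX p n).Factors x) :
    (K.filX p m).Factors (x ≫ K.obj.d n m) := by
  obtain ⟨x', rfl⟩ := (mem_filX K p n x).1 hx
  rw [Category.assoc, (ι K p).comm, ← Category.assoc]
  exact mem_filX_of K p m _

lemma filX_le {T : A} {p q : ℤ} (h : p ≤ q) (n : ℤ) (x : T ⟶ K.obj.X n)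
    (hx : (K.filX q n).Factors x) : (K.filX p n).Factors x :=
  Subobject.factors_of_le _ (K.filX_anti n h) hx

/-- `F^p K^n ∩ d⁻¹ F^{p+r} K^{n+1}` -/
noncomputable def Zt (r : ℕ) (p n : ℤ) : Subobject (K.obj.X n) :=
  K.filX p n ⊓ (Subobject.pullback (K.obj.d n (n + 1))).obj (K.filX (p + r) (n + 1))

/-- `F^p K^n ∩ d F^{p-r+1} K^{n-1}` -/
noncomputable def Bt (r : ℕ) (p n : ℤ) : Subobject (K.obj.X n) :=
  K.filX p n ⊓ imageSubobject ((K.filX (p - r + 1) (n - 1)).arrow ≫ K.obj.d (n - 1) n)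

lemma ZSub_eq (r : ℕ) (p n : ℤ) : K.ZSub r p n = Zt K r p n ⊔ K.filX (p + 1) n := rfl

lemma BSub_eq (r : ℕ) (p n : ℤ) : K.BSub r p n = Bt K r p n ⊔ K.filX (p + 1) n := rfl

lemma mem_Zt_iff (r : ℕ) (p n q : ℤ) (hq : q = p + r) {T : A} (x : T ⟶ K.obj.X n) :
    (Zt K r p n).Factors x ↔
      (K.filX p n).Factors x ∧ (K.filX q (n + 1)).Factors (x ≫ K.obj.d n (n + 1)) := by
  subst hq
  unfold Zt
  rw [Subobject.inf_factors, Limits.pullback_factors_iff]

lemma mem_Bt_of (r : ℕ) (p n q m : ℤ) (hq : q = p - r + 1) (hm : m = n - 1) {T : A}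
    (x : T ⟶ K.obj.X n) (hx : (K.filX p n).Factors x) (y : T ⟶ K.obj.X m)
    (hy : (K.filX q m).Factors y) (e : x = y ≫ K.obj.d m n) : (Bt K r p n).Factors x := by
  subst hq hm
  unfold Bt
  rw [Subobject.inf_factors]
  refine ⟨hx, ?_⟩
  obtain ⟨y', rfl⟩ := (mem_filX K _ _ y).1 hy
  rw [e]
  exact mem_image_d K _ _ _ y'

lemma exists_of_mem_Bt (r : ℕ) (p n q m : ℤ) (hq : q = p - r + 1) (hm : m = n - 1) {T : A}
    (x : T ⟶ K.obj.X n) (h : (Bt K r p n).Factors x) :
    (K.filX p n).Factors x ∧ ∃ (T' : A) (π : T' ⟶ T) (_ : Epi π) (y : T' ⟶ K.obj.X m),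
      (K.filX q m).Factors y ∧ π ≫ x = y ≫ K.obj.d m n := by
  subst hq hm
  unfold Bt at h
  rw [Subobject.inf_factors] at h
  refine ⟨h.1, ?_⟩
  obtain ⟨T', π, hπ, y, hy⟩ := exists_refinement_of_image_factors _ _ h.2
  exact ⟨T', π, hπ, y ≫ (K.filX _ _).arrow, Subobject.factors_comp_arrow _, by
    rw [hy, Category.assoc]⟩

lemma mem_ZSub_of_Zt (r : ℕ) (p n : ℤ) {T : A} (x : T ⟶ K.obj.X n) (h : (Zt K r p n).Factors x) :
    (K.ZSub r p n).Factors x :=
  Subobject.factors_of_le _ (by rw [ZSub_eq]; exact le_sup_left) h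

lemma mem_BSub_of_Bt (r : ℕ) (p n : ℤ) {T : A} (x : T ⟶ K.obj.X n) (h : (Bt K r p n).Factors x) :
    (K.BSub r p n).Factors x :=
  Subobject.factors_of_le _ (by rw [BSub_eq]; exact le_sup_left) h

lemma mem_BSub_of_fil (r : ℕ) (p n q : ℤ) (hq : p + 1 ≤ q) {T : A} (x : T ⟶ K.obj.X n)
    (h : (K.filX q n).Factors x) : (K.BSub r p n).Factors x :=
  Subobject.factors_of_le _ (by rw [BSub_eq]; exact le_sup_right) (filX_le K hq n x h)

end Mem

section Chase

variable (K : FilCx A)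

lemma d_mem_Zt (r s : ℕ) (p n : ℤ) {T : A} (x : T ⟶ K.obj.X n) (hx : (Zt K r p n).Factors x) :
    (Zt K s (p + r) (n + 1)).Factors (x ≫ K.obj.d n (n + 1)) := by
  obtain ⟨_, hx2⟩ := (mem_Zt_iff K r p n (p + r) rfl x).1 hx
  rw [mem_Zt_iff K s (p + r) (n + 1) _ rfl]
  refine ⟨hx2, ?_⟩
  rw [Category.assoc, K.obj.d_comp_d, comp_zero]
  exact Subobject.factors_zero

lemma d_mem_BSub (r : ℕ) (p n : ℤ) {T : A} (x : T ⟶ K.obj.X n) (hxZ : (Zt K r p n).Factors x)
    (hxB : (K.BSub r p n).Factors x) :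
    (K.BSub r (p + r) (n + 1)).Factors (x ≫ K.obj.d n (n + 1)) := by
  obtain ⟨_, hx2⟩ := (mem_Zt_iff K r p n (p + r) rfl x).1 hxZ
  rw [BSub_eq] at hxB
  obtain ⟨T', π, hπ, b, z, hb, hz, e⟩ := exists_of_sup_factors _ _ x hxB
  obtain ⟨_, T'', π', hπ', y, _, e'⟩ := exists_of_mem_Bt K r p n (p - r + 1) (n - 1) rfl rfl b hb
  haveI : Epi (π' ≫ π) := epi_comp _ _
  apply factors_of_epi_comp _ (π' ≫ π)
  apply mem_BSub_of_Bt
  refine mem_Bt_of K r (p + r) (n + 1) (p + 1) n (by ring) (by ring) _ ?_ (π' ≫ z) ?_ ?_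
  · exact Subobject.factors_of_factors_right _ hx2
  · exact Subobject.factors_of_factors_right _ hz
  · rw [Category.assoc, ← Category.assoc π, e, Preadditive.add_comp, Preadditive.comp_add,
      ← Category.assoc π', e', Category.assoc, K.obj.d_comp_d, comp_zero, zero_add, Category.assoc]

lemma Zt_succ_le (r : ℕ) (p n : ℤ) {T : A} (x : T ⟶ K.obj.X n)
    (hx : (Zt K (r + 1) p n).Factors x) : (Zt K r p n).Factors x := by
  obtain ⟨hx1, hx2⟩ := (mem_Zt_iff K (r + 1) p n (p + r + 1) (by push_cast; ring) x).1 hx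
  rw [mem_Zt_iff K r p n (p + r) rfl]
  exact ⟨hx1, filX_le K (by omega) _ _ hx2⟩

lemma BSub_le_succ (r : ℕ) (p n : ℤ) {T : A} (x : T ⟶ K.obj.X n)
    (hx : (K.BSub r p n).Factors x) : (K.BSub (r + 1) p n).Factors x := by
  rw [BSub_eq] at hx
  obtain ⟨T', π, hπ, b, z, hb, hz, e⟩ := exists_of_sup_factors _ _ x hx
  obtain ⟨hb1, T'', π', hπ', y, hy, e'⟩ :=
    exists_of_mem_Bt K r p n (p - r + 1) (n - 1) rfl rfl b hb
  haveI : Epi (π' ≫ π) := epi_comp _ _
  apply factors_of_epi_comp _ (π' ≫ π)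
  rw [Category.assoc, e, Preadditive.comp_add, BSub_eq]
  refine sup_factors_add _ _ _ _ ?_ (Subobject.factors_of_factors_right _ hz)
  refine mem_Bt_of K (r + 1) p n (p - r) (n - 1) (by push_cast; ring) rfl _
    (Subobject.factors_of_factors_right _ hb1) y (filX_le K (by omega) _ _ hy) e'

end Chase

section Step

variable (K : FilCx A) (P : ObjectProperty A) [P.IsClosedUnderIsomorphisms]
  (h0 : ∃ Z : A, IsZero Z ∧ P Z)
  (hP : ∀ S : ComposableArrows A 4, S.Exact → P (S.obj 0) → P (S.obj 1) → P (S.obj 3) →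
    P (S.obj 4) → P (S.obj 2))

omit [P.IsClosedUnderIsomorphisms] in
/-- `E_r` presented as `Z̃_r / (Z̃_r ∩ B_r)` -/
lemma prop_Et [P.IsClosedUnderIsomorphisms] (r : ℕ) (a b : ℤ) (hr : P (K.E r a b)) :
    P (SQ (Zt K r a b) (Zt K r a b ⊓ K.BSub r a b) inf_le_left) := by
  have hZ : (K.ZSub r a b).Factors ((Zt K r a b).arrow ≫ 𝟙 _) := by
    rw [Category.comp_id]
    exact mem_ZSub_of_Zt K r a b _ (Subobject.factors_self _)
  have hB : (K.BSub r a b).Factors ((Zt K r a b ⊓ K.BSub r a b).arrow ≫ 𝟙 _) := by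
    rw [Category.comp_id]
    exact Subobject.inf_arrow_factors_right _ _
  let α := sqMap (𝟙 (K.obj.X b)) (inf_le_left : Zt K r a b ⊓ K.BSub r a b ≤ Zt K r a b)
    (K.BSub_le_ZSub r a b) hZ hB
  haveI : Mono α := by
    apply mono_sqMap
    intro T x hx hx'
    rw [Category.comp_id] at hx'
    rw [Subobject.inf_factors]
    exact ⟨hx, hx'⟩
  haveI : Epi α := by
    apply epi_sqMap
    intro T y hy
    rw [ZSub_eq] at hy
    obtain ⟨T', π, hπ, u, w, hu, hw, e⟩ := exists_of_sup_factors _ _ y hy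
    refine ⟨T', π, hπ, u, hu, ?_⟩
    rw [Category.comp_id, e, add_sub_cancel_left]
    exact mem_BSub_of_fil K r a b (a + 1) le_rfl _ hw
  exact prop_of_mono_epi' P α hr

include h0 hP in
theorem prop_E_succ_aux (r : ℕ) (hr : ∀ p n : ℤ, P (K.E r p n)) (p' n' : ℤ) :
    P (K.E (r + 1) (p' + r) (n' + 1)) := by
  -- the kernel object
  have hK1 : ∀ p n : ℤ, P (SQ (Zt K (r + 1) p n) (Zt K (r + 1) p n ⊓ K.BSub r p n) inf_le_left) := by
    intro p n
    have hZβ : (Zt K r p n).Factors ((Zt K (r + 1) p n).arrow ≫ 𝟙 _) := by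
      rw [Category.comp_id]
      exact Zt_succ_le K r p n _ (Subobject.factors_self _)
    have hBβ : (Zt K r p n ⊓ K.BSub r p n).Factors
        ((Zt K (r + 1) p n ⊓ K.BSub r p n).arrow ≫ 𝟙 _) := by
      rw [Category.comp_id, Subobject.inf_factors]
      exact ⟨Zt_succ_le K r p n _ (Subobject.inf_arrow_factors_left _ _),
        Subobject.inf_arrow_factors_right _ _⟩
    have hZδ : (K.ZSub r (p + r) (n + 1)).Factors ((Zt K r p n).arrow ≫ K.obj.d n (n + 1)) :=
      mem_ZSub_of_Zt K r _ _ _ (d_mem_Zt K r r p n _ (Subobject.factors_self _))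
    have hBδ : (K.BSub r (p + r) (n + 1)).Factors
        ((Zt K r p n ⊓ K.BSub r p n).arrow ≫ K.obj.d n (n + 1)) :=
      d_mem_BSub K r p n _ (Subobject.inf_arrow_factors_left _ _)
        (Subobject.inf_arrow_factors_right _ _)
    let β := sqMap (𝟙 (K.obj.X n))
      (inf_le_left : Zt K (r + 1) p n ⊓ K.BSub r p n ≤ Zt K (r + 1) p n)
      (inf_le_left : Zt K r p n ⊓ K.BSub r p n ≤ Zt K r p n) hZβ hBβ
    let δt := sqMap (K.obj.d n (n + 1))
      (inf_le_left : Zt K r p n ⊓ K.BSub r p n ≤ Zt K r p n)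
      (K.BSub_le_ZSub r (p + r) (n + 1)) hZδ hBδ
    haveI : Mono β := by
      apply mono_sqMap
      intro T x hx hx'
      rw [Category.comp_id, Subobject.inf_factors] at hx'
      rw [Subobject.inf_factors]
      exact ⟨hx, hx'.2⟩
    have hw : (K.BSub r (p + r) (n + 1)).Factors
        ((Zt K (r + 1) p n).arrow ≫ 𝟙 _ ≫ K.obj.d n (n + 1)) := by
      rw [Category.id_comp]
      obtain ⟨_, h2⟩ := (mem_Zt_iff K (r + 1) p n (p + r + 1) (by push_cast; ring) _).1
        (Subobject.factors_self (Zt K (r + 1) p n))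
      exact mem_BSub_of_fil K r (p + r) (n + 1) (p + r + 1) le_rfl _ h2
    have ex1 := exact_sqMap (𝟙 (K.obj.X n)) (K.obj.d n (n + 1))
      (inf_le_left : Zt K (r + 1) p n ⊓ K.BSub r p n ≤ Zt K (r + 1) p n)
      (inf_le_left : Zt K r p n ⊓ K.BSub r p n ≤ Zt K r p n)
      (K.BSub_le_ZSub r (p + r) (n + 1)) hZβ hBβ hZδ hBδ hw (by
        intro T x₂ hx₂ hdx₂
        obtain ⟨hx₂1, hx₂2⟩ := (mem_Zt_iff K r p n (p + r) rfl x₂).1 hx₂
        rw [BSub_eq] at hdx₂
        obtain ⟨T', π, hπ, b, z, hb, hz, e⟩ := exists_of_sup_factors _ _ _ hdx₂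
        obtain ⟨hb1, T'', π', hπ', y, hy, e'⟩ :=
          exists_of_mem_Bt K r (p + r) (n + 1) (p + 1) n (by ring) (by ring) b hb
        refine ⟨T'', π' ≫ π, epi_comp _ _, (π' ≫ π) ≫ x₂ - y, ?_, ?_⟩
        · rw [mem_Zt_iff K (r + 1) p n (p + r + 1) (by push_cast; ring)]
          refine ⟨SpFil.factors_sub _ _ _ (Subobject.factors_of_factors_right _ hx₂1)
            (filX_le K (by omega) _ _ hy), ?_⟩
          have : ((π' ≫ π) ≫ x₂ - y) ≫ K.obj.d n (n + 1) = π' ≫ z := by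
            rw [Preadditive.sub_comp]
            simp only [Category.assoc]
            rw [e, Preadditive.comp_add, e', add_sub_cancel_left]
          rw [this]
          exact Subobject.factors_of_factors_right _ hz
        · rw [Category.comp_id, sub_sub_cancel, Subobject.inf_factors]
          refine ⟨?_, mem_BSub_of_fil K r p n (p + 1) le_rfl _ hy⟩
          rw [mem_Zt_iff K r p n (p + r) rfl]
          refine ⟨filX_le K (by omega) _ _ hy, ?_⟩
          rw [← e']
          exact Subobject.factors_of_factors_right _ hb1)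
    exact prop_of_kernel P h0 hP β δt _ ex1 (prop_Et K P r p n (hr p n)) (hr (p + r) (n + 1))
  -- the cokernel step
  have hZδ' : (Zt K (r + 1) (p' + r) (n' + 1)).Factors
      ((Zt K r p' n').arrow ≫ K.obj.d n' (n' + 1)) :=
    d_mem_Zt K r (r + 1) p' n' _ (Subobject.factors_self _)
  have hBδ' : (Zt K (r + 1) (p' + r) (n' + 1) ⊓ K.BSub r (p' + r) (n' + 1)).Factors
      ((Zt K r p' n' ⊓ K.BSub r p' n').arrow ≫ K.obj.d n' (n' + 1)) := by
    rw [Subobject.inf_factors]
    exact ⟨d_mem_Zt K r (r + 1) p' n' _ (Subobject.inf_arrow_factors_left _ _),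
      d_mem_BSub K r p' n' _ (Subobject.inf_arrow_factors_left _ _)
        (Subobject.inf_arrow_factors_right _ _)⟩
  have hZγ : (K.ZSub (r + 1) (p' + r) (n' + 1)).Factors
      ((Zt K (r + 1) (p' + r) (n' + 1)).arrow ≫ 𝟙 _) := by
    rw [Category.comp_id]
    exact mem_ZSub_of_Zt K (r + 1) _ _ _ (Subobject.factors_self _)
  have hBγ : (K.BSub (r + 1) (p' + r) (n' + 1)).Factors
      ((Zt K (r + 1) (p' + r) (n' + 1) ⊓ K.BSub r (p' + r) (n' + 1)).arrow ≫ 𝟙 _) := by
    rw [Category.comp_id]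
    exact BSub_le_succ K r _ _ _ (Subobject.inf_arrow_factors_right _ _)
  let δ' := sqMap (K.obj.d n' (n' + 1))
    (inf_le_left : Zt K r p' n' ⊓ K.BSub r p' n' ≤ Zt K r p' n')
    (inf_le_left : Zt K (r + 1) (p' + r) (n' + 1) ⊓ K.BSub r (p' + r) (n' + 1) ≤
      Zt K (r + 1) (p' + r) (n' + 1)) hZδ' hBδ'
  let γ := sqMap (𝟙 (K.obj.X (n' + 1)))
    (inf_le_left : Zt K (r + 1) (p' + r) (n' + 1) ⊓ K.BSub r (p' + r) (n' + 1) ≤
      Zt K (r + 1) (p' + r) (n' + 1))
    (K.BSub_le_ZSub (r + 1) (p' + r) (n' + 1)) hZγ hBγ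
  haveI : Epi γ := by
    apply epi_sqMap
    intro T y hy
    rw [ZSub_eq] at hy
    obtain ⟨T', π, hπ, u, w, hu, hw, e⟩ := exists_of_sup_factors _ _ y hy
    refine ⟨T', π, hπ, u, hu, ?_⟩
    rw [Category.comp_id, e, add_sub_cancel_left]
    exact mem_BSub_of_fil K (r + 1) _ _ _ le_rfl _ hw
  have hw : (K.BSub (r + 1) (p' + r) (n' + 1)).Factors
      ((Zt K r p' n').arrow ≫ K.obj.d n' (n' + 1) ≫ 𝟙 _) := by
    rw [Category.comp_id]
    obtain ⟨h1, h2⟩ := (mem_Zt_iff K r p' n' (p' + r) rfl _).1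
      (Subobject.factors_self (Zt K r p' n'))
    apply mem_BSub_of_Bt
    exact mem_Bt_of K (r + 1) (p' + r) (n' + 1) p' n' (by push_cast; ring) (by ring) _ h2 _ h1 rfl
  have ex2 := exact_sqMap (K.obj.d n' (n' + 1)) (𝟙 (K.obj.X (n' + 1)))
    (inf_le_left : Zt K r p' n' ⊓ K.BSub r p' n' ≤ Zt K r p' n')
    (inf_le_left : Zt K (r + 1) (p' + r) (n' + 1) ⊓ K.BSub r (p' + r) (n' + 1) ≤
      Zt K (r + 1) (p' + r) (n' + 1))
    (K.BSub_le_ZSub (r + 1) (p' + r) (n' + 1)) hZδ' hBδ' hZγ hBγ hw (by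
      intro T x₂ hx₂ hx₂B
      rw [Category.comp_id, BSub_eq] at hx₂B
      obtain ⟨hx₂1, hx₂2⟩ := (mem_Zt_iff K (r + 1) (p' + r) (n' + 1) (p' + r + r + 1)
        (by push_cast; ring) x₂).1 hx₂
      obtain ⟨T', π, hπ, b, z, hb, hz, e⟩ := exists_of_sup_factors _ _ _ hx₂B
      obtain ⟨hb1, T'', π', hπ', y, hy, e'⟩ :=
        exists_of_mem_Bt K (r + 1) (p' + r) (n' + 1) p' n' (by push_cast; ring) (by ring) b hb
      refine ⟨T'', π' ≫ π, epi_comp _ _, y, ?_, ?_⟩
      · rw [mem_Zt_iff K r p' n' (p' + r) rfl]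
        refine ⟨hy, ?_⟩
        rw [← e']
        exact Subobject.factors_of_factors_right _ hb1
      · have e2 : (π' ≫ π) ≫ x₂ - y ≫ K.obj.d n' (n' + 1) = π' ≫ z := by
          rw [Category.assoc, e, Preadditive.comp_add, e', add_sub_cancel_left]
        rw [e2, Subobject.inf_factors]
        refine ⟨?_, mem_BSub_of_fil K r _ _ _ le_rfl _
          (Subobject.factors_of_factors_right _ hz)⟩
        rw [mem_Zt_iff K (r + 1) (p' + r) (n' + 1) (p' + r + r + 1) (by push_cast; ring)]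
        refine ⟨filX_le K (by omega) _ _ (Subobject.factors_of_factors_right _ hz), ?_⟩
        rw [← e2]
        simp only [Preadditive.sub_comp, Category.assoc, HomologicalComplex.d_comp_d, comp_zero,
          sub_zero]
        exact Subobject.factors_of_factors_right _ (Subobject.factors_of_factors_right _ hx₂2))
  change P (SQ (K.ZSub (r + 1) (p' + r) (n' + 1)) (K.BSub (r + 1) (p' + r) (n' + 1))
    (K.BSub_le_ZSub (r + 1) (p' + r) (n' + 1)))
  exact prop_of_cokernel P h0 hP δ' γ _ ex2 (prop_Et K P r p' n' (hr p' n'))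
    (hK1 (p' + r) (n' + 1))

end Step

section Abut

variable (K : FilCx A)

lemma BBot_le_ZTop (p n : ℤ) : K.BBot p n ≤ K.ZTop p n := by
  unfold FilCx.BBot FilCx.ZTop
  refine sup_le_sup_right (inf_le_inf_left _ ?_) _
  exact le_kernelSubobject _ _ (imageSubobject_arrow_comp_eq_zero (by simp))

lemma mem_filH_of {T : A} (q n : ℤ) (c' : T ⟶ (F K q).X n)
    (hc' : c' ≫ (F K q).d n (n + 1) = 0)
    (hc : (c' ≫ (ι K q).f n) ≫ K.obj.d n (n + 1) = 0) :
    (K.filH q n).Factors (K.obj.liftCycles (c' ≫ (ι K q).f n) (n + 1) (by simp) hc ≫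
      K.obj.homologyπ n) := by
  have e : K.obj.liftCycles (c' ≫ (ι K q).f n) (n + 1) (by simp) hc =
      (F K q).liftCycles c' (n + 1) (by simp) hc' ≫ HomologicalComplex.cyclesMap (ι K q) n := by
    rw [HomologicalComplex.liftCycles_comp_cyclesMap]
  rw [e, Category.assoc, ← HomologicalComplex.homologyπ_naturality, ← Category.assoc]
  unfold FilCx.filH
  exact imageSubobject_factors_comp_self _ _

lemma exists_of_mem_filH {T : A} (q n : ℤ) (h : T ⟶ K.obj.homology n)
    (hh : (K.filH q n).Factors h) :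
    ∃ (T' : A) (π : T' ⟶ T) (_ : Epi π) (c' : T' ⟶ (F K q).X n)
      (_ : c' ≫ (F K q).d n (n + 1) = 0)
      (hc : (c' ≫ (ι K q).f n) ≫ K.obj.d n (n + 1) = 0),
      π ≫ h = K.obj.liftCycles (c' ≫ (ι K q).f n) (n + 1) (by simp) hc ≫ K.obj.homologyπ n := by
  unfold FilCx.filH at hh
  obtain ⟨T', π, hπ, h', e⟩ := exists_refinement_of_image_factors _ _ hh
  obtain ⟨T'', π', hπ', c', hc', e'⟩ :=
    (F K q).eq_liftCycles_homologyπ_up_to_refinements h' (n + 1) (by simp)
  have hc : (c' ≫ (ι K q).f n) ≫ K.obj.d n (n + 1) = 0 := by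
    rw [Category.assoc, (ι K q).comm, reassoc_of% hc', zero_comp]
  refine ⟨T'', π' ≫ π, epi_comp _ _, c', hc', hc, ?_⟩
  rw [Category.assoc, e, reassoc_of% e', HomologicalComplex.homologyπ_naturality,
    ← Category.assoc, HomologicalComplex.liftCycles_comp_cyclesMap]

lemma eq_liftCycles {T : A} (n : ℤ) (x : T ⟶ K.obj.cycles n) :
    x = K.obj.liftCycles (x ≫ K.obj.iCycles n) (n + 1) (by simp) (by simp) := by
  rw [← cancel_mono (K.obj.iCycles n), HomologicalComplex.liftCycles_i]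

end Abut

section Abut2

variable (K : FilCx A)

lemma factors_filH_of_cycle {T : A} (q n : ℤ) (x : T ⟶ K.obj.cycles n)
    (hx : (K.filX q n).Factors (x ≫ K.obj.iCycles n)) :
    (K.filH q n).Factors (x ≫ K.obj.homologyπ n) := by
  obtain ⟨c', hc'⟩ := (mem_filX K q n _).1 hx
  have hcyc : (c' ≫ (ι K q).f n) ≫ K.obj.d n (n + 1) = 0 := by
    rw [hc', Category.assoc, HomologicalComplex.iCycles_d, comp_zero]
  have h1 := mem_filH_of K q n c' (cycle_of_ι K q n (n + 1) c' hcyc) hcyc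
  have e : x = K.obj.liftCycles (c' ≫ (ι K q).f n) (n + 1) (by simp) hcyc := by
    rw [← cancel_mono (K.obj.iCycles n), HomologicalComplex.liftCycles_i, hc']
  rw [e]
  exact h1

lemma homologyπ_eq_of_sub_boundary {T : A} (n : ℤ) (x x' : T ⟶ K.obj.cycles n)
    (y : T ⟶ K.obj.X (n - 1))
    (e : x ≫ K.obj.iCycles n = x' ≫ K.obj.iCycles n + y ≫ K.obj.d (n - 1) n) :
    x ≫ K.obj.homologyπ n = x' ≫ K.obj.homologyπ n := by
  rw [eq_liftCycles K n x, eq_liftCycles K n x']
  rw [K.obj.liftCycles_comp_homologyπ_eq_iff_up_to_refinements (n - 1) n (n + 1) (by simp) (by simp)]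
  exact ⟨T, 𝟙 T, inferInstance, y, by rw [Category.id_comp, Category.id_comp, e]⟩

lemma exists_sub_boundary {T : A} (n : ℤ) (x x' : T ⟶ K.obj.cycles n)
    (e : x ≫ K.obj.homologyπ n = x' ≫ K.obj.homologyπ n) :
    ∃ (T' : A) (π : T' ⟶ T) (_ : Epi π) (y : T' ⟶ K.obj.X (n - 1)),
      π ≫ x ≫ K.obj.iCycles n = π ≫ x' ≫ K.obj.iCycles n + y ≫ K.obj.d (n - 1) n := by
  rw [eq_liftCycles K n x, eq_liftCycles K n x'] at e
  rw [K.obj.liftCycles_comp_homologyπ_eq_iff_up_to_refinements (n - 1) n (n + 1) (by simp)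
    (by simp)] at e
  exact e

end Abut2

section Gr

variable (K : FilCx A) (P : ObjectProperty A) [P.IsClosedUnderIsomorphisms]

theorem prop_gr (p n : ℤ)
    (hE : P (SQ (K.ZTop p n) (K.BBot p n) (BBot_le_ZTop K p n))) : P ((K.HFil n).gr p) := by
  obtain ⟨Zc, hZc⟩ : ∃ Zc : Subobject (K.obj.cycles n),
    Zc = (Subobject.pullback (K.obj.iCycles n)).obj (K.filX p n) := ⟨_, rfl⟩
  obtain ⟨Bc, hBc⟩ : ∃ Bc : Subobject (K.obj.cycles n),
    Bc = Zc ⊓ (Subobject.pullback (K.obj.iCycles n)).obj (K.BBot p n) := ⟨_, rfl⟩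
  have memZc : ∀ {T : A} (x : T ⟶ K.obj.cycles n),
      Zc.Factors x ↔ (K.filX p n).Factors (x ≫ K.obj.iCycles n) := fun x => by
    rw [hZc]; exact Limits.pullback_factors_iff _ _ _
  have memBc : ∀ {T : A} (x : T ⟶ K.obj.cycles n),
      Bc.Factors x ↔ Zc.Factors x ∧ (K.BBot p n).Factors (x ≫ K.obj.iCycles n) := fun x => by
    rw [hBc, Subobject.inf_factors, Limits.pullback_factors_iff]
  have hBZ : Bc ≤ Zc := by rw [hBc]; exact inf_le_left
  -- first map
  have hZ1 : (K.ZTop p n).Factors (Zc.arrow ≫ K.obj.iCycles n) := by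
    unfold FilCx.ZTop
    apply Subobject.sup_factors_of_factors_left
    rw [Subobject.inf_factors]
    refine ⟨(memZc _).1 (Subobject.factors_self _), (kernelSubobject_factors_iff _ _).2 ?_⟩
    rw [Category.assoc, HomologicalComplex.iCycles_d, comp_zero]
  have hB1 : (K.BBot p n).Factors (Bc.arrow ≫ K.obj.iCycles n) :=
    ((memBc _).1 (Subobject.factors_self _)).2
  let φ₁ := sqMap (K.obj.iCycles n) hBZ (BBot_le_ZTop K p n) hZ1 hB1
  haveI : Mono φ₁ := by
    apply mono_sqMap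
    intro T x hx hx'
    exact (memBc x).2 ⟨hx, hx'⟩
  haveI : Epi φ₁ := by
    apply epi_sqMap
    intro T y hy
    unfold FilCx.ZTop at hy
    obtain ⟨T', π, hπ, a, b, ha, hb, e⟩ := exists_of_sup_factors _ _ y hy
    rw [Subobject.inf_factors, kernelSubobject_factors_iff] at ha
    refine ⟨T', π, hπ, K.obj.liftCycles a (n + 1) (by simp) ha.2, ?_, ?_⟩
    · rw [memZc, HomologicalComplex.liftCycles_i]
      exact ha.1
    · rw [HomologicalComplex.liftCycles_i, e, add_sub_cancel_left]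
      unfold FilCx.BBot
      exact Subobject.sup_factors_of_factors_right hb
  have h1 : P (SQ Zc Bc hBZ) := prop_of_mono_epi' P φ₁ hE
  -- second map
  have hZ2 : (K.filH p n).Factors (Zc.arrow ≫ K.obj.homologyπ n) :=
    factors_filH_of_cycle K p n _ ((memZc _).1 (Subobject.factors_self _))
  have key : ∀ {T : A} (x : T ⟶ K.obj.cycles n), Zc.Factors x →
      ((K.BBot p n).Factors (x ≫ K.obj.iCycles n) ↔
        (K.filH (p + 1) n).Factors (x ≫ K.obj.homologyπ n)) := by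
    intro T x hx
    constructor
    · intro hxB
      unfold FilCx.BBot at hxB
      obtain ⟨T', π, hπ, a, b, ha, hb, e⟩ := exists_of_sup_factors _ _ _ hxB
      rw [Subobject.inf_factors] at ha
      obtain ⟨T'', π', hπ', y, hy⟩ := exists_refinement_of_image_factors _ _ ha.2
      haveI : Epi (π' ≫ π) := epi_comp _ _
      apply factors_of_epi_comp _ (π' ≫ π)
      have hbc : (π' ≫ b) ≫ K.obj.d n (n + 1) = 0 := by
        have : π' ≫ b = (π' ≫ π) ≫ x ≫ K.obj.iCycles n - y ≫ K.obj.d (n - 1) n := by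
          rw [Category.assoc, e, Preadditive.comp_add, hy, add_sub_cancel_left]
        rw [this, Preadditive.sub_comp]
        simp only [Category.assoc, HomologicalComplex.iCycles_d, comp_zero,
          HomologicalComplex.d_comp_d, sub_self]
      have e2 : ((π' ≫ π) ≫ x) ≫ K.obj.homologyπ n =
          K.obj.liftCycles (π' ≫ b) (n + 1) (by simp) hbc ≫ K.obj.homologyπ n := by
        apply homologyπ_eq_of_sub_boundary K n _ _ y
        rw [HomologicalComplex.liftCycles_i, Category.assoc, Category.assoc, e,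
          Preadditive.comp_add, hy, add_comm]
      rw [← Category.assoc, e2]
      apply factors_filH_of_cycle
      rw [HomologicalComplex.liftCycles_i]
      exact Subobject.factors_of_factors_right _ hb
    · intro hxH
      obtain ⟨T', π, hπ, c', hc', hc, e⟩ := exists_of_mem_filH K (p + 1) n _ hxH
      rw [← Category.assoc] at e
      obtain ⟨T'', π', hπ', y, e'⟩ := exists_sub_boundary K n _ _ e
      haveI : Epi (π' ≫ π) := epi_comp _ _
      apply factors_of_epi_comp _ (π' ≫ π)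
      rw [HomologicalComplex.liftCycles_i] at e'
      have e3 : (π' ≫ π) ≫ x ≫ K.obj.iCycles n =
          y ≫ K.obj.d (n - 1) n + (π' ≫ c') ≫ (ι K (p + 1)).f n := by
        rw [Category.assoc, add_comm, Category.assoc, ← e']
        simp only [Category.assoc]
      rw [e3]
      unfold FilCx.BBot
      refine sup_factors_add _ _ _ _ ?_ (mem_filX_of K (p + 1) n _)
      rw [Subobject.inf_factors]
      refine ⟨?_, imageSubobject_factors_comp_self _ _⟩
      have : y ≫ K.obj.d (n - 1) n =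
          (π' ≫ π) ≫ x ≫ K.obj.iCycles n - (π' ≫ c') ≫ (ι K (p + 1)).f n := by
        rw [e3, add_sub_cancel_right]
      rw [this]
      exact SpFil.factors_sub _ _ _
        (Subobject.factors_of_factors_right _ ((memZc x).1 hx))
        (mem_filX_of_le K (by omega) n _)
  have hB2 : (K.filH (p + 1) n).Factors (Bc.arrow ≫ K.obj.homologyπ n) :=
    (key _ ((memBc _).1 (Subobject.factors_self _)).1).1 ((memBc _).1 (Subobject.factors_self _)).2
  let φ₂ := sqMap (K.obj.homologyπ n) hBZ (K.filH_anti n (by omega : p ≤ p + 1)) hZ2 hB2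
  haveI : Mono φ₂ := by
    apply mono_sqMap
    intro T x hx hx'
    exact (memBc x).2 ⟨hx, (key x hx).2 hx'⟩
  haveI : Epi φ₂ := by
    apply epi_sqMap
    intro T y hy
    obtain ⟨T', π, hπ, c', hc', hc, e⟩ := exists_of_mem_filH K p n _ hy
    refine ⟨T', π, hπ, K.obj.liftCycles (c' ≫ (ι K p).f n) (n + 1) (by simp) hc, ?_, ?_⟩
    · rw [memZc, HomologicalComplex.liftCycles_i]
      exact mem_filX_of K p n _
    · rw [e, sub_self]
      exact Subobject.factors_zero
  change P (SQ (K.filH p n) (K.filH (p + 1) n) (K.filH_anti n (by omega : p ≤ p + 1)))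
  exact prop_of_mono_epi P φ₂ h1

end Gr

section Final

variable (P : ObjectProperty A) [P.IsClosedUnderIsomorphisms]
  (h0 : ∃ Z : A, IsZero Z ∧ P Z)
  (hP : ∀ S : ComposableArrows A 4, S.Exact → P (S.obj 0) → P (S.obj 1) → P (S.obj 3) →
    P (S.obj 4) → P (S.obj 2))

lemma isZero_of_eq_bot {X : A} (S : Subobject X) (h : S = ⊥) : IsZero (S : A) := by
  subst h
  exact (isZero_zero A).of_iso Subobject.botCoeIsoZero

lemma nonempty_iso_of_eq_top {X : A} (S : Subobject X) (h : S = ⊤) : Nonempty ((S : A) ≅ X) := by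
  subst h
  exact ⟨asIso (⊤ : Subobject X).arrow⟩

include h0 hP in
lemma prop_fil_step (L : FilObj A) (q : ℤ) (h1 : P (L.step (q + 1))) (h2 : P (L.gr q)) :
    P (L.step q) := by
  have ex : (ShortComplex.mk ((L.fil (q + 1)).ofLE (L.fil q) (L.anti (Int.le_add_one le_rfl)))
      (cokernel.π _) (cokernel.condition _)).Exact := ShortComplex.exact_cokernel _
  exact prop_of_extension P h0 hP _ _ _ ex h1 h2

include h0 hP in
theorem prop_of_finite_gr (L : FilObj A) (hL : L.IsFinite) (hgr : ∀ p : ℤ, P (L.gr p)) :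
    P L.obj := by
  obtain ⟨⟨a, ha⟩, ⟨b, hb⟩⟩ := hL
  have step : ∀ k : ℕ, P (L.step (b - k)) := by
    intro k
    induction k with
    | zero =>
      apply prop_of_isZero P h0
      apply isZero_of_eq_bot
      simpa using hb
    | succ k ih =>
      apply prop_fil_step P h0 hP L _ _ (hgr _)
      have : b - ((k + 1 : ℕ) : ℤ) + 1 = b - k := by push_cast; ring
      rw [this]
      exact ih
  obtain ⟨e⟩ := nonempty_iso_of_eq_top (L.fil (b - (b - a).toNat))
    (fil_eq_top_of_le L ha (by omega))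
  exact P.prop_of_iso e (step _)

lemma prop_SQ_congr {X : A} {Z Z' B B' : Subobject X} (hZ : Z = Z') (hB : B = B') (h : B ≤ Z)
    (h' : B' ≤ Z') (hp : P (SQ Z B h)) : P (SQ Z' B' h') := by
  subst hZ hB
  exact hp

include h0 hP in
theorem main_S6793 (K : FilCx A) (hK : ∀ n : ℤ, (K.XFil n).IsFinite) (r : ℕ)
    (hr : ∀ p n : ℤ, P (K.E r p n)) (n : ℤ) : P (K.obj.homology n) := by
  have hsucc : ∀ s : ℕ, (∀ p n : ℤ, P (K.E s p n)) → ∀ p n : ℤ, P (K.E (s + 1) p n) := by
    intro s hs p n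
    have := prop_E_succ_aux K P h0 hP s hs (p - s) (n - 1)
    rwa [show p - (s : ℤ) + s = p by ring, show n - 1 + 1 = n by ring] at this
  have hE : ∀ s : ℕ, r ≤ s → ∀ p n : ℤ, P (K.E s p n) := by
    intro s hs
    induction s, hs using Nat.le_induction with
    | base => exact hr
    | succ s _ ih => exact hsucc s ih
  have hgr : ∀ p : ℤ, P ((K.HFil n).gr p) := by
    intro p
    obtain ⟨_, ⟨b, hb⟩⟩ := hK (n + 1)
    obtain ⟨⟨a, ha⟩, _⟩ := hK (n - 1)
    obtain ⟨s, hs⟩ : ∃ s : ℕ, s = max r (max (b - p).toNat (p + 1 - a).toNat) := ⟨_, rfl⟩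
    have hs1 : r ≤ s := by rw [hs]; exact le_max_left _ _
    have hs2 : (b - p).toNat ≤ s := by
      rw [hs]; exact le_trans (le_max_left _ _) (le_max_right _ _)
    have hs3 : (p + 1 - a).toNat ≤ s := by
      rw [hs]; exact le_trans (le_max_right _ _) (le_max_right _ _)
    have e1 : K.ZSub s p n = K.ZTop p n :=
      ZSub_eq_ZTop K s p n (fil_eq_bot_of_le (K.XFil (n + 1)) hb (by omega))
    have e2 : K.BSub s p n = K.BBot p n :=
      BSub_eq_BBot K s p n (fil_eq_top_of_le (K.XFil (n - 1)) ha (by omega))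
    exact prop_gr K P p n (prop_SQ_congr P e1 e2 (K.BSub_le_ZSub s p n) _ (hE s hs1 p n))
  exact prop_of_finite_gr P h0 hP (K.HFil n) (hFil_isFinite K hK n) hgr

end Final

end Groth.Agent.Helper3.SpPage
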