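import Mathlib
import Groth.Agent.Lib.Helper3.FFRDet

/-!
# The spectrum multiset of a `ℂ[X]`-module which is finite dimensional over `ℂ`

For `V : ModuleCat ℂ[X]`, `spec V` is the multiset of roots of the characteristic polynomial of
multiplication by `X` on the underlying complex vector space (or `0` if `V` is not finite
dimensional).  It is additive in short exact sequences, which gives the behaviour of traces,
dimensions and eigenvalues on homology.
-/

open CategoryTheory CategoryTheory.Limits Polynomial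

universe u

namespace Groth.Agent.Lib.Helper3.SpecTrace

/-- restriction of scalars to `ℂ`. -/
noncomputable abbrev RS : ModuleCat.{u} ℂ[X] ⥤ ModuleCat.{u} ℂ :=
  ModuleCat.restrictScalars (algebraMap ℂ ℂ[X])

/-- finite dimensional over `ℂ`. -/
abbrev FD (V : ModuleCat.{u} ℂ[X]) : Prop := Module.Finite ℂ (RS.obj V)

/-- multiplication by `X` as a `ℂ`-linear endomorphism. -/
noncomputable abbrev Phi (V : ModuleCat.{u} ℂ[X]) : RS.obj V →ₗ[ℂ] RS.obj V :=
  (RS.map ((X : ℂ[X]) • 𝟙 V)).hom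

lemma RS_map_Phi {V W : ModuleCat.{u} ℂ[X]} (f : V ⟶ W) (v : RS.obj V) :
    (RS.map f).hom (Phi V v) = Phi W ((RS.map f).hom v) := by
  show f.hom ((X : ℂ[X]) • (show V from v)) = (X : ℂ[X]) • f.hom (show V from v)
  exact map_smul f.hom X _

open Classical in
/-- the spectrum multiset. -/
noncomputable def spec (V : ModuleCat.{u} ℂ[X]) : Multiset ℂ :=
  if h : FD V then (haveI : Module.Finite ℂ (RS.obj V) := h; (LinearMap.charpoly (Phi V)).roots)
  else 0

lemma spec_eq (V : ModuleCat.{u} ℂ[X]) [h : FD V] :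
    spec V = (LinearMap.charpoly (Phi V)).roots := by
  unfold spec
  rw [dif_pos h]

lemma trace_eq (V : ModuleCat.{u} ℂ[X]) [FD V] :
    LinearMap.trace ℂ (RS.obj V) (Phi V) = (spec V).sum := by
  rw [spec_eq]
  exact Module.End.trace_eq_sum_roots_charpoly_of_splits (IsAlgClosed.splits _)

lemma card_spec (V : ModuleCat.{u} ℂ[X]) [FD V] :
    Multiset.card (spec V) = Module.finrank ℂ (RS.obj V) := by
  rw [spec_eq, ← LinearMap.charpoly_natDegree (Phi V)]
  exact IsAlgClosed.card_roots_eq_natDegree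

lemma mem_spec (V : ModuleCat.{u} ℂ[X]) [FD V] (μ : ℂ) :
    μ ∈ spec V ↔ Module.End.HasEigenvalue (Phi V) μ := by
  rw [spec_eq, Polynomial.mem_roots (LinearMap.charpoly_monic _).ne_zero,
    Module.End.hasEigenvalue_iff_isRoot_charpoly]

lemma fd_of_injective {V W : ModuleCat.{u} ℂ[X]} (f : V ⟶ W) (hf : Function.Injective f.hom)
    (hW : FD W) : FD V :=
  haveI := hW
  Module.Finite.of_injective (RS.map f).hom hf

lemma fd_of_surjective {V W : ModuleCat.{u} ℂ[X]} (f : V ⟶ W) (hf : Function.Surjective f.hom)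
    (hV : FD V) : FD W :=
  haveI := hV
  Module.Finite.of_surjective (RS.map f).hom hf

lemma finite_of_exact {W₁ W₂ W₃ : Type*} [AddCommGroup W₁] [Module ℂ W₁] [AddCommGroup W₂]
    [Module ℂ W₂] [AddCommGroup W₃] [Module ℂ W₃] (i : W₁ →ₗ[ℂ] W₂) (g : W₂ →ₗ[ℂ] W₃)
    (hex : Function.Exact i g) (hg : Function.Surjective g) [Module.Finite ℂ W₁]
    [Module.Finite ℂ W₃] : Module.Finite ℂ W₂ := by
  refine ⟨Submodule.fg_of_fg_map_of_fg_inf_ker g ?_ ?_⟩
  · rw [Submodule.map_top, LinearMap.range_eq_top.mpr hg]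
    exact Module.Finite.fg_top
  · rw [top_inf_eq, LinearMap.exact_iff.mp hex, LinearMap.range_eq_map]
    exact Module.Finite.fg_top.map i

lemma fd_of_exact {V₁ V₂ V₃ : ModuleCat.{u} ℂ[X]} (f : V₁ ⟶ V₂) (g : V₂ ⟶ V₃)
    (hg : Function.Surjective g.hom) (hex : Function.Exact f.hom g.hom)
    (h₁ : FD V₁) (h₃ : FD V₃) : FD V₂ :=
  haveI := h₁
  haveI := h₃
  finite_of_exact (RS.map f).hom (RS.map g).hom hex hg

theorem spec_add {V₁ V₂ V₃ : ModuleCat.{u} ℂ[X]} (f : V₁ ⟶ V₂) (g : V₂ ⟶ V₃)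
    (hf : Function.Injective f.hom) (hg : Function.Surjective g.hom)
    (hex : Function.Exact f.hom g.hom) (h₁ : FD V₁) (h₂ : FD V₂) (h₃ : FD V₃) :
    spec V₂ = spec V₁ + spec V₃ := by
  haveI := h₁
  haveI := h₂
  haveI := h₃
  rw [spec_eq, spec_eq, spec_eq]
  obtain ⟨hcp, -⟩ := FFRDet.charpoly_of_exact (RS.map f).hom (RS.map g).hom hf hg hex
    (Phi V₁) (Phi V₂) (Phi V₃) (fun k => RS_map_Phi f k) (fun k => RS_map_Phi g k)
  rw [hcp, Polynomial.roots_mul]
  exact mul_ne_zero (LinearMap.charpoly_monic _).ne_zero (LinearMap.charpoly_monic _).ne_zero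

theorem spec_iso {V W : ModuleCat.{u} ℂ[X]} (e : V ≅ W) (hV : FD V) :
    FD W ∧ spec W = spec V := by
  haveI := hV
  let l : RS.obj V ≃ₗ[ℂ] RS.obj W := (RS.mapIso e).toLinearEquiv
  haveI hW : FD W := Module.Finite.equiv l
  refine ⟨hW, ?_⟩
  rw [spec_eq, spec_eq]
  have h1 : ∀ x, l x = (RS.map e.hom).hom x := fun x => rfl
  have hconj : l.conj (Phi V) = Phi W := by
    apply LinearMap.ext
    intro w
    rw [LinearEquiv.conj_apply_apply, h1, RS_map_Phi, ← h1, LinearEquiv.apply_symm_apply]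
  rw [← hconj, LinearEquiv.charpoly_conj]

theorem spec_of_isZero {V : ModuleCat.{u} ℂ[X]} (hV : IsZero V) : FD V ∧ spec V = 0 := by
  haveI : Subsingleton V := ModuleCat.subsingleton_of_isZero hV
  haveI : Subsingleton (RS.obj V) := ‹Subsingleton V›
  haveI hfd : FD V := inferInstance
  refine ⟨hfd, ?_⟩
  apply Multiset.card_eq_zero.mp
  rw [card_spec]
  exact Module.finrank_zero_of_subsingleton

/-- the spectrum of the kernel of a morphism. -/
noncomputable def Zsp {V W : ModuleCat.{u} ℂ[X]} (f : V ⟶ W) : Multiset ℂ :=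
  spec (ModuleCat.of ℂ[X] (LinearMap.ker f.hom))

theorem Zsp_zero {V W : ModuleCat.{u} ℂ[X]} (f : V ⟶ W) (hf : f = 0) (hV : FD V) :
    Zsp f = spec V := by
  let l : LinearMap.ker f.hom ≃ₗ[ℂ[X]] V :=
    LinearEquiv.ofBijective (LinearMap.ker f.hom).subtype
      ⟨Subtype.val_injective, fun v => ⟨⟨v, by rw [LinearMap.mem_ker, hf]; rfl⟩, rfl⟩⟩
  exact (spec_iso l.toModuleIso.symm hV).2

theorem Zsp_le {V W : ModuleCat.{u} ℂ[X]} (f : V ⟶ W) (hV : FD V) : Zsp f ≤ spec V := by
  have hex_c : Function.Exact (LinearMap.ker f.hom).subtype f.hom.rangeRestrict := by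
    intro y
    constructor
    · intro hy
      refine ⟨⟨y, ?_⟩, rfl⟩
      have := congrArg Subtype.val hy
      simpa using this
    · rintro ⟨⟨z, hz⟩, rfl⟩
      apply Subtype.ext
      simpa using hz
  have hkg : FD (ModuleCat.of ℂ[X] (LinearMap.ker f.hom)) :=
    fd_of_injective (W := V) (ModuleCat.ofHom (LinearMap.ker f.hom).subtype)
      Subtype.val_injective hV
  have hrg : FD (ModuleCat.of ℂ[X] (LinearMap.range f.hom)) :=
    fd_of_surjective (V := V) (ModuleCat.ofHom f.hom.rangeRestrict)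
      f.hom.surjective_rangeRestrict hV
  have hc : spec V = spec (ModuleCat.of ℂ[X] (LinearMap.ker f.hom)) +
      spec (ModuleCat.of ℂ[X] (LinearMap.range f.hom)) :=
    spec_add (V₂ := V) (ModuleCat.ofHom (LinearMap.ker f.hom).subtype)
      (ModuleCat.ofHom f.hom.rangeRestrict) Subtype.val_injective
      f.hom.surjective_rangeRestrict hex_c hkg hV hrg
  rw [hc]
  exact Multiset.le_add_right _ _

theorem spec_homology (S : ShortComplex (ModuleCat.{u} ℂ[X])) (h₁ : FD S.X₁) (h₂ : FD S.X₂) :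
    FD S.homology ∧ spec S.homology ≤ spec S.X₂ ∧
      spec S.homology + spec S.X₁ = Zsp S.g + Zsp S.f := by
  -- (c) `ker g → X₂ → range g`
  have hex_c : Function.Exact (LinearMap.ker S.g.hom).subtype S.g.hom.rangeRestrict := by
    intro y
    constructor
    · intro hy
      refine ⟨⟨y, ?_⟩, rfl⟩
      have := congrArg Subtype.val hy
      simpa using this
    · rintro ⟨⟨z, hz⟩, rfl⟩
      apply Subtype.ext
      simpa using hz
  have hkg : FD (ModuleCat.of ℂ[X] (LinearMap.ker S.g.hom)) :=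
    fd_of_injective (W := S.X₂) (ModuleCat.ofHom (LinearMap.ker S.g.hom).subtype)
      Subtype.val_injective h₂
  have hrg : FD (ModuleCat.of ℂ[X] (LinearMap.range S.g.hom)) :=
    fd_of_surjective (V := S.X₂) (ModuleCat.ofHom S.g.hom.rangeRestrict)
      S.g.hom.surjective_rangeRestrict h₂
  have hc : spec S.X₂ = spec (ModuleCat.of ℂ[X] (LinearMap.ker S.g.hom)) +
      spec (ModuleCat.of ℂ[X] (LinearMap.range S.g.hom)) :=
    spec_add (V₂ := S.X₂) (ModuleCat.ofHom (LinearMap.ker S.g.hom).subtype)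
      (ModuleCat.ofHom S.g.hom.rangeRestrict) Subtype.val_injective
      S.g.hom.surjective_rangeRestrict hex_c hkg h₂ hrg
  -- (a) `ker f → X₁ → range f'`
  have hex_a : Function.Exact (LinearMap.ker S.f.hom).subtype
      S.moduleCatToCycles.rangeRestrict := by
    intro y
    constructor
    · intro hy
      refine ⟨⟨y, ?_⟩, rfl⟩
      have := congrArg (fun w => ((w : LinearMap.ker S.g.hom) : S.X₂)) (congrArg Subtype.val hy)
      simpa using this
    · rintro ⟨⟨z, hz⟩, rfl⟩
      apply Subtype.ext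
      apply Subtype.ext
      simpa using hz
  have hkf : FD (ModuleCat.of ℂ[X] (LinearMap.ker S.f.hom)) :=
    fd_of_injective (W := S.X₁) (ModuleCat.ofHom (LinearMap.ker S.f.hom).subtype)
      Subtype.val_injective h₁
  have hrf : FD (ModuleCat.of ℂ[X] (LinearMap.range S.moduleCatToCycles)) :=
    fd_of_surjective (V := S.X₁) (ModuleCat.ofHom S.moduleCatToCycles.rangeRestrict)
      S.moduleCatToCycles.surjective_rangeRestrict h₁
  have ha : spec S.X₁ = spec (ModuleCat.of ℂ[X] (LinearMap.ker S.f.hom)) +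
      spec (ModuleCat.of ℂ[X] (LinearMap.range S.moduleCatToCycles)) :=
    spec_add (V₂ := S.X₁) (ModuleCat.ofHom (LinearMap.ker S.f.hom).subtype)
      (ModuleCat.ofHom S.moduleCatToCycles.rangeRestrict) Subtype.val_injective
      S.moduleCatToCycles.surjective_rangeRestrict hex_a hkf h₁ hrf
  -- (b) `range f' → ker g → H'`
  have hH' : FD (ModuleCat.of ℂ[X]
      (LinearMap.ker S.g.hom ⧸ LinearMap.range S.moduleCatToCycles)) :=
    fd_of_surjective (ModuleCat.ofHom (LinearMap.range S.moduleCatToCycles).mkQ)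
      (Submodule.mkQ_surjective _) hkg
  have hb : spec (ModuleCat.of ℂ[X] (LinearMap.ker S.g.hom)) =
      spec (ModuleCat.of ℂ[X] (LinearMap.range S.moduleCatToCycles)) +
      spec (ModuleCat.of ℂ[X] (LinearMap.ker S.g.hom ⧸ LinearMap.range S.moduleCatToCycles)) :=
    spec_add (ModuleCat.ofHom (LinearMap.range S.moduleCatToCycles).subtype)
      (ModuleCat.ofHom (LinearMap.range S.moduleCatToCycles).mkQ) Subtype.val_injective
      (Submodule.mkQ_surjective _) (LinearMap.exact_subtype_mkQ _) hrf hkg hH'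
  obtain ⟨hH, hHspec⟩ := spec_iso S.moduleCatHomologyIso.symm hH'
  have hHspec' : spec S.homology = spec (ModuleCat.of ℂ[X]
      (LinearMap.ker S.g.hom ⧸ LinearMap.range S.moduleCatToCycles)) := hHspec
  refine ⟨hH, ?_, ?_⟩
  · rw [hHspec', hc, hb]
    exact (Multiset.le_add_left _ _).trans (Multiset.le_add_right _ _)
  · show _ = spec (ModuleCat.of ℂ[X] (LinearMap.ker S.g.hom)) +
      spec (ModuleCat.of ℂ[X] (LinearMap.ker S.f.hom))
    rw [hHspec', ha, hb]
    abel

theorem spec_homology_of_zero (S : ShortComplex (ModuleCat.{u} ℂ[X])) (h₁ : FD S.X₁)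
    (h₂ : FD S.X₂) (hf : S.f = 0) (hg : S.g = 0) : spec S.homology = spec S.X₂ := by
  obtain ⟨-, -, h⟩ := spec_homology S h₁ h₂
  rw [Zsp_zero _ hg h₂, Zsp_zero _ hf h₁] at h
  exact add_right_cancel h

/-! ### Homological complexes of shape `up' a` -/

section Cx

variable {a : ℤ × ℤ} (K : HomologicalComplex (ModuleCat.{u} ℂ[X]) (ComplexShape.up' a))

lemma prev_eq (i : ℤ × ℤ) : (ComplexShape.up' a).prev i = i - a :=
  (ComplexShape.up' a).prev_eq' (sub_add_cancel i a)

lemma next_eq (i : ℤ × ℤ) : (ComplexShape.up' a).next i = i + a :=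
  (ComplexShape.up' a).next_eq' rfl

theorem spec_homology_cx (hfd : ∀ j, FD (K.X j)) (i : ℤ × ℤ) :
    FD (K.homology i) ∧ spec (K.homology i) ≤ spec (K.X i) ∧
      spec (K.homology i) + spec (K.X (i - a)) =
        Zsp (K.d i (i + a)) + Zsp (K.d (i - a) i) := by
  have h := spec_homology (K.sc i) (hfd _) (hfd _)
  have h' : FD (K.homology i) ∧ spec (K.homology i) ≤ spec (K.X i) ∧
      spec (K.homology i) + spec (K.X ((ComplexShape.up' a).prev i)) =
        Zsp (K.d i ((ComplexShape.up' a).next i)) +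
          Zsp (K.d ((ComplexShape.up' a).prev i) i) := h
  rw [prev_eq, next_eq] at h'
  exact h'

theorem spec_homology_cx_of_zero (hfd : ∀ j, FD (K.X j)) (i : ℤ × ℤ)
    (h1 : K.d (i - a) i = 0) (h2 : K.d i (i + a) = 0) :
    spec (K.homology i) = spec (K.X i) := by
  obtain ⟨-, -, h⟩ := spec_homology_cx K hfd i
  rw [Zsp_zero _ h2 (hfd _), Zsp_zero _ h1 (hfd _)] at h
  exact add_right_cancel h

end Cx

/-! ### A norm bound -/

lemma norm_sum_le_of_le {Z Sp : Multiset ℂ} (hZ : Z ≤ Sp) {ρ : ℝ} (hρ : 0 ≤ ρ)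
    (hb : ∀ μ ∈ Sp, ‖μ‖ ≤ ρ) {n : ℕ} (hn : Multiset.card Sp ≤ n) : ‖Z.sum‖ ≤ n * ρ := by
  calc ‖Z.sum‖ ≤ (Z.map fun x => ‖x‖).sum := norm_multiset_sum_le Z
    _ ≤ Multiset.card (Z.map fun x => ‖x‖) • ρ := Multiset.sum_le_card_nsmul _ _ (by
        intro x hx
        obtain ⟨μ, hμ, rfl⟩ := Multiset.mem_map.mp hx
        exact hb μ (Multiset.mem_of_le hZ hμ))
    _ = (Multiset.card Z : ℝ) * ρ := by rw [Multiset.card_map, nsmul_eq_mul]
    _ ≤ n * ρ := by
        apply mul_le_mul_of_nonneg_right _ hρ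
        exact_mod_cast (Multiset.card_le_card hZ).trans hn

end Groth.Agent.Lib.Helper3.SpecTrace
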