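import Mathlib
import Groth.Prelude.Def_SpSeq
import Groth.Agent.Lib.Helper3.SpecTrace

/-!
# Trace formula for first quadrant spectral sequences of `ℂ[X]`-modules
-/

open CategoryTheory CategoryTheory.Limits Polynomial
open Groth.Agent.Lib.Helper3.SpecTrace

universe u

namespace Groth.Agent.Lib.Helper3.SpSeqTrace

/-! ### Bound functions -/

noncomputable def Cc (c : ℕ → ℝ) (d : ℕ → ℕ) (p : ℤ) : ℝ :=
  if 0 ≤ p then c p.toNat * (d p.toNat : ℝ) else 0

noncomputable def Aa (N : ℕ) (a : ℕ → ℝ) (b : ℕ → ℕ) (q : ℤ) : ℝ :=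
  if 0 ≤ q ∧ q ≤ (N : ℤ) then a q.toNat * (b q.toNat : ℝ) else 0

noncomputable def G (N : ℕ) (a c : ℕ → ℝ) (b d : ℕ → ℕ) (pq : ℤ × ℤ) : ℝ :=
  Cc c d pq.1 * Aa N a b pq.2

section Bounds

variable {N : ℕ} {a c : ℕ → ℝ} {b d : ℕ → ℕ}

lemma Cc_nonneg (hc : ∀ p, 0 ≤ c p) (p : ℤ) : 0 ≤ Cc c d p := by
  unfold Cc
  split_ifs
  · exact mul_nonneg (hc _) (Nat.cast_nonneg _)
  · exact le_rfl

lemma Aa_nonneg (ha : ∀ q, 0 ≤ a q) (q : ℤ) : 0 ≤ Aa N a b q := by
  unfold Aa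
  split_ifs
  · exact mul_nonneg (ha _) (Nat.cast_nonneg _)
  · exact le_rfl

lemma G_nonneg (ha : ∀ q, 0 ≤ a q) (hc : ∀ p, 0 ≤ c p) (pq : ℤ × ℤ) : 0 ≤ G N a c b d pq :=
  mul_nonneg (Cc_nonneg hc _) (Aa_nonneg ha _)

lemma summable_G (ha : ∀ q, 0 ≤ a q) (hc : ∀ p, 0 ≤ c p)
    (hsum : Summable fun p : ℕ => c p * (d p : ℝ)) : Summable (G N a c b d) := by
  have h1 : Summable (Cc c d) := by
    have h0 : Summable ((Cc c d) ∘ (Nat.cast : ℕ → ℤ)) := by
      have : (Cc c d) ∘ (Nat.cast : ℕ → ℤ) = fun p : ℕ => c p * (d p : ℝ) := by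
        funext p
        simp [Cc]
      rw [this]
      exact hsum
    refine (Nat.cast_injective.summable_iff (fun x hx => ?_)).mp h0
    unfold Cc
    rw [if_neg]
    intro h0x
    exact hx ⟨x.toNat, Int.toNat_of_nonneg h0x⟩
  have h2 : Summable (Aa N a b) := by
    refine summable_of_ne_finset_zero (s := Finset.Icc (0 : ℤ) N) (fun q hq => ?_)
    unfold Aa
    rw [if_neg]
    intro h
    exact hq (Finset.mem_Icc.mpr h)
  exact h1.mul_of_nonneg h2 (Cc_nonneg hc) (Aa_nonneg ha)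

end Bounds

/-! ### Bounded pages -/

/-- the boundedness condition on a page. -/
def PageBdd (Y : ℤ × ℤ → ModuleCat.{u} ℂ[X]) (N : ℕ) (a c : ℕ → ℝ) (b d : ℕ → ℕ) : Prop :=
  (∀ pq : ℤ × ℤ, pq.1 < 0 ∨ pq.2 < 0 → IsZero (Y pq)) ∧
  (∀ pq : ℤ × ℤ, Module.Finite ℂ
    ((ModuleCat.restrictScalars (algebraMap ℂ ℂ[X])).obj (Y pq))) ∧
  (∀ p q : ℕ, N < q → IsZero (Y ((p : ℤ), (q : ℤ)))) ∧
  (∀ (p q : ℕ) (μ : ℂ), Module.End.HasEigenvalue
      ((ModuleCat.restrictScalars (algebraMap ℂ ℂ[X])).map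
        ((X : ℂ[X]) • 𝟙 (Y ((p : ℤ), (q : ℤ))))).hom μ → ‖μ‖ ≤ a q * c p) ∧
  (∀ p q : ℕ, Module.finrank ℂ
    ((ModuleCat.restrictScalars (algebraMap ℂ ℂ[X])).obj (Y ((p : ℤ), (q : ℤ)))) ≤ b q * d p)

/-- the alternating sum of traces of a page. -/
noncomputable def altsum (Y : ℤ × ℤ → ModuleCat.{u} ℂ[X]) : ℂ :=
  ∑' pq : ℕ × ℕ, (-1 : ℂ) ^ (pq.1 + pq.2) *
    LinearMap.trace ℂ _ (Phi (Y ((pq.1 : ℤ), (pq.2 : ℤ))))

section

variable {N : ℕ} {a c : ℕ → ℝ} {b d : ℕ → ℕ}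

lemma bound_of_le {Y : ℤ × ℤ → ModuleCat.{u} ℂ[X]} (h : PageBdd Y N a c b d)
    (ha : ∀ q, 0 ≤ a q) (hc : ∀ p, 0 ≤ c p) (pq : ℤ × ℤ) {Z : Multiset ℂ}
    (hZ : Z ≤ spec (Y pq)) : ‖Z.sum‖ ≤ G N a c b d pq := by
  obtain ⟨hq, hfd, hN, hev, hdim⟩ := h
  have hzero : IsZero (Y pq) → ‖Z.sum‖ ≤ G N a c b d pq := by
    intro hz
    have h0 : spec (Y pq) = 0 := (spec_of_isZero hz).2
    rw [h0] at hZ
    have : Z = 0 := Multiset.le_zero.mp hZ
    rw [this, Multiset.sum_zero, norm_zero]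
    exact G_nonneg ha hc pq
  obtain ⟨p, q⟩ := pq
  by_cases hneg : p < 0 ∨ q < 0
  · exact hzero (hq (p, q) hneg)
  · push Not at hneg
    obtain ⟨hp, hq'⟩ := hneg
    lift p to ℕ using hp
    lift q to ℕ using hq'
    by_cases hNq : N < q
    · exact hzero (hN p q hNq)
    · haveI : FD (Y ((p : ℤ), (q : ℤ))) := hfd _
      have hq2 : q ≤ N := not_lt.mp hNq
      have hG : G N a c b d ((p : ℤ), (q : ℤ)) = ((b q * d p : ℕ) : ℝ) * (a q * c p) := by
        unfold G Cc Aa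
        dsimp only
        rw [if_pos (by positivity : (0 : ℤ) ≤ p),
          if_pos ⟨(by positivity : (0 : ℤ) ≤ q), by exact_mod_cast hq2⟩]
        simp only [Int.toNat_natCast, Nat.cast_mul]
        ring
      rw [hG]
      exact norm_sum_le_of_le hZ (mul_nonneg (ha q) (hc p))
        (fun μ hμ => hev p q μ ((mem_spec _ μ).mp hμ))
        (by rw [card_spec]; exact hdim p q)

lemma tsum_nat_eq_tsum_int (Xf : ℤ × ℤ → ℂ)
    (h0 : ∀ pq : ℤ × ℤ, pq.1 < 0 ∨ pq.2 < 0 → Xf pq = 0) :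
    ∑' pq : ℕ × ℕ, Xf ((pq.1 : ℤ), (pq.2 : ℤ)) = ∑' pq : ℤ × ℤ, Xf pq := by
  have hinj : Function.Injective (fun pq : ℕ × ℕ => (((pq.1 : ℤ), (pq.2 : ℤ)) : ℤ × ℤ)) := by
    intro x y hxy
    simp only [Prod.mk.injEq, Nat.cast_inj] at hxy
    exact Prod.ext hxy.1 hxy.2
  refine hinj.tsum_eq (f := Xf) ?_
  intro pq hpq
  by_contra hr
  apply hpq
  apply h0
  by_contra hneg
  push Not at hneg
  exact hr ⟨(pq.1.toNat, pq.2.toNat), by
    apply Prod.ext
    · exact Int.toNat_of_nonneg hneg.1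
    · exact Int.toNat_of_nonneg hneg.2⟩

/-- the alternating sum as a sum over `ℤ × ℤ`. -/
lemma altsum_eq {Y : ℤ × ℤ → ModuleCat.{u} ℂ[X]} (h : PageBdd Y N a c b d) :
    altsum Y = ∑' pq : ℤ × ℤ, (-1 : ℂ) ^ (pq.1 + pq.2) * (spec (Y pq)).sum := by
  obtain ⟨hq, hfd, -, -, -⟩ := h
  rw [← tsum_nat_eq_tsum_int (fun pq : ℤ × ℤ => (-1 : ℂ) ^ (pq.1 + pq.2) * (spec (Y pq)).sum)
    (fun pq hpq => by
      have : spec (Y pq) = 0 := (spec_of_isZero (hq pq hpq)).2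
      simp only [this, Multiset.sum_zero, mul_zero])]
  unfold altsum
  apply tsum_congr
  intro pq
  haveI : FD (Y ((pq.1 : ℤ), (pq.2 : ℤ))) := hfd _
  simp only
  rw [trace_eq, ← Nat.cast_add, zpow_natCast]

theorem page_step {a₀ : ℤ × ℤ} (ha₀ : a₀.1 + a₀.2 = 1)
    (K : HomologicalComplex (ModuleCat.{u} ℂ[X]) (ComplexShape.up' a₀))
    (Y' : ℤ × ℤ → ModuleCat.{u} ℂ[X]) (e : ∀ pq, K.homology pq ≅ Y' pq)
    (ha : ∀ q, 0 ≤ a q) (hc : ∀ p, 0 ≤ c p)
    (hsum : Summable fun p : ℕ => c p * (d p : ℝ))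
    (h : PageBdd (fun pq => K.X pq) N a c b d) :
    PageBdd Y' N a c b d ∧ altsum Y' = altsum (fun pq => K.X pq) := by
  have hfd : ∀ j, FD (K.X j) := h.2.1
  have key : ∀ pq, FD (Y' pq) ∧ spec (Y' pq) = spec (K.homology pq) ∧
      spec (K.homology pq) ≤ spec (K.X pq) := fun pq => by
    obtain ⟨h1, h2, -⟩ := spec_homology_cx K hfd pq
    obtain ⟨h3, h4⟩ := spec_iso (e pq) h1
    exact ⟨h3, h4, h2⟩
  have hle : ∀ pq, spec (Y' pq) ≤ spec (K.X pq) := fun pq => by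
    rw [(key pq).2.1]
    exact (key pq).2.2
  have hzero : ∀ pq, IsZero (K.X pq) → IsZero (Y' pq) := fun pq hz =>
    IsZero.of_iso ((K.sc pq).isZero_homology_of_isZero_X₂ hz) (e pq).symm
  have hB' : PageBdd Y' N a c b d := by
    obtain ⟨hq, -, hN, hev, hdim⟩ := h
    refine ⟨fun pq hpq => hzero pq (hq pq hpq), fun pq => (key pq).1,
      fun p q hNq => hzero _ (hN p q hNq), fun p q μ hμ => ?_, fun p q => ?_⟩
    · haveI := (key ((p : ℤ), (q : ℤ))).1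
      haveI := hfd ((p : ℤ), (q : ℤ))
      have h1 : μ ∈ spec (Y' ((p : ℤ), (q : ℤ))) := (mem_spec _ μ).mpr hμ
      exact hev p q μ ((mem_spec _ μ).mp (Multiset.mem_of_le (hle _) h1))
    · haveI := (key ((p : ℤ), (q : ℤ))).1
      haveI := hfd ((p : ℤ), (q : ℤ))
      have h1 := Multiset.card_le_card (hle ((p : ℤ), (q : ℤ)))
      rw [card_spec, card_spec] at h1
      exact h1.trans (hdim p q)
  refine ⟨hB', ?_⟩
  rw [altsum_eq hB', altsum_eq h]
  let sg : ℤ × ℤ → ℂ := fun pq => (-1 : ℂ) ^ (pq.1 + pq.2)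
  let t : ℤ × ℤ → ℂ := fun pq => (spec (K.X pq)).sum
  let t' : ℤ × ℤ → ℂ := fun pq => (spec (Y' pq)).sum
  let z : ℤ × ℤ → ℂ := fun pq => (Zsp (K.d pq (pq + a₀))).sum
  have hsg_norm : ∀ pq, ‖sg pq‖ = 1 := fun pq => by
    simp only [sg, norm_zpow, norm_neg, norm_one, one_zpow]
  have hsg_shift : ∀ pq, sg (pq - a₀) = - sg pq := by
    intro pq
    have h1 : (pq - a₀).1 + (pq - a₀).2 = pq.1 + pq.2 - 1 := by
      simp only [Prod.fst_sub, Prod.snd_sub]
      linarith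
    simp only [sg]
    rw [h1, zpow_sub₀ (by norm_num : (-1 : ℂ) ≠ 0), zpow_one, div_neg, div_one]
  have hrel : ∀ pq, t' pq + t (pq - a₀) = z pq + z (pq - a₀) := by
    intro pq
    obtain ⟨-, -, h3⟩ := spec_homology_cx K hfd pq
    have hz : ∀ i j : ℤ × ℤ, j = i + a₀ → (Zsp (K.d i j)).sum = z i := by
      intro i j hij
      subst hij
      rfl
    have h4 := congrArg Multiset.sum h3
    rw [Multiset.sum_add, Multiset.sum_add, ← (key pq).2.1, hz pq (pq + a₀) rfl,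
      hz (pq - a₀) pq (sub_add_cancel pq a₀).symm] at h4
    exact h4
  have hGs : Summable (G N a c b d) := summable_G ha hc hsum
  have hbd : ∀ pq {Z : Multiset ℂ}, Z ≤ spec (K.X pq) →
      ‖sg pq * Z.sum‖ ≤ G N a c b d pq := by
    intro pq Z hZ
    rw [norm_mul, hsg_norm, one_mul]
    exact bound_of_le h ha hc pq hZ
  let F : ℤ × ℤ → ℂ := fun pq => sg pq * z pq
  let T : ℤ × ℤ → ℂ := fun pq => sg pq * t pq
  have hF : Summable F :=
    Summable.of_norm_bounded hGs (fun pq => hbd pq (Zsp_le _ (hfd pq)))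
  have hT : Summable T := Summable.of_norm_bounded hGs (fun pq => hbd pq le_rfl)
  have hshift : ∀ f : ℤ × ℤ → ℂ, (fun pq => f (pq - a₀)) = f ∘ (Equiv.subRight a₀) := by
    intro f
    funext pq
    simp [Equiv.subRight_apply]
  have hFs : Summable (fun pq => F (pq - a₀)) := by
    rw [hshift]
    exact (Equiv.subRight a₀).summable_iff.mpr hF
  have hTs : Summable (fun pq => T (pq - a₀)) := by
    rw [hshift]
    exact (Equiv.subRight a₀).summable_iff.mpr hT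
  have e1 : ∑' pq, F (pq - a₀) = ∑' pq, F pq := by
    have := (Equiv.subRight a₀).tsum_eq F
    simpa [Equiv.subRight_apply] using this
  have e2 : ∑' pq, T (pq - a₀) = ∑' pq, T pq := by
    have := (Equiv.subRight a₀).tsum_eq T
    simpa [Equiv.subRight_apply] using this
  have hpt : ∀ pq, sg pq * t' pq = F pq - F (pq - a₀) + T (pq - a₀) := by
    intro pq
    have ht' : t' pq = z pq + z (pq - a₀) - t (pq - a₀) := by
      rw [← hrel pq]
      ring
    simp only [F, T]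
    rw [hsg_shift, ht']
    ring
  calc ∑' pq : ℤ × ℤ, (-1 : ℂ) ^ (pq.1 + pq.2) * (spec (Y' pq)).sum
      = ∑' pq, (F pq - F (pq - a₀) + T (pq - a₀)) := tsum_congr hpt
    _ = (∑' pq, F pq - ∑' pq, F (pq - a₀)) + ∑' pq, T (pq - a₀) := by
        rw [(hF.sub hFs).tsum_add hTs, hF.tsum_sub hFs]
    _ = ∑' pq, T pq := by rw [e1, e2, sub_self, zero_add]

end

/-! ### Spectral sequences -/

section SS

variable (E : E₂CohomologicalSpectralSequence (ModuleCat.{u} ℂ[X]))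
variable (N : ℕ) (a c : ℕ → ℝ) (b d : ℕ → ℕ)

/-- the objects of the `r`-th page. -/
noncomputable abbrev Yr (r : ℤ) (hr : 2 ≤ r) : ℤ × ℤ → ModuleCat.{u} ℂ[X] :=
  fun pq => (E.page r hr).X pq

theorem step (ha : ∀ q, 0 ≤ a q) (hc : ∀ p, 0 ≤ c p)
    (hsum : Summable fun p : ℕ => c p * (d p : ℝ)) (r : ℤ) (hr : 2 ≤ r)
    (h : PageBdd (Yr E r hr) N a c b d) :
    PageBdd (Yr E (r + 1) (Int.le_add_one hr)) N a c b d ∧
      altsum (Yr E (r + 1) (Int.le_add_one hr)) = altsum (Yr E r hr) :=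
  page_step (a₀ := (r, 1 - r)) (by simp) (E.page r hr) _
    (fun pq => E.iso r (r + 1) pq rfl hr) ha hc hsum h

variable {N a c b d}

theorem all_pages (ha : ∀ q, 0 ≤ a q) (hc : ∀ p, 0 ≤ c p)
    (hsum : Summable fun p : ℕ => c p * (d p : ℝ))
    (h2 : PageBdd (Yr E 2 le_rfl) N a c b d) :
    ∀ (r : ℤ) (hr : 2 ≤ r), PageBdd (Yr E r hr) N a c b d ∧
      altsum (Yr E r hr) = altsum (Yr E 2 le_rfl) := by
  intro r hr
  induction r, hr using Int.le_induction with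
  | base => exact ⟨h2, rfl⟩
  | succ r hr ih =>
    obtain ⟨h1, h3⟩ := step E N a c b d ha hc hsum r hr ih.1
    exact ⟨h1, h3.trans ih.2⟩

lemma d_eq_zero (r : ℤ) (hr : 2 ≤ r) (hR : (N : ℤ) + 2 ≤ r)
    (h : PageBdd (Yr E r hr) N a c b d) (i j : ℤ × ℤ) : (E.page r hr).d i j = 0 := by
  by_cases hrel : (ComplexShape.up' ((r, 1 - r) : ℤ × ℤ)).Rel i j
  · obtain ⟨hq, -, hN, -, -⟩ := h
    have hj : j = i + (r, 1 - r) := hrel.symm
    obtain ⟨p, q⟩ := i
    by_cases hneg : p < 0 ∨ q < 0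
    · exact (hq (p, q) hneg).eq_of_src _ _
    · push Not at hneg
      obtain ⟨hp, hq'⟩ := hneg
      lift p to ℕ using hp
      lift q to ℕ using hq'
      by_cases hNq : N < q
      · exact (hN p q hNq).eq_of_src _ _
      · refine (hq j ?_).eq_of_tgt _ _
        right
        rw [hj]
        have h1 : (q : ℤ) ≤ N := by exact_mod_cast not_lt.mp hNq
        simp only [Prod.mk_add_mk]
        linarith
  · exact (E.page r hr).shape i j hrel

lemma spec_next (r : ℤ) (hr : 2 ≤ r) (hfd : ∀ j, FD ((E.page r hr).X j)) (pq : ℤ × ℤ)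
    (h1 : (E.page r hr).d (pq - (r, 1 - r)) pq = 0)
    (h2 : (E.page r hr).d pq (pq + (r, 1 - r)) = 0) :
    spec ((E.page (r + 1) (Int.le_add_one hr)).X pq) = spec ((E.page r hr).X pq) := by
  have h := spec_homology_cx_of_zero (a := (r, 1 - r)) (E.page r hr) hfd pq h1 h2
  obtain ⟨h3, -, -⟩ := spec_homology_cx (a := (r, 1 - r)) (E.page r hr) hfd pq
  rw [← h]
  exact (spec_iso (E.iso r (r + 1) pq rfl hr) h3).2

lemma spec_stationary (ha : ∀ q, 0 ≤ a q) (hc : ∀ p, 0 ≤ c p)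
    (hsum : Summable fun p : ℕ => c p * (d p : ℝ))
    (h2 : PageBdd (Yr E 2 le_rfl) N a c b d) (pq : ℤ × ℤ) (r₁ : ℤ) (hr₁ : 2 ≤ r₁)
    (hst : ∀ (r' : ℤ) (h₀ : 2 ≤ r'), r₁ ≤ r' →
      (E.page r' h₀).d (pq - (r', 1 - r')) pq = 0 ∧
        (E.page r' h₀).d pq (pq + (r', 1 - r')) = 0) :
    ∀ (r' : ℤ) (hr' : r₁ ≤ r'),
      spec ((E.page r' (hr₁.trans hr')).X pq) = spec ((E.page r₁ hr₁).X pq) := by
  intro r' hr'
  induction r', hr' using Int.le_induction with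
  | base => rfl
  | succ r' hr' ih =>
    obtain ⟨⟨-, hfd, -, -, -⟩, -⟩ := all_pages E ha hc hsum h2 r' (hr₁.trans hr')
    rw [← ih]
    exact spec_next E r' _ hfd pq (hst r' _ hr').1 (hst r' _ hr').2

lemma spec_limit {H : ℤ → ModuleCat.{u} ℂ[X]} (abut : SpSeq.Abutment E H)
    (ha : ∀ q, 0 ≤ a q) (hc : ∀ p, 0 ≤ c p)
    (hsum : Summable fun p : ℕ => c p * (d p : ℝ))
    (h2 : PageBdd (Yr E 2 le_rfl) N a c b d) (pq : ℤ × ℤ) (R : ℤ) (hR2 : 2 ≤ R)
    (hRN : (N : ℤ) + 2 ≤ R) :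
    spec ((E.page (abut.rk pq) (abut.stat pq).1).X pq) = spec ((E.page R hR2).X pq) := by
  have hM1 : abut.rk pq ≤ max (abut.rk pq) R := le_max_left _ _
  have hM2 : R ≤ max (abut.rk pq) R := le_max_right _ _
  have s1 := spec_stationary E ha hc hsum h2 pq (abut.rk pq) (abut.stat pq).1
    (fun r' h₀ hr' => (abut.stat pq).2 r' h₀ hr') _ hM1
  have s2 := spec_stationary E ha hc hsum h2 pq R hR2
    (fun r' h₀ hr' => ⟨d_eq_zero E r' h₀ (hRN.trans hr') (all_pages E ha hc hsum h2 r' h₀).1 _ _,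
      d_eq_zero E r' h₀ (hRN.trans hr') (all_pages E ha hc hsum h2 r' h₀).1 _ _⟩) _ hM2
  exact s1.symm.trans s2

end SS

/-! ### Finite filtrations -/

section Fil

variable {Hn : ModuleCat.{u} ℂ[X]} (F : ℤ → Subobject Hn) (hF : Antitone F)

lemma fil_sum (hgr : ∀ j, FD (SpSeq.grPiece F hF j)) : ∀ (k : ℕ) (p : ℤ), F (p + k) = ⊥ →
    FD (F p : ModuleCat.{u} ℂ[X]) ∧ spec (F p : ModuleCat.{u} ℂ[X]) =
      ∑ j ∈ Finset.Ico p (p + k), spec (SpSeq.grPiece F hF j) := by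
  intro k
  induction k with
  | zero =>
    intro p hbot
    have hbot' : F p = ⊥ := by simpa using hbot
    have hz : IsZero (F p : ModuleCat.{u} ℂ[X]) :=
      IsZero.of_iso (isZero_zero _) (Subobject.isoOfEq _ _ hbot' ≪≫ Subobject.botCoeIsoZero)
    obtain ⟨h1, h2⟩ := spec_of_isZero hz
    refine ⟨h1, ?_⟩
    rw [h2]
    simp
  | succ k ih =>
    intro p hbot
    have hbot' : F (p + 1 + k) = ⊥ := by
      rw [← hbot]
      congr 1
      push_cast
      ring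
    obtain ⟨h1, h2⟩ := ih (p + 1) hbot'
    have hle : F (p + 1) ≤ F p := hF (Int.le_add_one le_rfl)
    have hfi : Function.Injective ((F (p + 1)).ofLE (F p) hle).hom :=
      (ModuleCat.mono_iff_injective _).mp inferInstance
    have hgs : Function.Surjective (cokernel.π ((F (p + 1)).ofLE (F p) hle)).hom :=
      (ModuleCat.epi_iff_surjective _).mp inferInstance
    have hex : Function.Exact ((F (p + 1)).ofLE (F p) hle).hom
        (cokernel.π ((F (p + 1)).ofLE (F p) hle)).hom :=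
      (ShortComplex.ShortExact.moduleCat_exact_iff_function_exact _).mp
        (ShortComplex.exact_cokernel ((F (p + 1)).ofLE (F p) hle))
    have hg : FD (cokernel ((F (p + 1)).ofLE (F p) hle)) := hgr p
    have hFp : FD (F p : ModuleCat.{u} ℂ[X]) :=
      fd_of_exact _ (cokernel.π ((F (p + 1)).ofLE (F p) hle)) hgs hex h1 hg
    refine ⟨hFp, ?_⟩
    have h3 := spec_add _ (cokernel.π ((F (p + 1)).ofLE (F p) hle)) hfi hgs hex h1 hFp hg
    rw [h3, h2]
    have hlt : p < p + ((k + 1 : ℕ) : ℤ) := by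
      push_cast
      linarith [Int.natCast_nonneg k]
    rw [← Finset.insert_Ico_add_one_left_eq_Ico hlt, Finset.sum_insert (by simp)]
    have h4 : p + 1 + (k : ℤ) = p + ((k + 1 : ℕ) : ℤ) := by
      push_cast
      ring
    rw [h4]
    exact add_comm _ _

lemma spec_of_fil (hgr : ∀ j, FD (SpSeq.grPiece F hF j)) (A B : ℤ) (hAB : A ≤ B)
    (htop : F A = ⊤) (hbot : F B = ⊥) :
    FD Hn ∧ spec Hn = ∑ j ∈ Finset.Ico A B, spec (SpSeq.grPiece F hF j) := by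
  obtain ⟨k, hk⟩ : ∃ k : ℕ, A + k = B :=
    ⟨(B - A).toNat, by rw [Int.toNat_of_nonneg (sub_nonneg.mpr hAB)]; ring⟩
  obtain ⟨h1, h2⟩ := fil_sum F hF hgr k A (by rw [hk]; exact hbot)
  have e : (F A : ModuleCat.{u} ℂ[X]) ≅ Hn :=
    Subobject.isoOfEq _ _ htop ≪≫ asIso (⊤ : Subobject Hn).arrow
  obtain ⟨h3, h4⟩ := spec_iso e h1
  refine ⟨h3, ?_⟩
  rw [h4, h2, hk]

end Fil

/-! ### The abutment -/

section Abut

variable (E : E₂CohomologicalSpectralSequence (ModuleCat.{u} ℂ[X]))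
variable {N : ℕ} {a c : ℕ → ℝ} {b d : ℕ → ℕ}
variable {H : ℤ → ModuleCat.{u} ℂ[X]} (abut : SpSeq.Abutment E H)

lemma gr_spec (ha : ∀ q, 0 ≤ a q) (hc : ∀ p, 0 ≤ c p)
    (hsum : Summable fun p : ℕ => c p * (d p : ℝ))
    (h2 : PageBdd (Yr E 2 le_rfl) N a c b d) (R : ℤ) (hR2 : 2 ≤ R)
    (hRN : (N : ℤ) + 2 ≤ R) (n j : ℤ) :
    FD (SpSeq.grPiece (abut.fil n) (abut.anti n) j) ∧
      spec (SpSeq.grPiece (abut.fil n) (abut.anti n) j) =
        spec ((E.page R hR2).X (j, n - j)) := by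
  have key : ∀ (m : ℤ), m = n →
      (FD (SpSeq.grPiece (abut.fil m) (abut.anti m) j) ∧
        spec (SpSeq.grPiece (abut.fil m) (abut.anti m) j) =
          spec ((E.page R hR2).X (j, n - j))) →
      (FD (SpSeq.grPiece (abut.fil n) (abut.anti n) j) ∧
        spec (SpSeq.grPiece (abut.fil n) (abut.anti n) j) =
          spec ((E.page R hR2).X (j, n - j))) := by
    intro m hm h
    subst hm
    exact h
  apply key (j + (n - j)) (by ring)
  obtain ⟨⟨-, hfd, -, -, -⟩, -⟩ :=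
    all_pages E ha hc hsum h2 (abut.rk (j, n - j)) (abut.stat (j, n - j)).1
  obtain ⟨h3, h4⟩ := spec_iso (abut.β (j, n - j)) (hfd _)
  exact ⟨h3, h4.trans (spec_limit E abut ha hc hsum h2 (j, n - j) R hR2 hRN)⟩

theorem main (hfin : ∀ n, abut.IsFinite n) (ha : ∀ q, 0 ≤ a q) (hc : ∀ p, 0 ≤ c p)
    (hsum : Summable fun p : ℕ => c p * (d p : ℝ))
    (h2 : PageBdd (Yr E 2 le_rfl) N a c b d) :
    Summable (fun n : ℕ => ‖LinearMap.trace ℂ _ (Phi (H n))‖) ∧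
      ∑' n : ℕ, (-1 : ℂ) ^ n * LinearMap.trace ℂ _ (Phi (H n)) = altsum (Yr E 2 le_rfl) := by
  have hR2 : (2 : ℤ) ≤ (N : ℤ) + 2 := by linarith [Int.natCast_nonneg N]
  obtain ⟨hBR, hAR⟩ := all_pages E ha hc hsum h2 ((N : ℤ) + 2) hR2
  let tR : ℤ × ℤ → ℂ := fun pq => (spec ((E.page ((N : ℤ) + 2) hR2).X pq)).sum
  let T : ℤ × ℤ → ℂ := fun pq => (-1 : ℂ) ^ (pq.1 + pq.2) * tR pq
  have htR0 : ∀ pq : ℤ × ℤ, pq.1 < 0 ∨ pq.2 < 0 → tR pq = 0 := by
    intro pq hpq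
    obtain ⟨hq, -, -, -, -⟩ := hBR
    have : spec ((E.page ((N : ℤ) + 2) hR2).X pq) = 0 := (spec_of_isZero (hq pq hpq)).2
    simp only [tR, this, Multiset.sum_zero]
  have hnT : ∀ pq, ‖T pq‖ = ‖tR pq‖ := fun pq => by
    simp only [T, norm_mul, norm_zpow, norm_neg, norm_one, one_zpow, one_mul]
  have hnb : ∀ pq, ‖T pq‖ ≤ G N a c b d pq := fun pq => by
    rw [hnT]
    exact bound_of_le hBR ha hc pq le_rfl
  have hGs : Summable (G N a c b d) := summable_G ha hc hsum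
  have hTn : Summable (fun pq => ‖T pq‖) :=
    Summable.of_nonneg_of_le (fun _ => norm_nonneg _) hnb hGs
  have hTs : Summable T := hTn.of_norm
  have hA : altsum (Yr E ((N : ℤ) + 2) hR2) = ∑' pq : ℤ × ℤ, T pq := altsum_eq hBR
  -- reindexing
  let Ψ : ℤ × ℤ ≃ ℤ × ℤ :=
    { toFun := fun nj => (nj.2, nj.1 - nj.2)
      invFun := fun pq => (pq.1 + pq.2, pq.1)
      left_inv := by
        intro nj
        apply Prod.ext <;> simp
      right_inv := by
        intro pq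
        apply Prod.ext <;> simp }
  have hΨ : ∀ n j, Ψ (n, j) = (j, n - j) := fun n j => rfl
  have hΨs : Summable (fun nj : ℤ × ℤ => T (Ψ nj)) := Ψ.summable_iff.mpr hTs
  have hΨn : Summable (fun nj : ℤ × ℤ => ‖T (Ψ nj)‖) :=
    Ψ.summable_iff.mpr hTn
  have e1 : ∑' pq, T pq = ∑' n : ℤ, ∑' j : ℤ, T (j, n - j) := by
    rw [← Ψ.tsum_eq T]
    exact hΨs.tsum_prod
  obtain ⟨hin, hout⟩ := (summable_prod_of_nonneg (fun _ => norm_nonneg _)).mp hΨn
  -- the trace of `H n`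
  have hH : ∀ n : ℕ, FD (H n) ∧ (spec (H (n : ℤ))).sum = ∑' j : ℤ, tR (j, (n : ℤ) - j) := by
    intro n
    obtain ⟨⟨a₁, ha₁⟩, ⟨b₁, hb₁⟩⟩ := hfin n
    have hA0 : min a₁ 0 ≤ 0 := min_le_right _ _
    have hBn : (n : ℤ) + 1 ≤ max b₁ ((n : ℤ) + 1) := le_max_right _ _
    have hAB : min a₁ 0 ≤ max b₁ ((n : ℤ) + 1) := by
      linarith [Int.natCast_nonneg n]
    have htop : abut.fil n (min a₁ 0) = ⊤ := by
      have h := abut.anti n (min_le_left a₁ 0)
      have ha₁' : abut.fil n a₁ = ⊤ := ha₁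
      rw [ha₁'] at h
      exact top_le_iff.mp h
    have hbot : abut.fil n (max b₁ ((n : ℤ) + 1)) = ⊥ := by
      have h := abut.anti n (le_max_left b₁ ((n : ℤ) + 1))
      have hb₁' : abut.fil n b₁ = ⊥ := hb₁
      rw [hb₁'] at h
      exact le_bot_iff.mp h
    have hgr := fun j => gr_spec E abut ha hc hsum h2 ((N : ℤ) + 2) hR2 le_rfl (n : ℤ) j
    obtain ⟨hfdH, hspec⟩ := spec_of_fil (abut.fil n) (abut.anti n) (fun j => (hgr j).1)
      (min a₁ 0) (max b₁ ((n : ℤ) + 1)) hAB htop hbot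
    refine ⟨hfdH, ?_⟩
    rw [hspec]
    have hs : (∑ j ∈ Finset.Ico (min a₁ 0) (max b₁ ((n : ℤ) + 1)),
        spec (SpSeq.grPiece (abut.fil n) (abut.anti n) j)).sum =
        ∑ j ∈ Finset.Ico (min a₁ 0) (max b₁ ((n : ℤ) + 1)),
          (spec (SpSeq.grPiece (abut.fil n) (abut.anti n) j)).sum :=
      map_sum Multiset.sumAddMonoidHom _ _
    rw [hs, tsum_eq_sum (s := Finset.Ico (min a₁ 0) (max b₁ ((n : ℤ) + 1)))]
    · apply Finset.sum_congr rfl
      intro j _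
      rw [(hgr j).2]
    · intro j hj
      apply htR0
      simp only [Finset.mem_Ico, not_and_or, not_le, not_lt] at hj
      rcases hj with hj | hj
      · left
        show j < 0
        linarith
      · right
        show (n : ℤ) - j < 0
        linarith
  -- the inner sums
  let g : ℤ → ℂ := fun n => ∑' j : ℤ, T (j, n - j)
  have hg0 : ∀ n : ℤ, n < 0 → g n = 0 := by
    intro n hn
    have : ∀ j : ℤ, T (j, n - j) = 0 := by
      intro j
      have : tR (j, n - j) = 0 := by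
        apply htR0
        by_cases hj : j < 0
        · left; exact hj
        · right
          show n - j < 0
          push Not at hj
          linarith
      simp only [T, this, mul_zero]
    simp only [g, this, tsum_zero]
  have htr : ∀ n : ℕ, (-1 : ℂ) ^ n * LinearMap.trace ℂ _ (Phi (H n)) = g n := by
    intro n
    haveI := (hH n).1
    rw [trace_eq, (hH n).2, ← tsum_mul_left]
    apply tsum_congr
    intro j
    simp only [T]
    congr 1
    rw [show j + ((n : ℤ) - j) = (n : ℤ) by ring, zpow_natCast]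
  have e2 : ∑' n : ℕ, g (n : ℤ) = ∑' n : ℤ, g n := by
    refine Nat.cast_injective.tsum_eq (f := g) ?_
    intro n hn
    by_contra hr
    apply hn
    apply hg0
    by_contra hneg
    push Not at hneg
    exact hr ⟨n.toNat, Int.toNat_of_nonneg hneg⟩
  constructor
  · -- summability
    have hle : ∀ n : ℕ, ‖LinearMap.trace ℂ _ (Phi (H n))‖ ≤ ∑' j : ℤ, ‖T (Ψ ((n : ℤ), j))‖ := by
      intro n
      haveI := (hH n).1
      rw [trace_eq, (hH n).2]
      refine (norm_tsum_le_tsum_norm ?_).trans (le_of_eq ?_)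
      · have := hin (n : ℤ)
        refine this.congr (fun j => ?_)
        rw [hΨ, hnT]
      · apply tsum_congr
        intro j
        rw [hΨ, hnT]
    exact Summable.of_nonneg_of_le (fun _ => norm_nonneg _) hle
      (hout.comp_injective Nat.cast_injective)
  · rw [tsum_congr htr, e2, ← hAR, hA, e1]

end Abut

end Groth.Agent.Lib.Helper3.SpSeqTrace
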