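import Mathlib
import Groth.Prelude.Def_CohTop
import Groth.Agent.Lib.Helper3.SpT4
import Groth.Agent.Lib.Helper3.PB9
import Groth.Agent.S0461

/-!
# Stalks of higher direct images along a spectral map
-/

set_option autoImplicit false
set_option backward.isDefEq.respectTransparency false
open CategoryTheory Limits Opposite TopologicalSpace TopCat

universe u
namespace Groth.Agent.Helper3.SpT5

open SpT2 SpT4 PB8

variable {X Y : TopCat.{u}} (f : X ⟶ Y) (y : Y)

/-- the points whose image specializes to `y` -/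
abbrev Zy : Set X := {x : X | y ∈ closure {f x}}

/-- preimages of the quasi-compact open neighbourhoods of `y` -/
abbrev Pf : ObjectProperty (Opens X)ᵒᵖ := fun U =>
  ∃ V : Opens Y, y ∈ V ∧ IsCompact (V : Set Y) ∧ U.unop = (Opens.map f).obj V

variable [SpectralSpace X] [SpectralSpace Y]

lemma nbhd (hf : IsSpectralMap f) : Nbhd (Zy f y) (Pf f y) where
  sub := by
    rintro U ⟨V, hyV, -, hU⟩ x hx
    rw [hU]
    obtain ⟨z, hzV, hz⟩ := mem_closure_iff.1 hx _ V.isOpen hyV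
    rw [Set.mem_singleton_iff] at hz
    subst hz
    exact hzV
  ne := ⟨op ⊤, ⊤, trivial, isCompact_univ, rfl⟩
  inf := by
    rintro U U' ⟨V, hyV, hV, hU⟩ ⟨V', hyV', hV', hU'⟩
    refine ⟨V ⊓ V', ⟨hyV, hyV'⟩, hV.inter_of_isOpen hV' V.isOpen V'.isOpen, ?_⟩
    change U.unop ⊓ U'.unop = _
    rw [hU, hU']
    rfl
  cpt := by
    rintro U ⟨V, -, hV, hU⟩
    rw [hU]
    exact hf.isCompact_preimage_of_isOpen V.isOpen hV
  sep := by
    intro x hx
    obtain ⟨V, hV, hyV, hVsub⟩ :=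
      (PrespectralSpace.isTopologicalBasis (X := Y)).exists_subset_of_mem_open
        (show y ∈ (closure {f x})ᶜ from hx) isClosed_closure.isOpen_compl
    refine ⟨op ((Opens.map f).obj ⟨V, hV.1⟩), ⟨⟨V, hV.1⟩, hyV, hV.2, rfl⟩, ?_⟩
    intro hxV
    exact hVsub hxV (subset_closure rfl)

/-- quasi-compact open neighbourhoods of the point -/
abbrev Pc : ObjectProperty (OpenNhds y)ᵒᵖ := fun V => IsCompact (V.unop.1 : Set Y)

lemma isFiltered_Pc : IsFiltered (Pc y).FullSubcategory where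
  nonempty := ⟨⟨op ⟨⊤, trivial⟩, isCompact_univ⟩⟩
  cocone_objs U V := ⟨⟨op ⟨U.obj.unop.1 ⊓ V.obj.unop.1, ⟨U.obj.unop.2, V.obj.unop.2⟩⟩,
      U.property.inter_of_isOpen V.property U.obj.unop.1.isOpen V.obj.unop.1.isOpen⟩,
    ObjectProperty.homMk (homOfLE (show (⟨U.obj.unop.1 ⊓ V.obj.unop.1, _⟩ : OpenNhds y) ≤ U.obj.unop from
      fun _ hx => hx.1)).op,
    ObjectProperty.homMk (homOfLE (show (⟨U.obj.unop.1 ⊓ V.obj.unop.1, _⟩ : OpenNhds y) ≤ V.obj.unop from
      fun _ hx => hx.2)).op, trivial⟩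
  cocone_maps U V f g := ⟨V, 𝟙 _, by
    apply ObjectProperty.hom_ext
    apply Quiver.Hom.unop_inj
    exact Subsingleton.elim _ _⟩

lemma final_ι_Pc : (ObjectProperty.ι (Pc y)).Final := by
  haveI := isFiltered_Pc y
  apply Functor.final_of_exists_of_isFiltered
  · intro V
    obtain ⟨W, hW, hyW, hWsub⟩ :=
      (PrespectralSpace.isTopologicalBasis (X := Y)).exists_subset_of_mem_open V.unop.2
        V.unop.1.isOpen
    exact ⟨⟨op ⟨⟨W, hW.1⟩, hyW⟩, hW.2⟩, ⟨(homOfLE (show (⟨⟨W, hW.1⟩, hyW⟩ : OpenNhds y) ≤ V.unop from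
      hWsub)).op⟩⟩
  · intro V W s s'
    refine ⟨W, 𝟙 _, ?_⟩
    congr 1
    apply Quiver.Hom.unop_inj
    exact Subsingleton.elim _ _

/-- preimages of quasi-compact open neighbourhoods -/
def preim : (Pc y).FullSubcategory ⥤ UP (Pf f y) where
  obj V := ⟨op ((Opens.map f).obj V.obj.unop.1), ⟨V.obj.unop.1, V.obj.unop.2, V.property, rfl⟩⟩
  map {V W} g := ObjectProperty.homMk ((Opens.map f).map (homOfLE (show W.obj.unop.1 ≤ V.obj.unop.1 from
    g.hom.unop.le))).op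

lemma preim_final : (preim f y).Final := by
  haveI := isFiltered_Pc y
  apply Functor.final_of_exists_of_isFiltered
  · rintro ⟨U, V, hyV, hV, hU⟩
    refine ⟨⟨op ⟨V, hyV⟩, hV⟩, ⟨ObjectProperty.homMk ?_⟩⟩
    exact (homOfLE (le_of_eq hU.symm)).op
  · intro U V s s'
    refine ⟨V, 𝟙 _, ?_⟩
    congr 1
    apply ObjectProperty.hom_ext
    apply Quiver.Hom.unop_inj
    exact Subsingleton.elim _ _

/-- the stalk of a higher direct image along a spectral map of spectral spaces is the cohomology of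
the preimage of the set of generalizations of the point -/
theorem nonempty_stalk_iso (hf : IsSpectralMap f) (F : CohTop.Ab X) (p : ℕ) :
    Nonempty (CohTop.stalk ((CohTop.Rpush f p).obj F) y ≅
      AddCommGrpCat.of (CohTop.H ((CohTop.pull (PB8.iZ (Zy f y))).obj F) p)) := by
  obtain ⟨e0⟩ := Groth.Agent.S0461.result f F p
  let Pre : (Opens Y)ᵒᵖ ⥤ AddCommGrpCat.{u} := (Opens.map f).op ⋙ Sheaf.cohomologyPresheaf.{u} F p
  let Q : (Opens X)ᵒᵖ ⥤ AddCommGrpCat.{u} := Sheaf.cohomologyPresheaf.{u} F p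
  have e1 : CohTop.stalk ((CohTop.Rpush f p).obj F) y ≅
      Presheaf.stalk ((presheafToSheaf (Opens.grothendieckTopology Y) AddCommGrpCat.{u}).obj Pre).obj y :=
    (Sheaf.forget AddCommGrpCat.{u} Y ⋙ Presheaf.stalkFunctor AddCommGrpCat.{u} y).mapIso e0
  have e2 : Presheaf.stalk ((presheafToSheaf (Opens.grothendieckTopology Y) AddCommGrpCat.{u}).obj Pre).obj y ≅
      Presheaf.stalk Pre y := (PB9.stalkSheafifyIso y).app Pre
  haveI := final_ι_Pc y
  have e3 : Presheaf.stalk Pre y ≅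
      colimit (ObjectProperty.ι (Pc y) ⋙ ((OpenNhds.inclusion y).op ⋙ Pre)) :=
    (Functor.Final.colimitIso (ObjectProperty.ι (Pc y)) ((OpenNhds.inclusion y).op ⋙ Pre)).symm
  have e4 : colimit (ObjectProperty.ι (Pc y) ⋙ ((OpenNhds.inclusion y).op ⋙ Pre)) ≅
      colimit (preim f y ⋙ (ObjectProperty.ι (Pf f y) ⋙ Q)) :=
    HasColimit.isoOfNatIso (NatIso.ofComponents (fun _ => Iso.refl _) (by
      intro V W g
      rw [Iso.refl_hom, Iso.refl_hom, Category.comp_id, Category.id_comp]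
      rfl))
  haveI := preim_final f y
  have e5 : colimit (preim f y ⋙ (ObjectProperty.ι (Pf f y) ⋙ Q)) ≅
      colimit (ObjectProperty.ι (Pf f y) ⋙ Q) :=
    Functor.Final.colimitIso (preim f y) _
  obtain ⟨e6⟩ := SpT4.nonempty_addEquiv (nbhd f y hf) F p
  exact ⟨e1 ≪≫ e2 ≪≫ e3 ≪≫ e4 ≪≫ e5 ≪≫ e6.toAddCommGrpIso⟩

end Groth.Agent.Helper3.SpT5
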