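import Mathlib

set_option autoImplicit false
universe v v' u u'
open CategoryTheory CategoryTheory.Limits CategoryTheory.Pretriangulated

namespace Groth.Agent.Helper3.SpanFF

section lemmas
variable {D : Type u} [Category.{v} D] [Preadditive D] [HasZeroObject D] [HasShift D ℤ]
    [∀ n : ℤ, (shiftFunctor D n).Additive] [Pretriangulated D]

theorem negOnePow_mul_self (i : ℤ) : ((i.negOnePow : ℤ) * (i.negOnePow : ℤ)) = 1 := by
  rw [← Units.val_mul, ← Int.negOnePow_add]
  simp [Int.negOnePow_even _ (Even.add_self i)]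

/-- Lemma A: covariant orthogonality of the cone. -/
theorem lemmaA (T : Triangle D) (hT : T ∈ distTriang D) (X : D)
    (hb : ∀ j : ℤ, Function.Bijective
      (fun u : X ⟶ (shiftFunctor D j).obj T.obj₁ => u ≫ (shiftFunctor D j).map T.mor₁))
    (i : ℤ) (f : X ⟶ (shiftFunctor D i).obj T.obj₃) : f = 0 := by
  have hTi := Triangle.shift_distinguished T hT i
  -- the third map of the shifted triangle
  let m₃ : (shiftFunctor D i).obj T.obj₃ ⟶ (shiftFunctor D (1 : ℤ)).obj ((shiftFunctor D i).obj T.obj₁) :=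
    ((Triangle.shiftFunctor D i).obj T).mor₃
  have h31 : m₃ ≫ (shiftFunctor D (1 : ℤ)).map ((i.negOnePow : ℤ) • (shiftFunctor D i).map T.mor₁) = 0 :=
    comp_distTriang_mor_zero₃₁ _ hTi
  have h1 : m₃ ≫ (shiftFunctor D (1 : ℤ)).map ((shiftFunctor D i).map T.mor₁) = 0 := by
    rw [Functor.map_zsmul, Preadditive.comp_zsmul] at h31
    have h := congrArg (fun x => (i.negOnePow : ℤ) • x) h31
    simp only [smul_zero, smul_smul] at h
    rwa [negOnePow_mul_self, one_smul] at h
  -- f ≫ m₃ = 0
  have hz : f ≫ m₃ = 0 := by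
    have hinj := (hb (i + 1)).1
    have hnat : ∀ {Y Z : D} (g : Y ⟶ Z),
        (shiftFunctor D (1 : ℤ)).map ((shiftFunctor D i).map g) ≫
          (shiftFunctorAdd' D i 1 (i + 1) rfl).inv.app Z =
          (shiftFunctorAdd' D i 1 (i + 1) rfl).inv.app Y ≫ (shiftFunctor D (i + 1)).map g := by
      intro Y Z g
      exact ((shiftFunctorAdd' D i 1 (i + 1) rfl).inv.naturality g)
    have h0 : (f ≫ m₃ ≫ (shiftFunctorAdd' D i 1 (i + 1) rfl).inv.app T.obj₁) ≫
        (shiftFunctor D (i + 1)).map T.mor₁ = 0 := by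
      rw [Category.assoc, Category.assoc, ← hnat, ← Category.assoc m₃, h1]
      simp
    have h00 := hinj (a₁ := f ≫ m₃ ≫ (shiftFunctorAdd' D i 1 (i + 1) rfl).inv.app T.obj₁)
      (a₂ := 0) (by simpa using h0)
    have := congrArg (fun x => x ≫ (shiftFunctorAdd' D i 1 (i + 1) rfl).hom.app T.obj₁) h00
    simp only [Category.assoc, Iso.inv_hom_id_app, zero_comp] at this
    simpa using this
  obtain ⟨g, hg⟩ : ∃ g : X ⟶ (shiftFunctor D i).obj T.obj₂,
      f = g ≫ ((i.negOnePow : ℤ) • (shiftFunctor D i).map T.mor₂) :=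
    Triangle.coyoneda_exact₃ _ hTi f hz
  obtain ⟨u, hu⟩ := (hb i).2 g
  simp only at hu
  rw [hg, ← hu, Preadditive.comp_zsmul, Category.assoc, ← Functor.map_comp,
    comp_distTriang_mor_zero₁₂ _ hT]
  simp

/-- Lemma B: contravariant orthogonality of the cone. -/
theorem lemmaB (T : Triangle D) (hT : T ∈ distTriang D) (X : D)
    (hb : ∀ j : ℤ, Function.Bijective
      (fun u : T.obj₂ ⟶ (shiftFunctor D j).obj X => T.mor₁ ≫ u))
    (i : ℤ) (f : T.obj₃ ⟶ (shiftFunctor D i).obj X) : f = 0 := by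
  have hz : T.mor₂ ≫ f = 0 := by
    apply (hb i).1
    simp only
    rw [← Category.assoc, comp_distTriang_mor_zero₁₂ _ hT]
    simp
  obtain ⟨g, hg⟩ := Triangle.yoneda_exact₃ T hT f hz
  -- g : T.obj₁⟦1⟧ ⟶ X⟦i⟧
  let e := (shiftFunctorAdd' D (i - 1) 1 i (by omega)).app X
  -- e : X⟦i⟧ ≅ X⟦i-1⟧⟦1⟧
  let g' : T.obj₁ ⟶ (shiftFunctor D (i - 1)).obj X := (shiftFunctor D (1 : ℤ)).preimage (g ≫ e.hom)
  obtain ⟨u, hu⟩ := (hb (i - 1)).2 g'
  simp only at hu
  have hg2 : g = (shiftFunctor D (1 : ℤ)).map g' ≫ e.inv := by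
    simp [g']
  rw [hg, hg2, ← hu, Functor.map_comp, ← Category.assoc, ← Category.assoc,
    comp_distTriang_mor_zero₃₁ _ hT]
  simp

end lemmas

section main
variable {D : Type u} [Category.{v} D] [Preadditive D] [HasZeroObject D] [HasShift D ℤ]
    [∀ n : ℤ, (shiftFunctor D n).Additive] [Pretriangulated D]
    {D' : Type u'} [Category.{v'} D'] [Preadditive D'] [HasZeroObject D'] [HasShift D' ℤ]
    [∀ n : ℤ, (shiftFunctor D' n).Additive] [Pretriangulated D']

theorem main_aux (F : D ⥤ D') [F.CommShift ℤ]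
    (G : D' ⥤ D) (adjR : F ⊣ G) [G.CommShift ℤ] [adjR.CommShift ℤ]
    (L : D' ⥤ D) (adjL : L ⊣ F)
    (S : Set D)
    (h2 : ∀ K : D, (∀ E ∈ S, ∀ (i : ℤ) (f : E ⟶ (shiftFunctor D i).obj K), f = 0) → IsZero K)
    (h3 : ∀ K : D, (∀ E ∈ S, ∀ (i : ℤ) (f : K ⟶ (shiftFunctor D i).obj E), f = 0) → IsZero K)
    (h4 : ∀ E ∈ S, ∀ E' ∈ S, ∀ i : ℤ,
      Function.Bijective (fun f : E ⟶ (shiftFunctor D i).obj E' => F.map f)) :
    F.Full ∧ F.Faithful := by
  -- Step 1: unit iso on S
  have step1 : ∀ E ∈ S, IsIso (adjR.unit.app E) := by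
    intro E hE
    obtain ⟨C, g, h, hT⟩ := distinguished_cocone_triangle (adjR.unit.app E)
    have hC : IsZero C := by
      apply h2
      intro E' hE' i f
      refine lemmaA _ hT E' ?_ i f
      intro j
      -- u ↦ u ≫ η_E⟦j⟧'
      have key : (fun u : E' ⟶ (shiftFunctor D j).obj E =>
          u ≫ (shiftFunctor D j).map (adjR.unit.app E)) =
          (fun v => v ≫ (G.map ((F.commShiftIso j).hom.app E) ≫
            (G.commShiftIso j).hom.app (F.obj E))) ∘ (adjR.homEquiv _ _) ∘
            (fun u : E' ⟶ (shiftFunctor D j).obj E => F.map u) := by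
        funext u
        simp only [Function.comp_apply]
        rw [adjR.shift_unit_app, Adjunction.homEquiv_unit]
        have := adjR.unit.naturality u
        simp only [Functor.id_obj, Functor.id_map, Functor.comp_obj, Functor.comp_map] at this
        rw [← this]
        simp
      show Function.Bijective (fun u : E' ⟶ (shiftFunctor D j).obj E =>
          u ≫ (shiftFunctor D j).map (adjR.unit.app E))
      rw [key]
      refine Function.Bijective.comp ?_ (Function.Bijective.comp (Equiv.bijective _) (h4 E' hE' E hE j))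
      have hiso : IsIso (G.map ((F.commShiftIso j).hom.app E) ≫
            (G.commShiftIso j).hom.app (F.obj E)) := inferInstance
      constructor
      · intro a b hab
        exact (cancel_mono _).1 hab
      · intro b
        exact ⟨b ≫ inv (G.map ((F.commShiftIso j).hom.app E) ≫
            (G.commShiftIso j).hom.app (F.obj E)), by simp⟩
    exact (Triangle.isZero₃_iff_isIso₁ _ hT).1 hC
  have step1' : ∀ E ∈ S, ∀ j : ℤ, IsIso (adjR.unit.app ((shiftFunctor D j).obj E)) := by
    intro E hE j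
    haveI := step1 E hE
    rw [← adjR.unit_app_shift_commShiftIso_inv_app ℤ j E]
    infer_instance
  -- Step 2: counit iso everywhere
  have step2 : ∀ K : D, IsIso (adjL.counit.app K) := by
    intro K
    obtain ⟨C, g, h, hT⟩ := distinguished_cocone_triangle (adjL.counit.app K)
    have hC : IsZero C := by
      apply h3
      intro E hE i f
      refine lemmaB _ hT E ?_ i f
      intro j
      haveI := step1' E hE j
      have key : (fun u : K ⟶ (shiftFunctor D j).obj E => adjL.counit.app K ≫ u) =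
          (adjL.homEquiv _ _).symm ∘ (adjR.homEquiv _ _).symm ∘
            (fun u : K ⟶ (shiftFunctor D j).obj E =>
              u ≫ adjR.unit.app ((shiftFunctor D j).obj E)) := by
        funext u
        simp only [Function.comp_apply]
        rw [Equiv.eq_symm_apply, Equiv.eq_symm_apply]
        rw [Adjunction.homEquiv_unit, Adjunction.homEquiv_unit]
        simp
      show Function.Bijective (fun u : K ⟶ (shiftFunctor D j).obj E => adjL.counit.app K ≫ u)
      rw [key]
      refine Function.Bijective.comp (Equiv.bijective _)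
        (Function.Bijective.comp (Equiv.bijective _) ?_)
      constructor
      · intro a b hab
        exact (cancel_mono _).1 hab
      · intro b
        exact ⟨b ≫ inv (adjR.unit.app ((shiftFunctor D j).obj E)), by simp⟩
    exact (Triangle.isZero₃_iff_isIso₁ _ hT).1 hC
  haveI : IsIso adjL.counit := NatIso.isIso_of_isIso_app _
  have ff := adjL.fullyFaithfulROfIsIsoCounit
  exact ⟨ff.full, ff.faithful⟩

theorem main_S6703 (F : D ⥤ D') [F.CommShift ℤ] [F.IsTriangulated] [F.IsLeftAdjoint]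
    [F.IsRightAdjoint]
    (S : Set D)
    (h2 : ∀ K : D, (∀ E ∈ S, ∀ (i : ℤ) (f : E ⟶ (shiftFunctor D i).obj K), f = 0) → IsZero K)
    (h3 : ∀ K : D, (∀ E ∈ S, ∀ (i : ℤ) (f : K ⟶ (shiftFunctor D i).obj E), f = 0) → IsZero K)
    (h4 : ∀ E ∈ S, ∀ E' ∈ S, ∀ i : ℤ,
      Function.Bijective (fun f : E ⟶ (shiftFunctor D i).obj E' => F.map f)) :
    F.Full ∧ F.Faithful := by
  let adjR : F ⊣ F.rightAdjoint := Adjunction.ofIsLeftAdjoint F
  let adjL : F.leftAdjoint ⊣ F := Adjunction.ofIsRightAdjoint F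
  letI : F.rightAdjoint.CommShift ℤ := adjR.rightAdjointCommShift ℤ
  haveI : adjR.CommShift ℤ := adjR.commShift_of_leftAdjoint ℤ
  exact main_aux F F.rightAdjoint adjR F.leftAdjoint adjL S h2 h3 h4

end main

end Groth.Agent.Helper3.SpanFF
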