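import Mathlib

/-! The specialization closure of the image of a closed set under a quasi-compact morphism is
closed (helper3). -/

set_option autoImplicit false
set_option backward.isDefEq.respectTransparency.types false
set_option synthInstance.maxHeartbeats 400000
set_option linter.style.haveILetI false
universe u

open AlgebraicGeometry CategoryTheory CategoryTheory.Limits TopologicalSpace

namespace Groth.Agent.Helper3.SpecCl

/-- the set of specializations of points of the image of `W` -/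
def spCl {α β : Type*} [TopologicalSpace β] (g : α → β) (W : Set α) : Set β :=
  {y | ∃ x ∈ W, g x ⤳ y}

theorem isClosed_spCl_comap {R S : Type u} [CommRing R] [CommRing S] (φ : R →+* S)
    (W : Set (PrimeSpectrum S)) (hW : IsClosed W) :
    IsClosed (spCl (PrimeSpectrum.comap φ) W) := by
  obtain ⟨I, rfl⟩ := (PrimeSpectrum.isClosed_iff_zeroLocus_ideal W).mp hW
  refine (PrimeSpectrum.isClosed_iff_zeroLocus _).mpr ⟨I.comap φ, ?_⟩
  ext p
  constructor
  · rintro ⟨q, hq, hqp⟩
    have h1 : (PrimeSpectrum.comap φ q).asIdeal ≤ p.asIdeal := by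
      rw [PrimeSpectrum.asIdeal_le_asIdeal, PrimeSpectrum.le_iff_specializes]
      exact hqp
    intro r hr
    exact h1 (hq hr)
  · intro hp
    obtain ⟨q, hqI, hq, hqle⟩ := p.asIdeal.exists_ideal_comap_le_prime I hp
    refine ⟨⟨q, hq⟩, hqI, ?_⟩
    exact (PrimeSpectrum.le_iff_specializes ⟨q.comap φ, inferInstance⟩ p).mp hqle

theorem isClosed_spCl_specMap {R S : CommRingCat.{u}} (φ : R ⟶ S) (W : Set (Spec S))
    (hW : IsClosed W) : IsClosed (spCl (Spec.map φ) W) :=
  isClosed_spCl_comap φ.hom W hW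

theorem isClosed_spCl_of_isAffine {X Y : Scheme.{u}} (f : X ⟶ Y) [CompactSpace X] [IsAffine Y]
    (W : Set X) (hW : IsClosed W) : IsClosed (spCl f W) := by
  obtain ⟨R, h, hsurj⟩ := compactSpace_iff_exists.mp ‹CompactSpace X›
  let k : Spec R ⟶ Spec Γ(Y, ⊤) := h ≫ f ≫ Y.isoSpec.hom
  have hk : IsClosed (spCl k (h ⁻¹' W)) := by
    have := isClosed_spCl_specMap (Spec.preimage k) (h ⁻¹' W) (hW.preimage h.continuous)
    rwa [Spec.map_preimage] at this
  have heq : spCl f W = Y.isoSpec.hom ⁻¹' (spCl k (h ⁻¹' W)) := by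
    ext y
    have hind : Topology.IsInducing Y.isoSpec.hom :=
      (Y.isoSpec.hom.homeomorph).isInducing
    constructor
    · rintro ⟨x, hx, hxy⟩
      obtain ⟨z, rfl⟩ := hsurj x
      refine ⟨z, hx, ?_⟩
      show Y.isoSpec.hom (f (h z)) ⤳ Y.isoSpec.hom y
      exact hind.specializes_iff.2 hxy
    · rintro ⟨z, hz, hzy⟩
      refine ⟨h z, hz, ?_⟩
      have : Y.isoSpec.hom (f (h z)) ⤳ Y.isoSpec.hom y := hzy
      exact hind.specializes_iff.1 this
  rw [heq]
  exact hk.preimage Y.isoSpec.hom.continuous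

/-- the specialization closure of the image of a closed set under a quasi-compact morphism is
closed -/
theorem isClosed_spCl {X Y : Scheme.{u}} (f : X ⟶ Y) [QuasiCompact f]
    (W : Set X) (hW : IsClosed W) : IsClosed (spCl f W) := by
  have hcov : TopologicalSpace.IsOpenCover (fun i : Y.affineOpens => i.1) :=
    TopologicalSpace.IsOpenCover.mk (iSup_affineOpens_eq_top Y)
  rw [hcov.isClosed_iff_coe_preimage]
  intro V
  haveI : IsAffine (V.1 : Scheme.{u}) := V.2
  haveI : CompactSpace ((f ⁻¹ᵁ V.1 : X.Opens) : Scheme.{u}) :=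
    isCompact_iff_compactSpace.mp
      (QuasiCompact.isCompact_preimage (f := f) _ V.1.isOpen V.2.isCompact)
  have hcl := isClosed_spCl_of_isAffine (f ∣_ V.1) ((f ⁻¹ᵁ V.1).ι ⁻¹' W)
    (hW.preimage (f ⁻¹ᵁ V.1).ι.continuous)
  have hind : Topology.IsInducing (V.1.ι : (V.1 : Scheme.{u}) → Y) :=
    V.1.ι.isOpenEmbedding.isInducing
  have hres : ∀ x : ((f ⁻¹ᵁ V.1 : X.Opens) : Scheme.{u}),
      V.1.ι ((f ∣_ V.1) x) = f ((f ⁻¹ᵁ V.1).ι x) := by
    intro x
    have := congrArg (fun g => g.base x) (morphismRestrict_ι f V.1)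
    exact this
  have heq : (Subtype.val ⁻¹' spCl f W : Set V.1) =
      spCl (f ∣_ V.1) ((f ⁻¹ᵁ V.1).ι ⁻¹' W) := by
    ext y
    constructor
    · rintro ⟨x, hx, hxy⟩
      have hxV : x ∈ f ⁻¹ᵁ V.1 := hxy.mem_open V.1.isOpen y.2
      refine ⟨⟨x, hxV⟩, hx, ?_⟩
      apply hind.specializes_iff.1
      rw [hres]
      exact hxy
    · rintro ⟨x, hx, hxy⟩
      refine ⟨(f ⁻¹ᵁ V.1).ι x, hx, ?_⟩
      have := hind.specializes_iff.2 hxy
      rw [hres] at this
      exact this
  have hcl' : IsClosed (Subtype.val ⁻¹' spCl f W : Set V.1) := by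
    rw [heq]
    exact hcl
  exact hcl'

end Groth.Agent.Helper3.SpecCl
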