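import Mathlib
import Groth.Agent.Lib.Helper3.SpecCl1
import Groth.Agent.Lib.Lead.FlatLoc14

/-! Openness of the set of points over all of whose generizations a module is flat (helper3):
S4864. -/

set_option autoImplicit false
set_option backward.isDefEq.respectTransparency.types false
set_option synthInstance.maxHeartbeats 400000
set_option linter.style.haveILetI false
universe u

open AlgebraicGeometry CategoryTheory CategoryTheory.Limits TopologicalSpace

namespace Groth.Agent.Helper3.SpecCl

/-- for a quasi-compact morphism `f : X ⟶ Y` and an open subset `O` of `X`, the set of points `y`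
of `Y` such that all points of `X` above all generizations of `y` lie in `O` is open -/
theorem isOpen_setOf_forall_generization {X Y : Scheme.{u}} (f : X ⟶ Y) [QuasiCompact f]
    (O : Set X) (hO : IsOpen O) :
    IsOpen {y : Y | ∀ y' : Y, y' ⤳ y → ∀ x : X, f x = y' → x ∈ O} := by
  have hcl := isClosed_spCl f Oᶜ hO.isClosed_compl
  have heq : {y : Y | ∀ y' : Y, y' ⤳ y → ∀ x : X, f x = y' → x ∈ O} = (spCl f Oᶜ)ᶜ := by
    ext y
    constructor
    · rintro h ⟨x, hx, hxy⟩
      exact hx (h (f x) hxy x rfl)
    · intro h y' hy' x hx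
      by_contra hxO
      exact h ⟨x, hxO, hx ▸ hy'⟩
  rw [heq]
  exact hcl.isOpen_compl

theorem S4864_main {X Y Z : Scheme.{u}} (f : X ⟶ Y) (g : Y ⟶ Z)
    [LocallyOfFinitePresentation f] [QuasiCompact f] [LocallyOfFinitePresentation g]
    (F : X.Modules) [F.IsQuasicoherent] (hF : CohB1.IsFP F) :
    IsOpen {y : Y | ∀ y' : Y, y' ⤳ y → ∀ x : X, f x = y' →
      FlatMod.IsFlatOverAt (f ≫ g) F x} :=
  isOpen_setOf_forall_generization f _
    (Groth.Agent.Lead.FlatLoc.isOpen_isFlatOverAt (f ≫ g) F hF)

end Groth.Agent.Helper3.SpecCl
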