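import Mathlib
import Groth.Prelude.Def_Pic
import Groth.Prelude.Def_ClSub2
import Groth.Prelude.Def_RelSpec
import Groth.Prelude.Def_Omega4
import Groth.Agent.Lib.Helper1.DblCons1
import Groth.Agent.Lib.Helper1.RelCone1
import Groth.Agent.Lib.Helper1.RelSpecGamma
import Groth.Agent.Lib.Helper1.RelSpecMap
import Groth.Agent.Lib.Helper1.FinPush
import Groth.Agent.Lib.Helper1.InvFt
import Groth.Agent.Lib.Helper1.IdealModL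
import Groth.Agent.Lib.Lead.PBQc
import Groth.Agent.Lib.Lead.ConChart2
import Groth.Agent.Lib.Lead.QcIso
import Groth.Agent.Lib.Lead.ConNbhd
import Groth.Agent.Lib.Lead.Rib2
import Groth.Agent.Lib.Lead.OmU14a

/-!
# Existence of split ribbons (helper3)

`Spec_D (O_D ⊕ 𝓛)` with the zero section, for an invertible module `𝓛` on a reduced scheme `D`.
-/

set_option autoImplicit false
set_option backward.isDefEq.respectTransparency.types false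
set_option linter.style.haveILetI false
set_option linter.unusedSectionVars false
set_option synthInstance.maxHeartbeats 400000
set_option maxHeartbeats 4000000
universe u
open CategoryTheory CategoryTheory.Limits AlgebraicGeometry TopologicalSpace Opposite

namespace Groth.Agent.Helper3.SplitRib

open Groth.Agent.Helper1.DblCons

section Gen

theorem map_endo {X : Scheme.{u}} {U : X.Opens} (k : (op U : X.Opensᵒᵖ) ⟶ op U) (z : Γ(X, U)) :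
    (X.presheaf.map k).hom z = z := by
  rw [Subsingleton.elim k (𝟙 _), X.presheaf.map_id]
  rfl

theorem map_map_self {X : Scheme.{u}} {U W : X.Opens} (a : (op U : X.Opensᵒᵖ) ⟶ op W)
    (b : (op W : X.Opensᵒᵖ) ⟶ op U) (z : Γ(X, U)) :
    (X.presheaf.map b).hom ((X.presheaf.map a).hom z) = z := by
  have h1 : X.presheaf.map a ≫ X.presheaf.map b = 𝟙 _ := by
    rw [← X.presheaf.map_comp, Subsingleton.elim (a ≫ b) (𝟙 _), X.presheaf.map_id]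
  exact congrArg (fun t => t.hom z) h1

theorem map_map_eq {X : Scheme.{u}} {U W W' T : X.Opens} (a : (op U : X.Opensᵒᵖ) ⟶ op W)
    (b : (op W : X.Opensᵒᵖ) ⟶ op T) (a' : (op U : X.Opensᵒᵖ) ⟶ op W')
    (b' : (op W' : X.Opensᵒᵖ) ⟶ op T) (z : Γ(X, U)) :
    (X.presheaf.map b).hom ((X.presheaf.map a).hom z) =
      (X.presheaf.map b').hom ((X.presheaf.map a').hom z) := by
  have h1 : X.presheaf.map a ≫ X.presheaf.map b = X.presheaf.map a' ≫ X.presheaf.map b' := by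
    rw [← X.presheaf.map_comp, ← X.presheaf.map_comp, Subsingleton.elim (a ≫ b) (a' ≫ b')]
  exact congrArg (fun t => t.hom z) h1

theorem app_eq_of_eq_id {X : Scheme.{u}} (g : X ⟶ X) (hg : g = 𝟙 X) (U : X.Opens)
    (h : U = g ⁻¹ᵁ U) (a : Γ(X, U)) :
    (X.presheaf.map (eqToHom h).op).hom ((g.app U).hom a) = a := by
  subst hg
  exact map_endo (eqToHom h).op a

end Gen

section Vertex

variable {Y : Scheme.{u}} (A : RelSpec.QCAlg Y) (aug : A ⟶ RelSpec.QCAlg.unit Y)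

/-- the augmentation over `U` -/
def augAt (U : Y.Opens) : A.presheaf.obj (op U) ⟶ Γ(Y, U) := aug.hom.app (op U)

lemma str_augAt (U : Y.Opens) : A.str.app (op U) ≫ augAt A aug U = 𝟙 _ := by
  have := NatTrans.congr_app aug.comm (op U)
  rw [NatTrans.comp_app] at this
  exact this

lemma augAt_natural {U V : Y.Opens} (i : V ≤ U) :
    A.presheaf.map (homOfLE i).op ≫ augAt A aug V =
      augAt A aug U ≫ Y.presheaf.map (homOfLE i).op :=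
  aug.hom.naturality (homOfLE i).op

/-- the local pieces of the section -/
noncomputable def vloc (U : Y.Opens) (hU : IsAffineOpen U) : (U : Scheme.{u}) ⟶ A.spec :=
  hU.isoSpec.hom ≫ Spec.map (augAt A aug U) ≫ A.ι U hU

theorem vloc_basic (U : Y.Opens) (hU : IsAffineOpen U) (r : Γ(Y, U)) :
    Y.homOfLE (Y.basicOpen_le r) ≫ vloc A aug U hU =
      vloc A aug (Y.basicOpen r) (hU.basicOpen r) := by
  unfold vloc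
  rw [reassoc_of% Groth.Agent.Helper1.RelCone1.homOfLE_isoSpec hU (hU.basicOpen r)
    (Y.basicOpen_le r)]
  congr 1
  have h1 : @LE.le Y.AffineZariskiSite _ ⟨Y.basicOpen r, hU.basicOpen r⟩ ⟨U, hU⟩ := ⟨r, rfl⟩
  have h2 := A.ι_res (U := ⟨U, hU⟩) (V := ⟨Y.basicOpen r, hU.basicOpen r⟩) (homOfLE h1)
  rw [← h2, ← Spec.map_comp_assoc, ← Spec.map_comp_assoc]
  congr 2
  exact (augAt_natural A aug (Y.basicOpen_le r)).symm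

include aug in
/-- an augmentation of a quasi-coherent algebra gives a section of its relative spectrum -/
theorem exists_section : ∃ ε : Y ⟶ A.spec, ε ≫ A.π = 𝟙 Y := by
  obtain ⟨ε, hε, -⟩ := Groth.Agent.Helper1.RelCone1.exists_glue_affine (vloc A aug)
    (vloc_basic A aug)
  refine ⟨ε, ?_⟩
  refine Groth.Agent.Helper1.RelCone1.hom_ext_affine fun U hU => ?_
  rw [← Category.assoc, hε U hU, vloc, Category.assoc, Category.assoc, A.ι_π U hU,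
    ← Spec.map_comp_assoc, str_augAt, Spec.map_id, Category.id_comp, Category.comp_id,
    ← IsAffineOpen.isoSpec_inv_ι, Iso.hom_inv_id_assoc]

end Vertex

section Alg

variable {D : Scheme.{u}} (𝓛 : D.Modules) (h𝓛 : PicF.IsInvertible 𝓛)

/-- the algebra `O_D ⊕ 𝓛` with square-zero ideal `𝓛` -/
noncomputable abbrev AA : RelSpec.QCAlg D :=
  alg 𝓛 (0 : CohB1.tensorMod 𝓛 𝓛 ⟶ Coh.structureModule D) h𝓛

/-- the data over an open -/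
noncomputable abbrev DD (U : D.Opens) : DblData Γ(D, U) Γ(𝓛, U) :=
  DU 𝓛 (0 : CohB1.tensorMod 𝓛 𝓛 ⟶ Coh.structureModule D) h𝓛 U

theorem mu_zero (U : D.Opens) (a b : Γ(𝓛, U)) : (DD 𝓛 h𝓛 U).μ a b = 0 := by
  show μU 𝓛 (0 : CohB1.tensorMod 𝓛 𝓛 ⟶ Coh.structureModule D) U a b = 0
  unfold μU
  rfl

/-- the first projection as a ring homomorphism -/
noncomputable def fstHom (U : D.Opens) : Dbl (DD 𝓛 h𝓛 U) →+* Γ(D, U) where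
  toFun p := Dbl.fst (DD 𝓛 h𝓛 U) p
  map_one' := rfl
  map_mul' p q := by
    show Dbl.fst (DD 𝓛 h𝓛 U) p * Dbl.fst (DD 𝓛 h𝓛 U) q +
      (DD 𝓛 h𝓛 U).μ (Dbl.snd (DD 𝓛 h𝓛 U) p) (Dbl.snd (DD 𝓛 h𝓛 U) q) = _
    rw [mu_zero, add_zero]
  map_zero' := rfl
  map_add' _ _ := rfl

/-- the second projection as an additive map -/
noncomputable def sndHom (U : D.Opens) : Dbl (DD 𝓛 h𝓛 U) →+ Γ(𝓛, U) where
  toFun p := Dbl.snd (DD 𝓛 h𝓛 U) p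
  map_zero' := rfl
  map_add' _ _ := rfl

/-- the augmentation `O_D ⊕ 𝓛 ⟶ O_D` -/
noncomputable def aug : AA 𝓛 h𝓛 ⟶ RelSpec.QCAlg.unit D :=
  ⟨{ app := fun U => CommRingCat.ofHom (fstHom 𝓛 h𝓛 U.unop)
     naturality := fun U V i => by
       apply CommRingCat.hom_ext
       apply RingHom.ext
       intro p
       rfl },
   by
     apply NatTrans.ext
     funext U
     apply CommRingCat.hom_ext
     apply RingHom.ext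
     intro a
     rfl⟩

/-- the identification of functions on `π⁻¹ U` with `O(U) ⊕ 𝓛(U)` -/
noncomputable def gam (U : D.Opens) :
    Γ((AA 𝓛 h𝓛).spec, (AA 𝓛 h𝓛).π ⁻¹ᵁ U) →+* Dbl (DD 𝓛 h𝓛 U) :=
  ((AA 𝓛 h𝓛).gammaMap.app (op U)).hom

theorem gam_bijective (U : D.Opens) : Function.Bijective (gam 𝓛 h𝓛 U) := by
  haveI := Groth.Agent.Helper1.RelSpecGamma.isIso_gammaMap (AA 𝓛 h𝓛)
  haveI : IsIso ((AA 𝓛 h𝓛).gammaMap.app (op U)) := inferInstance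
  exact ConcreteCategory.bijective_of_isIso ((AA 𝓛 h𝓛).gammaMap.app (op U))

theorem gam_π (U : D.Opens) (a : Γ(D, U)) :
    gam 𝓛 h𝓛 U (((AA 𝓛 h𝓛).π.app U).hom a) = inl (DD 𝓛 h𝓛 U) a := by
  have h := congrArg (fun t => (t.app (op U)).hom a) (AA 𝓛 h𝓛).π_c_gammaMap
  exact h

theorem gam_res {U U' : D.Opens} (h : U' ≤ U)
    (y : Γ((AA 𝓛 h𝓛).spec, (AA 𝓛 h𝓛).π ⁻¹ᵁ U)) :
    gam 𝓛 h𝓛 U' (((AA 𝓛 h𝓛).spec.presheaf.map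
        (homOfLE ((AA 𝓛 h𝓛).π.preimage_mono h)).op).hom y) =
      rP 𝓛 (0 : CohB1.tensorMod 𝓛 𝓛 ⟶ Coh.structureModule D) h𝓛 h (gam 𝓛 h𝓛 U y) := by
  have h1 := congrArg (fun t => t.hom y) ((AA 𝓛 h𝓛).gammaMap.naturality (homOfLE h).op)
  exact h1

/-- every retraction of `π♯` is the first projection, the base being reduced -/
theorem fst_gam_eq [AlgebraicGeometry.IsReduced D] (U : D.Opens)
    (ψ : Γ((AA 𝓛 h𝓛).spec, (AA 𝓛 h𝓛).π ⁻¹ᵁ U) →+* Γ(D, U))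
    (hψ : ∀ a : Γ(D, U), ψ (((AA 𝓛 h𝓛).π.app U).hom a) = a)
    (y : Γ((AA 𝓛 h𝓛).spec, (AA 𝓛 h𝓛).π ⁻¹ᵁ U)) :
    ψ y = Dbl.fst (DD 𝓛 h𝓛 U) (gam 𝓛 h𝓛 U y) := by
  have h1 := gam_π 𝓛 h𝓛 U (Dbl.fst (DD 𝓛 h𝓛 U) (gam 𝓛 h𝓛 U y))
  have h2 : gam 𝓛 h𝓛 U
      (y - ((AA 𝓛 h𝓛).π.app U).hom (Dbl.fst (DD 𝓛 h𝓛 U) (gam 𝓛 h𝓛 U y))) =
      inr (DD 𝓛 h𝓛 U) (Dbl.snd (DD 𝓛 h𝓛 U) (gam 𝓛 h𝓛 U y)) := by
    rw [map_sub, h1, sub_eq_iff_eq_add']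
    exact (inl_add_inr (DD 𝓛 h𝓛 U) (gam 𝓛 h𝓛 U y)).symm
  have h3 : gam 𝓛 h𝓛 U
      ((y - ((AA 𝓛 h𝓛).π.app U).hom (Dbl.fst (DD 𝓛 h𝓛 U) (gam 𝓛 h𝓛 U y))) *
        (y - ((AA 𝓛 h𝓛).π.app U).hom (Dbl.fst (DD 𝓛 h𝓛 U) (gam 𝓛 h𝓛 U y)))) = 0 := by
    rw [map_mul, h2, inr_mul_inr, mu_zero, map_zero]
  have h4 : (y - ((AA 𝓛 h𝓛).π.app U).hom (Dbl.fst (DD 𝓛 h𝓛 U) (gam 𝓛 h𝓛 U y))) *
      (y - ((AA 𝓛 h𝓛).π.app U).hom (Dbl.fst (DD 𝓛 h𝓛 U) (gam 𝓛 h𝓛 U y))) = 0 :=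
    (gam_bijective 𝓛 h𝓛 U).1 (h3.trans (map_zero _).symm)
  have h5 : ψ (y - ((AA 𝓛 h𝓛).π.app U).hom (Dbl.fst (DD 𝓛 h𝓛 U) (gam 𝓛 h𝓛 U y))) ^ 2 = 0 := by
    rw [pow_two, ← map_mul, h4, map_zero]
  have h6 : ψ (y - ((AA 𝓛 h𝓛).π.app U).hom (Dbl.fst (DD 𝓛 h𝓛 U) (gam 𝓛 h𝓛 U y))) = 0 :=
    IsNilpotent.eq_zero ⟨2, h5⟩
  have h7 := map_sub ψ y (((AA 𝓛 h𝓛).π.app U).hom (Dbl.fst (DD 𝓛 h𝓛 U) (gam 𝓛 h𝓛 U y)))
  rw [h6, hψ] at h7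
  exact sub_eq_zero.1 h7.symm

theorem finiteType_inl (U : D.Opens) (hU : IsAffineOpen U) :
    (inl (DD 𝓛 h𝓛 U)).FiniteType := by
  haveI : Module.Finite Γ(D, U) Γ(𝓛, U) :=
    Groth.Agent.Helper1.FinPush.finite_sections 𝓛
      (Groth.Agent.Helper1.InvQc.isCoh_of_isInvertible 𝓛 h𝓛) hU
  apply RingHom.FiniteType.of_finite
  letI := (inl (DD 𝓛 h𝓛 U)).toAlgebra
  show Module.Finite Γ(D, U) (Dbl (DD 𝓛 h𝓛 U))
  let g : (Γ(D, U) × Γ(𝓛, U)) →ₗ[Γ(D, U)] Dbl (DD 𝓛 h𝓛 U) :=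
    { toFun := fun x => Dbl.mk (DD 𝓛 h𝓛 U) x.1 x.2
      map_add' := fun _ _ => rfl
      map_smul' := fun r x => by
        rw [RingHom.id_apply, Algebra.smul_def, RingHom.algebraMap_toAlgebra, inl_mul]
        rfl }
  exact Module.Finite.of_surjective g
    (fun p => ⟨(Dbl.fst (DD 𝓛 h𝓛 U) p, Dbl.snd (DD 𝓛 h𝓛 U) p), rfl⟩)

theorem loft {S : Scheme.{u}} (pD : D ⟶ S) [LocallyOfFiniteType pD] :
    LocallyOfFiniteType ((AA 𝓛 h𝓛).π ≫ pD) := by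
  have key : ∀ p : Groth.Agent.Helper1.RelSpecMap.Idx (𝟙 D),
      LocallyOfFiniteType ((AA 𝓛 h𝓛).ι p.1.2.1 p.1.2.2 ≫ (AA 𝓛 h𝓛).π ≫ pD) := by
    intro p
    rw [← Category.assoc, (AA 𝓛 h𝓛).ι_π, Category.assoc]
    haveI : LocallyOfFiniteType (Spec.map ((AA 𝓛 h𝓛).str.app (op p.1.2.1))) :=
      (HasRingHomProperty.Spec_iff (P := @LocallyOfFiniteType)).2
        (finiteType_inl 𝓛 h𝓛 p.1.2.1 p.1.2.2)
    infer_instance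
  apply IsZariskiLocalAtSource.of_openCover (P := @LocallyOfFiniteType)
    (Groth.Agent.Helper1.RelSpecMap.cov (𝟙 D) (AA 𝓛 h𝓛))
  exact fun p => key p

variable (s : D ⟶ (AA 𝓛 h𝓛).spec) (hs : s ≫ (AA 𝓛 h𝓛).π = 𝟙 D)

include hs in
theorem isClosedImmersion_s : IsClosedImmersion s := by
  haveI : IsClosedImmersion (s ≫ (AA 𝓛 h𝓛).π) := by rw [hs]; infer_instance
  exact IsClosedImmersion.of_comp s (AA 𝓛 h𝓛).π

include hs in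
theorem preimage_preimage_eq (U : D.Opens) : U = s ⁻¹ᵁ ((AA 𝓛 h𝓛).π ⁻¹ᵁ U) := by
  rw [← Scheme.Hom.comp_preimage, hs]
  rfl

/-- the retraction of `π♯` given by the section -/
noncomputable def ψs (U : D.Opens) :
    Γ((AA 𝓛 h𝓛).spec, (AA 𝓛 h𝓛).π ⁻¹ᵁ U) →+* Γ(D, U) :=
  (D.presheaf.map (eqToHom (preimage_preimage_eq 𝓛 h𝓛 s hs U)).op).hom.comp
    (s.app ((AA 𝓛 h𝓛).π ⁻¹ᵁ U)).hom

theorem ψs_π (U : D.Opens) (a : Γ(D, U)) :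
    ψs 𝓛 h𝓛 s hs U (((AA 𝓛 h𝓛).π.app U).hom a) = a :=
  app_eq_of_eq_id (s ≫ (AA 𝓛 h𝓛).π) hs U (preimage_preimage_eq 𝓛 h𝓛 s hs U) a

include hs in
/-- the ideal of the section has square zero -/
theorem ker_sq [AlgebraicGeometry.IsReduced D] [IsClosedImmersion s] : s.ker ^ 2 = ⊥ := by
  refine Scheme.IdealSheafData.ext_of_iSup_eq_top (ι := D.affineOpens)
    (fun U => ⟨(AA 𝓛 h𝓛).π ⁻¹ᵁ U.1, U.2.preimage (AA 𝓛 h𝓛).π⟩) ?_ ?_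
  · rw [eq_top_iff]
    intro c _
    obtain ⟨_, ⟨U, hU, rfl⟩, hcU, -⟩ := D.isBasis_affineOpens.exists_subset_of_mem_open
      (Set.mem_univ ((AA 𝓛 h𝓛).π c)) isOpen_univ
    rw [Opens.mem_iSup]
    exact ⟨⟨U, hU⟩, hcU⟩
  · intro U
    show (s.ker.ideal ⟨(AA 𝓛 h𝓛).π ⁻¹ᵁ U.1, U.2.preimage (AA 𝓛 h𝓛).π⟩) ^ 2 = ⊥
    rw [eq_bot_iff, pow_two, Ideal.mul_le]
    intro x hx y hy
    rw [Scheme.Hom.ker_apply, RingHom.mem_ker] at hx hy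
    have hx' : Dbl.fst (DD 𝓛 h𝓛 U.1) (gam 𝓛 h𝓛 U.1 x) = 0 := by
      rw [← fst_gam_eq 𝓛 h𝓛 U.1 (ψs 𝓛 h𝓛 s hs U.1) (ψs_π 𝓛 h𝓛 s hs U.1) x]
      show (D.presheaf.map _).hom ((s.app ((AA 𝓛 h𝓛).π ⁻¹ᵁ U.1)).hom x) = 0
      rw [hx, map_zero]
    have hy' : Dbl.fst (DD 𝓛 h𝓛 U.1) (gam 𝓛 h𝓛 U.1 y) = 0 := by
      rw [← fst_gam_eq 𝓛 h𝓛 U.1 (ψs 𝓛 h𝓛 s hs U.1) (ψs_π 𝓛 h𝓛 s hs U.1) y]
      show (D.presheaf.map _).hom ((s.app ((AA 𝓛 h𝓛).π ⁻¹ᵁ U.1)).hom y) = 0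
      rw [hy, map_zero]
    have h0 : gam 𝓛 h𝓛 U.1 (x * y) = 0 := by
      rw [map_mul]
      apply Dbl.ext
      · rw [Dbl.fst_mul, hx', zero_mul, mu_zero, add_zero]
        rfl
      · rw [Dbl.snd_mul, hx', hy', zero_smul, zero_smul, add_zero]
        rfl
    exact (Ideal.mem_bot).2 ((gam_bijective 𝓛 h𝓛 U.1).1 (h0.trans (map_zero _).symm))

end Alg

section Theta

variable {D : Scheme.{u}} [AlgebraicGeometry.IsReduced D] (𝓛 : D.Modules)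
  (h𝓛 : PicF.IsInvertible 𝓛)
  (s : D ⟶ (AA 𝓛 h𝓛).spec) (hs : s ≫ (AA 𝓛 h𝓛).π = 𝟙 D) (hsurj : Function.Surjective s)

include hs hsurj in
theorem preimage_eq (V : (AA 𝓛 h𝓛).spec.Opens) : (AA 𝓛 h𝓛).π ⁻¹ᵁ (s ⁻¹ᵁ V) = V := by
  ext c
  obtain ⟨d, rfl⟩ := hsurj c
  have h1 : (AA 𝓛 h𝓛).π.base (s.base d) = d := congrArg (fun χ : D ⟶ D => χ.base d) hs
  show s.base ((AA 𝓛 h𝓛).π.base (s.base d)) ∈ V ↔ s.base d ∈ V
  rw [h1]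

/-- the identification of functions on an arbitrary open of the total space -/
noncomputable def gamV (V : (AA 𝓛 h𝓛).spec.Opens) :
    Γ((AA 𝓛 h𝓛).spec, V) →+* Dbl (DD 𝓛 h𝓛 (s ⁻¹ᵁ V)) :=
  (gam 𝓛 h𝓛 (s ⁻¹ᵁ V)).comp
    ((AA 𝓛 h𝓛).spec.presheaf.map (eqToHom (preimage_eq 𝓛 h𝓛 s hs hsurj V)).op).hom

theorem gamV_bijective (V : (AA 𝓛 h𝓛).spec.Opens) :
    Function.Bijective (gamV 𝓛 h𝓛 s hs hsurj V) := by
  refine (gam_bijective 𝓛 h𝓛 (s ⁻¹ᵁ V)).comp ?_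
  exact ConcreteCategory.bijective_of_isIso
    ((AA 𝓛 h𝓛).spec.presheaf.map (eqToHom (preimage_eq 𝓛 h𝓛 s hs hsurj V)).op)

theorem fst_gamV (V : (AA 𝓛 h𝓛).spec.Opens) (x : Γ((AA 𝓛 h𝓛).spec, V)) :
    Dbl.fst (DD 𝓛 h𝓛 (s ⁻¹ᵁ V)) (gamV 𝓛 h𝓛 s hs hsurj V x) = (s.app V).hom x := by
  have h1 := fst_gam_eq 𝓛 h𝓛 (s ⁻¹ᵁ V) (ψs 𝓛 h𝓛 s hs (s ⁻¹ᵁ V)) (ψs_π 𝓛 h𝓛 s hs (s ⁻¹ᵁ V))
    (((AA 𝓛 h𝓛).spec.presheaf.map (eqToHom (preimage_eq 𝓛 h𝓛 s hs hsurj V)).op).hom x)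
  refine h1.symm.trans ?_
  have h2 := congrArg (fun t => t.hom x)
    (s.naturality (eqToHom (preimage_eq 𝓛 h𝓛 s hs hsurj V)).op)
  exact (congrArg (D.presheaf.map
    (eqToHom (preimage_preimage_eq 𝓛 h𝓛 s hs (s ⁻¹ᵁ V))).op).hom h2).trans
    (map_map_self _ _ _)

theorem gamV_res {V V' : (AA 𝓛 h𝓛).spec.Opens} (h : V' ≤ V) (x : Γ((AA 𝓛 h𝓛).spec, V)) :
    gamV 𝓛 h𝓛 s hs hsurj V' (((AA 𝓛 h𝓛).spec.presheaf.map (homOfLE h).op).hom x) =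
      rP 𝓛 (0 : CohB1.tensorMod 𝓛 𝓛 ⟶ Coh.structureModule D) h𝓛 (s.preimage_mono h)
        (gamV 𝓛 h𝓛 s hs hsurj V x) := by
  refine Eq.trans ?_ (gam_res 𝓛 h𝓛 (s.preimage_mono h) _)
  exact congrArg (gam 𝓛 h𝓛 (s ⁻¹ᵁ V')) (map_map_eq _ _ _ _ x)

/-- the value of the comparison map on sections of the ideal -/
noncomputable def θval (V : (AA 𝓛 h𝓛).spec.Opens) :
    Γ(ClSub.idealMod s.ker, V) →+ Γ((Scheme.Modules.pushforward s).obj 𝓛, V) :=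
  ((sndHom 𝓛 h𝓛 (s ⁻¹ᵁ V)).comp (gamV 𝓛 h𝓛 s hs hsurj V).toAddMonoidHom).comp
    (OmegaSh.idealSect s.ker V)

theorem θval_apply (V : (AA 𝓛 h𝓛).spec.Opens) (σ : Γ(ClSub.idealMod s.ker, V)) :
    θval 𝓛 h𝓛 s hs hsurj V σ =
      Dbl.snd (DD 𝓛 h𝓛 (s ⁻¹ᵁ V)) (gamV 𝓛 h𝓛 s hs hsurj V (OmegaSh.idealSect s.ker V σ)) :=
  rfl

theorem θval_smul (V : (AA 𝓛 h𝓛).spec.Opens) (r : Γ((AA 𝓛 h𝓛).spec, V))
    (σ : Γ(ClSub.idealMod s.ker, V)) :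
    θval 𝓛 h𝓛 s hs hsurj V (r • σ) = r • θval 𝓛 h𝓛 s hs hsurj V σ := by
  have h0 : (s.app V).hom (OmegaSh.idealSect s.ker V σ) = 0 :=
    Groth.Agent.Lead.OmU.app_idealSect s V σ
  have h1 := fst_gamV 𝓛 h𝓛 s hs hsurj V r
  have h2 := fst_gamV 𝓛 h𝓛 s hs hsurj V (OmegaSh.idealSect s.ker V σ)
  rw [h0] at h2
  have h3 : gamV 𝓛 h𝓛 s hs hsurj V (OmegaSh.idealSect s.ker V (r • σ)) =
      gamV 𝓛 h𝓛 s hs hsurj V r * gamV 𝓛 h𝓛 s hs hsurj V (OmegaSh.idealSect s.ker V σ) := by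
    rw [Groth.Agent.Lead.OmU.idealSect_smul, map_mul]
  have h4 : Dbl.snd (DD 𝓛 h𝓛 (s ⁻¹ᵁ V))
      (gamV 𝓛 h𝓛 s hs hsurj V (OmegaSh.idealSect s.ker V (r • σ))) =
      (s.app V).hom r • Dbl.snd (DD 𝓛 h𝓛 (s ⁻¹ᵁ V))
        (gamV 𝓛 h𝓛 s hs hsurj V (OmegaSh.idealSect s.ker V σ)) := by
    rw [h3, Dbl.snd_mul, h1, h2, zero_smul, add_zero]
  exact h4

theorem θval_res (V V' : (AA 𝓛 h𝓛).spec.Opens) (h : V' ≤ V)
    (σ : Γ(ClSub.idealMod s.ker, V)) :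
    θval 𝓛 h𝓛 s hs hsurj V' ((ClSub.idealMod s.ker).presheaf.map (homOfLE h).op σ) =
      ((Scheme.Modules.pushforward s).obj 𝓛).presheaf.map (homOfLE h).op
        (θval 𝓛 h𝓛 s hs hsurj V σ) := by
  have h1 : OmegaSh.idealSect s.ker V' ((ClSub.idealMod s.ker).presheaf.map (homOfLE h).op σ) =
      ((AA 𝓛 h𝓛).spec.presheaf.map (homOfLE h).op).hom (OmegaSh.idealSect s.ker V σ) :=
    Groth.Agent.Lead.OmU.idealSect_map s.ker h σ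
  have h2 := gamV_res 𝓛 h𝓛 s hs hsurj h (OmegaSh.idealSect s.ker V σ)
  have h3 : Dbl.snd (DD 𝓛 h𝓛 (s ⁻¹ᵁ V')) (gamV 𝓛 h𝓛 s hs hsurj V'
      (OmegaSh.idealSect s.ker V' ((ClSub.idealMod s.ker).presheaf.map (homOfLE h).op σ))) =
      Dbl.snd (DD 𝓛 h𝓛 (s ⁻¹ᵁ V'))
        (rP 𝓛 (0 : CohB1.tensorMod 𝓛 𝓛 ⟶ Coh.structureModule D) h𝓛 (s.preimage_mono h)
          (gamV 𝓛 h𝓛 s hs hsurj V (OmegaSh.idealSect s.ker V σ))) := by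
    rw [h1, h2]
  exact h3

/-- the adjunct of the comparison map -/
noncomputable def θflat : ClSub.idealMod s.ker ⟶ (Scheme.Modules.pushforward s).obj 𝓛 :=
  Groth.Agent.Lead.OmU.homMk (ClSub.idealMod s.ker) ((Scheme.Modules.pushforward s).obj 𝓛)
    (θval 𝓛 h𝓛 s hs hsurj) (θval_smul 𝓛 h𝓛 s hs hsurj) (θval_res 𝓛 h𝓛 s hs hsurj)

theorem exists_theta : ∃ θ : Omega.conormal s ⟶ 𝓛,
    ∀ (V : (AA 𝓛 h𝓛).spec.Opens) (σ : Γ(ClSub.idealMod s.ker, V)),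
      θ.app (s ⁻¹ᵁ V) (OmegaSh.conormalSect s V σ) = θval 𝓛 h𝓛 s hs hsurj V σ := by
  obtain ⟨θ, hθ⟩ := (Groth.Agent.Lead.DerU.adj_bijective s (Ω := ClSub.idealMod s.ker)
    (Ω' := 𝓛)).2 (θflat 𝓛 h𝓛 s hs hsurj)
  refine ⟨θ, fun V σ => ?_⟩
  have h1 := Groth.Agent.Lead.DerU.adj_app s θ V σ
  rw [hθ] at h1
  exact h1.symm

theorem theta_bijective [IsClosedImmersion s] (θ : Omega.conormal s ⟶ 𝓛)
    (hθ : ∀ (V : (AA 𝓛 h𝓛).spec.Opens) (σ : Γ(ClSub.idealMod s.ker, V)),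
      θ.app (s ⁻¹ᵁ V) (OmegaSh.conormalSect s V σ) = θval 𝓛 h𝓛 s hs hsurj V σ)
    (U : D.Opens) (hU : IsAffineOpen U) :
    Function.Bijective (θ.app (s ⁻¹ᵁ ((AA 𝓛 h𝓛).π ⁻¹ᵁ U))) := by
  have hW : IsAffineOpen ((AA 𝓛 h𝓛).π ⁻¹ᵁ U) := hU.preimage (AA 𝓛 h𝓛).π
  have hWc : (AA 𝓛 h𝓛).π ⁻¹ᵁ U ≤ s.coborderRange := by
    rw [Groth.Agent.Lead.ConNbhd.coborderRange_eq_top]
    exact le_top
  have hgV := gamV_bijective 𝓛 h𝓛 s hs hsurj ((AA 𝓛 h𝓛).π ⁻¹ᵁ U)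
  constructor
  · have h0 : ∀ n : Γ(Omega.conormal s, s ⁻¹ᵁ ((AA 𝓛 h𝓛).π ⁻¹ᵁ U)),
        θ.app (s ⁻¹ᵁ ((AA 𝓛 h𝓛).π ⁻¹ᵁ U)) n = 0 → n = 0 := by
      intro n hn
      obtain ⟨σ, rfl⟩ := Groth.Agent.Lead.ConChart.cls_surjective s hW hWc n
      have h1 : Dbl.snd (DD 𝓛 h𝓛 (s ⁻¹ᵁ ((AA 𝓛 h𝓛).π ⁻¹ᵁ U)))
          (gamV 𝓛 h𝓛 s hs hsurj ((AA 𝓛 h𝓛).π ⁻¹ᵁ U)
            (OmegaSh.idealSect s.ker ((AA 𝓛 h𝓛).π ⁻¹ᵁ U) σ)) = 0 :=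
        (hθ ((AA 𝓛 h𝓛).π ⁻¹ᵁ U) σ).symm.trans hn
      have h2 : Dbl.fst (DD 𝓛 h𝓛 (s ⁻¹ᵁ ((AA 𝓛 h𝓛).π ⁻¹ᵁ U)))
          (gamV 𝓛 h𝓛 s hs hsurj ((AA 𝓛 h𝓛).π ⁻¹ᵁ U)
            (OmegaSh.idealSect s.ker ((AA 𝓛 h𝓛).π ⁻¹ᵁ U) σ)) = 0 :=
        (fst_gamV 𝓛 h𝓛 s hs hsurj _ _).trans
          (Groth.Agent.Lead.OmU.app_idealSect s ((AA 𝓛 h𝓛).π ⁻¹ᵁ U) σ)
      have h3 : gamV 𝓛 h𝓛 s hs hsurj ((AA 𝓛 h𝓛).π ⁻¹ᵁ U)
          (OmegaSh.idealSect s.ker ((AA 𝓛 h𝓛).π ⁻¹ᵁ U) σ) = 0 := Dbl.ext h2 h1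
      have h4 : OmegaSh.idealSect s.ker ((AA 𝓛 h𝓛).π ⁻¹ᵁ U) σ = 0 :=
        hgV.1 (h3.trans (map_zero _).symm)
      have h5 : σ = 0 := Groth.Agent.Lead.ConMap.idealSect_injective s.ker _
        (h4.trans (map_zero _).symm)
      rw [h5, map_zero]
    intro n n' hnn
    have h6 := h0 (n - n') (by rw [map_sub, hnn, sub_self])
    exact sub_eq_zero.1 h6
  · intro l
    obtain ⟨x, hx⟩ := hgV.2 (inr (DD 𝓛 h𝓛 (s ⁻¹ᵁ ((AA 𝓛 h𝓛).π ⁻¹ᵁ U))) l)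
    have h1 : (s.app ((AA 𝓛 h𝓛).π ⁻¹ᵁ U)).hom x = 0 := by
      rw [← fst_gamV 𝓛 h𝓛 s hs hsurj, hx]
      rfl
    have h2 : x ∈ s.ker.ideal ⟨(AA 𝓛 h𝓛).π ⁻¹ᵁ U, hW⟩ := by
      rw [Scheme.Hom.ker_apply, RingHom.mem_ker]
      exact h1
    rw [← Groth.Agent.Lead.IdM.range_ιL s.ker ⟨(AA 𝓛 h𝓛).π ⁻¹ᵁ U, hW⟩] at h2
    obtain ⟨σ, hσ⟩ := h2
    have hσ' : OmegaSh.idealSect s.ker ((AA 𝓛 h𝓛).π ⁻¹ᵁ U) σ = x := hσ
    refine ⟨OmegaSh.conormalSect s ((AA 𝓛 h𝓛).π ⁻¹ᵁ U) σ, ?_⟩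
    refine (hθ ((AA 𝓛 h𝓛).π ⁻¹ᵁ U) σ).trans ?_
    rw [θval_apply, hσ', hx]
    rfl

include hs hsurj in
/-- the conormal sheaf of the zero section of `Spec (O ⊕ 𝓛)` is `𝓛` -/
theorem conormal_iso [IsClosedImmersion s] : Nonempty (Omega.conormal s ≅ 𝓛) := by
  obtain ⟨θ, hθ⟩ := exists_theta 𝓛 h𝓛 s hs hsurj
  haveI : 𝓛.IsQuasicoherent := Groth.Agent.Helper1.InvQc.isQuasicoherent_of_isInvertible 𝓛 h𝓛
  haveI : (ClSub.idealMod s.ker).IsQuasicoherent :=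
    Groth.Agent.Helper1.IdealModL.isQuasicoherent_idealMod s.ker
  haveI : (Omega.conormal s).IsQuasicoherent :=
    Groth.Agent.Lead.PB.isQuasicoherent_pullback _ _
  haveI : IsIso θ := by
    apply Groth.Agent.Lead.QcIso.isIso_of_bijective_affine
    intro d
    obtain ⟨_, ⟨U, hU, rfl⟩, hdU, -⟩ := D.isBasis_affineOpens.exists_subset_of_mem_open
      (Set.mem_univ d) isOpen_univ
    refine ⟨s ⁻¹ᵁ ((AA 𝓛 h𝓛).π ⁻¹ᵁ U), ?_, ?_,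
      theta_bijective 𝓛 h𝓛 s hs hsurj θ hθ U hU⟩
    · rw [← preimage_preimage_eq 𝓛 h𝓛 s hs U]
      exact hU
    · rw [← preimage_preimage_eq 𝓛 h𝓛 s hs U]
      exact hdU
  exact ⟨asIso θ⟩

end Theta

section Main

/-- **existence of the split ribbon with conormal bundle `𝓛`** -/
theorem main (k : Type u) [Field k] (D : Scheme.{u}) [D.Over (Spec (CommRingCat.of k))]
    [LocallyOfFiniteType (D ↘ (Spec (CommRingCat.of k)))] [AlgebraicGeometry.IsReduced D]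
    (𝓛 : D.Modules) (h𝓛 : PicF.IsInvertible 𝓛) :
    ∃ (C : Scheme.{u}) (sC : C ⟶ (Spec (CommRingCat.of k))) (I : C.IdealSheafData)
      (φ : I.subscheme ≅ D) (r : C ⟶ I.subscheme),
      LocallyOfFiniteType sC ∧ I ^ 2 = ⊥ ∧
        φ.hom ≫ (D ↘ (Spec (CommRingCat.of k))) = I.subschemeι ≫ sC ∧
        I.subschemeι ≫ r = 𝟙 I.subscheme ∧
        r ≫ I.subschemeι ≫ sC = sC ∧
        Nonempty ((Scheme.Modules.pullback (φ.inv ≫ I.subschemeι)).obj (ClSub.idealMod I) ≅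
          𝓛) := by
  obtain ⟨s, hs⟩ := exists_section (AA 𝓛 h𝓛) (aug 𝓛 h𝓛)
  haveI : IsClosedImmersion s := isClosedImmersion_s 𝓛 h𝓛 s hs
  have hI : s.ker ^ 2 = ⊥ := ker_sq 𝓛 h𝓛 s hs
  have hsurj : Function.Surjective s := Groth.Agent.Lead.Rib2.surjective_of_sq s hI
  obtain ⟨e⟩ := conormal_iso 𝓛 h𝓛 s hs hsurj
  have key : s.toImage ≫ s.ker.subschemeι = s := s.toImage_imageι
  have key2 : s.toImage ≫ s.ker.subschemeι ≫ (AA 𝓛 h𝓛).π = 𝟙 D := by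
    rw [← Category.assoc, key, hs]
  refine ⟨(AA 𝓛 h𝓛).spec, (AA 𝓛 h𝓛).π ≫ (D ↘ (Spec (CommRingCat.of k))), s.ker,
    (asIso s.toImage).symm, (AA 𝓛 h𝓛).π ≫ s.toImage, loft 𝓛 h𝓛 _, hI, ?_, ?_, ?_, ?_⟩
  · show inv s.toImage ≫ _ = _
    rw [IsIso.inv_comp_eq, reassoc_of% key2]
  · rw [← cancel_epi s.toImage, reassoc_of% key2, Category.comp_id]
  · rw [Category.assoc, reassoc_of% key2]
  · have h6 : (asIso s.toImage).symm.inv ≫ s.ker.subschemeι = s := key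
    exact ⟨(Scheme.Modules.pullbackCongr h6).app (ClSub.idealMod s.ker) ≪≫ e⟩

end Main

end Groth.Agent.Helper3.SplitRib
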