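import Groth.Agent.Lib.Helper3.SpreadLoc

/-!
# Descent of hermitian congruence data along a localization (S17364)
-/

set_option autoImplicit false
set_option linter.style.haveILetI false
universe u v
open scoped TensorProduct

namespace Groth.Agent.Lib.Helper3.SpreadDesc
open Groth.Agent.Lib.Helper3.SpreadLoc

section nat
variable {B : Type u} [CommRing B] {A : Type v} [CommRing A] [Algebra B A] (lam : A ≃ₐ[B] A)

/-- `1 ⊗ lam` on `X ⊗ A`. -/
noncomputable abbrev lamT (X : Type u) [CommRing X] [Algebra B X] : X ⊗[B] A ≃ₐ[X] X ⊗[B] A :=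
  Algebra.TensorProduct.congr (AlgEquiv.refl : X ≃ₐ[X] X) lam

/-- `a ↦ 1 ⊗ a`. -/
noncomputable abbrev incT (B : Type u) [CommRing B] (A : Type v) [CommRing A] [Algebra B A]
    (X : Type u) [CommRing X] [Algebra B X] : A →ₐ[B] X ⊗[B] A :=
  Algebra.TensorProduct.includeRight

/-- `g ⊗ 1`. -/
noncomputable abbrev mapT {X Y : Type u} [CommRing X] [CommRing Y] [Algebra B X] [Algebra B Y]
    (g : X →ₐ[B] Y) : X ⊗[B] A →ₐ[B] Y ⊗[B] A :=
  Algebra.TensorProduct.map g (AlgHom.id B A)

variable {X Y : Type u} [CommRing X] [CommRing Y] [Algebra B X] [Algebra B Y] (g : X →ₐ[B] Y)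

theorem mapT_lamT (z : X ⊗[B] A) :
    mapT (A := A) g (lamT lam X z) = lamT lam Y (mapT (A := A) g z) := by
  induction z using TensorProduct.induction_on with
  | zero => simp
  | tmul x a => simp [lamT, mapT]
  | add z w hz hw => simp only [map_add, hz, hw]

theorem mapT_incT (a : A) : mapT (A := A) g (incT B A X a) = incT B A Y a := by
  simp [mapT, incT]

theorem lamT_smul (c : B) (z : X ⊗[B] A) : lamT lam X (c • z) = c • lamT lam X z := by
  induction z using TensorProduct.induction_on with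
  | zero => simp
  | tmul x a => simp [lamT, TensorProduct.smul_tmul']
  | add z w hz hw => simp only [smul_add, map_add, hz, hw]

variable {n : ℕ}

theorem mapMatrix_lamT (V : Matrix (Fin n) (Fin n) (X ⊗[B] A)) :
    (mapT (A := A) g).mapMatrix ((V.map (lamT lam X)).transpose) =
      (((mapT (A := A) g).mapMatrix V).map (lamT lam Y)).transpose := by
  ext i j
  simp only [AlgHom.mapMatrix_apply, Matrix.map_apply, Matrix.transpose_apply]
  exact mapT_lamT lam g _

theorem mapMatrix_incT (h : Matrix (Fin n) (Fin n) A) :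
    (mapT (A := A) g).mapMatrix (h.map (incT B A X)) = h.map (incT B A Y) := by
  ext i j
  simp only [AlgHom.mapMatrix_apply, Matrix.map_apply]
  exact mapT_incT g _

theorem map_lamT_smul (c : B) (V : Matrix (Fin n) (Fin n) (X ⊗[B] A)) :
    (c • V).map (lamT lam X) = c • V.map (lamT lam X) := by
  ext i j
  simp only [Matrix.map_apply, Matrix.smul_apply]
  exact lamT_smul lam c _

end nat

section desc
variable {B : Type u} [CommRing B] {A : Type v} [CommRing A] [Algebra B A]

theorem desc (M : Submonoid B) (lam : A ≃ₐ[B] A) {n : ℕ} (h h' : Matrix (Fin n) (Fin n) A)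
    {D C : Type u} [CommRing D] [CommRing C] [Algebra B D] [Algebra B C] (ρ : D →ₐ[B] C)
    (hloc : IsLocalizedModule M (mapT (A := A) ρ).toLinearMap)
    (v : Matrix (Fin n) (Fin n) (C ⊗[B] A)) (hv : IsUnit v)
    (heq : (v.map (lamT lam C)).transpose * h.map (incT B A C) * v = h'.map (incT B A C)) :
    ∃ m ∈ M, ∀ (E : Type u) [CommRing E] [Algebra B E] (_τ : D →ₐ[B] E),
      IsUnit (algebraMap B E m) →
      ∃ V : Matrix (Fin n) (Fin n) (E ⊗[B] A), IsUnit V ∧
        (V.map (lamT lam E)).transpose * h.map (incT B A E) * V = h'.map (incT B A E) := by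
  classical
  obtain ⟨w, hvw, -⟩ := isUnit_iff_exists.mp hv
  let Θ := mapT (A := A) ρ
  obtain ⟨c, hcM, x, hx⟩ := common_den M Θ.toLinearMap
    (Sum.elim (fun p : Fin n × Fin n => v p.1 p.2) (fun p : Fin n × Fin n => w p.1 p.2))
  let V0 : Matrix (Fin n) (Fin n) (D ⊗[B] A) := Matrix.of fun i j => x (Sum.inl (i, j))
  let W0 : Matrix (Fin n) (Fin n) (D ⊗[B] A) := Matrix.of fun i j => x (Sum.inr (i, j))
  have hV0 : Θ.mapMatrix V0 = c • v := by
    ext i j
    have := hx (Sum.inl (i, j))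
    simp only [Sum.elim_inl, AlgHom.toLinearMap_apply] at this
    simp only [AlgHom.mapMatrix_apply, Matrix.map_apply, Matrix.smul_apply, V0, Matrix.of_apply]
    exact this.symm
  have hW0 : Θ.mapMatrix W0 = c • w := by
    ext i j
    have := hx (Sum.inr (i, j))
    simp only [Sum.elim_inr, AlgHom.toLinearMap_apply] at this
    simp only [AlgHom.mapMatrix_apply, Matrix.map_apply, Matrix.smul_apply, W0, Matrix.of_apply]
    exact this.symm
  have E1 : Θ.mapMatrix (V0 * W0) =
      Θ.mapMatrix ((c * c) • (1 : Matrix (Fin n) (Fin n) (D ⊗[B] A))) := by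
    rw [map_mul, hV0, hW0, map_smul, map_one, Matrix.smul_mul, Matrix.mul_smul, smul_smul, hvw]
  have E3 : Θ.mapMatrix ((V0.map (lamT lam D)).transpose * h.map (incT B A D) * V0) =
      Θ.mapMatrix ((c * c) • h'.map (incT B A D)) := by
    rw [map_mul, map_mul, mapMatrix_lamT, mapMatrix_incT, hV0, map_smul, mapMatrix_incT,
      map_lamT_smul, Matrix.transpose_smul, Matrix.smul_mul, Matrix.smul_mul, Matrix.mul_smul,
      smul_smul, heq]
  obtain ⟨c₁, hc₁M, hc₁⟩ := common_eq M Θ.toLinearMap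
    (fun p : Fin n × Fin n => (V0 * W0) p.1 p.2)
    (fun p => ((c * c) • (1 : Matrix (Fin n) (Fin n) (D ⊗[B] A))) p.1 p.2) (fun p => by
      have := congrArg (fun X : Matrix (Fin n) (Fin n) (C ⊗[B] A) => X p.1 p.2) E1
      simpa only [AlgHom.mapMatrix_apply, Matrix.map_apply, AlgHom.toLinearMap_apply] using this)
  obtain ⟨c₃, hc₃M, hc₃⟩ := common_eq M Θ.toLinearMap
    (fun p : Fin n × Fin n =>
      ((V0.map (lamT lam D)).transpose * h.map (incT B A D) * V0) p.1 p.2)
    (fun p => ((c * c) • h'.map (incT B A D)) p.1 p.2) (fun p => by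
      have := congrArg (fun X : Matrix (Fin n) (Fin n) (C ⊗[B] A) => X p.1 p.2) E3
      simpa only [AlgHom.mapMatrix_apply, Matrix.map_apply, AlgHom.toLinearMap_apply] using this)
  have hc₁' : c₁ • (V0 * W0) = c₁ • ((c * c) • (1 : Matrix (Fin n) (Fin n) (D ⊗[B] A))) := by
    ext i j
    exact hc₁ (i, j)
  have hc₃' : c₃ • ((V0.map (lamT lam D)).transpose * h.map (incT B A D) * V0) =
      c₃ • ((c * c) • h'.map (incT B A D)) := by
    ext i j
    exact hc₃ (i, j)
  refine ⟨c * c₁ * c₃, mul_mem (mul_mem hcM hc₁M) hc₃M, ?_⟩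
  intro E _ _ τ hu
  rw [map_mul, map_mul] at hu
  have huc₃ : IsUnit (algebraMap B E c₃) := isUnit_of_mul_isUnit_right hu
  have hu' := isUnit_of_mul_isUnit_left hu
  have huc : IsUnit (algebraMap B E c) := isUnit_of_mul_isUnit_left hu'
  have huc₁ : IsUnit (algebraMap B E c₁) := isUnit_of_mul_isUnit_right hu'
  let Ξ := mapT (A := A) τ
  have cancel : ∀ (c' : B), IsUnit (algebraMap B E c') →
      ∀ X Y : Matrix (Fin n) (Fin n) (E ⊗[B] A), c' • X = c' • Y → X = Y := by
    intro c' hc' X Y hXY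
    have h1 : ∀ Z : Matrix (Fin n) (Fin n) (E ⊗[B] A), c' • Z = (algebraMap B E c') • Z :=
      fun Z => (algebraMap_smul E c' Z).symm
    rw [h1, h1] at hXY
    exact (hc'.smul_left_cancel).mp hXY
  have hΞ1 : Ξ.mapMatrix (V0 * W0) = (c * c) • (1 : Matrix (Fin n) (Fin n) (E ⊗[B] A)) := by
    apply cancel c₁ huc₁
    have := congrArg Ξ.mapMatrix hc₁'
    simpa only [map_smul, map_one] using this
  have hΞ3 : (((Ξ.mapMatrix V0).map (lamT lam E)).transpose * h.map (incT B A E) * Ξ.mapMatrix V0) =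
      (c * c) • h'.map (incT B A E) := by
    apply cancel c₃ huc₃
    have := congrArg Ξ.mapMatrix hc₃'
    rw [map_smul, map_smul, map_smul, map_mul, map_mul, mapMatrix_lamT lam τ, mapMatrix_incT τ,
      mapMatrix_incT τ] at this
    exact this
  obtain ⟨ue, hue⟩ := huc
  have hcc : ∀ Z : Matrix (Fin n) (Fin n) (E ⊗[B] A), (c * c) • Z = ((ue : E) * ue) • Z := by
    intro Z
    rw [← algebraMap_smul E (c * c) Z, map_mul, hue]
  have hone : ((↑ue⁻¹ : E) * ↑ue⁻¹ * ((ue : E) * ue)) = 1 := by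
    rw [mul_mul_mul_comm, Units.inv_mul, one_mul]
  refine ⟨(↑ue⁻¹ : E) • Ξ.mapMatrix V0, ?_, ?_⟩
  · have hVW : ((↑ue⁻¹ : E) • Ξ.mapMatrix V0) * ((↑ue⁻¹ : E) • Ξ.mapMatrix W0) = 1 := by
      rw [Matrix.smul_mul, Matrix.mul_smul, smul_smul, ← map_mul, hΞ1, hcc, smul_smul, hone,
        one_smul]
    exact (Matrix.isUnit_iff_isUnit_det _).mpr (Matrix.isUnit_det_of_right_inverse hVW)
  · have hm : ((↑ue⁻¹ : E) • Ξ.mapMatrix V0).map (lamT lam E) =
        (↑ue⁻¹ : E) • (Ξ.mapMatrix V0).map (lamT lam E) := by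
      ext i j
      simp only [Matrix.map_apply, Matrix.smul_apply, map_smul]
    rw [hm, Matrix.transpose_smul, Matrix.smul_mul, Matrix.smul_mul, Matrix.mul_smul, smul_smul,
      hΞ3, hcc, smul_smul, hone, one_smul]

end desc

section locmod
variable {B : Type u} [CommRing B]

theorem locmod_of_data (M : Submonoid B) (A : Type v) [CommRing A] [Algebra B A]
    {Q₀ Q' D C : Type u} [CommRing Q₀] [CommRing Q'] [CommRing D] [CommRing C]
    [Algebra B Q₀] [Algebra B Q'] [Algebra B D] [Algebra B C]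
    [Algebra Q₀ D] [Algebra Q' C] [IsScalarTower B Q₀ D] [IsScalarTower B Q' C]
    (φ : Q₀ →+* Q') (hφB : ∀ x, φ (algebraMap B Q₀ x) = algebraMap B Q' x)
    (hφ : letI := φ.toAlgebra; IsLocalization (Algebra.algebraMapSubmonoid Q₀ M) Q')
    (F : Q₀) (f : Q') (hassoc : Associated f (φ F))
    [IsLocalization.Away F D] [IsLocalization.Away f C] :
    ∃ ρ : D →ₐ[B] C, (∀ x, ρ (algebraMap Q₀ D x) = algebraMap Q' C (φ x)) ∧
      IsLocalizedModule M (mapT (A := A) ρ).toLinearMap := by
  letI aQ : Algebra Q₀ Q' := φ.toAlgebra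
  haveI : IsLocalization (Algebra.algebraMapSubmonoid Q₀ M) Q' := hφ
  letI aC : Algebra Q₀ C := ((algebraMap Q' C).comp φ).toAlgebra
  haveI t1 : IsScalarTower Q₀ Q' C := IsScalarTower.of_algebraMap_eq' rfl
  haveI hC : IsLocalization.Away (algebraMap Q₀ Q' F) C :=
    IsLocalization.Away.of_associated hassoc
  have hu : IsUnit (algebraMap Q₀ C F) :=
    IsLocalization.Away.algebraMap_isUnit (algebraMap Q₀ Q' F)
  let L : D →+* C := IsLocalization.Away.lift F (g := algebraMap Q₀ C) hu
  letI aD : Algebra D C := L.toAlgebra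
  haveI t2 : IsScalarTower Q₀ D C :=
    IsScalarTower.of_algebraMap_eq' (IsLocalization.Away.lift_comp F hu).symm
  have hloc : IsLocalization (Algebra.algebraMapSubmonoid D (Algebra.algebraMapSubmonoid Q₀ M)) C :=
    away_isLoc (Q' := Q') (Algebra.algebraMapSubmonoid Q₀ M) F
  have hsub : Algebra.algebraMapSubmonoid D (Algebra.algebraMapSubmonoid Q₀ M) =
      Algebra.algebraMapSubmonoid D M := by
    ext y
    simp only [Algebra.algebraMapSubmonoid, Submonoid.mem_map]
    constructor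
    · rintro ⟨_, ⟨m, hm, rfl⟩, rfl⟩
      exact ⟨m, hm, IsScalarTower.algebraMap_apply B Q₀ D m⟩
    · rintro ⟨m, hm, rfl⟩
      exact ⟨_, ⟨m, hm, rfl⟩, (IsScalarTower.algebraMap_apply B Q₀ D m).symm⟩
  rw [hsub] at hloc
  haveI t3 : IsScalarTower B D C := IsScalarTower.of_algebraMap_eq (fun x => by
    show algebraMap B C x = L (algebraMap B D x)
    rw [IsScalarTower.algebraMap_apply B Q₀ D, IsLocalization.Away.lift_eq,
      IsScalarTower.algebraMap_apply B Q' C, ← hφB]
    rfl)
  haveI := hloc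
  haveI hmod : IsLocalizedModule M (IsScalarTower.toAlgHom B D C).toLinearMap := inferInstance
  refine ⟨IsScalarTower.toAlgHom B D C, fun x => IsLocalization.Away.lift_eq F hu x, ?_⟩
  have key : IsLocalizedModule M (TensorProduct.AlgebraTensorModule.rTensor B A
      (IsScalarTower.toAlgHom B D C).toLinearMap) := inferInstance
  have e : (mapT (A := A) (IsScalarTower.toAlgHom B D C)).toLinearMap =
      TensorProduct.AlgebraTensorModule.rTensor B A (IsScalarTower.toAlgHom B D C).toLinearMap := by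
    apply TensorProduct.ext'
    intro x y
    simp [mapT]
  rw [e]
  exact key

end locmod

end Groth.Agent.Lib.Helper3.SpreadDesc
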