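import Mathlib

/-!
# Localization plumbing used for spreading out data from `B_p` to `B_b` (S17364)
-/

set_option autoImplicit false
universe u v
open scoped TensorProduct

namespace Groth.Agent.Lib.Helper3.SpreadLoc

section quot

open MvPolynomial

attribute [local instance] MvPolynomial.algebraMvPolynomial

/-- A quotient of a polynomial ring over a localization `R'` of `B` by an extended ideal is the
localization of the corresponding quotient over `B`. -/
theorem quot_isLoc {B : Type*} [CommRing B] (M : Submonoid B) (R' : Type*) [CommRing R']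
    [Algebra B R'] [IsLocalization M R'] {σ : Type*} (I : Ideal (MvPolynomial σ B))
    (I' : Ideal (MvPolynomial σ R'))
    (hI' : I' = I.map (MvPolynomial.map (algebraMap B R')))
    [Algebra (MvPolynomial σ B ⧸ I) (MvPolynomial σ R' ⧸ I')]
    (hφ : ∀ P, algebraMap (MvPolynomial σ B ⧸ I) (MvPolynomial σ R' ⧸ I') (Ideal.Quotient.mk I P) =
      Ideal.Quotient.mk I' (MvPolynomial.map (algebraMap B R') P)) :
    IsLocalization (Algebra.algebraMapSubmonoid (MvPolynomial σ B ⧸ I) M)
      (MvPolynomial σ R' ⧸ I') := by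
  have hB : ∀ m : B, algebraMap B (MvPolynomial σ B ⧸ I) m = Ideal.Quotient.mk I (C m) := fun m => rfl
  refine (isLocalization_iff _ _).mpr ⟨?_, ?_, ?_⟩
  · rintro ⟨y, m, hm, rfl⟩
    have : algebraMap (MvPolynomial σ B ⧸ I) (MvPolynomial σ R' ⧸ I')
        (algebraMap B (MvPolynomial σ B ⧸ I) m) =
        ((Ideal.Quotient.mk I').comp C) (algebraMap B R' m) := by
      rw [hB, hφ, MvPolynomial.map_C]; rfl
    show IsUnit (algebraMap (MvPolynomial σ B ⧸ I) (MvPolynomial σ R' ⧸ I')
        (algebraMap B (MvPolynomial σ B ⧸ I) m))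
    rw [this]
    exact (IsLocalization.map_units R' ⟨m, hm⟩).map _
  · intro q
    obtain ⟨P, rfl⟩ := Ideal.Quotient.mk_surjective q
    obtain ⟨⟨P₀, ⟨c, m, hm, hcm⟩⟩, hc⟩ := IsLocalization.surj (M.map (C (σ := σ))) P
    refine ⟨(Ideal.Quotient.mk I P₀, ⟨algebraMap B (MvPolynomial σ B ⧸ I) m, m, hm, rfl⟩), ?_⟩
    show Ideal.Quotient.mk I' P * algebraMap (MvPolynomial σ B ⧸ I) (MvPolynomial σ R' ⧸ I')
        (algebraMap B (MvPolynomial σ B ⧸ I) m) = algebraMap _ _ (Ideal.Quotient.mk I P₀)
    rw [hB, hφ, hφ, ← map_mul]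
    congr 1
    have := hc
    simp only [MvPolynomial.algebraMap_def] at this
    rw [← this, ← hcm]
  · intro x y hxy
    obtain ⟨P, rfl⟩ := Ideal.Quotient.mk_surjective x
    obtain ⟨P', rfl⟩ := Ideal.Quotient.mk_surjective y
    rw [hφ, hφ, Ideal.Quotient.eq, hI'] at hxy
    have hxy' : MvPolynomial.map (algebraMap B R') P - MvPolynomial.map (algebraMap B R') P' ∈
        Ideal.map (algebraMap (MvPolynomial σ B) (MvPolynomial σ R')) I := by
      simpa only [MvPolynomial.algebraMap_def] using hxy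
    obtain ⟨⟨⟨z, hz⟩, ⟨c, m, hm, hcm⟩⟩, hzc⟩ :=
      (IsLocalization.mem_map_algebraMap_iff (M.map (C (σ := σ))) (MvPolynomial σ R')).mp hxy'
    have e1 : algebraMap (MvPolynomial σ B) (MvPolynomial σ R') ((P - P') * c) =
        algebraMap (MvPolynomial σ B) (MvPolynomial σ R') z := by
      rw [map_mul, map_sub]
      simpa only [MvPolynomial.algebraMap_def] using hzc
    obtain ⟨⟨c', m', hm', hcm'⟩, hc'⟩ :=
      (IsLocalization.eq_iff_exists (M.map (C (σ := σ))) (MvPolynomial σ R')).mp e1
    refine ⟨⟨algebraMap B (MvPolynomial σ B ⧸ I) (m' * m), m' * m, mul_mem hm' hm, rfl⟩, ?_⟩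
    show algebraMap B (MvPolynomial σ B ⧸ I) (m' * m) * Ideal.Quotient.mk I P =
      algebraMap B (MvPolynomial σ B ⧸ I) (m' * m) * Ideal.Quotient.mk I P'
    rw [hB, ← map_mul, ← map_mul, Ideal.Quotient.eq]
    have : C (m' * m) * P - C (m' * m) * P' = c' * z := by
      simp only at hc'
      rw [← hc', ← hcm, ← hcm', map_mul]; ring
    rw [this]
    exact Ideal.mul_mem_left _ _ hz

end quot

/-- Localizing away from an element commutes with localizing at a submonoid. -/
theorem away_isLoc {Q₀ Q' D C : Type*} [CommRing Q₀] [CommRing Q'] [CommRing D] [CommRing C]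
    [Algebra Q₀ Q'] [Algebra Q₀ D] [Algebra Q' C] [Algebra Q₀ C] [Algebra D C]
    [IsScalarTower Q₀ Q' C] [IsScalarTower Q₀ D C] (N : Submonoid Q₀) [IsLocalization N Q']
    (F : Q₀) [IsLocalization.Away F D] [IsLocalization.Away (algebraMap Q₀ Q' F) C] :
    IsLocalization (Algebra.algebraMapSubmonoid D N) C :=
  IsLocalization.commutes D Q' C (Submonoid.powers F) N

section common

variable {R : Type*} [CommRing R] (S : Submonoid R) {N L : Type*} [AddCommGroup N]
  [AddCommGroup L] [Module R N] [Module R L] (f : N →ₗ[R] L) [IsLocalizedModule S f]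

theorem common_den {ι : Type*} [Finite ι] (y : ι → L) :
    ∃ c ∈ S, ∃ x : ι → N, ∀ i, c • y i = f (x i) := by
  classical
  cases nonempty_fintype ι
  choose x hx using fun i => IsLocalizedModule.surj S f (y i)
  refine ⟨∏ i, ((x i).2 : R), Submonoid.prod_mem _ (fun i _ => (x i).2.2),
    fun i => (∏ j ∈ Finset.univ.erase i, ((x j).2 : R)) • (x i).1, fun i => ?_⟩
  rw [map_smul, ← hx i, Submonoid.smul_def, smul_smul,
    ← Finset.mul_prod_erase Finset.univ _ (Finset.mem_univ i), mul_comm]

theorem common_eq {ι : Type*} [Finite ι] (x x' : ι → N) (hxx : ∀ i, f (x i) = f (x' i)) :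
    ∃ c ∈ S, ∀ i, c • x i = c • x' i := by
  classical
  cases nonempty_fintype ι
  choose c hc using fun i => IsLocalizedModule.exists_of_eq (S := S) (f := f) (hxx i)
  refine ⟨∏ i, ((c i : S) : R), Submonoid.prod_mem _ (fun i _ => (c i).2), fun i => ?_⟩
  have hci : ((c i : S) : R) • x i = ((c i : S) : R) • x' i := by
    have := hc i; rwa [Submonoid.smul_def, Submonoid.smul_def] at this
  rw [← Finset.mul_prod_erase Finset.univ _ (Finset.mem_univ i), mul_comm, mul_smul, mul_smul, hci]

end common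

end Groth.Agent.Lib.Helper3.SpreadLoc
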