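import Mathlib
import Groth.Prelude.Def_DRing2
import Groth.Agent.Lib.Helper5.DRing.Classes
import Groth.Agent.Lib.Helper5.DRing.Cone
import Groth.Agent.Lib.Helper5.DRing.FlatBC
import Groth.Agent.Lib.Helper5.TorAmp.FlatAcyc

/-!
# Quasi-isomorphic bounded complexes of finite projectives are locally stably isomorphic

For a quasi-isomorphism `φ : M ⟶ N` the (explicit) mapping cylinder `cyl φ` decomposes as
`N ⊕ cone (𝟙 M)` (always) and as `M ⊕ cone φ` (given a contraction of `cone φ`).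
-/

set_option autoImplicit false
universe u
open CategoryTheory Limits
attribute [local instance] HasDerivedCategory.standard

namespace Groth.Agent.Helper3.StabIso

/-! ### A. abstract splittings -/
section split
variable {𝒜 : Type*} [Category 𝒜] [Preadditive 𝒜]

/-- a direct sum decomposition `Z = A ⊕ B` -/
structure Split (A B Z : 𝒜) where
  i : A ⟶ Z
  s : B ⟶ Z
  r : Z ⟶ A
  q : Z ⟶ B
  ir : i ≫ r = 𝟙 A
  iq : i ≫ q = 0
  sr : s ≫ r = 0
  sq : s ≫ q = 𝟙 B
  tot : r ≫ i + q ≫ s = 𝟙 Z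

/-- the bicone of a splitting -/
def Split.bicone {A B Z : 𝒜} (S : Split A B Z) : BinaryBicone A B where
  pt := Z
  fst := S.r
  snd := S.q
  inl := S.i
  inr := S.s
  inl_fst := S.ir
  inl_snd := S.iq
  inr_fst := S.sr
  inr_snd := S.sq

/-- the isomorphism with the biproduct -/
noncomputable def Split.iso {A B Z : 𝒜} [HasBinaryBiproduct A B] (S : Split A B Z) : Z ≅ A ⊞ B :=
  biprod.uniqueUpToIso A B (isBinaryBilimitOfTotal S.bicone S.tot)

/-- image of a splitting under an additive functor -/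
def Split.map {ℬ : Type*} [Category ℬ] [Preadditive ℬ] (F : 𝒜 ⥤ ℬ) [F.Additive] {A B Z : 𝒜}
    (S : Split A B Z) : Split (F.obj A) (F.obj B) (F.obj Z) where
  i := F.map S.i
  s := F.map S.s
  r := F.map S.r
  q := F.map S.q
  ir := by rw [← F.map_comp, S.ir, F.map_id]
  iq := by rw [← F.map_comp, S.iq, F.map_zero]
  sr := by rw [← F.map_comp, S.sr, F.map_zero]
  sq := by rw [← F.map_comp, S.sq, F.map_id]
  tot := by rw [← F.map_comp, ← F.map_comp, ← F.map_add, S.tot, F.map_id]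

end split

/-! ### B. the explicit cone and cylinder -/
section cx
variable {R : Type u} [CommRing R] {M N : DRing.Cx R}

lemma dd_apply (K : DRing.Cx R) (n : ℤ) (x : K.X n) :
    (K.d (n + 1) (n + 1 + 1)).hom ((K.d n (n + 1)).hom x) = 0 := by
  have h2 : (K.d n (n + 1) ≫ K.d (n + 1) (n + 1 + 1)).hom x =
      (0 : K.X n ⟶ K.X (n + 1 + 1)).hom x := by rw [K.d_comp_d]
  exact h2

lemma comm_apply (φ : M ⟶ N) (n : ℤ) (x : M.X n) :
    (φ.f (n + 1)).hom ((M.d n (n + 1)).hom x) = (N.d n (n + 1)).hom ((φ.f n).hom x) := by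
  have h2 : (φ.f n ≫ N.d n (n + 1)).hom x = (M.d n (n + 1) ≫ φ.f (n + 1)).hom x := by
    rw [φ.comm n (n + 1)]
  exact h2.symm

/-- differential of the explicit cone -/
def dC (φ : M ⟶ N) (n : ℤ) : (M.X (n + 1) × N.X n) →ₗ[R] (M.X (n + 1 + 1) × N.X (n + 1)) :=
  LinearMap.prod (-((M.d (n + 1) (n + 1 + 1)).hom ∘ₗ LinearMap.fst R _ _))
    ((φ.f (n + 1)).hom ∘ₗ LinearMap.fst R _ _ + (N.d n (n + 1)).hom ∘ₗ LinearMap.snd R _ _)

lemma dC_apply (φ : M ⟶ N) (n : ℤ) (c : M.X (n + 1) × N.X n) :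
    dC φ n c = (-(M.d (n + 1) (n + 1 + 1)).hom c.1,
      (φ.f (n + 1)).hom c.1 + (N.d n (n + 1)).hom c.2) := rfl

lemma dC_dC (φ : M ⟶ N) (n : ℤ) (c : M.X (n + 1) × N.X n) : dC φ (n + 1) (dC φ n c) = 0 := by
  rw [dC_apply, dC_apply]
  refine Prod.ext ?_ ?_
  · show -(M.d (n + 1 + 1) (n + 1 + 1 + 1)).hom (-(M.d (n + 1) (n + 1 + 1)).hom c.1) = 0
    rw [map_neg, dd_apply, neg_zero, neg_zero]
  · show (φ.f (n + 1 + 1)).hom (-(M.d (n + 1) (n + 1 + 1)).hom c.1) +
      (N.d (n + 1) (n + 1 + 1)).hom ((φ.f (n + 1)).hom c.1 + (N.d n (n + 1)).hom c.2) = 0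
    rw [map_neg, comm_apply, map_add, dd_apply, add_zero, neg_add_cancel]

/-- the explicit mapping cone -/
noncomputable def cone (φ : M ⟶ N) : DRing.Cx R :=
  CochainComplex.of (fun n => ModuleCat.of R (M.X (n + 1) × N.X n))
    (fun n => ModuleCat.ofHom (dC φ n))
    (fun n => ModuleCat.hom_ext (LinearMap.ext fun c => dC_dC φ n c))

lemma cone_d (φ : M ⟶ N) (n : ℤ) : (cone φ).d n (n + 1) = ModuleCat.ofHom (dC φ n) := by
  unfold cone
  exact CochainComplex.of_d (V := ModuleCat.{u} R) (fun n => ModuleCat.of R (M.X (n + 1) × N.X n))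
    (fun n => ModuleCat.ofHom (dC φ n)) n

/-- differential of the explicit cylinder -/
def dZ (φ : M ⟶ N) (n : ℤ) :
    (M.X n × M.X (n + 1) × N.X n) →ₗ[R] (M.X (n + 1) × M.X (n + 1 + 1) × N.X (n + 1)) :=
  LinearMap.prod ((M.d n (n + 1)).hom ∘ₗ LinearMap.fst R _ _ -
      LinearMap.fst R _ _ ∘ₗ LinearMap.snd R _ _)
    (dC φ n ∘ₗ LinearMap.snd R _ _)

lemma dZ_apply (φ : M ⟶ N) (n : ℤ) (x : M.X n) (c : M.X (n + 1) × N.X n) :
    dZ φ n (x, c) = ((M.d n (n + 1)).hom x - c.1, dC φ n c) := rfl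

lemma dZ_dZ (φ : M ⟶ N) (n : ℤ) (z : M.X n × M.X (n + 1) × N.X n) :
    dZ φ (n + 1) (dZ φ n z) = 0 := by
  obtain ⟨x, c⟩ := z
  rw [dZ_apply, dZ_apply, dC_dC]
  refine Prod.ext ?_ rfl
  show (M.d (n + 1) (n + 1 + 1)).hom ((M.d n (n + 1)).hom x - c.1) - (dC φ n c).1 = 0
  rw [map_sub, dd_apply, dC_apply]
  show 0 - (M.d (n + 1) (n + 1 + 1)).hom c.1 - -(M.d (n + 1) (n + 1 + 1)).hom c.1 = 0
  abel

/-- the explicit mapping cylinder -/
noncomputable def cyl (φ : M ⟶ N) : DRing.Cx R :=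
  CochainComplex.of (fun n => ModuleCat.of R (M.X n × M.X (n + 1) × N.X n))
    (fun n => ModuleCat.ofHom (dZ φ n))
    (fun n => ModuleCat.hom_ext (LinearMap.ext fun z => dZ_dZ φ n z))

lemma cyl_d (φ : M ⟶ N) (n : ℤ) : (cyl φ).d n (n + 1) = ModuleCat.ofHom (dZ φ n) := by
  unfold cyl
  exact CochainComplex.of_d (V := ModuleCat.{u} R)
    (fun n => ModuleCat.of R (M.X n × M.X (n + 1) × N.X n))
    (fun n => ModuleCat.ofHom (dZ φ n)) n

/-! #### the splitting `cyl φ = N ⊕ cone (𝟙 M)` -/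

def iN (φ : M ⟶ N) (k : ℤ) : N.X k →ₗ[R] (M.X k × M.X (k + 1) × N.X k) :=
  LinearMap.inr R _ _ ∘ₗ LinearMap.inr R _ _

def sD (φ : M ⟶ N) (k : ℤ) : (M.X (k + 1) × M.X k) →ₗ[R] (M.X k × M.X (k + 1) × N.X k) :=
  LinearMap.prod (LinearMap.snd R _ _)
    (LinearMap.prod (-(LinearMap.fst R _ _)) (-((φ.f k).hom ∘ₗ LinearMap.snd R _ _)))

def rN (φ : M ⟶ N) (k : ℤ) : (M.X k × M.X (k + 1) × N.X k) →ₗ[R] N.X k :=
  LinearMap.snd R _ _ ∘ₗ LinearMap.snd R _ _ + (φ.f k).hom ∘ₗ LinearMap.fst R _ _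

def qD (φ : M ⟶ N) (k : ℤ) : (M.X k × M.X (k + 1) × N.X k) →ₗ[R] (M.X (k + 1) × M.X k) :=
  LinearMap.prod (-(LinearMap.fst R _ _ ∘ₗ LinearMap.snd R _ _)) (LinearMap.fst R _ _)

lemma iN_apply (φ : M ⟶ N) (k : ℤ) (y : N.X k) : iN φ k y = (0, 0, y) := rfl
lemma sD_apply (φ : M ⟶ N) (k : ℤ) (c : M.X (k + 1) × M.X k) :
    sD φ k c = (c.2, -c.1, -(φ.f k).hom c.2) := rfl
lemma rN_apply (φ : M ⟶ N) (k : ℤ) (x : M.X k) (c : M.X (k + 1) × N.X k) :
    rN φ k (x, c) = c.2 + (φ.f k).hom x := rfl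
lemma qD_apply (φ : M ⟶ N) (k : ℤ) (x : M.X k) (c : M.X (k + 1) × N.X k) :
    qD φ k (x, c) = (-c.1, x) := rfl

lemma dC_id_apply (k : ℤ) (c : M.X (k + 1) × M.X k) :
    dC (𝟙 M) k c = (-(M.d (k + 1) (k + 1 + 1)).hom c.1, c.1 + (M.d k (k + 1)).hom c.2) := rfl

lemma iN_comm (φ : M ⟶ N) (k : ℤ) (y : N.X k) :
    dZ φ k (iN φ k y) = iN φ (k + 1) ((N.d k (k + 1)).hom y) := by
  rw [iN_apply, iN_apply, dZ_apply, dC_apply]
  refine Prod.ext ?_ (Prod.ext ?_ ?_)
  · show (M.d k (k + 1)).hom 0 - 0 = 0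
    rw [map_zero, sub_zero]
  · show -(M.d (k + 1) (k + 1 + 1)).hom 0 = 0
    rw [map_zero, neg_zero]
  · show (φ.f (k + 1)).hom 0 + (N.d k (k + 1)).hom y = (N.d k (k + 1)).hom y
    rw [map_zero, zero_add]

lemma sD_comm (φ : M ⟶ N) (k : ℤ) (c : M.X (k + 1) × M.X k) :
    dZ φ k (sD φ k c) = sD φ (k + 1) (dC (𝟙 M) k c) := by
  rw [sD_apply, sD_apply, dZ_apply, dC_apply, dC_id_apply]
  refine Prod.ext ?_ (Prod.ext ?_ ?_)
  · show (M.d k (k + 1)).hom c.2 - -c.1 = c.1 + (M.d k (k + 1)).hom c.2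
    abel
  · show -(M.d (k + 1) (k + 1 + 1)).hom (-c.1) = - -(M.d (k + 1) (k + 1 + 1)).hom c.1
    rw [map_neg]
  · show (φ.f (k + 1)).hom (-c.1) + (N.d k (k + 1)).hom (-(φ.f k).hom c.2) =
      -(φ.f (k + 1)).hom (c.1 + (M.d k (k + 1)).hom c.2)
    rw [map_neg, map_neg, map_add, comm_apply]
    abel

lemma rN_comm (φ : M ⟶ N) (k : ℤ) (z : M.X k × M.X (k + 1) × N.X k) :
    (N.d k (k + 1)).hom (rN φ k z) = rN φ (k + 1) (dZ φ k z) := by
  obtain ⟨x, c⟩ := z
  rw [dZ_apply, rN_apply, rN_apply, dC_apply]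
  show (N.d k (k + 1)).hom (c.2 + (φ.f k).hom x) =
    ((φ.f (k + 1)).hom c.1 + (N.d k (k + 1)).hom c.2) +
      (φ.f (k + 1)).hom ((M.d k (k + 1)).hom x - c.1)
  rw [map_add, map_sub, comm_apply]
  abel

lemma qD_comm (φ : M ⟶ N) (k : ℤ) (z : M.X k × M.X (k + 1) × N.X k) :
    dC (𝟙 M) k (qD φ k z) = qD φ (k + 1) (dZ φ k z) := by
  obtain ⟨x, c⟩ := z
  rw [dZ_apply, qD_apply, qD_apply, dC_id_apply, dC_apply]
  refine Prod.ext ?_ ?_
  · show -(M.d (k + 1) (k + 1 + 1)).hom (-c.1) = - -(M.d (k + 1) (k + 1 + 1)).hom c.1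
    rw [map_neg]
  · show -c.1 + (M.d k (k + 1)).hom x = (M.d k (k + 1)).hom x - c.1
    abel

/-- the splitting `cyl φ = N ⊕ cone (𝟙 M)` -/
noncomputable def split2 (φ : M ⟶ N) : Split N (cone (𝟙 M)) (cyl φ) where
  i := CochainComplex.ofHom
    (fun k => (ModuleCat.ofHom (iN φ k) : N.X k ⟶ (cyl φ).X k)) (fun k => by
      rw [cyl_d]
      exact ModuleCat.hom_ext (LinearMap.ext fun y => iN_comm φ k y))
  s := CochainComplex.ofHom
    (fun k => (ModuleCat.ofHom (sD φ k) : (cone (𝟙 M)).X k ⟶ (cyl φ).X k)) (fun k => by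
      rw [cyl_d, cone_d]
      exact ModuleCat.hom_ext (LinearMap.ext fun c => sD_comm φ k c))
  r := CochainComplex.ofHom
    (fun k => (ModuleCat.ofHom (rN φ k) : (cyl φ).X k ⟶ N.X k)) (fun k => by
      rw [cyl_d]
      exact ModuleCat.hom_ext (LinearMap.ext fun z => rN_comm φ k z))
  q := CochainComplex.ofHom
    (fun k => (ModuleCat.ofHom (qD φ k) : (cyl φ).X k ⟶ (cone (𝟙 M)).X k)) (fun k => by
      rw [cyl_d, cone_d]
      exact ModuleCat.hom_ext (LinearMap.ext fun z => qD_comm φ k z))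
  ir := by
    ext k : 1
    refine ModuleCat.hom_ext (LinearMap.ext fun y => ?_)
    show rN φ k (iN φ k y) = y
    rw [iN_apply, rN_apply]
    show y + (φ.f k).hom 0 = y
    rw [map_zero, add_zero]
  iq := by
    ext k : 1
    refine ModuleCat.hom_ext (LinearMap.ext fun y => ?_)
    show qD φ k (iN φ k y) = 0
    rw [iN_apply, qD_apply]
    show ((-0 : M.X (k + 1)), (0 : M.X k)) = 0
    rw [neg_zero]
    rfl
  sr := by
    ext k : 1
    refine ModuleCat.hom_ext (LinearMap.ext fun c => ?_)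
    show rN φ k (sD φ k c) = 0
    rw [sD_apply, rN_apply]
    show -(φ.f k).hom c.2 + (φ.f k).hom c.2 = 0
    rw [neg_add_cancel]
  sq := by
    ext k : 1
    refine ModuleCat.hom_ext (LinearMap.ext fun c => ?_)
    show qD φ k (sD φ k c) = c
    rw [sD_apply, qD_apply]
    show (- -c.1, c.2) = c
    rw [neg_neg]
    exact Prod.ext rfl rfl
  tot := by
    ext k : 1
    refine ModuleCat.hom_ext (LinearMap.ext fun z => ?_)
    obtain ⟨x, c⟩ := z
    show iN φ k (rN φ k (x, c)) + sD φ k (qD φ k (x, c)) = (x, c)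
    rw [rN_apply, qD_apply, iN_apply, sD_apply]
    refine Prod.ext ?_ (Prod.ext ?_ ?_)
    · show (0 : M.X k) + x = x
      rw [zero_add]
    · show (0 : M.X (k + 1)) + - -c.1 = c.1
      rw [neg_neg, zero_add]
    · show c.2 + (φ.f k).hom x + -(φ.f k).hom x = c.2
      abel

/-! #### the splitting `cyl φ = M ⊕ cone φ`, given a contraction -/

def iM (φ : M ⟶ N) (k : ℤ) : M.X k →ₗ[R] (M.X k × M.X (k + 1) × N.X k) := LinearMap.inl R _ _

def qC (φ : M ⟶ N) (k : ℤ) : (M.X k × M.X (k + 1) × N.X k) →ₗ[R] (M.X (k + 1) × N.X k) :=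
  LinearMap.snd R _ _

def rM (φ : M ⟶ N) (g : ∀ k : ℤ, (M.X (k + 1) × N.X k) →ₗ[R] M.X k) (k : ℤ) :
    (M.X k × M.X (k + 1) × N.X k) →ₗ[R] M.X k :=
  LinearMap.fst R _ _ + g k ∘ₗ LinearMap.snd R _ _

def sC (φ : M ⟶ N) (g : ∀ k : ℤ, (M.X (k + 1) × N.X k) →ₗ[R] M.X k) (k : ℤ) :
    (M.X (k + 1) × N.X k) →ₗ[R] (M.X k × M.X (k + 1) × N.X k) :=
  LinearMap.prod (-(g k)) LinearMap.id

lemma iM_apply (φ : M ⟶ N) (k : ℤ) (x : M.X k) : iM φ k x = (x, 0) := rfl
lemma qC_apply (φ : M ⟶ N) (k : ℤ) (x : M.X k) (c : M.X (k + 1) × N.X k) :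
    qC φ k (x, c) = c := rfl
lemma rM_apply (φ : M ⟶ N) (g : ∀ k : ℤ, (M.X (k + 1) × N.X k) →ₗ[R] M.X k) (k : ℤ)
    (x : M.X k) (c : M.X (k + 1) × N.X k) : rM φ g k (x, c) = x + g k c := rfl
lemma sC_apply (φ : M ⟶ N) (g : ∀ k : ℤ, (M.X (k + 1) × N.X k) →ₗ[R] M.X k) (k : ℤ)
    (c : M.X (k + 1) × N.X k) : sC φ g k c = (-(g k c), c) := rfl

lemma iM_comm (φ : M ⟶ N) (k : ℤ) (x : M.X k) :
    dZ φ k (iM φ k x) = iM φ (k + 1) ((M.d k (k + 1)).hom x) := by
  rw [iM_apply, iM_apply, dZ_apply, map_zero]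
  refine Prod.ext ?_ rfl
  show (M.d k (k + 1)).hom x - 0 = (M.d k (k + 1)).hom x
  rw [sub_zero]

/-- the splitting `cyl φ = M ⊕ cone φ` attached to a family `g` with `d g = g d - fst` -/
noncomputable def split1 (φ : M ⟶ N) (g : ∀ k : ℤ, (M.X (k + 1) × N.X k) →ₗ[R] M.X k)
    (H : ∀ (k : ℤ) (c : M.X (k + 1) × N.X k),
      (M.d k (k + 1)).hom (g k c) = g (k + 1) (dC φ k c) - c.1) :
    Split M (cone φ) (cyl φ) where
  i := CochainComplex.ofHom
    (fun k => (ModuleCat.ofHom (iM φ k) : M.X k ⟶ (cyl φ).X k)) (fun k => by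
      rw [cyl_d]
      exact ModuleCat.hom_ext (LinearMap.ext fun x => iM_comm φ k x))
  s := CochainComplex.ofHom
    (fun k => (ModuleCat.ofHom (sC φ g k) : (cone φ).X k ⟶ (cyl φ).X k)) (fun k => by
      rw [cyl_d, cone_d]
      refine ModuleCat.hom_ext (LinearMap.ext fun c => ?_)
      show dZ φ k (sC φ g k c) = sC φ g (k + 1) (dC φ k c)
      rw [sC_apply, sC_apply, dZ_apply]
      refine Prod.ext ?_ rfl
      show (M.d k (k + 1)).hom (-(g k c)) - c.1 = -(g (k + 1) (dC φ k c))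
      rw [map_neg, H]
      abel)
  r := CochainComplex.ofHom
    (fun k => (ModuleCat.ofHom (rM φ g k) : (cyl φ).X k ⟶ M.X k)) (fun k => by
      rw [cyl_d]
      refine ModuleCat.hom_ext (LinearMap.ext fun z => ?_)
      obtain ⟨x, c⟩ := z
      show (M.d k (k + 1)).hom (rM φ g k (x, c)) = rM φ g (k + 1) (dZ φ k (x, c))
      rw [dZ_apply, rM_apply, rM_apply, map_add, H]
      abel)
  q := CochainComplex.ofHom
    (fun k => (ModuleCat.ofHom (qC φ k) : (cyl φ).X k ⟶ (cone φ).X k)) (fun k => by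
      rw [cyl_d, cone_d]
      refine ModuleCat.hom_ext (LinearMap.ext fun z => ?_)
      obtain ⟨x, c⟩ := z
      rfl)
  ir := by
    ext k : 1
    refine ModuleCat.hom_ext (LinearMap.ext fun x => ?_)
    show rM φ g k (iM φ k x) = x
    rw [iM_apply, rM_apply, map_zero, add_zero]
  iq := by
    ext k : 1
    refine ModuleCat.hom_ext (LinearMap.ext fun x => ?_)
    rfl
  sr := by
    ext k : 1
    refine ModuleCat.hom_ext (LinearMap.ext fun c => ?_)
    show rM φ g k (sC φ g k c) = 0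
    rw [sC_apply, rM_apply, neg_add_cancel]
  sq := by
    ext k : 1
    refine ModuleCat.hom_ext (LinearMap.ext fun c => ?_)
    rfl
  tot := by
    ext k : 1
    refine ModuleCat.hom_ext (LinearMap.ext fun z => ?_)
    obtain ⟨x, c⟩ := z
    show iM φ k (rM φ g k (x, c)) + sC φ g k (qC φ k (x, c)) = (x, c)
    rw [rM_apply, qC_apply, iM_apply, sC_apply]
    refine Prod.ext ?_ ?_
    · show x + g k c + -(g k c) = x
      abel
    · show (0 : M.X (k + 1) × N.X k) + c = c
      rw [zero_add]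

/-! #### the family `g` attached to a contraction of the cone -/

/-- the component `cone^k ⟶ M^k` of a contraction of the cone -/
noncomputable def gOf (φ : M ⟶ N) (h : Homotopy (𝟙 (cone φ)) 0) (k : ℤ) :
    (M.X (k + 1) × N.X k) →ₗ[R] M.X k :=
  (M.XIsoOfEq (sub_add_cancel k 1)).hom.hom ∘ₗ
    LinearMap.fst R (M.X (k - 1 + 1)) (N.X (k - 1)) ∘ₗ (h.hom k (k - 1)).hom

/-- the components of a contraction, with explicit types -/
noncomputable def hh (φ : M ⟶ N) (h : Homotopy (𝟙 (cone φ)) 0) (i : ℤ) :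
    (M.X (i + 1 + 1) × N.X (i + 1)) →ₗ[R] (M.X (i + 1) × N.X i) := (h.hom (i + 1) i).hom

lemma gAux_eq (φ : M ⟶ N) (h : Homotopy (𝟙 (cone φ)) 0) (j i : ℤ) (hj : j + 1 = i + 1) :
    ((M.XIsoOfEq hj).hom.hom ∘ₗ LinearMap.fst R (M.X (j + 1)) (N.X j) ∘ₗ (h.hom (i + 1) j).hom :
      (M.X (i + 1 + 1) × N.X (i + 1)) →ₗ[R] M.X (i + 1)) =
    LinearMap.fst R (M.X (i + 1)) (N.X i) ∘ₗ hh φ h i := by
  obtain rfl : j = i := by lia
  rw [HomologicalComplex.XIsoOfEq_rfl]
  rfl

lemma gOf_succ (φ : M ⟶ N) (h : Homotopy (𝟙 (cone φ)) 0) (i : ℤ) :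
    gOf φ h (i + 1) = LinearMap.fst R (M.X (i + 1)) (N.X i) ∘ₗ hh φ h i :=
  gAux_eq φ h (i + 1 - 1) i (sub_add_cancel (i + 1) 1)

lemma htpy_apply (φ : M ⟶ N) (h : Homotopy (𝟙 (cone φ)) 0) (i : ℤ)
    (c : M.X (i + 1 + 1) × N.X (i + 1)) :
    c = hh φ h (i + 1) (dC φ (i + 1) c) + dC φ i (hh φ h i c) := by
  have hc := h.comm (i + 1)
  rw [dNext_eq h.hom (show (ComplexShape.up ℤ).Rel (i + 1) (i + 1 + 1) from rfl),
    prevD_eq h.hom (show (ComplexShape.up ℤ).Rel i (i + 1) from rfl), cone_d, cone_d] at hc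
  have hc2 := congrArg (fun f => f.hom c) hc
  simp at hc2
  exact hc2

lemma gOf_H (φ : M ⟶ N) (h : Homotopy (𝟙 (cone φ)) 0) (k : ℤ) (c : M.X (k + 1) × N.X k) :
    (M.d k (k + 1)).hom (gOf φ h k c) = gOf φ h (k + 1) (dC φ k c) - c.1 := by
  obtain ⟨i, rfl⟩ : ∃ i, k = i + 1 := ⟨k - 1, by lia⟩
  rw [gOf_succ, gOf_succ]
  have e := congrArg Prod.fst (htpy_apply φ h i c)
  rw [Prod.fst_add, dC_apply] at e
  show (M.d (i + 1) (i + 1 + 1)).hom (hh φ h i c).1 =
    (hh φ h (i + 1) (dC φ (i + 1) c)).1 - c.1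
  have e' : c.1 = (hh φ h (i + 1) (dC φ (i + 1) c)).1 +
      -(M.d (i + 1) (i + 1 + 1)).hom (hh φ h i c).1 := e
  rw [e']
  abel

/-! #### comparison with the mapping cone of Mathlib, contraction of the cone -/

/-- the comparison map from the mapping cone of Mathlib to the explicit cone -/
noncomputable def toCone (φ : M ⟶ N) : CochainComplex.mappingCone φ ⟶ cone φ :=
  CochainComplex.ofHom
    (fun n => (ModuleCat.ofHom (LinearMap.prod
      ((CochainComplex.mappingCone.fst φ).1.v n (n + 1) rfl).hom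
      ((CochainComplex.mappingCone.snd φ).v n n (add_zero n)).hom) :
        (CochainComplex.mappingCone φ).X n ⟶ (cone φ).X n))
    (fun n => by
      rw [cone_d]
      refine ModuleCat.hom_ext (LinearMap.ext fun x => ?_)
      refine Prod.ext ?_ ?_
      · have h1 := CochainComplex.mappingCone.d_fst_v φ n (n + 1) (n + 1 + 1) rfl rfl
        exact (congrArg (fun f => f.hom x) h1).symm
      · have h1 := CochainComplex.mappingCone.d_snd_v φ n (n + 1) rfl
        exact (congrArg (fun f => f.hom x) h1).symm)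

/-- first projection of the explicit cone -/
noncomputable def pM (φ : M ⟶ N) (n : ℤ) : (cone φ).X n ⟶ M.X (n + 1) :=
  ModuleCat.ofHom (LinearMap.fst R (M.X (n + 1)) (N.X n))

/-- second projection of the explicit cone -/
noncomputable def pN (φ : M ⟶ N) (n : ℤ) : (cone φ).X n ⟶ N.X n :=
  ModuleCat.ofHom (LinearMap.snd R (M.X (n + 1)) (N.X n))

/-- the inverse of the comparison map, degreewise -/
noncomputable def invF (φ : M ⟶ N) (n : ℤ) : (cone φ).X n ⟶ (CochainComplex.mappingCone φ).X n :=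
  pM φ n ≫ (CochainComplex.mappingCone.inl φ).v (n + 1) n (by lia) +
    pN φ n ≫ (CochainComplex.mappingCone.inr φ).f n

lemma toCone_fst (φ : M ⟶ N) (n : ℤ) :
    (toCone φ).f n ≫ pM φ n = (CochainComplex.mappingCone.fst φ).1.v n (n + 1) rfl :=
  ModuleCat.hom_ext (LinearMap.ext fun _ => rfl)

lemma toCone_snd (φ : M ⟶ N) (n : ℤ) :
    (toCone φ).f n ≫ pN φ n = (CochainComplex.mappingCone.snd φ).v n n (add_zero n) :=
  ModuleCat.hom_ext (LinearMap.ext fun _ => rfl)

lemma invF_fst (φ : M ⟶ N) (n : ℤ) :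
    invF φ n ≫ (CochainComplex.mappingCone.fst φ).1.v n (n + 1) rfl = pM φ n := by
  simp [invF]

lemma invF_snd (φ : M ⟶ N) (n : ℤ) :
    invF φ n ≫ (CochainComplex.mappingCone.snd φ).v n n (add_zero n) = pN φ n := by
  simp [invF]

lemma isIso_toCone_f (φ : M ⟶ N) (n : ℤ) : IsIso ((toCone φ).f n) := by
  refine ⟨⟨invF φ n, ?_, ?_⟩⟩
  · unfold invF
    rw [Preadditive.comp_add, ← Category.assoc, ← Category.assoc, toCone_fst, toCone_snd]
    exact CochainComplex.mappingCone.id_X φ n (n + 1) rfl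
  · refine ModuleCat.hom_ext (LinearMap.ext fun x => ?_)
    refine Prod.ext ?_ ?_
    · exact congrArg (fun f => f.hom x) (invF_fst φ n)
    · exact congrArg (fun f => f.hom x) (invF_snd φ n)

lemma cone_tfp (φ : M ⟶ N) (hM : DRing.TermwiseFiniteProjective M)
    (hN : DRing.TermwiseFiniteProjective N) : DRing.TermwiseFiniteProjective (cone φ) := fun i => by
  haveI := (hM (i + 1)).1
  haveI := (hM (i + 1)).2
  haveI := (hN i).1
  haveI := (hN i).2
  exact ⟨inferInstanceAs (Module.Finite R (M.X (i + 1) × N.X i)),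
    inferInstanceAs (Module.Projective R (M.X (i + 1) × N.X i))⟩

lemma cone_vanish (φ : M ⟶ N) (a b : ℤ) (hM : DRing.VanishesOutside M a b)
    (hN : DRing.VanishesOutside N a b) : DRing.VanishesOutside (cone φ) (a - 1) b := fun i hi => by
  haveI : Subsingleton (M.X (i + 1)) := ModuleCat.subsingleton_of_isZero (hM (i + 1) (by omega))
  haveI : Subsingleton (N.X i) := ModuleCat.subsingleton_of_isZero (hN i (by omega))
  exact ModuleCat.isZero_of_subsingleton (ModuleCat.of R (M.X (i + 1) × N.X i))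

/-- the cone of a quasi-isomorphism of bounded above complexes of projectives is contractible -/
lemma cone_contr (φ : M ⟶ N) (hq : QuasiIso φ) (b : ℤ) (hMb : ∀ i, b < i → IsZero (M.X i))
    (hNb : ∀ i, b < i → IsZero (N.X i)) (hM : DRing.TermwiseFiniteProjective M)
    (hN : DRing.TermwiseFiniteProjective N) : Nonempty (Homotopy (𝟙 (cone φ)) 0) := by
  have hac : (CochainComplex.mappingCone φ).Acyclic :=
    (Groth.Agent.Helper5.FlatAcyc.quasiIso_iff_acyclic_cone φ).1 hq
  haveI : (CochainComplex.mappingCone φ).IsKProjective :=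
    Groth.Agent.Helper5.DRingCone.kproj_of_proj _ b (fun i hi => by
      rw [CochainComplex.mappingCone.isZero_X_iff]
      exact ⟨hMb _ (by lia), hNb _ hi⟩)
      (fun i => (Groth.Agent.Helper5.DRingCone.cone_finiteProjective φ hM hN i).2)
  have H0 : Homotopy (𝟙 (CochainComplex.mappingCone φ)) 0 :=
    CochainComplex.IsKProjective.homotopyZero _ hac
  haveI : ∀ n, IsIso ((toCone φ).f n) := isIso_toCone_f φ
  haveI : IsIso (toCone φ) := HomologicalComplex.Hom.isIso_of_components _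
  exact ⟨(Homotopy.ofEq (by simp)).trans
    (((H0.compRight (toCone φ)).compLeft (inv (toCone φ))).trans (Homotopy.ofEq (by simp)))⟩

/-- boundaries of a contractible complex of finite projectives are finite projective -/
lemma range_d_proj (X : DRing.Cx R) (h : Homotopy (𝟙 X) 0)
    (hX : DRing.TermwiseFiniteProjective X) (i : ℤ) :
    Module.Finite R (LinearMap.range (X.d i (i + 1)).hom) ∧
      Module.Projective R (LinearMap.range (X.d i (i + 1)).hom) := by
  haveI := (hX (i + 1)).1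
  haveI := (hX (i + 1)).2
  haveI := (hX i).1
  refine ⟨Module.Finite.range _, ?_⟩
  let ρ : X.X (i + 1) →ₗ[R] LinearMap.range (X.d i (i + 1)).hom :=
    (LinearMap.rangeRestrict (X.d i (i + 1)).hom) ∘ₗ (h.hom (i + 1) i).hom
  refine Module.Projective.of_split (LinearMap.range (X.d i (i + 1)).hom).subtype ρ ?_
  refine LinearMap.ext fun y => Subtype.ext ?_
  obtain ⟨y, x, rfl⟩ := y
  show (X.d i (i + 1)).hom ((h.hom (i + 1) i).hom ((X.d i (i + 1)).hom x)) =
    (X.d i (i + 1)).hom x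
  have hc := h.comm (i + 1)
  rw [dNext_eq h.hom (show (ComplexShape.up ℤ).Rel (i + 1) (i + 1 + 1) from rfl),
    prevD_eq h.hom (show (ComplexShape.up ℤ).Rel i (i + 1) from rfl)] at hc
  have hc2 := congrArg (fun f => f.hom ((X.d i (i + 1)).hom x)) hc
  have hc3 : (X.d i (i + 1)).hom x =
      (h.hom (i + 1 + 1) (i + 1)).hom ((X.d (i + 1) (i + 1 + 1)).hom ((X.d i (i + 1)).hom x)) +
        (X.d i (i + 1)).hom ((h.hom (i + 1) i).hom ((X.d i (i + 1)).hom x)) := by
    simpa using hc2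
  rw [dd_apply, map_zero, zero_add] at hc3
  exact hc3.symm

end cx

/-! ### C. local freeness -/
section free
open Groth.Agent.Helper5.FlatBC
variable {R : Type u} [CommRing R]

/-- `B` becomes free over `R_g` -/
def Good (g : R) (B : ModuleCat.{u} R) : Prop :=
  Module.Free (Localization.Away g) ((Ef (Localization.Away g)).obj B)

lemma good_of_subsingleton (g : R) (B : ModuleCat.{u} R) [Subsingleton B] : Good g B := by
  have hz : IsZero ((Ef (Localization.Away g)).obj B) :=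
    Functor.map_isZero _ (ModuleCat.isZero_of_subsingleton B)
  haveI : Subsingleton ((Ef (Localization.Away g)).obj B) := ModuleCat.subsingleton_of_isZero hz
  exact Module.Free.of_subsingleton _ _

lemma Ef_finite (T : Type u) [CommRing T] [Algebra R T] (X : ModuleCat.{u} R)
    [Module.Finite R X] : Module.Finite T ((Ef T).obj X) := by
  have h1 : Module.Finite T (TensorProduct R T X) := inferInstance
  have h3 : Module.Finite T (N' T X) := Module.Finite.equiv (eqv T X)
  exact h3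

lemma Ef_free_of_tensor (T : Type u) [CommRing T] [Algebra R T] (X : ModuleCat.{u} R)
    (h1 : Module.Free T (TensorProduct R T X)) : Module.Free T ((Ef T).obj X) := by
  have h3 : Module.Free T (N' T X) := Module.Free.of_equiv (eqv T X)
  exact h3

lemma exists_good (p : Ideal R) [p.IsPrime] (B : ModuleCat.{u} R) [Module.Finite R B]
    [Module.Projective R B] : ∃ r : R, r ∉ p ∧ ∀ t : R, Good (r * t) B := by
  haveI : Module.FinitePresentation R B := Module.finitePresentation_of_projective R B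
  have hmem : (⟨p, inferInstance⟩ : PrimeSpectrum R) ∈ Module.freeLocus R B := by
    rw [Module.freeLocus_eq_univ]
    trivial
  haveI hfree : Module.Free (Localization.AtPrime p) (LocalizedModule p.primeCompl B) :=
    Module.mem_freeLocus.mp hmem
  obtain ⟨r, hr, hrfree, -⟩ := Module.FinitePresentation.exists_free_localizedModule_powers
    p.primeCompl (LocalizedModule.mkLinearMap p.primeCompl B) (Localization.AtPrime p)
  refine ⟨r, hr, fun t => ?_⟩
  let S := Localization.Away r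
  let T := Localization.Away (r * t)
  let ψ : S →+* T := IsLocalization.Away.awayToAwayRight r t
  letI : Algebra S T := ψ.toAlgebra
  haveI : IsScalarTower R S T := IsScalarTower.of_algebraMap_eq
    (fun x => (IsLocalization.Away.awayToAwayRight_eq (S := S) (P := T) r t x).symm)
  haveI h0 : Module.Free S (LocalizedModule (Submonoid.powers r) B) := hrfree
  haveI h1 : Module.Free S (TensorProduct R S B) :=
    Module.Free.of_equiv (LocalizedModule.isBaseChange (Submonoid.powers r) B).equiv.symm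
  haveI h2 : Module.Free T (TensorProduct S T (TensorProduct R S B)) := inferInstance
  have e := TensorProduct.AlgebraTensorModule.cancelBaseChange R S T T B
  have h3 : Module.Free T (TensorProduct R T B) := Module.Free.of_equiv e
  exact Ef_free_of_tensor T B h3

lemma exists_good_finset (p : Ideal R) [p.IsPrime] (s : Finset ℤ) (B : ℤ → ModuleCat.{u} R)
    (hB : ∀ i ∈ s, Module.Finite R (B i) ∧ Module.Projective R (B i)) :
    ∃ f : R, f ∉ p ∧ ∀ i ∈ s, ∀ t : R, Good (f * t) (B i) := by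
  classical
  induction s using Finset.induction_on with
  | empty =>
    exact ⟨1, (Ideal.ne_top_iff_one p).1 (Ideal.IsPrime.ne_top inferInstance), by simp⟩
  | insert j s hj ih =>
    obtain ⟨f, hf, hfs⟩ := ih (fun i hi => hB i (Finset.mem_insert_of_mem hi))
    haveI := (hB j (Finset.mem_insert_self j s)).1
    haveI := (hB j (Finset.mem_insert_self j s)).2
    obtain ⟨r, hr, hrt⟩ := exists_good p (B j)
    refine ⟨r * f, fun h => (Ideal.IsPrime.mem_or_mem inferInstance h).elim hr hf,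
      fun i hi t => ?_⟩
    rcases Finset.mem_insert.1 hi with rfl | hi
    · have := hrt (f * t)
      rwa [← mul_assoc] at this
    · have := hfs i hi (r * t)
      have e : f * (r * t) = r * f * t := by ring
      rwa [e] at this

lemma range_free (T : Type u) [CommRing T] [Algebra R T] [Module.Flat R T] {X Y : ModuleCat.{u} R}
    (d : X ⟶ Y)
    (hfree : Module.Free T ((Ef T).obj (ModuleCat.of R (LinearMap.range d.hom)))) :
    Module.Free T (LinearMap.range ((Ef T).map d).hom) := by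
  let e : X ⟶ ModuleCat.of R (LinearMap.range d.hom) := ModuleCat.ofHom d.hom.rangeRestrict
  let m : ModuleCat.of R (LinearMap.range d.hom) ⟶ Y :=
    ModuleCat.ofHom (LinearMap.range d.hom).subtype
  have hfac : e ≫ m = d := ModuleCat.hom_ext (LinearMap.ext fun _ => rfl)
  haveI : Epi e := (ModuleCat.epi_iff_surjective e).2 (LinearMap.surjective_rangeRestrict _)
  haveI : Mono m := (ModuleCat.mono_iff_injective m).2 (Submodule.injective_subtype _)
  have hsurj : Function.Surjective ((Ef T).map e).hom :=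
    (ModuleCat.epi_iff_surjective _).1 inferInstance
  have hinj : Function.Injective ((Ef T).map m).hom :=
    (ModuleCat.mono_iff_injective _).1 inferInstance
  have hrange : LinearMap.range ((Ef T).map d).hom = LinearMap.range ((Ef T).map m).hom := by
    have hd : (Ef T).map d = (Ef T).map e ≫ (Ef T).map m := by
      rw [← Functor.map_comp, hfac]
    rw [hd, ModuleCat.hom_comp,
      LinearMap.range_comp_of_range_eq_top _ (LinearMap.range_eq_top.2 hsurj)]
  rw [hrange]
  exact Module.Free.of_equiv (LinearEquiv.ofInjective ((Ef T).map m).hom hinj)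

/-- the properties of the base change of a contractible complex all of whose terms and
boundaries become free -/
lemma props (f : R) (X : DRing.Cx R) (a' b' : ℤ) (hv : DRing.VanishesOutside X a' b')
    (hp : DRing.TermwiseFiniteProjective X) (hX : Homotopy (𝟙 X) 0)
    (g1 : ∀ i, Good f (X.X i))
    (g2 : ∀ i, Good f (ModuleCat.of R (LinearMap.range (X.d i (i + 1)).hom))) :
    (∃ a' b' : ℤ, DRing.VanishesOutside ((Ec (Localization.Away f)).obj X) a' b') ∧
      DRing.TermwiseFiniteFree ((Ec (Localization.Away f)).obj X) ∧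
      (∀ i : ℤ, Module.Free (Localization.Away f)
        (LinearMap.range (((Ec (Localization.Away f)).obj X).d i (i + 1)).hom)) ∧
      Nonempty (Homotopy (𝟙 ((Ec (Localization.Away f)).obj X)) 0) := by
  refine ⟨⟨a', b', fun i hi => (Functor.map_isZero (Ef (Localization.Away f)) (hv i hi) :
      IsZero ((Ef (Localization.Away f)).obj (X.X i)))⟩, fun i => ⟨?_, g1 i⟩,
    fun i => range_free _ (X.d i (i + 1)) (g2 i), ⟨?_⟩⟩
  · haveI := (hp i).1
    exact Ef_finite _ (X.X i)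
  · exact (Homotopy.ofEq (by simp)).trans
      (((Ef (Localization.Away f)).mapHomotopy hX).trans (Homotopy.ofEq (by simp)))

/-- a common denominator making all terms and boundaries of a bounded contractible complex of
finite projectives free -/
lemma exists_f (p : Ideal R) [p.IsPrime] (X : DRing.Cx R) (a' b' : ℤ)
    (hv : DRing.VanishesOutside X a' b') (hp : DRing.TermwiseFiniteProjective X)
    (hX : Homotopy (𝟙 X) 0) :
    ∃ f : R, f ∉ p ∧ ∀ t : R, (∀ i, Good (f * t) (X.X i)) ∧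
      (∀ i, Good (f * t) (ModuleCat.of R (LinearMap.range (X.d i (i + 1)).hom))) := by
  obtain ⟨f1, hf1, h1⟩ := exists_good_finset p (Finset.Icc (a' - 1) b') (fun i => X.X i)
    (fun i _ => hp i)
  obtain ⟨f2, hf2, h2⟩ := exists_good_finset p (Finset.Icc (a' - 1) b')
    (fun i => ModuleCat.of R (LinearMap.range (X.d i (i + 1)).hom))
    (fun i _ => range_d_proj X hX hp i)
  have hss : ∀ i, i ∉ Finset.Icc (a' - 1) b' → Subsingleton (X.X i) ∧ Subsingleton (X.X (i + 1)) := by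
    intro i hi
    rw [Finset.mem_Icc] at hi
    exact ⟨ModuleCat.subsingleton_of_isZero (hv i (by omega)),
      ModuleCat.subsingleton_of_isZero (hv (i + 1) (by omega))⟩
  refine ⟨f1 * f2, fun h => (Ideal.IsPrime.mem_or_mem inferInstance h).elim hf1 hf2,
    fun t => ⟨fun i => ?_, fun i => ?_⟩⟩
  · by_cases hi : i ∈ Finset.Icc (a' - 1) b'
    · have := h1 i hi (f2 * t)
      rwa [← mul_assoc] at this
    · haveI := (hss i hi).1
      exact good_of_subsingleton _ _
  · by_cases hi : i ∈ Finset.Icc (a' - 1) b'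
    · have := h2 i hi (f1 * t)
      have e : f2 * (f1 * t) = f1 * f2 * t := by ring
      rwa [e] at this
    · haveI := (hss i hi).2
      haveI : Subsingleton (LinearMap.range (X.d i (i + 1)).hom) :=
        ⟨fun x y => Subtype.ext (Subsingleton.elim _ _)⟩
      exact good_of_subsingleton _ _

end free

/-! ### D. the main statement -/
section main
open Groth.Agent.Helper5.FlatBC

theorem main (R : Type u) [CommRing R] (p : Ideal R) [p.IsPrime]
    (M N : DRing.Cx R) (a b : ℤ) (hM : DRing.VanishesOutside M a b) (hN : DRing.VanishesOutside N a b)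
    (hMp : DRing.TermwiseFiniteProjective M) (hNp : DRing.TermwiseFiniteProjective N)
    (h : Nonempty (DRing.toD M ≅ DRing.toD N)) :
    ∃ f : R, f ∉ p ∧ ∃ P Q : DRing.Cx (Localization.Away f),
      ((∃ a' b' : ℤ, DRing.VanishesOutside P a' b') ∧ DRing.TermwiseFiniteFree P ∧
          (∀ i : ℤ, Module.Free (Localization.Away f) (LinearMap.range (P.d i (i + 1)).hom)) ∧ Nonempty (Homotopy (𝟙 P) 0)) ∧
      ((∃ a' b' : ℤ, DRing.VanishesOutside Q a' b') ∧ DRing.TermwiseFiniteFree Q ∧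
          (∀ i : ℤ, Module.Free (Localization.Away f) (LinearMap.range (Q.d i (i + 1)).hom)) ∧ Nonempty (Homotopy (𝟙 Q) 0)) ∧
      Nonempty ((((ModuleCat.extendScalars (algebraMap R (Localization.Away f))).mapHomologicalComplex (ComplexShape.up ℤ)).obj M) ⊞ P ≅ (((ModuleCat.extendScalars (algebraMap R (Localization.Away f))).mapHomologicalComplex (ComplexShape.up ℤ)).obj N) ⊞ Q) := by
  obtain ⟨e⟩ := h
  haveI : M.IsKProjective := Groth.Agent.Helper5.DRingCone.kproj_of_proj M b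
    (fun i hi => hM i (Or.inr hi)) (fun i => (hMp i).2)
  obtain ⟨α, hα⟩ := Groth.Agent.Helper5.DRingCone.exists_chain_map M N e.hom
  have hq : QuasiIso α := by
    rw [← DerivedCategory.isIso_Q_map_iff_quasiIso, hα]
    infer_instance
  obtain ⟨hC⟩ := cone_contr α hq b (fun i hi => hM i (Or.inr hi)) (fun i hi => hN i (Or.inr hi))
    hMp hNp
  obtain ⟨hD⟩ := cone_contr (𝟙 M) inferInstance b (fun i hi => hM i (Or.inr hi))
    (fun i hi => hM i (Or.inr hi)) hMp hMp
  have hCp := cone_tfp α hMp hNp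
  have hDp := cone_tfp (𝟙 M) hMp hMp
  have hCv := cone_vanish α a b hM hN
  have hDv := cone_vanish (𝟙 M) a b hM hM
  obtain ⟨fC, hfC, gC⟩ := exists_f p (cone α) (a - 1) b hCv hCp hC
  obtain ⟨fD, hfD, gD⟩ := exists_f p (cone (𝟙 M)) (a - 1) b hDv hDp hD
  have gD' := gD fC
  rw [mul_comm fD fC] at gD'
  refine ⟨fC * fD, fun h => (Ideal.IsPrime.mem_or_mem inferInstance h).elim hfC hfD,
    (Ec (Localization.Away (fC * fD))).obj (cone α),
    (Ec (Localization.Away (fC * fD))).obj (cone (𝟙 M)),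
    props (fC * fD) (cone α) (a - 1) b hCv hCp hC (gC fD).1 (gC fD).2,
    props (fC * fD) (cone (𝟙 M)) (a - 1) b hDv hDp hD gD'.1 gD'.2, ⟨?_⟩⟩
  let S1 := (split1 α (gOf α hC) (gOf_H α hC)).map (Ec (Localization.Away (fC * fD)))
  let S2 := (split2 α).map (Ec (Localization.Away (fC * fD)))
  exact S1.iso.symm ≪≫ S2.iso

end main

end Groth.Agent.Helper3.StabIso
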