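import Mathlib
import Groth.Prelude.Def_DualSch
import Groth.Prelude.Def_CAlg
import Groth.Agent.Lib.Helper3.SchDual2
import Groth.Agent.Lib.Helper3.LowOmega
import Groth.Agent.Lib.Helper3.BCDual
import Groth.Agent.Lib.Helper5.Stalk.Pull
import Groth.Agent.Lib.Helper5.StalkTen.TildeStalk
import Groth.Agent.Lib.Helper8.FinRes5
import Groth.Agent.Lib.Helper4.DH3

set_option autoImplicit false
universe u
open CategoryTheory CategoryTheory.Limits AlgebraicGeometry TensorProduct

attribute [local instance] HasDerivedCategory.standard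

namespace Groth.Agent.Helper3.StalkSk

open Groth.Agent.Lib.Helper5.TildeStalk Groth.Agent.Lib.Helper5.StalkAdj
  Groth.Agent.Helper3.SchDual LocCoh

section Semilinear

variable {R S : Type u} [CommRing R] [CommRing S] (σ : R ≃+* S)
  {M N : Type u} [AddCommGroup M] [Module R M] [AddCommGroup N] [Module S N]
  (e : M ≃+ N) (he : ∀ (r : R) (m : M), e (r • m) = σ r • e m)

include he in
/-- Serre's condition and finiteness are invariant under semilinear equivalences -/
theorem hasSk_of_semilinear [IsNoetherianRing S] [Module.Finite S N] (k : ℕ)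
    (h : HasSk k S N) : HasSk k R M ∧ Module.Finite R M := by
  haveI : IsNoetherianRing R := isNoetherianRing_of_ringEquiv S σ.symm
  letI alg : Algebra S R := σ.symm.toRingHom.toAlgebra
  letI modSM : Module S M := Module.compHom M σ.symm.toRingHom
  haveI : IsScalarTower S R M := ⟨fun s r m => by
    change (σ.symm s * r) • m = σ.symm s • (r • m)
    rw [mul_smul]⟩
  let e' : N ≃ₗ[S] M :=
    { e.symm with
      map_smul' := fun s n => by
        apply e.injective
        change e (e.symm (s • n)) = e (σ.symm s • e.symm n)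
        rw [he, AddEquiv.apply_symm_apply, AddEquiv.apply_symm_apply, RingEquiv.apply_symm_apply] }
  haveI : Module.Finite S M := Module.Finite.equiv e'
  have h1 : HasSk k S M := Groth.Agent.Helper4.DH.hasSk_congr k e' h
  exact ⟨Groth.Agent.Helper8.FinRes.hasSk_of_hasSk_base S R M k h1,
    Module.Finite.of_restrictScalars_finite S R M⟩

include he in
theorem isTorsionFree_of_semilinear [Module.IsTorsionFree S N] : Module.IsTorsionFree R M := by
  refine ⟨fun r hr m₁ m₂ hm => ?_⟩
  have hr' : IsRegular (σ r) := by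
    constructor
    · intro a b hab
      apply σ.symm.injective
      apply hr.1
      change r * σ.symm a = r * σ.symm b
      have := congrArg σ.symm hab
      simpa using this
    · intro a b hab
      apply σ.symm.injective
      apply hr.2
      change σ.symm a * r = σ.symm b * r
      have := congrArg σ.symm hab
      simpa using this
  have h1 : σ r • e m₁ = σ r • e m₂ := by
    rw [← he, ← he]
    exact congrArg e hm
  exact e.injective (hr'.isSMulRegular h1)

end Semilinear

section Tensor

variable (R S : Type u) [CommRing R] [CommRing S] [Algebra R S]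
  (hbij : Function.Bijective (algebraMap R S)) (M : Type u) [AddCommGroup M] [Module R M]

/-- `M ≃ S ⊗ M` when `R → S` is bijective -/
noncomputable def tensorEquivOfBijective : M ≃ₗ[R] S ⊗[R] M :=
  (TensorProduct.lid R M).symm ≪≫ₗ
    TensorProduct.congr (LinearEquiv.ofBijective (Algebra.linearMap R S) hbij)
      (LinearEquiv.refl R M)

lemma tensorEquivOfBijective_smul (r : R) (m : M) :
    (tensorEquivOfBijective R S hbij M) (r • m) =
      (RingEquiv.ofBijective (algebraMap R S) hbij) r • (tensorEquivOfBijective R S hbij M) m := by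
  rw [map_smul]
  change _ = algebraMap R S r • _
  rw [algebraMap_smul]

include hbij in
theorem hasSk_of_tensor [IsNoetherianRing S] [Module.Finite S (S ⊗[R] M)] (k : ℕ)
    (h : HasSk k S (S ⊗[R] M)) : HasSk k R M ∧ Module.Finite R M :=
  hasSk_of_semilinear (RingEquiv.ofBijective (algebraMap R S) hbij)
    (tensorEquivOfBijective R S hbij M).toAddEquiv
    (fun r m => tensorEquivOfBijective_smul R S hbij M r m) k h

include hbij in
theorem isTorsionFree_of_tensor [Module.IsTorsionFree S (S ⊗[R] M)] :
    Module.IsTorsionFree R M :=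
  isTorsionFree_of_semilinear (RingEquiv.ofBijective (algebraMap R S) hbij)
    (tensorEquivOfBijective R S hbij M).toAddEquiv
    (fun r m => tensorEquivOfBijective_smul R S hbij M r m)

theorem subsingleton_tensor_of_subsingleton [Subsingleton M] : Subsingleton (S ⊗[R] M) := by
  refine ⟨fun a b => ?_⟩
  have h0 : ∀ x : S ⊗[R] M, x = 0 := by
    intro x
    induction x using TensorProduct.induction_on with
    | zero => rfl
    | tmul s m => rw [Subsingleton.elim m 0, TensorProduct.tmul_zero]
    | add x y hx hy => rw [hx, hy, add_zero]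
  rw [h0 a, h0 b]

end Tensor

theorem phi_eq (A : Type u) [CommRing A] (p : PrimeSpectrum A) :
    phi (CommRingCat.of A) p = (StructureSheaf.toStalk A p).hom := by
  have h1 : eTop (CommRingCat.of A) = 𝟙 _ := Subsingleton.elim _ _
  unfold phi
  rw [h1, CategoryTheory.Functor.map_id, Category.id_comp]
  rfl

/-- the algebra structure on the stalk of `Spec A` through which helper5's `tildeStalkIso` acts -/
noncomputable def algStalk (A : Type u) [CommRing A] (p : PrimeSpectrum A) :
    Algebra A ((Spec (CommRingCat.of A)).presheaf.stalk p) :=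
  (phi (CommRingCat.of A) p).toAlgebra

theorem algStalk_eq (A : Type u) [CommRing A] (p : PrimeSpectrum A) :
    algStalk A p = StructureSheaf.stalkAlgebra (R := A) p := by
  unfold algStalk
  rw [phi_eq]
  rfl

theorem isLocalization_algStalk (A : Type u) [CommRing A] (p : PrimeSpectrum A) :
    @IsLocalization.AtPrime A _ ((Spec (CommRingCat.of A)).presheaf.stalk p) _
      (algStalk A p) p.asIdeal _ := by
  rw [algStalk_eq]
  exact StructureSheaf.IsLocalization.to_stalk A p

section Chain

variable {X : Scheme.{u}} (R : CommRingCat.{u})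
    (j : Spec (CommRingCat.of R) ⟶ X) [IsOpenImmersion j]
    [PreservesFiniteLimits (Scheme.Modules.restrictFunctor j)]
    [PreservesFiniteLimits (tilde.functor R)]
    (K : DCoh.D X) (ω : DerivedCategory (ModuleCat.{u} R))
    (e : (DCoh.restrictD j).obj K ≅ (DCoh.tildeD R).obj ω) (p : PrimeSpectrum R) (i : ℤ)

/-- the cohomology sheaves of `K` on the chart -/
noncomputable def thetaIso :
    (Scheme.Modules.restrictFunctor j).obj (DCoh.HD K i) ≅
      tilde ((DerivedCategory.homologyFunctor (ModuleCat.{u} R) i).obj ω) :=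
  (homologyMapDerivedIso (Scheme.Modules.restrictFunctor j) K i).symm ≪≫
    (DerivedCategory.homologyFunctor _ i).mapIso e ≪≫
    homologyMapDerivedIso (tilde.functor R) ω i

/-- the stalk of `H^i(K)` at a point of the chart, up to extension of scalars along the
(bijective) stalk map, is the localization of `H^i(ω)` -/
noncomputable def chainIso :
    (ModuleCat.extendScalars.{u, u, u} (phi R p)).obj
        ((DerivedCategory.homologyFunctor (ModuleCat.{u} R) i).obj ω) ≅
      (ModuleCat.extendScalars.{u, u, u} (j.stalkMap p).hom).obj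
        ((stalkSh X (j p)).obj (DCoh.HD K i)) :=
  ((tildeStalkIso R p).app _).symm ≪≫
    (stalkSh (Spec (CommRingCat.of R)) p).mapIso (thetaIso R j K ω e i).symm ≪≫
    (stalkSh (Spec (CommRingCat.of R)) p).mapIso
      ((Scheme.Modules.restrictFunctorIsoPullback j).app (DCoh.HD K i)) ≪≫
    (stalkPullbackIso j p).app (DCoh.HD K i)

end Chain

section Main

open Groth.Agent.Helper3.BCDual Groth.Agent.Helper3.BCDer Groth.Agent.Helper5.FlatBC
  Groth.Agent.Helper3.LowOmega

theorem stalk_lowest {X : Scheme.{u}} (A : Type u) [CommRing A]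
    (j : Spec (CommRingCat.of A) ⟶ X) [IsOpenImmersion j]
    [PreservesFiniteLimits (Scheme.Modules.restrictFunctor j)]
    [PreservesFiniteLimits (tilde.functor (CommRingCat.of A))]
    (K : DCoh.D X) (ω : Dual.D A) (hω : Dual.IsDualizing A ω)
    (e : (DCoh.restrictD j).obj K ≅ (DCoh.tildeD (CommRingCat.of A)).obj ω)
    (p : PrimeSpectrum A) (n : ℤ) (hlt : ∀ i : ℤ, i < n → IsZero (DCoh.HD K i)) :
    HasSk 2 (X.presheaf.stalk (j p)) ((DCoh.HD K n).presheaf.stalk (j p)) ∧
    (IsDomain (X.presheaf.stalk (j p)) →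
      Module.IsTorsionFree (X.presheaf.stalk (j p)) ((DCoh.HD K n).presheaf.stalk (j p))) ∧
    Module.Finite (X.presheaf.stalk (j p)) ((DCoh.HD K n).presheaf.stalk (j p)) := by
  haveI := hω.isNoetherianRing
  letI algAB : Algebra A ((Spec (CommRingCat.of A)).presheaf.stalk p) := algStalk A p
  haveI loc : IsLocalization.AtPrime ((Spec (CommRingCat.of A)).presheaf.stalk p) p.asIdeal :=
    isLocalization_algStalk A p
  haveI : Module.Flat A ((Spec (CommRingCat.of A)).presheaf.stalk p) :=
    IsLocalization.flat _ p.asIdeal.primeCompl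
  have hω' : Dual.IsDualizing ((Spec (CommRingCat.of A)).presheaf.stalk p)
      ((G (A := A) ((Spec (CommRingCat.of A)).presheaf.stalk p)).obj ω) :=
    isDualizing_G_of_isLocalization _ p.asIdeal.primeCompl ω hω
  haveI : IsNoetherianRing ((Spec (CommRingCat.of A)).presheaf.stalk p) := hω'.isNoetherianRing
  letI algB'B : Algebra (X.presheaf.stalk (j p)) ((Spec (CommRingCat.of A)).presheaf.stalk p) :=
    (j.stalkMap p).hom.toAlgebra
  have hbij : Function.Bijective (algebraMap (X.presheaf.stalk (j p))
      ((Spec (CommRingCat.of A)).presheaf.stalk p)) :=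
    ConcreteCategory.bijective_of_isIso (j.stalkMap p)
  -- the linear comparison
  let c : ∀ i : ℤ, Dual.HD ((Spec (CommRingCat.of A)).presheaf.stalk p)
      ((G (A := A) ((Spec (CommRingCat.of A)).presheaf.stalk p)).obj ω) i
        ≃ₗ[(Spec (CommRingCat.of A)).presheaf.stalk p]
      ((Spec (CommRingCat.of A)).presheaf.stalk p) ⊗[X.presheaf.stalk (j p)]
        ((DCoh.HD K i).presheaf.stalk (j p)) := fun i =>
    ((homologyGIso ((Spec (CommRingCat.of A)).presheaf.stalk p) ω i) ≪≫
      chainIso (CommRingCat.of A) j K ω e p i).toLinearEquiv ≪≫ₗ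
      (eqvT ((Spec (CommRingCat.of A)).presheaf.stalk p)
        ((DCoh.HD K i).presheaf.stalk (j p))).symm
  have hlt' : ∀ i : ℤ, i < n → Subsingleton (Dual.HD ((Spec (CommRingCat.of A)).presheaf.stalk p)
      ((G (A := A) ((Spec (CommRingCat.of A)).presheaf.stalk p)).obj ω) i) := by
    intro i hi
    haveI : Subsingleton ((DCoh.HD K i).presheaf.stalk (j p)) :=
      subsingleton_stalk_of_isZero (hlt i hi) (j p)
    haveI := subsingleton_tensor_of_subsingleton (X.presheaf.stalk (j p))
      ((Spec (CommRingCat.of A)).presheaf.stalk p) ((DCoh.HD K i).presheaf.stalk (j p))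
    exact (c i).toEquiv.subsingleton
  obtain ⟨hS, hT⟩ := local_lowest ((Spec (CommRingCat.of A)).presheaf.stalk p) _ hω' n hlt'
  haveI : Module.Finite ((Spec (CommRingCat.of A)).presheaf.stalk p)
      (Dual.HD ((Spec (CommRingCat.of A)).presheaf.stalk p)
        ((G (A := A) ((Spec (CommRingCat.of A)).presheaf.stalk p)).obj ω) n) :=
    hω'.finite_cohomology n
  haveI : Module.Finite ((Spec (CommRingCat.of A)).presheaf.stalk p)
      (((Spec (CommRingCat.of A)).presheaf.stalk p) ⊗[X.presheaf.stalk (j p)]
        ((DCoh.HD K n).presheaf.stalk (j p))) := Module.Finite.equiv (c n)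
  have hS' := Groth.Agent.Helper4.DH.hasSk_congr 2 (c n) hS
  obtain ⟨h1, h2⟩ := hasSk_of_tensor (X.presheaf.stalk (j p))
    ((Spec (CommRingCat.of A)).presheaf.stalk p) hbij ((DCoh.HD K n).presheaf.stalk (j p)) 2 hS'
  refine ⟨h1, fun hdom => ?_, h2⟩
  haveI : IsDomain ((Spec (CommRingCat.of A)).presheaf.stalk p) :=
    (RingEquiv.ofBijective _ hbij).toMulEquiv.isDomain_iff.1 hdom
  haveI := hT inferInstance
  haveI : Module.IsTorsionFree ((Spec (CommRingCat.of A)).presheaf.stalk p)
      (((Spec (CommRingCat.of A)).presheaf.stalk p) ⊗[X.presheaf.stalk (j p)]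
        ((DCoh.HD K n).presheaf.stalk (j p))) :=
    Function.Injective.moduleIsTorsionFree (c n).symm (c n).symm.injective
      (fun r m => map_smul (c n).symm r m)
  exact isTorsionFree_of_tensor (X.presheaf.stalk (j p))
    ((Spec (CommRingCat.of A)).presheaf.stalk p) hbij ((DCoh.HD K n).presheaf.stalk (j p))

theorem main_S7873 (X : Scheme.{u}) [IsNoetherian X]
    [∀ (U : Scheme.{u}) (j : U ⟶ X) [IsOpenImmersion j],
      PreservesFiniteLimits (Scheme.Modules.restrictFunctor j)]
    [∀ (R : CommRingCat.{u}), PreservesFiniteLimits (tilde.functor R)]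
    (K : DCoh.D X) (hK : Dual2.IsDualizingSch X K) (n : ℤ)
    (hlt : ∀ i : ℤ, i < n → IsZero (DCoh.HD K i)) :
    (∀ x : X, LocCoh.HasSk 2 (X.presheaf.stalk x) ((DCoh.HD K n).presheaf.stalk x)) ∧
      (IsIntegral X → ∀ x : X,
        Module.IsTorsionFree (X.presheaf.stalk x) ((DCoh.HD K n).presheaf.stalk x)) ∧
      (∀ x : X, Module.Finite (X.presheaf.stalk x) ((DCoh.HD K n).presheaf.stalk x)) := by
  refine ⟨fun x => ?_, fun hint x => ?_, fun x => ?_⟩
  · obtain ⟨A, _, j, _, p, rfl⟩ := exists_affine_chart X x
    obtain ⟨ωA, hωA, ⟨e⟩⟩ := hK A j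
    exact (stalk_lowest A j K ωA hωA e p n hlt).1
  · obtain ⟨A, _, j, _, p, rfl⟩ := exists_affine_chart X x
    obtain ⟨ωA, hωA, ⟨e⟩⟩ := hK A j
    exact (stalk_lowest A j K ωA hωA e p n hlt).2.1 inferInstance
  · obtain ⟨A, _, j, _, p, rfl⟩ := exists_affine_chart X x
    obtain ⟨ωA, hωA, ⟨e⟩⟩ := hK A j
    exact (stalk_lowest A j K ωA hωA e p n hlt).2.2

end Main

end Groth.Agent.Helper3.StalkSk
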