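import Mathlib
import Groth.Prelude.Def_DualSch
import Groth.Prelude.Def_Pi1
import Groth.Agent.Lib.Helper3.StalkSk
import Groth.Agent.Lib.Helper8.Refl5

set_option autoImplicit false
universe u
open CategoryTheory CategoryTheory.Limits AlgebraicGeometry TensorProduct

attribute [local instance] HasDerivedCategory.standard

namespace Groth.Agent.Helper3.StalkSk

open Groth.Agent.Helper3.SchDual LocCoh

theorem main_S7877 (X : Scheme.{u}) [IsNoetherian X] (hX : Pi1.IsNormalScheme X)
    [∀ (U : Scheme.{u}) (j : U ⟶ X) [IsOpenImmersion j],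
      PreservesFiniteLimits (Scheme.Modules.restrictFunctor j)]
    [∀ (R : CommRingCat.{u}), PreservesFiniteLimits (tilde.functor R)]
    (K : DCoh.D X) (hK : Dual2.IsDualizingSch X K) (n : ℤ)
    (hlt : ∀ i : ℤ, i < n → IsZero (DCoh.HD K i)) :
    ∀ x : X, Module.IsReflexive (X.presheaf.stalk x) ((DCoh.HD K n).presheaf.stalk x) := by
  intro x
  obtain ⟨A, _, j, _, p, rfl⟩ := exists_affine_chart X x
  obtain ⟨ωA, hωA, ⟨e⟩⟩ := hK A j
  obtain ⟨h1, h2, h3⟩ := stalk_lowest A j K ωA hωA e p n hlt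
  haveI := (hX (j p)).1
  haveI := (hX (j p)).2
  haveI := h3
  haveI := h2 inferInstance
  haveI : IsNoetherianRing (X.presheaf.stalk (j p)) := inferInstance
  haveI : NoZeroSMulDivisors (X.presheaf.stalk (j p)) ((DCoh.HD K n).presheaf.stalk (j p)) :=
    ⟨fun h => (Module.isTorsionFree_iff_smul_eq_zero.mp inferInstance) _ _ h⟩
  exact Groth.Agent.Helper8.Refl.isReflexive_of_torsionFree_S2 _ h1

end Groth.Agent.Helper3.StalkSk
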