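import Mathlib
import Groth.Agent.Lib.Helper7.StdNbhd

/-! Étale morphisms are locally open subschemes of `Spec (R[t]/(p))[1/p']` (helper3). -/

set_option autoImplicit false
universe u
namespace Groth.Agent.Helper3.StdEtNbhd

open AlgebraicGeometry CategoryTheory Polynomial

section Gen

variable {A Lg Ld : Type u} [CommRing A] [CommRing Lg] [CommRing Ld] [Algebra A Lg] [Algebra A Ld]
  (g d : A) [IsLocalization.Away g Lg] [IsLocalization.Away d Ld]

include g in
/-- if `d` is invertible in `A[1/g]` the induced map `A[1/d] → A[1/g]` is an open immersion on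
spectra -/
theorem isOpenImmersion_lift (hu : IsUnit (algebraMap A Lg d)) :
    ∃ ψ : Ld →+* Lg, IsOpenImmersion (Spec.map (CommRingCat.ofHom ψ)) ∧
      ψ.comp (algebraMap A Ld) = algebraMap A Lg := by
  let ψ : Ld →+* Lg := IsLocalization.Away.lift (S := Ld) d (g := algebraMap A Lg) hu
  have hψ : ψ.comp (algebraMap A Ld) = algebraMap A Lg :=
    RingHom.ext fun a => IsLocalization.Away.lift_eq d hu a
  refine ⟨ψ, ?_, hψ⟩
  have hcomp : Spec.map (CommRingCat.ofHom ψ) ≫
      Spec.map (CommRingCat.ofHom (algebraMap A Ld)) =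
      Spec.map (CommRingCat.ofHom (algebraMap A Lg)) := by
    rw [← Spec.map_comp, ← CommRingCat.ofHom_comp, hψ]
  haveI : IsOpenImmersion (Spec.map (CommRingCat.ofHom (algebraMap A Ld))) :=
    IsOpenImmersion.of_isLocalization d
  haveI : IsOpenImmersion (Spec.map (CommRingCat.ofHom ψ) ≫
      Spec.map (CommRingCat.ofHom (algebraMap A Ld))) := by
    rw [hcomp]
    exact IsOpenImmersion.of_isLocalization g
  exact IsOpenImmersion.of_comp _ (Spec.map (CommRingCat.ofHom (algebraMap A Ld)))

end Gen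

section Ring

variable {R B : Type u} [CommRing R] [CommRing B] [Algebra R B]

theorem isUnit_derivative (P : StandardEtalePair R) :
    IsUnit (algebraMap (AdjoinRoot P.f) (Localization.Away (AdjoinRoot.mk P.f P.g))
      (AdjoinRoot.mk P.f (derivative P.f))) := by
  have hmap : P.HasMap (algebraMap (AdjoinRoot P.f) (Localization.Away (AdjoinRoot.mk P.f P.g))
      (AdjoinRoot.root P.f)) := by
    refine ⟨?_, ?_⟩
    · rw [aeval_algebraMap_apply, AdjoinRoot.aeval_eq, AdjoinRoot.mk_self, map_zero]
    · rw [aeval_algebraMap_apply, AdjoinRoot.aeval_eq]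
      exact IsLocalization.Away.algebraMap_isUnit ..
  have := hmap.isUnit_derivative_f
  rwa [aeval_algebraMap_apply, AdjoinRoot.aeval_eq] at this

set_option maxHeartbeats 400000 in
/-- a standard étale algebra is, as an `R`-algebra, the target of a ring map from
`(R[t]/(p))[1/p']` whose `Spec` is an open immersion -/
theorem exists_openImmersion_of_isStandardEtale [Algebra.IsStandardEtale R B] :
    ∃ (p : R[X]) (_ : p.Monic)
      (θ : Localization.Away (AdjoinRoot.mk p (derivative p)) →+* B),
      IsOpenImmersion (Spec.map (CommRingCat.ofHom θ)) ∧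
        θ.comp (algebraMap R (Localization.Away (AdjoinRoot.mk p (derivative p)))) =
          algebraMap R B := by
  obtain ⟨P⟩ := Algebra.IsStandardEtale.nonempty_standardEtalePresentation (R := R) (S := B)
  obtain ⟨ψ, hψ1, hψ2⟩ := isOpenImmersion_lift (A := AdjoinRoot P.f)
    (Lg := Localization.Away (AdjoinRoot.mk P.f P.g))
    (Ld := Localization.Away (AdjoinRoot.mk P.f (derivative P.f)))
    (AdjoinRoot.mk P.f P.g) (AdjoinRoot.mk P.f (derivative P.f)) (isUnit_derivative P.P)
  have e : B ≃ₐ[R] Localization.Away (AdjoinRoot.mk P.f P.g) :=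
    P.equivRing.trans P.P.equivAwayAdjoinRoot
  refine ⟨P.f, P.monic_f, e.symm.toAlgHom.toRingHom.comp ψ, ?_, ?_⟩
  · rw [CommRingCat.ofHom_comp, Spec.map_comp]
    haveI : IsIso (Spec.map (CommRingCat.ofHom e.symm.toAlgHom.toRingHom)) := by
      have : IsIso (CommRingCat.ofHom e.symm.toAlgHom.toRingHom) :=
        (e.symm.toRingEquiv.toCommRingCatIso).isIso_hom
      infer_instance
    infer_instance
  · ext r
    simp only [RingHom.comp_apply]
    have h2 : ψ (algebraMap R (Localization.Away (AdjoinRoot.mk P.f (derivative P.f))) r) =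
        algebraMap R (Localization.Away (AdjoinRoot.mk P.f P.g)) r := by
      rw [IsScalarTower.algebraMap_apply R (AdjoinRoot P.f)
          (Localization.Away (AdjoinRoot.mk P.f (derivative P.f))),
        IsScalarTower.algebraMap_apply R (AdjoinRoot P.f)
          (Localization.Away (AdjoinRoot.mk P.f P.g))]
      exact RingHom.congr_fun hψ2 _
    rw [h2]
    exact e.symm.commutes r

end Ring

set_option maxHeartbeats 1000000 in
theorem S9567_main {X Y : Scheme.{u}} (φ : X ⟶ Y) (x : X)
    (V : Y.Opens) (hV : IsAffineOpen V) (hxV : φ.base x ∈ V)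
    (hφ : ∃ W : X.Opens, x ∈ W ∧ Etale (W.ι ≫ φ)) :
    ∃ (U : X.Opens) (hU : IsAffineOpen U) (_ : x ∈ U) (e : U ≤ φ ⁻¹ᵁ V)
      (p : Polynomial Γ(Y, V)) (_ : p.Monic)
      (j : U.toScheme ⟶ Spec (CommRingCat.of (Localization.Away (AdjoinRoot.mk p (Polynomial.derivative p))))),
      IsOpenImmersion j ∧
        j ≫ Spec.map (CommRingCat.ofHom
            (algebraMap Γ(Y, V) (Localization.Away (AdjoinRoot.mk p (Polynomial.derivative p))))) =
          hU.isoSpec.hom ≫ Spec.map (φ.appLE V U e) := by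
  obtain ⟨U, hU, hxU, e, hstd⟩ :=
    (Groth.Agent.Helper7.StdNbhd.etale_nhd_iff φ x V hV hxV).1 hφ
  letI := (φ.appLE V U e).hom.toAlgebra
  haveI : Algebra.IsStandardEtale Γ(Y, V) Γ(X, U) := hstd
  obtain ⟨p, hp, θ, hθ, hcomp⟩ := exists_openImmersion_of_isStandardEtale (R := Γ(Y, V))
    (B := Γ(X, U))
  refine ⟨U, hU, hxU, e, p, hp, hU.isoSpec.hom ≫ Spec.map (CommRingCat.ofHom θ), ?_, ?_⟩
  · infer_instance
  · rw [Category.assoc, ← Spec.map_comp, ← CommRingCat.ofHom_comp, hcomp]
    rfl

end Groth.Agent.Helper3.StdEtNbhd
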