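import Mathlib.Algebra.Homology.ModelCategory.Injective

/-! Extension of maps into bounded below complexes of injectives along monic quasi-isomorphisms. -/

universe u v

open CategoryTheory CategoryTheory.Limits CochainComplex HomComplex
open scoped ZeroObject

namespace Groth.Agent.Helper3.StrictDesc

theorem exists_desc {A : Type u} [Category.{v} A] [Abelian A]
    (K L I : CochainComplex A ℤ) (α : K ⟶ L) [QuasiIso α] (hα : ∀ n : ℤ, Mono (α.f n))
    (a : ℤ) [I.IsStrictlyGE a] (hI : ∀ n : ℤ, Injective (I.X n)) (γ : K ⟶ I) :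
    ∃ β : L ⟶ I, α ≫ β = γ := by
  have hmono : Mono α := HomologicalComplex.mono_of_mono_f α hα
  have sq : CommSq γ α (0 : I ⟶ 0) (0 : L ⟶ 0) := ⟨by simp⟩
  have hl : ∀ n, ∃ l : L.X n ⟶ I.X n, α.f n ≫ l = γ.f n := fun n =>
    haveI := hI n
    haveI := hα n
    ⟨Injective.factorThru (γ.f n) (α.f n), Injective.comp_factorThru (γ.f n) (α.f n)⟩
  choose l hl' using hl
  have hsq : ∀ n, (sq.map (HomologicalComplex.eval _ _ n)).LiftStruct := fun n =>
    { l := l n
      fac_left := hl' n
      fac_right := ((HomologicalComplex.eval A (ComplexShape.up ℤ) n).map_isZero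
        (isZero_zero _)).eq_of_tgt _ _ }
  have hIK : I.IsKInjective := isKInjective_of_injective I a
  have hK : IsLimit (KernelFork.ofι (𝟙 I) (show 𝟙 I ≫ (0 : I ⟶ 0) = 0 by simp)) :=
    KernelFork.IsLimit.ofId _ rfl
  let β : Cocycle (cokernel α) I 1 :=
    Lifting.cocycle₁ sq hsq (hπ := cokernel.condition α) (cokernelIsCokernel α) hK
  have hacyc : (cokernel α).Acyclic := by
    have : (ShortComplex.mk _ _ (cokernel.condition α)).ShortExact :=
      { exact := ShortComplex.exact_cokernel α }
    exact this.acyclic_X₃ (by dsimp; infer_instance)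
  obtain ⟨c, hc⟩ := IsKInjective.eq_δ_of_cocycle β hacyc 0 (by simp)
  have := Lifting.hasLift sq hsq (hπ := cokernel.condition α) (cokernelIsCokernel α) hK c hc
  exact ⟨sq.lift, sq.fac_left⟩

end Groth.Agent.Helper3.StrictDesc
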