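import Mathlib
import Groth.Prelude.Def_HopfRep

set_option autoImplicit false

/-!
# Smallest subcomodule containing a submodule (coalgebra projective after a faithfully flat base change)
-/

namespace Groth.Agent.Lib.Helper3.SubComod1

open TensorProduct

universe u

section Generic

variable {A : Type u} [CommRing A] {C : Type u} [AddCommGroup C] [Module A C]
  {A' : Type u} [CommRing A'] [Algebra A A']

section contrSec
variable {V : Type u} [AddCommGroup V] [Module A V]

/-- contraction `V ⊗ C → A' ⊗ V`, `v ⊗ c ↦ φ c ⊗ v`. -/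
noncomputable def contr (φ : C →ₗ[A] A') : V ⊗[A] C →ₗ[A] A' ⊗[A] V :=
  (TensorProduct.comm A V A').toLinearMap ∘ₗ LinearMap.lTensor V φ

lemma contr_tmul (φ : C →ₗ[A] A') (v : V) (c : C) :
    contr φ (v ⊗ₜ[A] c) = φ c ⊗ₜ[A] v := by
  simp [contr]

/-- `v ↦ 1 ⊗ v`. -/
noncomputable def iota : V →ₗ[A] A' ⊗[A] V := TensorProduct.mk A A' V 1

lemma iota_apply (v : V) : iota (A' := A') v = (1 : A') ⊗ₜ[A] v := rfl

lemma tmul_eq_smul_iota (a : A') (v : V) : (a ⊗ₜ[A] v : A' ⊗[A] V) = a • iota (A' := A') v := by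
  rw [iota_apply, TensorProduct.smul_tmul', smul_eq_mul, mul_one]

/-- `V ⊗ (C ⊗ C) → A' ⊗ V`, `v ⊗ c ⊗ c' ↦ φ c ψ c' ⊗ v`. -/
noncomputable def Phi (φ ψ : C →ₗ[A] A') : V ⊗[A] (C ⊗[A] C) →ₗ[A] A' ⊗[A] V :=
  (TensorProduct.comm A V A').toLinearMap ∘ₗ
    LinearMap.lTensor V (LinearMap.mul' A A' ∘ₗ TensorProduct.map φ ψ)

lemma Phi_tmul (φ ψ : C →ₗ[A] A') (v : V) (c c' : C) :
    Phi φ ψ (v ⊗ₜ[A] (c ⊗ₜ[A] c')) = (φ c * ψ c') ⊗ₜ[A] v := by
  simp [Phi]

lemma smul_contr (φ ψ : C →ₗ[A] A') (x : V ⊗[A] C) (c' : C) :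
    ψ c' • contr φ x = Phi φ ψ (TensorProduct.assoc A V C C (x ⊗ₜ[A] c')) := by
  induction x using TensorProduct.induction_on with
  | zero => simp
  | tmul v c =>
    rw [contr_tmul, TensorProduct.assoc_tmul, Phi_tmul, TensorProduct.smul_tmul', smul_eq_mul,
      mul_comm]
  | add x y hx hy =>
    rw [map_add, smul_add, hx, hy, TensorProduct.add_tmul, map_add, map_add]

end contrSec

section detectSec

variable {Q : Type u} [AddCommGroup Q] [Module A' Q] [Module A Q] [IsScalarTower A A' Q]

/-- `Q ⊗ C → Q`, `q ⊗ c ↦ φ c • q`. -/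
noncomputable def contrQ (φ : C →ₗ[A] A') : Q ⊗[A] C →ₗ[A] Q :=
  TensorProduct.lift (LinearMap.mk₂ A (fun (q : Q) (c : C) => φ c • q)
    (fun q1 q2 c => smul_add _ _ _)
    (fun a q c => smul_comm _ _ _)
    (fun q c1 c2 => by rw [map_add, add_smul])
    (fun a q c => by rw [map_smul, smul_assoc]))

lemma contrQ_tmul (φ : C →ₗ[A] A') (q : Q) (c : C) : contrQ φ (q ⊗ₜ[A] c) = φ c • q := by
  simp [contrQ]

/-- elements of `Q ⊗_A C` are detected by contractions when `A' ⊗ C` is projective over `A'`. -/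
lemma detect [Module.Projective A' (A' ⊗[A] C)] (ξ : Q ⊗[A] C)
    (h : ∀ φ : C →ₗ[A] A', contrQ φ ξ = 0) : ξ = 0 := by
  classical
  obtain ⟨s, hs⟩ := Module.projective_def'.mp (inferInstance : Module.Projective A' (A' ⊗[A] C))
  have hη : ∀ ψ : (A' ⊗[A] C) →ₗ[A'] A',
      LinearMap.lTensor Q ψ
        ((TensorProduct.AlgebraTensorModule.cancelBaseChange A A' A' Q C).symm ξ) = 0 := by
    intro ψ
    have h1 : ∀ ξ' : Q ⊗[A] C, TensorProduct.rid A' Q (LinearMap.lTensor Q ψ
        ((TensorProduct.AlgebraTensorModule.cancelBaseChange A A' A' Q C).symm ξ')) =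
        contrQ ((ψ.restrictScalars A) ∘ₗ (TensorProduct.mk A A' C 1)) ξ' := by
      intro ξ'
      induction ξ' using TensorProduct.induction_on with
      | zero => simp
      | tmul q c =>
        rw [TensorProduct.AlgebraTensorModule.cancelBaseChange_symm_tmul, LinearMap.lTensor_tmul,
          TensorProduct.rid_tmul, contrQ_tmul]
        rfl
      | add x y hx hy => simp only [map_add, hx, hy]
    have h2 := h1 ξ
    rw [h _] at h2
    exact (TensorProduct.rid A' Q).injective (by rw [h2, map_zero])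
  have hzero : (TensorProduct.AlgebraTensorModule.cancelBaseChange A A' A' Q C).symm ξ = 0 := by
    have h2 : LinearMap.lTensor Q (Finsupp.linearCombination A' id ∘ₗ s)
        ((TensorProduct.AlgebraTensorModule.cancelBaseChange A A' A' Q C).symm ξ) =
        (TensorProduct.AlgebraTensorModule.cancelBaseChange A A' A' Q C).symm ξ := by
      rw [hs, LinearMap.lTensor_id, LinearMap.id_apply]
    rw [← h2, LinearMap.lTensor_comp, LinearMap.comp_apply]
    have h3 : LinearMap.lTensor Q s
        ((TensorProduct.AlgebraTensorModule.cancelBaseChange A A' A' Q C).symm ξ) = 0 := by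
      apply (TensorProduct.finsuppRight A' A' Q A' (A' ⊗[A] C)).injective
      rw [map_zero]
      ext p
      rw [Finsupp.zero_apply, TensorProduct.finsuppRight_apply]
      have := hη (Finsupp.lapply p ∘ₗ s)
      rw [LinearMap.lTensor_comp, LinearMap.comp_apply] at this
      exact this
    rw [h3, map_zero]
  exact (TensorProduct.AlgebraTensorModule.cancelBaseChange A A' A' Q C).symm.injective
    (by rw [hzero, map_zero])

end detectSec

end Generic

section Main

variable {A : Type u} [CommRing A] {C : Type u} [AddCommGroup C] [Module A C] [Coalgebra A C]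
  {V : Type u} [AddCommGroup V] [Module A V] [HopfRep.Comod A C V]
  {A' : Type u} [CommRing A'] [Algebra A A']

/-- `v ↦ (id ⊗ φ)(ρ v)` with values in `A' ⊗ V`. -/
noncomputable def T (φ : C →ₗ[A] A') : V →ₗ[A] A' ⊗[A] V :=
  contr φ ∘ₗ (HopfRep.Comod.coact (k := A) (A := C) : V →ₗ[A] V ⊗[A] C)

/-- the `A'`-linear extension of `T φ`. -/
noncomputable def T' (φ : C →ₗ[A] A') : A' ⊗[A] V →ₗ[A'] A' ⊗[A] V :=
  LinearMap.liftBaseChange A' (T (V := V) φ)

/-- convolution of functionals -/
noncomputable def conv (φ ψ : C →ₗ[A] A') : C →ₗ[A] A' :=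
  LinearMap.mul' A A' ∘ₗ TensorProduct.map φ ψ ∘ₗ CoalgebraStruct.comul

lemma Phi_comp_lTensor_comul (φ ψ : C →ₗ[A] A') :
    Phi (V := V) φ ψ ∘ₗ LinearMap.lTensor V CoalgebraStruct.comul = contr (conv φ ψ) := by
  apply TensorProduct.ext'
  intro v c
  simp [Phi, contr, conv]

lemma T'_T (φ ψ : C →ₗ[A] A') (m : V) : T' φ (T ψ m) = T (conv φ ψ) m := by
  have key : ∀ y : V ⊗[A] C, T' φ (contr ψ y) =
      Phi φ ψ (TensorProduct.assoc A V C C
        (LinearMap.rTensor C (HopfRep.Comod.coact (k := A) (A := C) : V →ₗ[A] V ⊗[A] C) y)) := by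
    intro y
    induction y using TensorProduct.induction_on with
    | zero => simp
    | tmul v c' =>
      rw [contr_tmul, T', LinearMap.liftBaseChange_tmul, LinearMap.rTensor_tmul, T,
        LinearMap.comp_apply]
      exact smul_contr φ ψ _ c'
    | add x y hx hy => simp only [map_add, hx, hy]
  have hco := LinearMap.congr_fun (HopfRep.Comod.coassoc (k := A) (A := C) (V := V)) m
  simp only [LinearMap.comp_apply, LinearEquiv.coe_coe] at hco
  have h1 : T ψ m = contr ψ (HopfRep.Comod.coact (k := A) (A := C) m) := rfl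
  have h5 : T (conv φ ψ) m = contr (conv φ ψ) (HopfRep.Comod.coact (k := A) (A := C) m) := rfl
  rw [h1, key, hco, h5, ← Phi_comp_lTensor_comul]
  rfl

variable (C A')

/-- generators of `W'` -/
def gens (M : Submodule A V) : Set (A' ⊗[A] V) :=
  {x | ∃ (φ : C →ₗ[A] A') (m : V), m ∈ M ∧ x = T φ m}

/-- the `A'`-span of all `T φ m` -/
noncomputable def W' (M : Submodule A V) : Submodule A' (A' ⊗[A] V) :=
  Submodule.span A' (gens C A' M)

/-- the candidate smallest subcomodule -/
noncomputable def W (M : Submodule A V) : Submodule A V :=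
  ((W' C A' M).restrictScalars A).comap (iota (A' := A'))

variable {C A'}

lemma mem_W_iff (M : Submodule A V) (v : V) : v ∈ W C A' M ↔ iota (A' := A') v ∈ W' C A' M :=
  Iff.rfl

lemma T'_mem (M : Submodule A V) (φ : C →ₗ[A] A') {x : A' ⊗[A] V} (hx : x ∈ W' C A' M) :
    T' φ x ∈ W' C A' M := by
  unfold W' at *
  induction hx using Submodule.span_induction with
  | mem x hx =>
    obtain ⟨ψ, m, hm, rfl⟩ := hx
    rw [T'_T]
    exact Submodule.subset_span ⟨conv φ ψ, m, hm, rfl⟩
  | zero => rw [map_zero]; exact Submodule.zero_mem _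
  | add x y _ _ hx hy => rw [map_add]; exact Submodule.add_mem _ hx hy
  | smul a x _ hx => rw [map_smul]; exact Submodule.smul_mem _ a hx

lemma T_mem (M : Submodule A V) (φ : C →ₗ[A] A') {v : V} (hv : v ∈ W C A' M) :
    T φ v ∈ W' C A' M := by
  have h1 : T' φ (iota (A' := A') v) = T φ v := by
    rw [iota_apply, T', LinearMap.liftBaseChange_tmul, one_smul]
  rw [← h1]
  exact T'_mem M φ ((mem_W_iff M v).mp hv)

lemma le_W (M : Submodule A V) : M ≤ W C A' M := by
  intro m hm
  rw [mem_W_iff]
  have hcu := LinearMap.congr_fun (HopfRep.Comod.counit_comp (k := A) (A := C) (V := V)) m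
  simp only [LinearMap.comp_apply, LinearMap.flip_apply, TensorProduct.mk_apply] at hcu
  have h2 : ∀ y : V ⊗[A] C, contr ((Algebra.linearMap A A') ∘ₗ (CoalgebraStruct.counit (R := A) (A := C))) y =
      (TensorProduct.comm A V A') (LinearMap.lTensor V (Algebra.linearMap A A')
        (LinearMap.lTensor V (CoalgebraStruct.counit (R := A) (A := C)) y)) := by
    intro y
    unfold contr
    rw [LinearMap.lTensor_comp]
    rfl
  have h3 : iota (A' := A') m = T ((Algebra.linearMap A A') ∘ₗ (CoalgebraStruct.counit (R := A) (A := C))) m := by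
    have h4 : T ((Algebra.linearMap A A') ∘ₗ (CoalgebraStruct.counit (R := A) (A := C))) m =
        contr ((Algebra.linearMap A A') ∘ₗ (CoalgebraStruct.counit (R := A) (A := C)))
          (HopfRep.Comod.coact (k := A) (A := C) m) := rfl
    rw [h4, h2, hcu]
    simp [iota_apply]
  rw [h3]
  exact Submodule.subset_span ⟨_, m, hm, rfl⟩

variable (C A') in
/-- the quotient map `A' ⊗ V → (A' ⊗ V) / W'`, as an `A`-linear map -/
noncomputable def mkQ' (M : Submodule A V) : A' ⊗[A] V →ₗ[A] (A' ⊗[A] V) ⧸ (W' C A' M) :=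
  (W' C A' M).mkQ.restrictScalars A

lemma mkQ'_eq_zero (M : Submodule A V) (x : A' ⊗[A] V) :
    mkQ' C A' M x = 0 ↔ x ∈ W' C A' M :=
  Submodule.Quotient.mk_eq_zero _

theorem isSubcomod_W [Module.FaithfullyFlat A A'] [Module.Projective A' (A' ⊗[A] C)]
    (M : Submodule A V) : HopfRep.IsSubcomod (k := A) (A := C) (W C A' M) := by
  haveI : Module.Flat A C := Module.Flat.of_flat_tensorProduct A C A'
  intro v hv
  rw [← rTensor_mkQ, LinearMap.mem_ker]
  have hle : W C A' M ≤ LinearMap.ker (mkQ' C A' M ∘ₗ iota (A' := A')) := by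
    intro w hw
    rw [LinearMap.mem_ker, LinearMap.comp_apply, mkQ'_eq_zero]
    exact (mem_W_iff M w).mp hw
  have hj : Function.Injective ((W C A' M).liftQ (mkQ' C A' M ∘ₗ iota (A' := A')) hle) := by
    rw [← LinearMap.ker_eq_bot]
    apply Submodule.ker_liftQ_eq_bot
    intro w hw
    rw [LinearMap.mem_ker, LinearMap.comp_apply, mkQ'_eq_zero] at hw
    exact (mem_W_iff M w).mpr hw
  have hjC := Module.Flat.rTensor_preserves_injective_linearMap (M := C) _ hj
  apply hjC
  rw [map_zero, ← LinearMap.comp_apply, ← LinearMap.rTensor_comp, Submodule.liftQ_mkQ]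
  apply detect (A' := A')
  intro φ
  have hnat : ∀ y : V ⊗[A] C,
      contrQ φ (LinearMap.rTensor C (mkQ' C A' M ∘ₗ iota (A' := A')) y) = mkQ' C A' M (contr φ y) := by
    intro y
    induction y using TensorProduct.induction_on with
    | zero => simp
    | tmul v c =>
      rw [LinearMap.rTensor_tmul, contrQ_tmul, contr_tmul, LinearMap.comp_apply,
        tmul_eq_smul_iota]
      rfl
    | add x y hx hy => simp only [map_add, hx, hy]
  rw [hnat, mkQ'_eq_zero]
  exact T_mem M φ hv

theorem W_le [Module.FaithfullyFlat A A'] (M : Submodule A V) (W1 : Submodule A V)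
    (hW1 : HopfRep.IsSubcomod (k := A) (A := C) W1) (hM : M ≤ W1) : W C A' M ≤ W1 := by
  have hgen : W' C A' M ≤ LinearMap.range (LinearMap.baseChange A' W1.subtype) := by
    unfold W'
    rw [Submodule.span_le]
    rintro x ⟨φ, m, hm, rfl⟩
    obtain ⟨z, hz⟩ := hW1 m (hM hm)
    have hnat : ∀ z : W1 ⊗[A] C, contr φ (LinearMap.rTensor C W1.subtype z) =
        LinearMap.baseChange A' W1.subtype (contr φ z) := by
      intro z
      induction z using TensorProduct.induction_on with
      | zero => simp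
      | tmul w c => simp [contr_tmul]
      | add x y hx hy => simp only [map_add, hx, hy]
    refine ⟨contr φ z, ?_⟩
    rw [← hnat, hz]
    rfl
  intro v hv
  obtain ⟨t, ht⟩ := hgen ((mem_W_iff M v).mp hv)
  have h2 : (LinearMap.baseChange A' W1.mkQ) (iota (A' := A') v) = 0 := by
    rw [← ht, ← LinearMap.comp_apply, ← LinearMap.baseChange_comp]
    have : W1.mkQ ∘ₗ W1.subtype = 0 := by ext w; simp
    rw [this]
    simp
  have h3 : (TensorProduct.mk A A' (V ⧸ W1) 1) (W1.mkQ v) = 0 := by
    simpa [iota_apply] using h2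
  have h4 := Module.FaithfullyFlat.tensorProduct_mk_injective (A := A) (B := A') (V ⧸ W1)
  have h5 : W1.mkQ v = 0 := h4 (by rw [h3, map_zero])
  exact (Submodule.Quotient.mk_eq_zero _).mp h5

theorem W_fg [Module.FaithfullyFlat A A'] [Module.Projective A' (A' ⊗[A] C)]
    (M : Submodule A V) (hM : M.FG) : (W C A' M).FG := by
  classical
  have hsub := isSubcomod_W (C := C) (A' := A') M
  obtain ⟨S, hS⟩ := hM
  have hex : ∀ m ∈ W C A' M, ∃ F : Finset V, ((F : Set V) ⊆ (W C A' M : Set V)) ∧
      ∀ φ : C →ₗ[A] A', T φ m ∈ Submodule.span A' (iota (A' := A') '' (F : Set V)) := by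
    intro m hm
    obtain ⟨z, hz⟩ := hsub m hm
    have hz' : ∀ z : (W C A' M) ⊗[A] C, ∃ F : Finset V, ((F : Set V) ⊆ (W C A' M : Set V)) ∧
        ∀ φ : C →ₗ[A] A', contr φ (LinearMap.rTensor C (W C A' M).subtype z) ∈
          Submodule.span A' (iota (A' := A') '' (F : Set V)) := by
      intro z
      induction z using TensorProduct.induction_on with
      | zero => exact ⟨∅, by simp, fun φ => by simp⟩
      | tmul w c =>
        refine ⟨{(w : V)}, by simpa using w.2, fun φ => ?_⟩
        rw [LinearMap.rTensor_tmul, contr_tmul, Submodule.subtype_apply, tmul_eq_smul_iota]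
        exact Submodule.smul_mem _ _ (Submodule.subset_span ⟨w, by simp, rfl⟩)
      | add x y hx hy =>
        obtain ⟨F1, h1, h1'⟩ := hx
        obtain ⟨F2, h2, h2'⟩ := hy
        refine ⟨F1 ∪ F2, ?_, fun φ => ?_⟩
        · rw [Finset.coe_union]; exact Set.union_subset h1 h2
        · rw [map_add, map_add]
          refine Submodule.add_mem _ (Submodule.span_mono ?_ (h1' φ))
            (Submodule.span_mono ?_ (h2' φ))
          · exact Set.image_mono (by rw [Finset.coe_union]; exact Set.subset_union_left)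
          · exact Set.image_mono (by rw [Finset.coe_union]; exact Set.subset_union_right)
    obtain ⟨F, hF, hF'⟩ := hz' z
    refine ⟨F, hF, fun φ => ?_⟩
    have h4 : T φ m = contr φ (HopfRep.Comod.coact (k := A) (A := C) m) := rfl
    rw [h4, ← hz]
    exact hF' φ
  have hSW : ∀ s ∈ S, s ∈ W C A' M := fun s hs =>
    le_W M (hS ▸ Submodule.subset_span (Finset.mem_coe.mpr hs))
  choose! Fs hFs using hex
  refine ⟨S.biUnion Fs, le_antisymm ?_ ?_⟩
  · rw [Submodule.span_le]
    intro x hx
    obtain ⟨s, hs, hxs⟩ := Finset.mem_biUnion.mp (Finset.mem_coe.mp hx)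
    exact (hFs s (hSW s hs)).1 (Finset.mem_coe.mpr hxs)
  · have hW' : W' C A' M ≤
        Submodule.span A' (iota (A' := A') '' ((S.biUnion Fs : Finset V) : Set V)) := by
      unfold W'
      rw [Submodule.span_le]
      rintro x ⟨φ, m, hm, rfl⟩
      rw [← hS] at hm
      rw [SetLike.mem_coe]
      induction hm using Submodule.span_induction with
      | mem s hs =>
        refine Submodule.span_mono ?_ ((hFs s (hSW s (Finset.mem_coe.mp hs))).2 φ)
        exact Set.image_mono (fun y hy => Finset.mem_coe.mpr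
          (Finset.mem_biUnion.mpr ⟨s, Finset.mem_coe.mp hs, Finset.mem_coe.mp hy⟩))
      | zero => rw [map_zero]; exact Submodule.zero_mem _
      | add x y _ _ hx hy => rw [map_add]; exact Submodule.add_mem _ hx hy
      | smul a x _ hx =>
        rw [map_smul]
        exact Submodule.smul_of_tower_mem _ a hx
    intro v hv
    have hker : Submodule.span A' (iota (A' := A') '' ((S.biUnion Fs : Finset V) : Set V)) ≤
        LinearMap.ker (LinearMap.baseChange A'
          (Submodule.span A ((S.biUnion Fs : Finset V) : Set V)).mkQ) := by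
      rw [Submodule.span_le]
      rintro x ⟨f, hf, rfl⟩
      rw [SetLike.mem_coe, LinearMap.mem_ker, iota_apply, LinearMap.baseChange_tmul]
      have : (Submodule.span A ((S.biUnion Fs : Finset V) : Set V)).mkQ f = 0 :=
        (Submodule.Quotient.mk_eq_zero _).mpr (Submodule.subset_span hf)
      rw [this, TensorProduct.tmul_zero]
    have h2 := hker (hW' ((mem_W_iff M v).mp hv))
    rw [LinearMap.mem_ker] at h2
    have h3 : (TensorProduct.mk A A'
        (V ⧸ Submodule.span A ((S.biUnion Fs : Finset V) : Set V)) 1)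
        ((Submodule.span A ((S.biUnion Fs : Finset V) : Set V)).mkQ v) = 0 := by
      simpa [iota_apply] using h2
    have h4 := Module.FaithfullyFlat.tensorProduct_mk_injective (A := A) (B := A')
      (V ⧸ Submodule.span A ((S.biUnion Fs : Finset V) : Set V))
    have h5 : (Submodule.span A ((S.biUnion Fs : Finset V) : Set V)).mkQ v = 0 :=
      h4 (by rw [h3, map_zero])
    exact (Submodule.Quotient.mk_eq_zero _).mp h5

theorem main [Module.FaithfullyFlat A A'] [Module.Projective A' (A' ⊗[A] C)]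
    (M : Submodule A V) :
    ∃ W : Submodule A V, HopfRep.IsSubcomod (k := A) (A := C) W ∧ M ≤ W ∧
      (∀ W' : Submodule A V, HopfRep.IsSubcomod (k := A) (A := C) W' → M ≤ W' → W ≤ W') ∧
      (M.FG → W.FG) :=
  ⟨W C A' M, isSubcomod_W M, le_W M, fun W1 h1 h2 => W_le M W1 h1 h2, W_fg M⟩

end Main

end Groth.Agent.Lib.Helper3.SubComod1
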