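import Mathlib

set_option autoImplicit false
universe v u
open CategoryTheory Limits

/-!
Resolutions inside a class of objects: if `P` is a class of objects of an abelian category stable
under cokernels and binary biproducts such that every object of `P` embeds into an injective object
lying in `P`, then every `ℕ`-indexed cochain complex whose homology objects lie in `P` maps
quasi-isomorphically to a complex of injective objects lying in `P`.
-/

namespace Groth.Agent.Helper3.SubRes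

variable {A : Type u} [Category.{v} A] [Abelian A]

/-- extension along a map whose kernel is killed -/
lemma exists_extension {X Y I : A} [Injective I] (f : X ⟶ Y) (g : X ⟶ I)
    (h : kernel.ι f ≫ g = 0) : ∃ ρ : Y ⟶ I, f ≫ ρ = g := by
  let g' : Abelian.coimage f ⟶ I := cokernel.desc (kernel.ι f) g h
  refine ⟨Injective.factorThru g' (Abelian.factorThruCoimage f), ?_⟩
  calc f ≫ Injective.factorThru g' (Abelian.factorThruCoimage f)
      = (Abelian.coimage.π f ≫ Abelian.factorThruCoimage f) ≫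
          Injective.factorThru g' (Abelian.factorThruCoimage f) := by rw [Abelian.coimage.fac]
    _ = Abelian.coimage.π f ≫ g' := by rw [Category.assoc, Injective.comp_factorThru]
    _ = g := cokernel.π_desc _ _ _

variable (K : CochainComplex A ℕ) (E : A → A) (e : ∀ X, X ⟶ E X) [∀ X, Injective (E X)]

/-- state of the recursion -/
structure St (n : ℕ) where
  Lp : A
  L : A
  dp : Lp ⟶ L
  α : K.X n ⟶ L
  hd : ∀ m, K.d m n ≫ α ≫ cokernel.π dp = 0

variable {K}

/-- the map induced on homology to the cokernel of the previous differential -/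
noncomputable def St.h {n : ℕ} (s : St K n) : K.homology n ⟶ cokernel s.dp :=
  (K.sc n).descHomology (K.iCycles n ≫ s.α ≫ cokernel.π s.dp) (by
    have h1 : (K.sc n).toCycles ≫ K.iCycles n = K.d ((ComplexShape.up ℕ).prev n) n :=
      (K.sc n).toCycles_i
    have h2 := s.hd ((ComplexShape.up ℕ).prev n)
    calc (K.sc n).toCycles ≫ K.iCycles n ≫ s.α ≫ cokernel.π s.dp
        = ((K.sc n).toCycles ≫ K.iCycles n) ≫ s.α ≫ cokernel.π s.dp := by
          rw [Category.assoc]
      _ = 0 := by rw [h1]; exact h2)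

lemma St.π_h {n : ℕ} (s : St K n) :
    K.homologyπ n ≫ s.h = K.iCycles n ≫ s.α ≫ cokernel.π s.dp :=
  (K.sc n).π_descHomology _ _

noncomputable abbrev St.Q {n : ℕ} (s : St K n) : A := cokernel s.h

noncomputable abbrev St.q {n : ℕ} (s : St K n) : cokernel s.dp ⟶ s.Q := cokernel.π s.h

lemma St.exists_ρ {n : ℕ} (s : St K n) :
    ∃ ρ : K.cycles (n + 1) ⟶ E s.Q,
      K.toCycles n (n + 1) ≫ ρ = s.α ≫ cokernel.π s.dp ≫ s.q ≫ e s.Q := by
  apply exists_extension
  have h0 : kernel.ι (K.toCycles n (n + 1)) ≫ K.d n (n + 1) = 0 := by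
    rw [← K.toCycles_i n (n + 1), ← Category.assoc, kernel.condition, zero_comp]
  have h1 : kernel.ι (K.toCycles n (n + 1)) =
      K.liftCycles (kernel.ι (K.toCycles n (n + 1))) (n + 1) (by simp) h0 ≫ K.iCycles n :=
    (K.liftCycles_i _ _ _ _).symm
  rw [h1, Category.assoc, ← reassoc_of% s.π_h, cokernel.condition_assoc, zero_comp, comp_zero,
    comp_zero]

noncomputable def St.ρ {n : ℕ} (s : St K n) : K.cycles (n + 1) ⟶ E s.Q :=
  (s.exists_ρ E e).choose

lemma St.toCycles_ρ {n : ℕ} (s : St K n) :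
    K.toCycles n (n + 1) ≫ s.ρ E e = s.α ≫ cokernel.π s.dp ≫ s.q ≫ e s.Q :=
  (s.exists_ρ E e).choose_spec

/-- the next differential -/
noncomputable def St.dp' {n : ℕ} (s : St K n) : s.L ⟶ E s.Q ⊞ E (K.homology (n + 1)) :=
  cokernel.π s.dp ≫ s.q ≫ e s.Q ≫ biprod.inl

/-- the next comparison map on cycles -/
noncomputable def St.β {n : ℕ} (s : St K n) :
    K.cycles (n + 1) ⟶ E s.Q ⊞ E (K.homology (n + 1)) :=
  s.ρ E e ≫ biprod.inl + K.homologyπ (n + 1) ≫ e (K.homology (n + 1)) ≫ biprod.inr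

/-- the next comparison map -/
noncomputable def St.α' {n : ℕ} (s : St K n) :
    K.X (n + 1) ⟶ E s.Q ⊞ E (K.homology (n + 1)) :=
  Injective.factorThru (s.β E e) (K.iCycles (n + 1))

lemma St.iCycles_α' {n : ℕ} (s : St K n) : K.iCycles (n + 1) ≫ s.α' E e = s.β E e :=
  Injective.comp_factorThru _ _

lemma St.comm {n : ℕ} (s : St K n) : s.α ≫ s.dp' E e = K.d n (n + 1) ≫ s.α' E e := by
  calc s.α ≫ s.dp' E e
      = (K.toCycles n (n + 1) ≫ s.ρ E e) ≫ biprod.inl := by
        rw [s.toCycles_ρ E e, St.dp']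
        simp only [Category.assoc]
    _ = K.toCycles n (n + 1) ≫ s.β E e := by
        rw [St.β, Preadditive.comp_add, K.toCycles_comp_homologyπ_assoc, zero_comp, add_zero,
          Category.assoc]
    _ = K.toCycles n (n + 1) ≫ K.iCycles (n + 1) ≫ s.α' E e := by rw [s.iCycles_α' E e]
    _ = K.d n (n + 1) ≫ s.α' E e := by rw [← Category.assoc, K.toCycles_i]

noncomputable def St.step {n : ℕ} (s : St K n) : St K (n + 1) where
  Lp := s.L
  L := E s.Q ⊞ E (K.homology (n + 1))
  dp := s.dp' E e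
  α := s.α' E e
  hd m := by
    by_cases hm : m + 1 = n + 1
    · obtain rfl : m = n := by lia
      rw [← reassoc_of% (s.comm E e), cokernel.condition, comp_zero]
    · rw [K.shape m (n + 1) hm, zero_comp]

variable (K)

noncomputable def St.init : St K 0 where
  Lp := E (K.homology 0)
  L := E (K.homology 0)
  dp := 0
  α := Injective.factorThru (K.homologyπ 0 ≫ e (K.homology 0)) (K.iCycles 0)
  hd m := by rw [K.shape m 0 (by simp), zero_comp]

noncomputable def st : (n : ℕ) → St K n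
  | 0 => St.init K E e
  | n + 1 => (st n).step E e

noncomputable def Lc : CochainComplex A ℕ :=
  CochainComplex.of (fun n => (st K E e n).L) (fun n => (st K E e (n + 1)).dp) (by
    intro n
    change (st K E e (n + 1)).dp ≫ (cokernel.π (st K E e (n + 1)).dp ≫ _) = 0
    rw [cokernel.condition_assoc, zero_comp])

lemma Lc_d (n : ℕ) : (Lc K E e).d n (n + 1) = (st K E e (n + 1)).dp :=
  CochainComplex.of_d (fun n => (st K E e n).L) (fun n => (st K E e (n + 1)).dp) n

noncomputable def αc : K ⟶ Lc K E e where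
  f n := (st K E e n).α
  comm' i j hij := by
    obtain rfl : i + 1 = j := hij
    rw [Lc_d]
    exact (st K E e i).comm E e

lemma αc_f (n : ℕ) : (αc K E e).f n = (st K E e n).α := rfl

lemma st_zero_dp : (st K E e 0).dp = 0 := rfl

variable {K E e}

/-- the invariant: the induced map on homology is a monomorphism -/
def St.Inv {n : ℕ} (s : St K n) : Prop :=
  ∀ ⦃W : A⦄ (z : W ⟶ K.cycles n), z ≫ K.iCycles n ≫ s.α ≫ cokernel.π s.dp = 0 →
    z ≫ K.homologyπ n = 0

lemma St.inv_init (he : Mono (e (K.homology 0))) : (St.init K E e).Inv := by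
  intro W z hz
  change z ≫ K.iCycles 0 ≫ Injective.factorThru (K.homologyπ 0 ≫ e (K.homology 0)) (K.iCycles 0) ≫
    cokernel.π (0 : E (K.homology 0) ⟶ E (K.homology 0)) = 0 at hz
  rw [← Category.assoc, ← Category.assoc] at hz
  have h1 := (cancel_mono (cokernel.π (0 : E (K.homology 0) ⟶ E (K.homology 0)))).1
    (hz.trans zero_comp.symm)
  rw [Category.assoc, Injective.comp_factorThru, ← Category.assoc] at h1
  exact (cancel_mono (e (K.homology 0))).1 (h1.trans zero_comp.symm)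

lemma St.inv_step {n : ℕ} (s : St K n) (he : Mono (e (K.homology (n + 1)))) :
    (s.step E e).Inv := by
  intro W z hz
  have hex : (ShortComplex.mk (s.step E e).dp (cokernel.π (s.step E e).dp)
      (cokernel.condition _)).Exact := ShortComplex.exact_cokernel _
  obtain ⟨W₁, p₁, hp₁, y, hy⟩ := hex.exact_up_to_refinements (z ≫ K.iCycles (n + 1) ≫
    (s.step E e).α) (by simpa using hz)
  obtain ⟨y, hy⟩ : ∃ y : W₁ ⟶ s.L, p₁ ≫ z ≫ K.iCycles (n + 1) ≫ s.α' E e = y ≫ s.dp' E e :=
    ⟨y, hy⟩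
  rw [s.iCycles_α' E e] at hy
  have h2 := congrArg (· ≫ biprod.snd) hy
  simp only [St.β, St.dp', Category.assoc, Preadditive.add_comp, Preadditive.comp_add,
    biprod.inl_snd, biprod.inr_snd, comp_zero, zero_add, Category.comp_id] at h2
  rw [← Category.assoc, ← Category.assoc] at h2
  have h3 := (cancel_mono (e (K.homology (n + 1)))).1 (h2.trans zero_comp.symm)
  rw [Category.assoc] at h3
  exact (cancel_epi p₁).1 (h3.trans comp_zero.symm)

lemma st_inv (he : ∀ n, Mono (e (K.homology n))) (n : ℕ) : (st K E e n).Inv := by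
  cases n with
  | zero => exact St.inv_init (he 0)
  | succ m => exact (st K E e m).inv_step (he (m + 1))

lemma St.epi_aux {n : ℕ} (s : St K n) (he : Mono (e s.Q)) {W : A} (y₂ : W ⟶ s.L)
    (hy : y₂ ≫ (s.step E e).dp = 0) :
    ∃ (W' : A) (p : W' ⟶ W) (_ : Epi p) (x₂ : W' ⟶ K.X n) (_ : x₂ ≫ K.d n (n + 1) = 0)
      (y₁ : W' ⟶ s.Lp), p ≫ y₂ = x₂ ≫ s.α + y₁ ≫ s.dp := by
  have h1 : (y₂ ≫ cokernel.π s.dp) ≫ s.q = 0 := by
    have : y₂ ≫ s.dp' E e = 0 := hy
    rw [St.dp'] at this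
    have h' : ((y₂ ≫ cokernel.π s.dp) ≫ s.q) ≫
        (e s.Q ≫ (biprod.inl : E s.Q ⟶ E s.Q ⊞ E (K.homology (n + 1)))) = 0 := by
      simpa only [Category.assoc] using this
    exact (cancel_mono (e s.Q ≫
      (biprod.inl : E s.Q ⟶ E s.Q ⊞ E (K.homology (n + 1))))).1 (h'.trans zero_comp.symm)
  have hex : (ShortComplex.mk s.h (cokernel.π s.h) (cokernel.condition _)).Exact :=
    ShortComplex.exact_cokernel _
  obtain ⟨W₁, p₁, hp₁, η, hη⟩ := hex.exact_up_to_refinements (y₂ ≫ cokernel.π s.dp) h1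
  obtain ⟨η, hη⟩ : ∃ η : W₁ ⟶ K.homology n, p₁ ≫ y₂ ≫ cokernel.π s.dp = η ≫ s.h := ⟨η, hη⟩
  obtain ⟨W₂, p₂, hp₂, z, hz, hη'⟩ :=
    K.eq_liftCycles_homologyπ_up_to_refinements η (n + 1) (by simp)
  have hex' : (ShortComplex.mk s.dp (cokernel.π s.dp) (cokernel.condition _)).Exact :=
    ShortComplex.exact_cokernel _
  obtain ⟨W₃, p₃, hp₃, y₁, hy₁⟩ := hex'.exact_up_to_refinements
    (p₂ ≫ p₁ ≫ y₂ - z ≫ s.α) (by
      change (p₂ ≫ p₁ ≫ y₂ - z ≫ s.α) ≫ cokernel.π s.dp = 0
      rw [Preadditive.sub_comp, Category.assoc, Category.assoc, hη, ← Category.assoc p₂, hη',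
        Category.assoc, s.π_h, K.liftCycles_i_assoc, Category.assoc, sub_self])
  obtain ⟨y₁, hy₁⟩ : ∃ y₁ : W₃ ⟶ s.Lp, p₃ ≫ (p₂ ≫ p₁ ≫ y₂ - z ≫ s.α) = y₁ ≫ s.dp := ⟨y₁, hy₁⟩
  refine ⟨W₃, p₃ ≫ p₂ ≫ p₁, epi_comp _ _, p₃ ≫ z, ?_, y₁, ?_⟩
  · rw [Category.assoc, hz, comp_zero]
  · rw [← hy₁, Preadditive.comp_sub]
    simp

lemma mono_homologyMap_αc (he : ∀ n, Mono (e (K.homology n))) (n : ℕ) :
    Mono (HomologicalComplex.homologyMap (αc K E e) n) := by
  have key : ∀ ⦃W : A⦄ (x₂ : W ⟶ K.X n) (hx₂ : x₂ ≫ K.d n (n + 1) = 0),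
      x₂ ≫ (st K E e n).α ≫ cokernel.π (st K E e n).dp = 0 →
      K.liftCycles x₂ (n + 1) (by simp) hx₂ ≫ K.homologyπ n = 0 := by
    intro W x₂ hx₂ h
    apply st_inv he n
    rw [K.liftCycles_i_assoc]
    exact h
  cases n with
  | zero =>
    rw [HomologicalComplex.mono_homologyMap_iff_up_to_refinements (αc K E e) 0 0 1
      (by simp) (by simp)]
    intro W x₂ hx₂ y₁ hy₁
    rw [(Lc K E e).shape 0 0 (by simp), comp_zero] at hy₁
    refine (K.liftCycles_comp_homologyπ_eq_zero_iff_up_to_refinements 0 0 1 (by simp) (by simp)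
      x₂ hx₂).1 (key x₂ hx₂ ?_)
    rw [← Category.assoc]
    have : x₂ ≫ (st K E e 0).α = 0 := hy₁
    rw [this, zero_comp]
  | succ m =>
    rw [HomologicalComplex.mono_homologyMap_iff_up_to_refinements (αc K E e) m (m + 1) (m + 1 + 1)
      (by simp) (by simp)]
    intro W x₂ hx₂ y₁ hy₁
    rw [Lc_d] at hy₁
    refine (K.liftCycles_comp_homologyπ_eq_zero_iff_up_to_refinements m (m + 1) (m + 1 + 1)
      (by simp) (by simp) x₂ hx₂).1 (key x₂ hx₂ ?_)
    obtain ⟨y₁', h3⟩ : ∃ y₁' : W ⟶ (st K E e (m + 1)).Lp,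
      x₂ ≫ (st K E e (m + 1)).α = y₁' ≫ (st K E e (m + 1)).dp := ⟨y₁, hy₁⟩
    rw [← Category.assoc, h3, Category.assoc, cokernel.condition, comp_zero]

lemma epi_homologyMap_αc (he : ∀ n, Mono (e (st K E e n).Q)) (n : ℕ) :
    Epi (HomologicalComplex.homologyMap (αc K E e) n) := by
  cases n with
  | zero =>
    rw [HomologicalComplex.epi_homologyMap_iff_up_to_refinements (αc K E e) 0 0 1
      (by simp) (by simp)]
    intro W y₂ hy₂
    rw [Lc_d] at hy₂
    obtain ⟨W', p, hp, x₂, hx₂, y₁, h⟩ := (st K E e 0).epi_aux (he 0) y₂ hy₂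
    refine ⟨W', p, hp, x₂, hx₂, y₁, ?_⟩
    rw [(Lc K E e).shape 0 0 (by simp), comp_zero, add_zero]
    rw [st_zero_dp, comp_zero, add_zero] at h
    exact h
  | succ m =>
    rw [HomologicalComplex.epi_homologyMap_iff_up_to_refinements (αc K E e) m (m + 1) (m + 1 + 1)
      (by simp) (by simp)]
    intro W y₂ hy₂
    rw [Lc_d] at hy₂
    obtain ⟨W', p, hp, x₂, hx₂, y₁, h⟩ := (st K E e (m + 1)).epi_aux (he (m + 1)) y₂ hy₂
    refine ⟨W', p, hp, x₂, hx₂, y₁, ?_⟩
    rw [Lc_d]
    exact h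

section main

variable (P : A → Prop)
  (hPcok : ∀ {X Y : A} (f : X ⟶ Y), P X → P Y → P (cokernel f))
  (hPbi : ∀ X Y : A, P X → P Y → P (X ⊞ Y))

include hPcok hPbi in
lemma st_P (hPE : ∀ X, P X → P (E X)) (hK : ∀ n, P (K.homology n)) (n : ℕ) :
    P (st K E e n).Lp ∧ P (st K E e n).L := by
  induction n with
  | zero => exact ⟨hPE _ (hK 0), hPE _ (hK 0)⟩
  | succ m ih =>
    refine ⟨ih.2, ?_⟩
    change P (E (st K E e m).Q ⊞ E (K.homology (m + 1)))
    exact hPbi _ _ (hPE _ (hPcok _ (hK m) (hPcok _ ih.1 ih.2))) (hPE _ (hK (m + 1)))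

include hPcok hPbi in
lemma st_PQ (hPE : ∀ X, P X → P (E X)) (hK : ∀ n, P (K.homology n)) (n : ℕ) :
    P (st K E e n).Q :=
  hPcok _ (hK n) (hPcok _ (st_P P hPcok hPbi hPE hK n).1 (st_P P hPcok hPbi hPE hK n).2)

lemma injective_L (n : ℕ) : Injective (st K E e n).L := by
  cases n with
  | zero => exact inferInstanceAs (Injective (E (K.homology 0)))
  | succ m => exact inferInstanceAs (Injective (E (st K E e m).Q ⊞ E (K.homology (m + 1))))

open ZeroObject in
include hPcok hPbi in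
/-- The `ℕ`-indexed resolution statement inside a class of objects. -/
theorem exists_resolution_nat
    (hemb : ∀ X : A, P X → ∃ (Y : A) (i : X ⟶ Y), Mono i ∧ P Y ∧ Injective Y)
    (K : CochainComplex A ℕ) (hK : ∀ n, P (K.homology n)) :
    ∃ (L : CochainComplex A ℕ) (α : K ⟶ L),
      (∀ n, P (L.X n) ∧ Injective (L.X n)) ∧ QuasiIso α := by
  have key : ∀ X : A, ∃ (Y : A) (i : X ⟶ Y), Injective Y ∧ (P X → Mono i ∧ P Y) := by
    intro X
    by_cases h : P X
    · obtain ⟨Y, i, h1, h2, h3⟩ := hemb X h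
      exact ⟨Y, i, h3, fun _ => ⟨h1, h2⟩⟩
    · exact ⟨0, 0, inferInstance, fun h' => absurd h' h⟩
  choose E e hEinj hE using key
  have hPE : ∀ X, P X → P (E X) := fun X hX => (hE X hX).2
  refine ⟨Lc K E e, αc K E e, ?_, ?_⟩
  · intro n
    exact ⟨(st_P P hPcok hPbi hPE hK n).2, injective_L n⟩
  · rw [quasiIso_iff]
    intro n
    rw [quasiIsoAt_iff_isIso_homologyMap]
    have := mono_homologyMap_αc (K := K) (E := E) (e := e) (fun n => (hE _ (hK n)).1) n
    have := epi_homologyMap_αc (K := K) (E := E) (e := e)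
      (fun n => (hE _ (st_PQ P hPcok hPbi hPE hK n)).1) n
    exact isIso_of_mono_of_epi _

end main

section int

variable (P : A → Prop)
  (hPcok : ∀ {X Y : A} (f : X ⟶ Y), P X → P Y → P (cokernel f))
  (hPbi : ∀ X Y : A, P X → P Y → P (X ⊞ Y))
  (hPiso : ∀ {X Y : A}, (X ≅ Y) → P X → P Y)

include hPcok hPbi hPiso in
/-- The `ℤ`-indexed resolution statement inside a class of objects. -/
theorem exists_resolution_int
    (hemb : ∀ X : A, P X → ∃ (Y : A) (i : X ⟶ Y), Mono i ∧ P Y ∧ Injective Y)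
    (K : CochainComplex A ℤ) (a : ℤ) [K.IsStrictlyGE a] (hK : ∀ n, P (K.homology n)) :
    ∃ (L : CochainComplex A ℤ) (α : K ⟶ L), L.IsStrictlyGE a ∧
      (∀ n, (P (L.X n) ∨ IsZero (L.X n)) ∧ Injective (L.X n)) ∧ QuasiIso α := by
  let em := ComplexShape.embeddingUpIntGE a
  have hKs : K.IsStrictlySupported em := inferInstanceAs (K.IsStrictlyGE a)
  obtain ⟨π', hπ⟩ : ∃ π' : K ⟶ (HomologicalComplex.truncGE' K em).extend em, IsIso π' :=
    ⟨HomologicalComplex.πTruncGE K em,
      (inferInstance : IsIso (HomologicalComplex.πTruncGE K em))⟩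
  have hK₀ : ∀ n, P ((HomologicalComplex.truncGE' K em).homology n) := by
    intro n
    have e1 : ((HomologicalComplex.truncGE' K em).extend em).homology (em.f n) ≅
        (HomologicalComplex.truncGE' K em).homology n :=
      HomologicalComplex.extendHomologyIso _ em rfl
    have e2 : K.homology (em.f n) ≅
        ((HomologicalComplex.truncGE' K em).extend em).homology (em.f n) :=
      (HomologicalComplex.homologyFunctor A _ (em.f n)).mapIso (asIso π')
    exact hPiso (e2 ≪≫ e1) (hK _)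
  obtain ⟨L₀, α₀, hL₀, hq⟩ := exists_resolution_nat P hPcok hPbi hemb
    (HomologicalComplex.truncGE' K em) hK₀
  have hq' : QuasiIso (HomologicalComplex.extendMap α₀ em) := inferInstance
  refine ⟨L₀.extend em, π' ≫ HomologicalComplex.extendMap α₀ em, ?_, ?_, ?_⟩
  · exact inferInstanceAs ((L₀.extend em).IsStrictlySupported em)
  · intro n
    by_cases hn : ∃ i, em.f i = n
    · obtain ⟨i, hi⟩ := hn
      exact ⟨Or.inl (hPiso (L₀.extendXIso em hi).symm (hL₀ i).1),
        have := (hL₀ i).2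
        Injective.of_iso (L₀.extendXIso em hi).symm inferInstance⟩
    · have hz : IsZero ((L₀.extend em).X n) := L₀.isZero_extend_X em n (by simpa using hn)
      exact ⟨Or.inr hz, hz.injective⟩
  · infer_instance

end int

end Groth.Agent.Helper3.SubRes
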