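import Mathlib
import Groth.Prelude.Def_ModSite2
import Groth.Agent.Lib.Helper5.Misc.ShriekSheaf
import Groth.Agent.Lib.Helper5.Misc.RestrExact
import Groth.Agent.Lib.Helper3.RDKer
import Groth.Agent.Lib.Helper3.RDCompNat

/-!
# Local cohomology sheaves along a subterminal object (helper3)
-/
set_option autoImplicit false
open CategoryTheory CategoryTheory.Limits Opposite
open Groth.Agent.Lib.Helper5.TensorSheaf Groth.Agent.Lib.Helper5.TensorOver
open Groth.Agent.Lib.Helper5

namespace Groth.Agent.Helper3.SubTerm1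

universe u

section Generic

/-- For adjunctions `L ⊣ M ⊣ R` and an injective object `I` such that the counit
`L M (R M I) ⟶ R M I` is a monomorphism, the unit `I ⟶ R M I` is a split epimorphism. -/
lemma isSplitEpi_unit_of_mono {𝒜 𝒞 : Type*} [Category 𝒜] [Category 𝒞] {L : 𝒞 ⥤ 𝒜} {M : 𝒜 ⥤ 𝒞}
    {R : 𝒞 ⥤ 𝒜} (adj₁ : L ⊣ M) (adj₂ : M ⊣ R)
    (I : 𝒜) [Injective I] [Mono (adj₁.counit.app (R.obj (M.obj I)))] :
    IsSplitEpi (adj₂.unit.app I) := by
  let Rr := R.obj (M.obj I)
  let c : M.obj Rr ⟶ M.obj I := adj₂.counit.app (M.obj I)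
  let s : Rr ⟶ I := Injective.factorThru (L.map c ≫ adj₁.counit.app I) (adj₁.counit.app Rr)
  have hs : adj₁.counit.app Rr ≫ s = L.map c ≫ adj₁.counit.app I :=
    Injective.comp_factorThru _ _
  have key : M.map s = c := by
    have h1 : adj₁.unit.app (M.obj Rr) ≫ M.map (adj₁.counit.app Rr) = 𝟙 _ :=
      adj₁.right_triangle_components Rr
    have h2 : M.map (adj₁.counit.app Rr) ≫ M.map s =
        M.map (L.map c) ≫ M.map (adj₁.counit.app I) := by
      rw [← M.map_comp, hs, M.map_comp]
    have h3 : adj₁.unit.app (M.obj Rr) ≫ M.map (L.map c) = c ≫ adj₁.unit.app (M.obj I) :=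
      (adj₁.unit.naturality c).symm
    calc M.map s = (adj₁.unit.app (M.obj Rr) ≫ M.map (adj₁.counit.app Rr)) ≫ M.map s := by
          rw [h1, Category.id_comp]
      _ = adj₁.unit.app (M.obj Rr) ≫ M.map (L.map c) ≫ M.map (adj₁.counit.app I) := by
          rw [Category.assoc, h2]
      _ = c ≫ adj₁.unit.app (M.obj I) ≫ M.map (adj₁.counit.app I) := by
          rw [← Category.assoc, h3, Category.assoc]
      _ = c := by rw [adj₁.right_triangle_components, Category.comp_id]
  refine ⟨⟨s, ?_⟩⟩
  apply (adj₂.homEquiv _ _).symm.injective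
  rw [Adjunction.homEquiv_counit, Adjunction.homEquiv_counit, M.map_comp, Category.assoc]
  have tri : M.map (adj₂.unit.app I) ≫ adj₂.counit.app (M.obj I) = 𝟙 _ :=
    adj₂.left_triangle_components I
  rw [tri, Category.comp_id, key]
  exact ((congrArg (· ≫ adj₂.counit.app (M.obj I)) (M.map_id _)).trans (Category.id_comp _)).symm

end Generic

section Presheaf

variable {C : Type u} [SmallCategory C] {U : C} {R : Cᵒᵖ ⥤ RingCat.{u}}

open Classical in
/-- on a subterminal object, the sum map is a component -/
lemma descFun_id_apply (hU : ∀ V : C, Subsingleton (V ⟶ U)) (F : PresheafOfModules.{u} R)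
    (V : C) (φ : V ⟶ U) (m : Shriek.sec ((Shriek.resp' U R).obj F) V) :
    Shriek.descFun (𝟙 ((Shriek.resp' U R).obj F)) V m = (m φ : F.obj (op V)) := by
  induction m using DirectSum.induction_on with
  | zero => rw [map_zero]; rfl
  | of ψ x =>
    obtain rfl : ψ = φ := (hU V).elim _ _
    rw [Shriek.descFun_of, DirectSum.of_eq_same]
    rfl
  | add a b ha hb =>
    rw [map_add, ha, hb]
    rfl

open Classical in
lemma mono_counit (hU : ∀ V : C, Subsingleton (V ⟶ U)) (F : PresheafOfModules.{u} R) :
    Mono ((Shriek.adj U R).counit.app F) := by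
  have e : (Shriek.adj U R).counit.app F = Shriek.desc (𝟙 ((Shriek.resp' U R).obj F)) := by
    rw [← Adjunction.homEquiv_symm_id]
    unfold Shriek.adj
    rw [Adjunction.mkOfHomEquiv_homEquiv]
    rfl
  rw [e]
  apply PresheafOfModules.mono_of_injective
  intro V
  show Function.Injective (Shriek.descFun (𝟙 ((Shriek.resp' U R).obj F)) V.unop)
  intro m m' h
  apply DFinsupp.ext
  intro φ
  have h1 := descFun_id_apply hU F V.unop φ m
  have h2 := descFun_id_apply hU F V.unop φ m'
  exact h1.symm.trans (h.trans h2)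

end Presheaf

section Sheaf

variable {C : Type u} [SmallCategory C] {J : GrothendieckTopology C}
  (O : Sheaf J CommRingCat.{u}) (U : C)

lemma mono_counit_adj' (hU : ∀ V : C, Subsingleton (V ⟶ U)) (F : ModSite.Mod O) :
    Mono ((ShriekSheaf.adj' O U).counit.app F) := by
  have h := Adjunction.map_restrictFullyFaithful_counit_app
    ((ShriekSheaf.padj O U).comp (TensorSheaf.adj O))
    (SheafOfModules.fullyFaithfulForget _) (Functor.FullyFaithful.id _)
    (Functor.rightUnitor _).symm (ShriekSheaf.comm2 O U) F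
  have h' : (ShriekSheaf.adj' O U).counit.app F =
      (shf O).map ((ShriekSheaf.padj O U).counit.app _) ≫ (TensorSheaf.adj O).counit.app F := by
    refine h.trans ?_
    rw [Adjunction.comp_counit_app]
    erw [Category.id_comp, CategoryTheory.Functor.map_id, Category.id_comp]
  rw [h']
  haveI : PreservesFiniteLimits (shf O) :=
    inferInstanceAs (PreservesFiniteLimits
      (PresheafOfModules.sheafification.{u} (𝟙 (ModSite.ringSh O).obj)))
  haveI : Mono ((ShriekSheaf.padj O U).counit.app
      ((SheafOfModules.forget (ModSite.ringSh O) ⋙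
        PresheafOfModules.restrictScalars (𝟙 (ModSite.ringSh O).obj)).obj F)) :=
    mono_counit hU _
  haveI : IsIso (TensorSheaf.adj O).counit :=
    inferInstanceAs (IsIso (PresheafOfModules.sheafificationAdjunction
      (𝟙 (ModSite.ringSh O).obj)).counit)
  have i1 : IsIso ((TensorSheaf.adj O).counit.app F) := inferInstance
  have i2 : Mono ((shf O).map ((ShriekSheaf.padj O U).counit.app
      ((SheafOfModules.forget (ModSite.ringSh O) ⋙
        PresheafOfModules.restrictScalars (𝟙 (ModSite.ringSh O).obj)).obj F))) :=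
    Functor.map_mono _ _
  have i3 : Mono ((TensorSheaf.adj O).counit.app F) := IsIso.mono_of_iso _
  exact @mono_comp _ _ _ _ _ _ i2 _ i3

end Sheaf

section Main

variable {C : Type u} [SmallCategory C] {J : GrothendieckTopology C}
  (O : Sheaf J CommRingCat.{u}) (U : C) [ModSite.HasPushOver O U]

lemma epi_unit (hU : ∀ V : C, Subsingleton (V ⟶ U)) (Q : ModSite.Mod O) [Injective Q] :
    Epi ((ModSite.restrPushOverAdj O U).unit.app Q) := by
  haveI := mono_counit_adj' O U hU ((ModSite.pushOver O U).obj ((ModSite.restr O U).obj Q))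
  haveI := isSplitEpi_unit_of_mono (ShriekSheaf.adj' O U) (ModSite.restrPushOverAdj O U) Q
  infer_instance

instance restr_additive : (ModSite.restr O U).Additive where

variable [(ModSite.pushOver O U).Additive]

lemma hyp (hU : ∀ V : C, Subsingleton (V ⟶ U)) :
    RDKer.Hyp (ModSite.sectOn O U) (ModSite.restr O U ⋙ ModSite.pushOver O U)
      (ModSite.sectOnι O U) (ModSite.restrPushOverAdj O U).unit where
  zero X := kernel.condition _
  exact X := ShortComplex.exact_kernel _
  mono X := by
    show Mono (kernel.ι _)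
    infer_instance
  epi Q hQ := by
    haveI := hQ
    exact epi_unit O U hU Q

variable [HasInjectiveResolutions (ModSite.Mod O)] [HasInjectiveResolutions (ModSite.Mod (O.over U))]

theorem main (hU : ∀ V : C, Subsingleton (V ⟶ U)) :
    Nonempty (ModSite.HZsh O U 1 ≅ cokernel (ModSite.restrPushOverAdj O U).unit) ∧
      ∀ q : ℕ, 1 ≤ q →
        Nonempty (ModSite.HZsh O U (q + 1) ≅
          ModSite.restr O U ⋙ (ModSite.pushOver O U).rightDerived q) := by
  have h := hyp O U hU
  refine ⟨⟨(RDKer.cokernelIso h).symm⟩, ?_⟩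
  intro q hq
  obtain ⟨i, rfl⟩ : ∃ i, q = i + 1 := ⟨q - 1, by omega⟩
  haveI : (ModSite.restr O U).PreservesInjectiveObjects :=
    haveI := RestrExact.preservesFiniteLimits_extZero O U
    Functor.preservesInjectiveObjects_of_adjunction_of_preservesMonomorphisms
      (ModSite.extZeroAdj O U)
  haveI : (ModSite.restr O U).PreservesHomology :=
    haveI := RestrExact.preservesFiniteLimits_restr O U
    haveI := RestrExact.preservesFiniteColimits_restr O U
    inferInstance
  exact ⟨(RDKer.natIso h i).symm ≪≫
    RDCompNat.preNatIso (ModSite.restr O U) (ModSite.pushOver O U) (i + 1)⟩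

end Main

end Groth.Agent.Helper3.SubTerm1
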