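import Mathlib
import Groth.Prelude.Def_W4c2submetdescSubtr
import Groth.Agent.Lib.Helper7.Retro
import Groth.Agent.Lib.Helper7.SubtrLib
import Groth.Agent.S19530

set_option autoImplicit false
universe u
open CategoryTheory CategoryTheory.Limits AlgebraicGeometry
open Subtr

namespace H3SubtrLC

/-- an intersection of locally constructible sets is pro-constructible -/
theorem isProConstructible_sInter {X : Type*} [TopologicalSpace X] (𝒞 : Set (Set X))
    (h𝒞 : ∀ C ∈ 𝒞, Topology.IsLocallyConstructible C) :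
    ProCons.IsProConstructible (⋂₀ 𝒞) := by
  intro x
  refine ⟨Set.univ, isOpen_univ, Set.mem_univ x,
    (fun B : Set X => (Subtype.val ⁻¹' B : Set (Set.univ : Set X))) '' 𝒞, ?_, ?_⟩
  · rintro _ ⟨B, hB, rfl⟩
    exact (h𝒞 B hB).preimage_of_isOpenEmbedding isOpen_univ.isOpenEmbedding_subtypeVal
  · rw [Set.preimage_sInter, Set.sInter_image]

theorem isLocallyConstructible_compl {X : Type*} [TopologicalSpace X] {s : Set X}
    (hs : Topology.IsLocallyConstructible s) : Topology.IsLocallyConstructible sᶜ := by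
  intro x
  obtain ⟨U, hU, hUo, hc⟩ := hs x
  refine ⟨U, hU, hUo, ?_⟩
  rw [Set.preimage_compl]
  exact hc.compl

/-- Chevalley step: points over the constructible closure of `E` lie in the closure of the
preimage of `E`. -/
theorem key1 {S' S : Scheme.{u}} [IsAffine S] (f : S' ⟶ S) [LocallyOfFinitePresentation f]
    [QuasiCompact f] [QuasiSeparated f]
    (E : Set S) (x₀ : S')
    (hx₀ : f x₀ ∈ ⋂₀ {C : Set S | Topology.IsLocallyConstructible C ∧ E ⊆ C}) :
    x₀ ∈ closure (f ⁻¹' E) := by
  have : QuasiSeparatedSpace S' := HasAffineProperty.iff_of_isAffine.mp ‹QuasiSeparated f›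
  rw [mem_closure_iff]
  intro O hO hxO
  obtain ⟨_, ⟨N, hN : IsAffineOpen N, rfl⟩, hxN, hNO⟩ :=
    S'.isBasis_affineOpens.exists_subset_of_mem_open hxO hO
  by_contra hempty
  have hNE : ∀ n ∈ (N : Set S'), f n ∉ E := by
    intro n hn hfn
    exact hempty ⟨n, hNO hn, hfn⟩
  have hNretro : IsRetrocompact (N : Set S') := fun U hUc hUo =>
    QuasiSeparatedSpace.inter_isCompact _ _ N.2 hN.isCompact hUo hUc
  have hNcons : Topology.IsConstructible (N : Set S') := hNretro.isConstructible N.2
  have hC : Topology.IsLocallyConstructible (f '' (N : Set S')) :=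
    f.isLocallyConstructible_image hNcons.isLocallyConstructible
  have hmem : f x₀ ∈ (f '' (N : Set S'))ᶜ := by
    apply hx₀
    refine ⟨isLocallyConstructible_compl hC, ?_⟩
    rintro e he ⟨n, hn, rfl⟩
    exact hNE n hn he
  exact hmem ⟨x₀, hxN, rfl⟩

theorem main_affine {S' S : Scheme.{u}} [IsAffine S] (f : S' ⟶ S)
    [LocallyOfFinitePresentation f] [QuasiCompact f] [QuasiSeparated f]
    (hf : Subtr.UnivSSubtrusive f) (E : Set S) (h1 : IsLocallyClosed (f ⁻¹' E)) :
    IsLocallyClosed E := by
  have hsub : Subtr.IsSSubtrusive f := Groth.Agent.Helper7.SubtrLib.isSSubtrusive_of_univ f hf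
  have hsurj : Function.Surjective f := by
    intro y
    obtain ⟨x, _, _, hx, _⟩ := hsub (specializes_refl y)
    exact ⟨x, hx⟩
  have himg : ∀ A : Set S, f '' (f ⁻¹' A) = A := fun A => Set.image_preimage_eq A hsurj
  let Ebar : Set S := ⋂₀ {C : Set S | Topology.IsLocallyConstructible C ∧ E ⊆ C}
  have hEsub : E ⊆ Ebar := fun e he C hC => hC.2 he
  have hEbarpro : ProCons.IsProConstructible Ebar :=
    isProConstructible_sInter _ (fun C hC => hC.1)
  have hkey : ∀ x₀ : S', f x₀ ∈ Ebar → x₀ ∈ closure (f ⁻¹' E) := fun x₀ h => key1 f E x₀ h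
  rw [isLocallyClosed_iff_isOpen_coborder, coborder, isOpen_compl_iff]
  have hB'closed : IsClosed (closure (f ⁻¹' E) \ f ⁻¹' E) := by
    have := h1.isOpen_coborder
    rwa [coborder, isOpen_compl_iff] at this
  have hBeq : closure E \ E = f '' (closure (f ⁻¹' E) \ f ⁻¹' E) := by
    apply Set.Subset.antisymm
    · rintro y ⟨hy1, hy2⟩
      obtain ⟨e, he, hey⟩ :=
        Groth.Agent.Helper7.ProConsLib.exists_specializes_of_mem_closure_of_isProConstructible
          S hEbarpro (closure_mono hEsub hy1)
      obtain ⟨x, x', hxx, hx, hx'⟩ := hsub hey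
      refine ⟨x, ⟨?_, ?_⟩, hx⟩
      · have hx'W : x' ∈ closure (f ⁻¹' E) := hkey x' (by rw [hx']; exact he)
        exact hxx.mem_closed isClosed_closure hx'W
      · intro hxE
        apply hy2
        rw [← hx]
        exact hxE
    · rintro _ ⟨x, ⟨hx1, hx2⟩, rfl⟩
      refine ⟨?_, hx2⟩
      have h3 : f x ∈ f '' closure (f ⁻¹' E) := ⟨x, hx1, rfl⟩
      have h4 := image_closure_subset_closure_image f.continuous h3
      rw [himg] at h4
      exact h4
  have hBpro : ProCons.IsProConstructible (closure E \ E) := by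
    rw [hBeq]
    exact Groth.Agent.Helper7.ProConsLib.isProConstructible_image f
      (Groth.Agent.Helper7.QuasiFlat.isProConstructible_of_isClosed S' hB'closed)
  rw [← closure_subset_iff_isClosed]
  intro y hy
  obtain ⟨b, ⟨hb1, hb2⟩, hby⟩ :=
    Groth.Agent.Helper7.ProConsLib.exists_specializes_of_mem_closure_of_isProConstructible
      S hBpro hy
  refine ⟨hby.mem_closed isClosed_closure hb1, ?_⟩
  intro hyE
  obtain ⟨e, he, heb⟩ :=
    Groth.Agent.Helper7.ProConsLib.exists_specializes_of_mem_closure_of_isProConstructible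
      S hEbarpro (closure_mono hEsub hb1)
  let c : Fin 3 → S := ![e, b, y]
  have hc : ∀ i j : Fin 3, i ≤ j → c i ⤳ c j := by
    intro i j hij
    fin_cases i <;> fin_cases j
    · exact specializes_rfl
    · exact heb
    · exact heb.trans hby
    · exact absurd hij (by decide)
    · exact specializes_rfl
    · exact hby
    · exact absurd hij (by decide)
    · exact absurd hij (by decide)
    · exact specializes_rfl
  obtain ⟨x, hxchain, hxf⟩ := Groth.Agent.S19530.result f hf 2 c hc
  have hx0 : x 0 ∈ closure (f ⁻¹' E) := by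
    apply hkey
    rw [hxf 0]
    exact he
  have hx2 : x 2 ∈ f ⁻¹' E := by
    change f (x 2) ∈ E
    rw [hxf 2]
    exact hyE
  have hx1 : x 1 ∉ f ⁻¹' E := by
    intro h
    apply hb2
    have : f (x 1) ∈ E := h
    rwa [hxf 1] at this
  obtain ⟨O, Z, hO, hZ, hOZ⟩ := h1
  rw [hOZ] at hx0 hx2 hx1
  apply hx1
  refine ⟨?_, ?_⟩
  · exact (hxchain 1 2 (by decide)).mem_open hO hx2.1
  · exact (hxchain 0 1 (by decide)).mem_closed hZ
      (closure_minimal Set.inter_subset_right hZ hx0)

theorem main {S' S : Scheme.{u}} (f : S' ⟶ S)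
    [LocallyOfFinitePresentation f] [QuasiCompact f] [QuasiSeparated f]
    (hf : Subtr.UnivSSubtrusive f) (E : Set S) :
    IsLocallyClosed E ↔ IsLocallyClosed (f ⁻¹' E) := by
  constructor
  · exact fun h => h.preimage f.continuous
  · intro h1
    rw [S.affineCover.isOpenCover_opensRange.isLocallyClosed_iff_coe_preimage]
    intro i
    let V : S.Opens := (S.affineCover.f i).opensRange
    have : IsAffine (V : Scheme.{u}) := isAffineOpen_opensRange (S.affineCover.f i)
    have : Subtr.UnivSSubtrusive.IsStableUnderBaseChange := by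
      unfold Subtr.UnivSSubtrusive
      infer_instance
    have hfV : Subtr.UnivSSubtrusive (f ∣_ V) :=
      MorphismProperty.of_isPullback (isPullback_morphismRestrict f V).flip hf
    have : LocallyOfFinitePresentation (f ∣_ V) :=
      MorphismProperty.of_isPullback (isPullback_morphismRestrict f V).flip
        ‹LocallyOfFinitePresentation f›
    refine main_affine (f ∣_ V) hfV (Subtype.val ⁻¹' E : Set V) ?_
    have heq : (f ∣_ V) ⁻¹' (Subtype.val ⁻¹' E : Set V) =
        (Subtype.val ⁻¹' (f ⁻¹' E) : Set (f ⁻¹ᵁ V)) := by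
      ext z
      simp only [Set.mem_preimage]
      rw [morphismRestrict_base_coe]
    rw [heq]
    exact h1.preimage continuous_subtype_val

end H3SubtrLC
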