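import Mathlib

/-!
# `|Spec A ×_k X| ≃ |Spec A| × |X|` for `A` a directed union of finite products of copies of `k`

`k → A` is surjective on stalks, so Mathlib's `SurjectiveOnStalks.isEmbedding_pullback` applies; the map
is surjective because `Spec k` is a point.
-/

set_option autoImplicit false
universe u
open CategoryTheory CategoryTheory.Limits AlgebraicGeometry

namespace Groth.Agent.Helper3.SurjStalkProd

theorem surjectiveOnStalks_algebraMap (k : Type u) [Field k] (A : Type u) [CommRing A] [Algebra k A]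
    (hA : ∀ s : Finset A, ∃ (B : Subalgebra k A) (n : ℕ), (↑s : Set A) ⊆ (B : Set A) ∧
      Nonempty (B ≃ₐ[k] (Fin n → k))) :
    (algebraMap k A).SurjectiveOnStalks := by
  classical
  rw [RingHom.surjectiveOnStalks_iff_forall_ideal]
  intro I hI s
  obtain ⟨B, n, hsB, ⟨e⟩⟩ := hA {s}
  have hs : s ∈ B := hsB (by simp)
  let v : Fin n → k := e ⟨s, hs⟩
  let E : Fin n → B := fun j => e.symm (Pi.single j 1)
  have h1 : ∑ j, (Pi.single j (1 : k) : Fin n → k) = 1 := by
    ext i
    simp [Finset.sum_apply, Pi.single_apply]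
  have hsum : ∑ j, E j = 1 := by
    rw [← map_sum, h1]
    exact map_one e.symm
  have hmul : ∀ j, E j * ⟨s, hs⟩ = v j • E j := by
    intro j
    apply e.injective
    rw [map_mul, map_smul, e.apply_symm_apply]
    ext i
    by_cases hij : i = j
    · subst hij
      simp [v]
    · simp [Pi.single_apply, hij]
  have hex : ∃ j, B.val (E j) ∉ I := by
    by_contra hall
    push Not at hall
    apply hI
    rw [Ideal.eq_top_iff_one]
    have h2 : (1 : A) = ∑ j, B.val (E j) := by
      rw [← map_sum, hsum, map_one]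
    rw [h2]
    exact Ideal.sum_mem I (fun j _ => hall j)
  obtain ⟨j, hj⟩ := hex
  refine ⟨v j, 1, B.val (E j), hj, ?_, ?_⟩
  · rw [map_one]
    exact fun h => hI ((Ideal.eq_top_iff_one _).mpr h)
  · have h3 := congrArg B.val (hmul j)
    rw [map_mul, map_smul] at h3
    have h4 : B.val ⟨s, hs⟩ = s := rfl
    rw [h4] at h3
    rw [map_one, mul_one, h3, Algebra.smul_def, mul_comm]

theorem main_S7460 (k : Type u) [Field k] (A : Type u) [CommRing A] [Algebra k A]
    (hA : ∀ s : Finset A, ∃ (B : Subalgebra k A) (n : ℕ), (↑s : Set A) ⊆ (B : Set A) ∧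
      Nonempty (B ≃ₐ[k] (Fin n → k)))
    (X : Scheme.{u}) (f : X ⟶ Spec (CommRingCat.of k)) :
    IsHomeomorph (fun p : ↑(pullback (Spec.map (CommRingCat.ofHom (algebraMap k A))) f) =>
      (pullback.fst (Spec.map (CommRingCat.ofHom (algebraMap k A))) f p,
        pullback.snd (Spec.map (CommRingCat.ofHom (algebraMap k A))) f p)) := by
  set ι := Spec.map (CommRingCat.ofHom (algebraMap k A)) with hι
  haveI : SurjectiveOnStalks ι := by
    rw [hι, SurjectiveOnStalks.Spec_iff]
    exact surjectiveOnStalks_algebraMap k A hA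
  have hemb := SurjectiveOnStalks.isEmbedding_pullback f ι
  rw [isHomeomorph_iff_isEmbedding_surjective]
  constructor
  · have h1 := ((Homeomorph.prodComm ↥X ↥(Spec (CommRingCat.of A))).isEmbedding.comp hemb).comp
      (Scheme.homeoOfIso (pullbackSymmetry ι f)).isEmbedding
    convert h1 using 1
    funext p
    have e1 : pullback.fst f ι ((pullbackSymmetry ι f).hom p) = pullback.snd ι f p := by
      rw [← Scheme.Hom.comp_apply, pullbackSymmetry_hom_comp_fst]
    have e2 : pullback.snd f ι ((pullbackSymmetry ι f).hom p) = pullback.fst ι f p := by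
      rw [← Scheme.Hom.comp_apply, pullbackSymmetry_hom_comp_snd]
    simp only [Function.comp_apply, Scheme.coe_homeoOfIso, Homeomorph.coe_prodComm,
      Prod.swap_prod_mk, e1, e2]
  · rintro ⟨a, x⟩
    haveI : Subsingleton ↥(Spec (CommRingCat.of k)) :=
      inferInstanceAs (Subsingleton (PrimeSpectrum k))
    have h : ι a = f x := Subsingleton.elim _ _
    obtain ⟨z, hz1, hz2⟩ := Scheme.Pullback.exists_preimage_pullback (f := ι) (g := f) a x h
    exact ⟨z, Prod.ext hz1 hz2⟩

end Groth.Agent.Helper3.SurjStalkProd
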