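import Mathlib

set_option autoImplicit false

namespace Groth.Agent.Helper3.SymCoc

universe u

variable (P : Type u) [AddCommGroup P]

/-- augmentation -/
noncomputable def eps : (P →₀ ℤ) →ₗ[ℤ] P := Finsupp.linearCombination ℤ (fun p : P => p)

noncomputable def d0 : (P × P →₀ ℤ) →ₗ[ℤ] (P →₀ ℤ) := Finsupp.linearCombination ℤ
  (fun pq : P × P => Finsupp.single (pq.1 + pq.2) 1 - Finsupp.single pq.1 1 - Finsupp.single pq.2 1)

noncomputable def d1 : (P × P × P →₀ ℤ) →ₗ[ℤ] (P × P →₀ ℤ) := Finsupp.linearCombination ℤ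
  (fun t : P × P × P => Finsupp.single (t.1 + t.2.1, t.2.2) 1 - Finsupp.single (t.1, t.2.1 + t.2.2) 1
    + Finsupp.single (t.1, t.2.1) 1 - Finsupp.single (t.2.1, t.2.2) 1)

noncomputable def d1' : (P × P →₀ ℤ) →ₗ[ℤ] (P × P →₀ ℤ) := Finsupp.linearCombination ℤ
  (fun pq : P × P => Finsupp.single pq 1 - Finsupp.single (pq.2, pq.1) 1)

theorem eps_single (p : P) : eps P (Finsupp.single p 1) = p := by
  simp [eps]

theorem d0_single (p q : P) : d0 P (Finsupp.single (p, q) 1) =
    Finsupp.single (p + q) 1 - Finsupp.single p 1 - Finsupp.single q 1 := by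
  simp [d0]

theorem d1_single (p q r : P) : d1 P (Finsupp.single (p, q, r) 1) =
    Finsupp.single (p + q, r) 1 - Finsupp.single (p, q + r) 1
      + Finsupp.single (p, q) 1 - Finsupp.single (q, r) 1 := by
  simp [d1]

theorem d1'_single (p q : P) : d1' P (Finsupp.single (p, q) 1) =
    Finsupp.single (p, q) 1 - Finsupp.single (q, p) 1 := by
  simp [d1']

theorem eps_surjective : Function.Surjective (eps P) := fun p => ⟨_, eps_single P p⟩

theorem eps_comp_d0 : (eps P).comp (d0 P) = 0 := by
  apply Finsupp.lhom_ext'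
  rintro ⟨p, q⟩
  apply LinearMap.ext_ring
  simp only [LinearMap.comp_apply, Finsupp.lsingle_apply, d0_single, map_sub, eps_single,
    LinearMap.zero_apply]
  abel

/-- H₀ -/
theorem ker_eps : LinearMap.ker (eps P) = LinearMap.range (d0 P) := by
  apply le_antisymm
  · intro z hz
    rw [LinearMap.mem_ker] at hz
    set G := (P →₀ ℤ) ⧸ LinearMap.range (d0 P) with hG
    -- the additive map P → G
    let ψ : P →+ G :=
      { toFun := fun p => Submodule.Quotient.mk (Finsupp.single p 1)
        map_zero' := by
          have h : Finsupp.single (0 : P) (1 : ℤ) = -(d0 P (Finsupp.single (0, 0) 1)) := by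
            rw [d0_single, add_zero]; abel
          rw [h, Submodule.Quotient.mk_neg, neg_eq_zero, Submodule.Quotient.mk_eq_zero]
          exact LinearMap.mem_range_self _ _
        map_add' := by
          intro p q
          rw [← Submodule.Quotient.mk_add, ← sub_eq_zero, ← Submodule.Quotient.mk_sub,
            Submodule.Quotient.mk_eq_zero]
          refine ⟨Finsupp.single (p, q) 1, ?_⟩
          rw [d0_single]; abel }
    have h1 : (ψ.toIntLinearMap).comp (eps P) = (LinearMap.range (d0 P)).mkQ := by
      apply Finsupp.lhom_ext'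
      intro p
      apply LinearMap.ext_ring
      simp only [LinearMap.comp_apply, Finsupp.lsingle_apply, eps_single]
      rfl
    have h2 := LinearMap.congr_fun h1 z
    rw [LinearMap.comp_apply, hz, map_zero] at h2
    exact (Submodule.Quotient.mk_eq_zero _).1 h2.symm
  · rintro _ ⟨z, rfl⟩
    rw [LinearMap.mem_ker]
    exact LinearMap.congr_fun (eps_comp_d0 P) z

/-- the relations -/
noncomputable def B : Submodule ℤ (P × P →₀ ℤ) := LinearMap.range (d1 P) ⊔ LinearMap.range (d1' P)

/-- the class of `[p, q]` -/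
noncomputable def br (p q : P) : (P × P →₀ ℤ) ⧸ B P := Submodule.Quotient.mk (Finsupp.single (p, q) 1)

theorem br_assoc (p q r : P) : br P p q + br P (p + q) r = br P q r + br P p (q + r) := by
  unfold br
  rw [← Submodule.Quotient.mk_add, ← Submodule.Quotient.mk_add, ← sub_eq_zero,
    ← Submodule.Quotient.mk_sub, Submodule.Quotient.mk_eq_zero]
  apply Submodule.mem_sup_left
  refine ⟨Finsupp.single (p, q, r) 1, ?_⟩
  rw [d1_single]; abel

theorem br_comm (p q : P) : br P p q = br P q p := by
  unfold br
  rw [← sub_eq_zero, ← Submodule.Quotient.mk_sub, Submodule.Quotient.mk_eq_zero]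
  apply Submodule.mem_sup_right
  exact ⟨Finsupp.single (p, q) 1, d1'_single P p q⟩

theorem br_zero_left (q : P) : br P 0 q = br P 0 0 := by
  have h := br_assoc P 0 0 q
  rw [add_zero, zero_add] at h
  exact (add_right_cancel h).symm

theorem br_zero_right (q : P) : br P q 0 = br P 0 0 := by
  rw [br_comm, br_zero_left]

/-- the extension of `P` by the quotient defined by the universal symmetric cocycle -/
structure Ext where
  f : (P × P →₀ ℤ) ⧸ B P
  p : P

variable {P}

@[ext] theorem Ext.ext' {x y : Ext P} (h1 : x.f = y.f) (h2 : x.p = y.p) : x = y := by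
  cases x; cases y; simp_all

noncomputable instance : Add (Ext P) := ⟨fun x y => ⟨x.f + y.f + br P x.p y.p, x.p + y.p⟩⟩
noncomputable instance : Zero (Ext P) := ⟨⟨-br P 0 0, 0⟩⟩
noncomputable instance : Neg (Ext P) := ⟨fun x => ⟨-x.f - br P x.p (-x.p) - br P 0 0, -x.p⟩⟩

theorem Ext.add_assoc' (x y z : Ext P) : x + y + z = x + (y + z) := by
  apply Ext.ext'
  · show x.f + y.f + br P x.p y.p + z.f + br P (x.p + y.p) z.p =
      x.f + (y.f + z.f + br P y.p z.p) + br P x.p (y.p + z.p)
    have h := br_assoc P x.p y.p z.p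
    have e1 : x.f + y.f + br P x.p y.p + z.f + br P (x.p + y.p) z.p =
        (x.f + y.f + z.f) + (br P x.p y.p + br P (x.p + y.p) z.p) := by abel
    have e2 : x.f + (y.f + z.f + br P y.p z.p) + br P x.p (y.p + z.p) =
        (x.f + y.f + z.f) + (br P y.p z.p + br P x.p (y.p + z.p)) := by abel
    rw [e1, e2, h]
  · exact add_assoc _ _ _

theorem Ext.zero_add' (x : Ext P) : 0 + x = x := by
  apply Ext.ext'
  · show -br P 0 0 + x.f + br P 0 x.p = x.f
    rw [br_zero_left P x.p]; abel
  · exact zero_add _

theorem Ext.neg_add_cancel' (x : Ext P) : -x + x = 0 := by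
  apply Ext.ext'
  · show -x.f - br P x.p (-x.p) - br P 0 0 + x.f + br P (-x.p) x.p = -br P 0 0
    rw [br_comm P (-x.p) x.p]; abel
  · exact neg_add_cancel _

theorem Ext.add_comm' (x y : Ext P) : x + y = y + x := by
  apply Ext.ext'
  · show x.f + y.f + br P x.p y.p = y.f + x.f + br P y.p x.p
    rw [br_comm P x.p y.p]; abel
  · exact add_comm _ _

noncomputable instance : AddCommGroup (Ext P) :=
  { AddGroup.ofLeftAxioms Ext.add_assoc' Ext.zero_add' Ext.neg_add_cancel' with
    add_comm := Ext.add_comm' }

theorem Ext.add_f (x y : Ext P) : (x + y).f = x.f + y.f + br P x.p y.p := rfl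
theorem Ext.add_p (x y : Ext P) : (x + y).p = x.p + y.p := rfl
theorem Ext.zero_f : (0 : Ext P).f = -br P 0 0 := rfl
theorem Ext.zero_p : (0 : Ext P).p = 0 := rfl

variable (P)

/-- the inclusion of the kernel -/
noncomputable def iota : ((P × P →₀ ℤ) ⧸ B P) →+ Ext P where
  toFun f := ⟨f - br P 0 0, 0⟩
  map_zero' := by
    apply Ext.ext'
    · show (0 : (P × P →₀ ℤ) ⧸ B P) - br P 0 0 = -br P 0 0
      abel
    · rfl
  map_add' f g := by
    apply Ext.ext'
    · show f + g - br P 0 0 = f - br P 0 0 + (g - br P 0 0) + br P 0 0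
      abel
    · show (0 : P) = 0 + 0
      rw [add_zero]

theorem iota_injective : Function.Injective (iota P) := by
  intro f g h
  have := congrArg Ext.f h
  exact sub_left_injective this

/-- the section on generators -/
noncomputable def sec (p : P) : Ext P := ⟨0, p⟩

theorem sec_add (p q : P) : sec P p + sec P q = iota P (br P p q) + sec P (p + q) := by
  apply Ext.ext'
  · show (0 : (P × P →₀ ℤ) ⧸ B P) + 0 + br P p q = br P p q - br P 0 0 + 0 + br P 0 (p + q)
    rw [br_zero_left P (p + q)]; abel
  · show p + q = 0 + (p + q)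
    rw [zero_add]

/-- the lift of the section to the free group -/
noncomputable def phi : (P →₀ ℤ) →+ Ext P := Finsupp.liftAddHom fun p => (zmultiplesHom (Ext P)) (sec P p)

theorem phi_single (p : P) : phi P (Finsupp.single p 1) = sec P p := by
  simp [phi]

theorem phi_d0 (z : P × P →₀ ℤ) : phi P (d0 P z) = -iota P (Submodule.Quotient.mk z) := by
  have h : (phi P).comp (d0 P).toAddMonoidHom =
      -((iota P).comp ((B P).mkQ).toAddMonoidHom) := by
    apply Finsupp.addHom_ext
    rintro ⟨p, q⟩ n
    have hn : Finsupp.single (p, q) n = n • Finsupp.single (p, q) (1 : ℤ) := by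
      rw [Finsupp.smul_single, smul_eq_mul, mul_one]
    rw [hn, map_zsmul, map_zsmul]
    congr 1
    simp only [AddMonoidHom.comp_apply, LinearMap.toAddMonoidHom_coe, AddMonoidHom.neg_apply,
      d0_single, map_sub, phi_single, Submodule.mkQ_apply]
    have := sec_add P p q
    show sec P (p + q) - sec P p - sec P q = -iota P (br P p q)
    rw [sub_sub, this]; abel
  exact DFunLike.congr_fun h z

/-- H₁ -/
theorem ker_d0 : LinearMap.ker (d0 P) = LinearMap.range (d1 P) ⊔ LinearMap.range (d1' P) := by
  apply le_antisymm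
  · intro z hz
    rw [LinearMap.mem_ker] at hz
    have h := phi_d0 P z
    rw [hz, map_zero, zero_eq_neg] at h
    have h2 : (Submodule.Quotient.mk z : (P × P →₀ ℤ) ⧸ B P) = 0 :=
      iota_injective P (h.trans (map_zero _).symm)
    exact (Submodule.Quotient.mk_eq_zero _).1 h2
  · apply sup_le
    · rintro _ ⟨t, rfl⟩
      rw [LinearMap.mem_ker]
      have h : (d0 P).comp (d1 P) = 0 := by
        apply Finsupp.lhom_ext'
        rintro ⟨p, q, r⟩
        apply LinearMap.ext_ring
        simp only [LinearMap.comp_apply, Finsupp.lsingle_apply, d1_single, map_sub, map_add,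
          d0_single, LinearMap.zero_apply]
        rw [add_assoc p q r]
        abel
      exact LinearMap.congr_fun h t
    · rintro _ ⟨t, rfl⟩
      rw [LinearMap.mem_ker]
      have h : (d0 P).comp (d1' P) = 0 := by
        apply Finsupp.lhom_ext'
        rintro ⟨p, q⟩
        apply LinearMap.ext_ring
        simp only [LinearMap.comp_apply, Finsupp.lsingle_apply, d1'_single, map_sub,
          d0_single, LinearMap.zero_apply]
        rw [add_comm q p]
        abel
      exact LinearMap.congr_fun h t

end Groth.Agent.Helper3.SymCoc
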