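import Mathlib
import Groth.Prelude.Def_OmegaPn
import Groth.Prelude.Def_RelSpec
import Groth.Prelude.Def_Coh
import Groth.Agent.Lib.Lead.OmU5
import Groth.Agent.Lib.Lead.OmU11b
import Groth.Agent.Lib.Lead.OmU13b
import Groth.Agent.Lib.Lead.QcIso
import Groth.Agent.Lib.Lead.BCU3
import Groth.Agent.Lib.Helper1.SymCmp
import Groth.Agent.Lib.Helper1.RelSpecGamma

/-!
# The sheaf of differentials of a vector bundle `V(E) = Spec Sym(E)`

For a quasi-coherent `E` on `S` with symmetric algebra `A` and `p : X = Spec A ⟶ S`, the canonical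
map `p^* E ⟶ Ω_{X/S}` is an isomorphism.
-/

set_option autoImplicit false
set_option backward.isDefEq.respectTransparency.types false
set_option linter.style.haveILetI false
set_option linter.unusedSectionVars false
set_option synthInstance.maxHeartbeats 400000
set_option maxHeartbeats 4000000

universe u
open CategoryTheory CategoryTheory.Limits AlgebraicGeometry TopologicalSpace Opposite

namespace Groth.Agent.Helper3.SymOm

open OmegaSh Groth.Agent.Lead.DerU Groth.Agent.Lead.OmU Groth.Agent.Lead.BCU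

section AlgK

variable {R B Ω Q : Type u} [CommRing R] [CommRing B] [Algebra R B] [AddCommGroup Ω] [Module B Ω]
  [AddCommGroup Q] [Module B Q]
  (dΩ : B →+ Ω) (sk : Ω ≃ₗ[B] Ω[B⁄R]) (hsk : ∀ b, sk (dΩ b) = KaehlerDifferential.D R B b)

include hsk in
theorem span_of_sk : Submodule.span B (Set.range dΩ) = ⊤ := by
  have h1 := KaehlerDifferential.span_range_derivation (R := R) (S := B)
  rw [eq_top_iff]
  intro ω _
  have h2 : sk ω ∈ Submodule.span B (Set.range (KaehlerDifferential.D R B)) := by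
    rw [h1]
    exact Submodule.mem_top
  have h3 : ∀ z ∈ Submodule.span B (Set.range (KaehlerDifferential.D R B)),
      sk.symm z ∈ Submodule.span B (Set.range dΩ) := by
    intro z hz
    induction hz using Submodule.span_induction with
    | mem z hz =>
      obtain ⟨s, rfl⟩ := hz
      rw [← hsk, LinearEquiv.symm_apply_apply]
      exact Submodule.subset_span ⟨s, rfl⟩
    | zero =>
      rw [map_zero]
      exact Submodule.zero_mem _
    | add x y _ _ hx hy =>
      rw [map_add]
      exact Submodule.add_mem _ hx hy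
    | smul a x _ hx =>
      rw [map_smul]
      exact Submodule.smul_mem _ a hx
  have h4 := h3 _ h2
  rwa [LinearEquiv.symm_apply_apply] at h4

include hsk in
theorem univ_of_sk (D : B →+ Q) (hDmul : ∀ a b : B, D (a * b) = a • D b + b • D a)
    (hDα : ∀ r : R, D (algebraMap R B r) = 0) : ∃ g : Ω →ₗ[B] Q, ∀ b, g (dΩ b) = D b := by
  letI modRQ : Module R Q := Module.compHom Q (algebraMap R B)
  haveI : IsScalarTower R B Q := IsScalarTower.of_compHom R B Q
  let D' : Derivation R B Q :=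
    Derivation.mk'
      { toFun := D
        map_add' := map_add D
        map_smul' := fun a b => by
          change D (a • b) = algebraMap R B a • D b
          rw [Algebra.smul_def, hDmul, hDα, smul_zero, add_zero] }
      hDmul
  refine ⟨D'.liftKaehlerDifferential.comp sk.toLinearMap, fun b => ?_⟩
  change D'.liftKaehlerDifferential (sk (dΩ b)) = D b
  rw [hsk, Derivation.liftKaehlerDifferential_comp_D]
  rfl

end AlgK

section AlgSym

variable {R B M Q Ω : Type u} [CommRing R] [CommRing B]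
  [AddCommGroup M] [Module R M] [AddCommGroup Q] [Module B Q] [AddCommGroup Ω] [Module B Ω]

/-- the opposite module structure (local). -/
@[reducible] noncomputable def opMod : Module Bᵐᵒᵖ Q :=
  Module.compHom Q ((RingHom.id B).fromOpposite (fun _ _ => mul_comm _ _))

attribute [local instance] opMod

theorem centralOp : IsCentralScalar B Q := ⟨fun _ _ => rfl⟩

attribute [local instance] centralOp

/-- **differentials of a symmetric algebra**: `Ω_{Sym_R(M)/R} = Sym_R(M) ⊗_R M`. -/
theorem bijective_sym (α : R →+* B)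
    (c : SymmetricAlgebra R M ≃+* B)
    (hc1 : ∀ r : R, c (algebraMap R (SymmetricAlgebra R M) r) = α r)
    (ιB : M → B) (hc2 : ∀ m : M, c (SymmetricAlgebra.ι R M m) = ιB m)
    (l : M → Q) (hl : IsBC α l)
    (dΩ : B →+ Ω) (hdmul : ∀ a b : B, dΩ (a * b) = a • dΩ b + b • dΩ a)
    (hdα : ∀ r : R, dΩ (α r) = 0)
    (hspan : Submodule.span B (Set.range dΩ) = ⊤)
    (huniv : ∀ D : B →+ Q, (∀ a b : B, D (a * b) = a • D b + b • D a) → (∀ r : R, D (α r) = 0) →
      ∃ g : Ω →ₗ[B] Q, ∀ b : B, g (dΩ b) = D b)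
    (φ : Q →ₗ[B] Ω) (hφ : ∀ m : M, φ (l m) = dΩ (ιB m)) :
    Function.Bijective φ := by
  letI algRB : Algebra R B := α.toAlgebra
  letI modRQ : Module R Q := Module.compHom Q α
  haveI towRBQ : IsScalarTower R B Q := ⟨fun a b q => by
    change (α a * b) • q = α a • b • q
    exact mul_smul _ _ _⟩
  obtain ⟨l', hl', hbl⟩ := hl
  haveI towROp : IsScalarTower R Bᵐᵒᵖ Q := ⟨fun r b q => by
    change (α r * b.unop) • q = α r • (b.unop • q)
    exact mul_smul _ _ _⟩
  have hιB_smul : ∀ (r : R) (m : M), ιB (r • m) = α r * ιB m := by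
    intro r m
    rw [← hc2, ← hc2, (SymmetricAlgebra.ι R M).map_smul, Algebra.smul_def, map_mul, hc1]
  let lamM : M →ₗ[R] TrivSqZeroExt B Q :=
    { toFun := fun m => (ιB m, l' m)
      map_add' := fun m₁ m₂ => by
        apply TrivSqZeroExt.ext
        · change ιB (m₁ + m₂) = ιB m₁ + ιB m₂
          rw [← hc2, ← hc2, ← hc2, map_add, map_add]
        · change l' (m₁ + m₂) = l' m₁ + l' m₂
          exact map_add _ _ _
      map_smul' := fun r m => by
        apply TrivSqZeroExt.ext
        · change ιB (r • m) = α r * ιB m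
          exact hιB_smul r m
        · change l' (r • m) = r • l' m
          exact l'.map_smul r m }
  let F : SymmetricAlgebra R M →ₐ[R] TrivSqZeroExt B Q := SymmetricAlgebra.lift lamM
  have hFι : ∀ m, F (SymmetricAlgebra.ι R M m) = lamM m :=
    fun m => SymmetricAlgebra.lift_ι_apply lamM m
  have hFalg : ∀ r : R, F (algebraMap R _ r) = TrivSqZeroExt.inl (α r) := fun r => F.commutes r
  have hFfst : ∀ s : SymmetricAlgebra R M, (F s).fst = c s := by
    intro s
    induction s using SymmetricAlgebra.induction with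
    | algebraMap r =>
      rw [hFalg, hc1]
      rfl
    | ι m =>
      rw [hFι, hc2]
      rfl
    | mul a b ha hb => rw [map_mul, TrivSqZeroExt.fst_mul, ha, hb, map_mul]
    | add a b ha hb => rw [map_add, TrivSqZeroExt.fst_add, ha, hb, map_add]
  let Dq : B →+ Q :=
    { toFun := fun b => (F (c.symm b)).snd
      map_zero' := by
        rw [map_zero, map_zero]
        rfl
      map_add' := fun a b => by
        rw [map_add, map_add]
        rfl }
  have hDq : ∀ b, Dq b = (F (c.symm b)).snd := fun _ => rfl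
  have hfst : ∀ b : B, (F (c.symm b)).fst = b := fun b => by
    rw [hFfst, RingEquiv.apply_symm_apply]
  have hDmul : ∀ a b : B, Dq (a * b) = a • Dq b + b • Dq a := by
    intro a b
    rw [hDq, map_mul, map_mul, TrivSqZeroExt.snd_mul, hfst, hfst]
    rfl
  have hDα : ∀ r : R, Dq (α r) = 0 := by
    intro r
    have h1 : c.symm (α r) = algebraMap R (SymmetricAlgebra R M) r := by
      rw [RingEquiv.symm_apply_eq, hc1]
    rw [hDq, h1, hFalg]
    rfl
  have hDι : ∀ m : M, Dq (ιB m) = l m := by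
    intro m
    have h1 : c.symm (ιB m) = SymmetricAlgebra.ι R M m := by
      rw [RingEquiv.symm_apply_eq, hc2]
    rw [hDq, h1, hFι, ← hl']
    rfl
  obtain ⟨g, hg⟩ := huniv Dq hDmul hDα
  constructor
  · have hcomp : g.comp φ = LinearMap.id := by
      apply hbl.algHom_ext
      intro m
      change g (φ (l' m)) = l' m
      rw [hl', hφ, hg, hDι]
    have e1 : ∀ q, g (φ q) = q := fun q => LinearMap.congr_fun hcomp q
    intro q₁ q₂ h
    have h1 := congrArg g h
    rw [e1, e1] at h1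
    exact h1
  · have hmem : ∀ s : SymmetricAlgebra R M, dΩ (c s) ∈ LinearMap.range φ := by
      intro s
      induction s using SymmetricAlgebra.induction with
      | algebraMap r =>
        rw [hc1, hdα]
        exact Submodule.zero_mem _
      | ι m =>
        rw [hc2, ← hφ]
        exact LinearMap.mem_range_self φ (l m)
      | mul a b ha hb =>
        rw [map_mul, hdmul]
        exact Submodule.add_mem _ (Submodule.smul_mem _ _ hb) (Submodule.smul_mem _ _ ha)
      | add a b ha hb =>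
        rw [map_add, map_add]
        exact Submodule.add_mem _ ha hb
    have hle : Submodule.span B (Set.range dΩ) ≤ LinearMap.range φ := by
      rw [Submodule.span_le]
      rintro _ ⟨b, rfl⟩
      have := hmem (c.symm b)
      rwa [RingEquiv.apply_symm_apply] at this
    rw [hspan] at hle
    intro ω
    exact LinearMap.mem_range.1 (hle Submodule.mem_top)

end AlgSym

section SchSym

variable {S : Scheme.{u}} (E : S.Modules) (hE : Coh.IsQCoh E)
    (A : RelSpec.QCAlg S) (j : E ⟶ A.toModule) (hA : RelSpec.IsSymAlg E A j)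
    (Ω' : A.spec.Modules) (d : OmegaSh.Der A.π Ω') (hd : OmegaSh.IsUniversal d)
    (φ : (Scheme.Modules.pullback A.π).obj E ⟶ Ω')
    (hφ : ∀ (U : S.Opens) (t : Γ(E, U)) (t' : Γ(A.spec, A.π ⁻¹ᵁ U)),
      A.gammaMap.app (op U) t' = j.app U t →
        φ.app (A.π ⁻¹ᵁ U) (OmegaSh.pullSect A.π E U t) = d.app (A.π ⁻¹ᵁ U) t')

include hE hA hd hφ in
theorem φ_bijective_chart_sym (U : S.Opens) (hU : IsAffineOpen U) :
    Function.Bijective (φ.app (A.π ⁻¹ᵁ U)) := by
  haveI : E.IsQuasicoherent := hE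
  have hU' : IsAffineOpen (A.π ⁻¹ᵁ U) := hU.preimage A.π
  have e : A.π ⁻¹ᵁ U ≤ A.π ⁻¹ᵁ U := le_rfl
  letI algRB := (A.π.appLE U (A.π ⁻¹ᵁ U) e).hom.toAlgebra
  obtain ⟨c0, hc01, hc02⟩ := Groth.Agent.Helper1.SymAlg.exists_ringEquiv E hA U hU
  haveI := Groth.Agent.Helper1.RelSpecGamma.isIso_gammaAff A U hU
  let γ : Γ(A.spec, A.π ⁻¹ᵁ U) ≃+* A.presheaf.obj (op U) :=
    (asIso (A.gammaAff U hU)).commRingCatIsoToRingEquiv
  have hγ : ∀ x, γ x = (A.gammaAff U hU).hom x := fun _ => rfl
  have happ : A.π.appLE U (A.π ⁻¹ᵁ U) e = A.π.app U := Scheme.Hom.appLE_eq_app A.π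
  have hγπ : ∀ r : Γ(S, U),
      γ ((A.π.appLE U (A.π ⁻¹ᵁ U) e).hom r) = (A.str.app (op U)).hom r := by
    intro r
    rw [happ, hγ]
    have h1 := A.π_app_gammaAff U hU
    exact ConcreteCategory.congr_hom h1 r
  let c : SymmetricAlgebra Γ(S, U) Γ(E, U) ≃+* Γ(A.spec, A.π ⁻¹ᵁ U) := c0.trans γ.symm
  have hc1 : ∀ r : Γ(S, U), c (algebraMap Γ(S, U) (SymmetricAlgebra Γ(S, U) Γ(E, U)) r) =
      (A.π.appLE U (A.π ⁻¹ᵁ U) e).hom r := by
    intro r
    change γ.symm (c0 _) = _
    rw [hc01, RingEquiv.symm_apply_eq, hγπ]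
  let ιB : Γ(E, U) → Γ(A.spec, A.π ⁻¹ᵁ U) := fun m =>
    γ.symm (show A.presheaf.obj (op U) from j.app U m)
  have hc2 : ∀ m : Γ(E, U), c (SymmetricAlgebra.ι Γ(S, U) Γ(E, U) m) = ιB m := by
    intro m
    change γ.symm (c0 _) = γ.symm _
    rw [hc02]
  have hbc := isBC_unitRes A.π E hU hU' e
  let dΩ : Γ(A.spec, A.π ⁻¹ᵁ U) →+ Γ(Ω', A.π ⁻¹ᵁ U) := d.app (A.π ⁻¹ᵁ U)
  have hdmul : ∀ a b, dΩ (a * b) = a • dΩ b + b • dΩ a := fun a b => der_mul d _ a b
  have hdα : ∀ r : Γ(S, U), dΩ ((A.π.appLE U (A.π ⁻¹ᵁ U) e).hom r) = 0 :=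
    fun r => der_appLE d e r
  let sk := sectionsKaehler A.π d hd hU' hU e
  have hsk : ∀ s, sk (dΩ s) = KaehlerDifferential.D Γ(S, U) Γ(A.spec, A.π ⁻¹ᵁ U) s :=
    fun s => sectionsKaehler_d A.π d hd hU' hU e s
  have hspan : Submodule.span Γ(A.spec, A.π ⁻¹ᵁ U) (Set.range dΩ) = ⊤ := span_of_sk dΩ sk hsk
  let φlin : Γ((Scheme.Modules.pullback A.π).obj E, A.π ⁻¹ᵁ U) →ₗ[Γ(A.spec, A.π ⁻¹ᵁ U)]
      Γ(Ω', A.π ⁻¹ᵁ U) :=
    { toFun := fun t => φ.app (A.π ⁻¹ᵁ U) t
      map_add' := fun x y => map_add _ x y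
      map_smul' := fun r x => by
        rw [Scheme.Modules.Hom.app_smul]
        rfl }
  have hφ' : ∀ m : Γ(E, U), φlin (unitRes A.π E e m) = dΩ (ιB m) := by
    intro m
    rw [unitRes_self]
    change φ.app (A.π ⁻¹ᵁ U) (pullSect A.π E U m) = d.app (A.π ⁻¹ᵁ U) (ιB m)
    apply hφ U m (ιB m)
    rw [A.gammaMap_app U hU]
    change γ (γ.symm _) = _
    rw [RingEquiv.apply_symm_apply]
  exact bijective_sym (A.π.appLE U (A.π ⁻¹ᵁ U) e).hom c hc1 ιB hc2 (unitRes A.π E e) hbc dΩ
    hdmul hdα hspan (fun D h1 h2 => univ_of_sk dΩ sk hsk D h1 h2) φlin hφ'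

include hE hA hd hφ in
/-- **The sheaf of differentials of a vector bundle.** -/
theorem isIso_sym : IsIso φ := by
  haveI : E.IsQuasicoherent := hE
  haveI : ((Scheme.Modules.pullback A.π).obj E).IsQuasicoherent :=
    Groth.Agent.Lead.PB.isQuasicoherent_pullback _ _
  haveI : Ω'.IsQuasicoherent := isQuasicoherent_of_universal d hd
  apply Groth.Agent.Lead.QcIso.isIso_of_bijective_affine
  intro x
  obtain ⟨_, ⟨V, hV, rfl⟩, hxV, -⟩ := S.isBasis_affineOpens.exists_subset_of_mem_open
    (Set.mem_univ (A.π.base x)) isOpen_univ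
  exact ⟨A.π ⁻¹ᵁ V, hV.preimage A.π, hxV,
    φ_bijective_chart_sym E hE A j hA Ω' d hd φ hφ V hV⟩

end SchSym

end Groth.Agent.Helper3.SymOm
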