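import Mathlib
import Groth.Prelude
import Groth.Agent.Lib.Lead.SyntCI1
import Groth.Agent.Lib.Lead.SyntBC2
import Groth.Agent.Lib.Helper2.Synt.CIOverFT

/-!
# Spreading out a complete intersection point of a fibre to a syntomic neighbourhood (helper3)

`A → B` flat of finite presentation, `p` a prime of `A`, `Q'` a prime of the fibre ring
`κ(p) ⊗_A B` whose local ring is a complete intersection.  Then there is `g : B`, not vanishing
at `Q'`, with `A → B_g` syntomic.
-/

set_option backward.isDefEq.respectTransparency.types false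
set_option autoImplicit false
set_option synthInstance.maxHeartbeats 400000
set_option maxHeartbeats 1000000
set_option linter.style.haveILetI false
set_option linter.unusedSectionVars false
set_option linter.unusedVariables false
universe u

namespace Groth.Agent.Helper3.SyntFibA

open TensorProduct Groth.Agent.Helper2.Synt

theorem exists_away_isSyntomic_of_ci_fibre (A B : Type u) [CommRing A] [CommRing B] [Algebra A B]
    [Module.Flat A B] [Algebra.FinitePresentation A B] (p : Ideal A) [p.IsPrime]
    (Q' : Ideal (p.Fiber B)) [Q'.IsPrime]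
    (h : Pi1.IsCompleteIntersection (Localization.AtPrime Q')) :
    ∃ g : B, (1 : p.ResidueField) ⊗ₜ[A] g ∉ Q' ∧
      _root_.Synt.IsSyntomic A (Localization.Away g) := by
  classical
  haveI hQ'prime : Q'.IsPrime := inferInstance
  haveI : Algebra.FiniteType A B := inferInstance
  haveI : Algebra.FiniteType p.ResidueField (p.Fiber B) := inferInstance
  -- step 1: a principal open of the fibre which is a global complete intersection
  have hCI : _root_.Synt.IsCIOver p.ResidueField (Localization.AtPrime Q') :=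
    (Groth.Agent.Lead.SyntCI.isCIOver_atPrime_iff_ci p.ResidueField (p.Fiber B) Q').mpr h
  obtain ⟨g', hg'Q, hg'CI⟩ :=
    (isCIOver_atPrime_iff_exists_away_of_finiteType p.ResidueField (p.Fiber B) Q').mp hCI
  -- step 2: up to a unit, `g'` is of the form `1 ⊗ b`
  obtain ⟨r, hr, b, hrb⟩ := Ideal.Fiber.exists_smul_eq_one_tmul (p := p) g'
  have hu : IsUnit (algebraMap A p.ResidueField r) := by
    rw [isUnit_iff_ne_zero, Ne, Ideal.algebraMap_residueField_eq_zero]
    exact hr
  have hu' : IsUnit (algebraMap A (p.Fiber B) r) := by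
    rw [IsScalarTower.algebraMap_apply A p.ResidueField (p.Fiber B)]
    exact hu.map _
  have hrb' : algebraMap A (p.Fiber B) r * g' = (1 : p.ResidueField) ⊗ₜ[A] b := by
    rw [← Algebra.smul_def]
    exact hrb
  have hassoc : Associated g' ((1 : p.ResidueField) ⊗ₜ[A] b) := by
    refine ⟨hu'.unit, ?_⟩
    rw [IsUnit.unit_spec, mul_comm]
    exact hrb'
  have hbQ : (1 : p.ResidueField) ⊗ₜ[A] b ∉ Q' := by
    intro hmem
    rw [← hrb'] at hmem
    rcases Ideal.IsPrime.mem_or_mem hQ'prime hmem with h1 | h1
    · exact hQ'prime.ne_top (Ideal.eq_top_of_isUnit_mem _ h1 hu')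
    · exact hg'Q h1
  haveI hloc : IsLocalization.Away ((1 : p.ResidueField) ⊗ₜ[A] b) (Localization.Away g') :=
    IsLocalization.Away.of_associated hassoc
  -- step 3: the base change of `B_b` to the residue field is syntomic
  let e0 : Localization.Away g' ≃ₐ[p.ResidueField]
      Localization.Away ((1 : p.ResidueField) ⊗ₜ[A] b) :=
    (IsLocalization.algEquiv (Submonoid.powers ((1 : p.ResidueField) ⊗ₜ[A] b))
      (Localization.Away g')
      (Localization.Away ((1 : p.ResidueField) ⊗ₜ[A] b))).restrictScalars p.ResidueField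
  obtain ⟨e1, he1⟩ : ∃ e1 : p.ResidueField ⊗[A] Localization.Away b ≃ₐ[p.ResidueField]
      Localization.Away ((1 : p.ResidueField) ⊗ₜ[A] b), ∀ (x : p.ResidueField) (a : B),
        e1 (x ⊗ₜ[A] algebraMap B (Localization.Away b) a) =
          algebraMap (p.Fiber B) (Localization.Away ((1 : p.ResidueField) ⊗ₜ[A] b))
            (x ⊗ₜ[A] a) :=
    ⟨IsLocalization.Away.tensorProductEquivTMulRight A p.ResidueField b (Localization.Away b),
      fun x a => IsLocalization.Away.tensorProductEquivTMulRight_tmul (R := A)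
        (S := p.ResidueField) (A := B) (g := b) (B := Localization.Away b) x a⟩
  have hsynt : _root_.Synt.IsSyntomic p.ResidueField
      (p.ResidueField ⊗[A] Localization.Away b) :=
    isSyntomic_of_algEquiv (e0.trans e1.symm)
      (isSyntomic_of_isGlobalCI p.ResidueField (Localization.Away g') hg'CI)
  -- step 4: descent of the syntomic locus
  haveI : Algebra.FinitePresentation B (Localization.Away b) :=
    IsLocalization.Away.finitePresentation b
  haveI : Algebra.FinitePresentation A (Localization.Away b) :=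
    Algebra.FinitePresentation.trans A B (Localization.Away b)
  haveI : Module.Flat B (Localization.Away b) :=
    IsLocalization.flat (Localization.Away b) (Submonoid.powers b)
  haveI : Module.Flat A (Localization.Away b) := Module.Flat.trans A B (Localization.Away b)
  have hdisj : Disjoint (Submonoid.powers ((1 : p.ResidueField) ⊗ₜ[A] b) : Set (p.Fiber B))
      (Q' : Set (p.Fiber B)) :=
    (Ideal.disjoint_powers_iff_notMem _ (Ideal.IsPrime.isRadical hQ'prime)).mpr hbQ
  obtain ⟨P, hPprime, hPmap⟩ : ∃ P : Ideal (Localization.Away ((1 : p.ResidueField) ⊗ₜ[A] b)),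
      P.IsPrime ∧ ∀ x ∈ Q',
        algebraMap (p.Fiber B) (Localization.Away ((1 : p.ResidueField) ⊗ₜ[A] b)) x ∈ P :=
    ⟨Q'.map (algebraMap (p.Fiber B) (Localization.Away ((1 : p.ResidueField) ⊗ₜ[A] b))),
      IsLocalization.isPrime_of_isPrime_disjoint
        (Submonoid.powers ((1 : p.ResidueField) ⊗ₜ[A] b)) _ Q' hQ'prime hdisj,
      fun x hx => Ideal.mem_map_of_mem _ hx⟩
  haveI := hPprime
  haveI hqprime : (P.comap e1.toAlgHom.toRingHom).IsPrime := Ideal.comap_isPrime _ _
  obtain ⟨g₁, hg₁q, hg₁S⟩ :=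
    Groth.Agent.Lead.SyntBC2.exists_away_isSyntomic_of_baseChange A (Localization.Away b)
      p.ResidueField hsynt (P.comap e1.toAlgHom.toRingHom)
  -- write `g₁ = b₁ / b ^ n`
  obtain ⟨n, b₁, hn⟩ := IsLocalization.Away.surj b g₁
  have hub : IsUnit (algebraMap B (Localization.Away b) b) :=
    IsLocalization.Away.algebraMap_isUnit b
  have hassoc2 : Associated (algebraMap B (Localization.Away b) b₁) g₁ := by
    refine Associated.symm ⟨(hub.pow n).unit, ?_⟩
    rw [IsUnit.unit_spec]
    exact hn
  haveI hloc2 : IsLocalization.Away (b * b₁) (Localization.Away g₁) :=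
    IsLocalization.Away.mul_of_associated b b₁ g₁ hassoc2
  let e2 : Localization.Away g₁ ≃ₐ[A] Localization.Away (b * b₁) :=
    (IsLocalization.algEquiv (Submonoid.powers (b * b₁)) (Localization.Away g₁)
      (Localization.Away (b * b₁))).restrictScalars A
  refine ⟨b * b₁, ?_, isSyntomic_of_algEquiv e2 hg₁S⟩
  intro hmem
  refine hg₁q (Ideal.mem_comap.mpr ?_)
  show e1 ((1 : p.ResidueField) ⊗ₜ[A] g₁) ∈ P
  have h1 : (1 : p.ResidueField) ⊗ₜ[A] (b * b₁) =
      ((1 : p.ResidueField) ⊗ₜ[A] b) * ((1 : p.ResidueField) ⊗ₜ[A] b₁) := by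
    rw [Algebra.TensorProduct.tmul_mul_tmul, one_mul]
  rw [h1] at hmem
  have hb₁ : (1 : p.ResidueField) ⊗ₜ[A] b₁ ∈ Q' :=
    (Ideal.IsPrime.mem_or_mem hQ'prime hmem).resolve_left hbQ
  have h2 := hPmap _ hb₁
  have h3 : e1 ((1 : p.ResidueField) ⊗ₜ[A] g₁) *
      (e1 ((1 : p.ResidueField) ⊗ₜ[A] algebraMap B (Localization.Away b) b)) ^ n =
      algebraMap (p.Fiber B) (Localization.Away ((1 : p.ResidueField) ⊗ₜ[A] b))
        ((1 : p.ResidueField) ⊗ₜ[A] b₁) := by
    calc e1 ((1 : p.ResidueField) ⊗ₜ[A] g₁) *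
          (e1 ((1 : p.ResidueField) ⊗ₜ[A] algebraMap B (Localization.Away b) b)) ^ n
        = e1 (((1 : p.ResidueField) ⊗ₜ[A] g₁) *
            ((1 : p.ResidueField) ⊗ₜ[A] algebraMap B (Localization.Away b) b) ^ n) := by
          rw [map_mul, map_pow]
      _ = e1 ((1 : p.ResidueField) ⊗ₜ[A]
            (g₁ * algebraMap B (Localization.Away b) b ^ n)) := by
          rw [Algebra.TensorProduct.tmul_pow, one_pow, Algebra.TensorProduct.tmul_mul_tmul,
            one_mul]
      _ = e1 ((1 : p.ResidueField) ⊗ₜ[A] algebraMap B (Localization.Away b) b₁) := by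
          rw [hn]
      _ = _ := he1 1 b₁
  rw [← h3] at h2
  rcases Ideal.IsPrime.mem_or_mem hPprime h2 with h4 | h4
  · exact h4
  · exfalso
    have h5 : IsUnit (e1 ((1 : p.ResidueField) ⊗ₜ[A] algebraMap B (Localization.Away b) b)) := by
      rw [he1 1 b]
      exact IsLocalization.Away.algebraMap_isUnit _
    exact hPprime.ne_top (Ideal.eq_top_of_isUnit_mem _ h4 (h5.pow n))

end Groth.Agent.Helper3.SyntFibA
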