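import Mathlib
import Groth.Prelude.Def_CotT
import Groth.Prelude.Def_ArtFun4
import Groth.Agent.Lib.Helper3.T1Tors6

/-! Extensions of an affine deformation over a semismall extension form a torsor under
`T¹(B₀/k, B₀ ⊗ J)`: the bijection (helper3). -/

set_option autoImplicit false
set_option linter.style.haveILetI false
set_option linter.unusedSectionVars false
universe u
open CategoryTheory CategoryTheory.Limits AlgebraicGeometry
open scoped TensorProduct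

namespace Groth.Agent.Helper3.T1Tors

section Sch

variable {k : Type u} [Field k] {B₀ : Type u} [CommRing B₀] [Algebra k B₀]
  {C' C : ArtFun.Art k k} (p : C' ⟶ C)
  {𝒳 : ArtFun.DefSch (Spec (CommRingCat.of B₀))
    (Spec.map (CommRingCat.ofHom (algebraMap k B₀))) C}
  {B : Type u} [CommRing B] [Algebra C B] (φ : 𝒳.total ≅ Spec (CommRingCat.of B))

theorem exists_of_isExt (ι₀ : B →+* B₀) (K : Ctx C.res C'.res p.toAlgHom ι₀)
    (hg : 𝒳.f = φ.hom ≫ Spec.map (CommRingCat.ofHom (algebraMap C B)))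
    (hi : 𝒳.i ≫ φ.hom = Spec.map (CommRingCat.ofHom ι₀))
    {B' : Type u} [CommRing B'] [Algebra C' B'] [Module.Flat C' B'] {α : B' →+* B}
    (hα : IsExt p.toAlgHom α) : ∃ a : Ext p 𝒳, HasAlg p φ a α := by
  have hkerι' := ker_comp_eq K hα
  have hpo1 : IsPushout (CommRingCat.ofHom (algebraMap C' B'))
      (CommRingCat.ofHom C'.res.toRingHom) (CommRingCat.ofHom (ι₀.comp α))
      (CommRingCat.ofHom (algebraMap k B₀)) := by
    refine T2Lift.isPushout_of_surjective C'.res.toRingHom C'.res_surjective (algebraMap C' B')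
      (ι₀.comp α) (K.hι.comp hα.surj) (algebraMap k B₀) ?_ hkerι'
    ext c
    show ι₀ (α (algebraMap C' B' c)) = algebraMap k B₀ (C'.res c)
    rw [hα.comp, K.hcomp, K.hep]
  have hpb1 := isPullback_SpecMap_of_isPushout _ _ _ _ hpo1
  have hpo2 : IsPushout (CommRingCat.ofHom (algebraMap C' B'))
      (CommRingCat.ofHom p.toAlgHom.toRingHom) (CommRingCat.ofHom α)
      (CommRingCat.ofHom (algebraMap C B)) := by
    refine T2Lift.isPushout_of_surjective p.toAlgHom.toRingHom K.hp (algebraMap C' B') α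
      hα.surj (algebraMap C B) ?_ hα.ker
    ext c
    exact hα.comp c
  have hpb2 : IsPullback (Spec.map (CommRingCat.ofHom α))
      (Spec.map (CommRingCat.ofHom (algebraMap C B)))
      (Spec.map (CommRingCat.ofHom (algebraMap C' B'))) (ArtFun.Art.specMap p) :=
    isPullback_SpecMap_of_isPushout _ _ _ _ hpo2
  have hja : Spec.map (CommRingCat.ofHom ι₀) ≫ Spec.map (CommRingCat.ofHom α) =
      Spec.map (CommRingCat.ofHom (ι₀.comp α)) := by
    rw [← Spec.map_comp]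
    rfl
  have hw : Spec.map (CommRingCat.ofHom (ι₀.comp α)) ≫
      Spec.map (CommRingCat.ofHom (algebraMap C' B')) =
      (Spec.map (CommRingCat.ofHom (algebraMap k B₀)) ≫ ArtFun.Art.specRes C) ≫
        ArtFun.Art.specMap p := by
    rw [Category.assoc, ArtFun.Art.specRes_comp]
    exact hpb1.w
  have key := T2Lift.iso_of_pullbacks (Spec.map (CommRingCat.ofHom (algebraMap C' B')))
    (ArtFun.Art.specMap p) (Spec.map (CommRingCat.ofHom α))
    (Spec.map (CommRingCat.ofHom (algebraMap C B))) hpb2 φ 𝒳.f hg 𝒳.i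
    (Spec.map (CommRingCat.ofHom (ι₀.comp α)))
    (Spec.map (CommRingCat.ofHom (algebraMap k B₀)) ≫ ArtFun.Art.specRes C)
    (Spec.map (CommRingCat.ofHom ι₀)) hi hja 𝒳.isPullback.w hw
  refine ⟨⟨T2Lift.mkDef B₀ C' B' (ι₀.comp α) hpb1,
    ⟨hpb2.isoPullback.symm ≪≫ φ.symm, key.1, key.2⟩⟩, Iso.refl _, ?_, ?_⟩
  · exact (Category.id_comp _).symm
  · show φ.inv ≫ (φ.hom ≫ hpb2.isoPullback.hom) ≫ pullback.fst _ _ ≫ 𝟙 _ = _
    rw [Category.comp_id, Category.assoc, Iso.inv_hom_id_assoc, hpb2.isoPullback_hom_fst]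

/-- the set of equivalence classes of extensions of an affine deformation is in bijection with
`T¹` -/
theorem main {ι σ : Type u} (P : Algebra.Presentation k B₀ ι σ)
    (hp : ArtFun.Art.IsSemismallExt p)
    (𝒳 : ArtFun.DefSch (Spec (CommRingCat.of B₀))
      (Spec.map (CommRingCat.ofHom (algebraMap k B₀))) C)
    (hne : ∃ 𝒳' : ArtFun.DefSch (Spec (CommRingCat.of B₀))
      (Spec.map (CommRingCat.ofHom (algebraMap k B₀))) C',
      Nonempty ((𝒳'.baseChange p).Iso 𝒳)) :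
    Nonempty (Quot (fun a b : (Σ 𝒳' : ArtFun.DefSch (Spec (CommRingCat.of B₀))
        (Spec.map (CommRingCat.ofHom (algebraMap k B₀))) C', (𝒳'.baseChange p).Iso 𝒳) =>
        ∃ ψ : a.1.Iso b.1, ((ψ.baseChange p).trans b.2).iso = a.2.iso) ≃
      CotT.T1 P (B₀ ⊗[k] ↥(RingHom.ker p.toAlgHom))) := by
  obtain ⟨B, _, _, φ, ι₀, hg, hi, hfl, hιs, hker, hcomp⟩ := affineData' C 𝒳
  haveI := hfl
  have hmJ : ∀ a j : C', C'.res a = 0 → p.toAlgHom j = 0 → a * j = 0 := by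
    intro a j ha hj
    have h1 : a ∈ IsLocalRing.maximalIdeal C' := (ArtFun.Art.mem_maximalIdeal_iff C' a).mpr ha
    have h2 : j ∈ RingHom.ker p.toAlgHom := hj
    have h3 := Ideal.mul_mem_mul h1 h2
    rw [hp.2] at h3
    exact h3
  have K : Ctx C.res C'.res p.toAlgHom ι₀ :=
    ⟨hp.1, fun a => ArtFun.Art.res_app p a, hmJ, RigidDef.ker_isNilpotent k C C.res,
      RigidDef.ker_isNilpotent k C' C'.res, hιs, hker, hcomp⟩
  obtain ⟨𝒳₀, ⟨θ₀⟩⟩ := hne
  obtain ⟨B₁, _, _, α₁, h₁⟩ := hasAlg_exists p φ (⟨𝒳₀, θ₀⟩ : Ext p 𝒳)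
  obtain ⟨hfl₁, hext₁⟩ := isExt_of_hasAlg p φ hp.1 hg _ h₁
  obtain ⟨Cl, R1, R2, R3, R4, R5⟩ := main_alg P K ⟨B₁, inferInstance, inferInstance, α₁,
    hfl₁, hext₁⟩
  have hΦ : ∀ a : Ext p 𝒳, ∃ t, ∀ (B' : Type u) [CommRing B'] [Algebra C' B']
      (α : B' →+* B), HasAlg p φ a α → Cl B' α t := by
    intro a
    obtain ⟨B', _, _, α, h⟩ := hasAlg_exists p φ a
    obtain ⟨hfl', hext⟩ := isExt_of_hasAlg p φ hp.1 hg a h
    obtain ⟨t, ht⟩ := R1 B' α hfl' hext
    refine ⟨t, fun B'' _ _ α'' h'' => ?_⟩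
    obtain ⟨hfl'', hext''⟩ := isExt_of_hasAlg p φ hp.1 hg a h''
    obtain ⟨Ψ, h1, h2⟩ := equiv_of_iso p φ a a h h'' (Iso.refl _) (by simp) (by simp)
    exact R3 B' B'' α α'' Ψ h1 h2 hfl'' hext'' t ht
  choose Φ hΦ using hΦ
  have hR : ∀ a b : Ext p 𝒳,
      (∃ ψ : a.1.Iso b.1, ((ψ.baseChange p).trans b.2).iso = a.2.iso) → Φ a = Φ b := by
    rintro a b ⟨ψ, heq⟩
    obtain ⟨Ba, _, _, αa, ha⟩ := hasAlg_exists p φ a
    obtain ⟨Bb, _, _, αb, hb⟩ := hasAlg_exists p φ b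
    obtain ⟨hflb, hextb⟩ := isExt_of_hasAlg p φ hp.1 hg b hb
    obtain ⟨Ψ, h1, h2⟩ := equiv_of_rel p φ a b ha hb ψ heq
    exact R2 Bb αb _ _ (R3 Ba Bb αa αb Ψ h1 h2 hflb hextb _ (hΦ a Ba αa ha)) (hΦ b Bb αb hb)
  refine ⟨Equiv.ofBijective (Quot.lift Φ hR) ⟨?_, ?_⟩⟩
  · intro x y hxy
    induction x using Quot.ind with
    | mk a =>
      induction y using Quot.ind with
      | mk b =>
        have hab : Φ a = Φ b := hxy
        apply Quot.sound
        obtain ⟨Ba, _, _, αa, ha⟩ := hasAlg_exists p φ a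
        obtain ⟨Bb, _, _, αb, hb⟩ := hasAlg_exists p φ b
        have hb' := hΦ b Bb αb hb
        rw [← hab] at hb'
        obtain ⟨Ψ, h1, h2⟩ := R4 Ba Bb αa αb (Φ a) (hΦ a Ba αa ha) hb'
        exact rel_of_equiv p φ a b ha hb Ψ h1 h2
  · intro t
    obtain ⟨B', _, _, α, hfl', hext, hcl⟩ := R5 t
    haveI := hfl'
    obtain ⟨a, ha⟩ := exists_of_isExt p φ ι₀ K hg hi hext
    exact ⟨Quot.mk _ a, R2 B' α _ _ (hΦ a B' α ha) hcl⟩

end Sch

end Groth.Agent.Helper3.T1Tors
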