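import Mathlib
import Groth.Prelude.Def_CotT
import Groth.Prelude.Def_ArtFun4
import Groth.Agent.Lib.Helper3.T1Tors7

/-! First order deformations of an affine scheme and `T¹` (helper3). -/

set_option autoImplicit false
set_option linter.style.haveILetI false
set_option linter.unusedSectionVars false
universe u
open CategoryTheory CategoryTheory.Limits AlgebraicGeometry
open scoped TensorProduct

namespace Groth.Agent.Helper3.T1Tors

section T1

variable {k B₀ ι σ : Type u} [CommRing k] [CommRing B₀] [Algebra k B₀]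
  (P : Algebra.Presentation k B₀ ι σ) {M N : Type u} [AddCommGroup M] [Module B₀ M]
  [AddCommGroup N] [Module B₀ N]

theorem T1map_symm_apply (g : M ≃ₗ[B₀] N) (t : CotT.T1 P M) :
    CotT.T1map P (g.symm : N →ₗ[B₀] M) (CotT.T1map P (g : M →ₗ[B₀] N) t) = t := by
  induction t using Submodule.Quotient.induction_on with
  | H z =>
    show Submodule.mapQ _ _ _ _ (Submodule.mapQ _ _ _ _ (Submodule.Quotient.mk z)) = _
    rw [Submodule.mapQ_apply, Submodule.mapQ_apply]
    refine congrArg _ (Subtype.ext ?_)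
    apply LinearMap.ext
    intro x
    show g.symm (g (z.1 x)) = z.1 x
    exact g.symm_apply_apply _

/-- `T¹` only depends on the module up to isomorphism -/
noncomputable def T1equiv (g : M ≃ₗ[B₀] N) : CotT.T1 P M ≃ CotT.T1 P N where
  toFun := CotT.T1map P (g : M →ₗ[B₀] N)
  invFun := CotT.T1map P (g.symm : N →ₗ[B₀] M)
  left_inv := T1map_symm_apply P g
  right_inv := fun t => by
    have h := T1map_symm_apply P g.symm t
    rw [LinearEquiv.symm_symm] at h
    exact h

end T1

section Dual

variable (k : Type u) [Field k]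

theorem dual_mul_zero (a j : DualNumber k) (ha : TrivSqZeroExt.fst a = 0)
    (hj : TrivSqZeroExt.fst j = 0) : a * j = 0 := by
  apply TrivSqZeroExt.ext
  · rw [TrivSqZeroExt.fst_mul, ha, zero_mul]
    rfl
  · rw [TrivSqZeroExt.snd_mul, ha, hj]
    simp

theorem isSemismallExt_toBase_dual :
    ArtFun.Art.IsSemismallExt (ArtFun.Art.toBase (ArtFun.Art.dual k k)) := by
  refine ⟨(ArtFun.Art.dual k k).res_surjective, ?_⟩
  rw [eq_bot_iff, Ideal.mul_le]
  intro a ha j hj
  rw [Ideal.mem_bot]
  have ha' : (ArtFun.Art.dual k k).res a = 0 :=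
    (ArtFun.Art.mem_maximalIdeal_iff (ArtFun.Art.dual k k) a).mp ha
  have hj' : (ArtFun.Art.dual k k).res j = 0 := hj
  exact dual_mul_zero k a j ha' hj'

/-- the second component of a dual number -/
def sndD (a : (ArtFun.Art.dual k k)) : k := TrivSqZeroExt.snd (show DualNumber k from a)

/-- the kernel of `k[ε] → k` is a line -/
noncomputable def kerDualEquiv :
    ↥(RingHom.ker (ArtFun.Art.toBase (ArtFun.Art.dual k k)).toAlgHom) ≃ₗ[k] k where
  toFun j := sndD k j.1
  map_add' j j' := rfl
  map_smul' c j := rfl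
  invFun c := ⟨(show (ArtFun.Art.dual k k) from (TrivSqZeroExt.inr c : DualNumber k)), by
    show (ArtFun.Art.dual k k).res _ = 0
    exact TrivSqZeroExt.fst_inr k c⟩
  left_inv j := by
    apply Subtype.ext
    have hj : (ArtFun.Art.dual k k).res j.1 = 0 := j.2
    exact TrivSqZeroExt.ext hj.symm rfl
  right_inv c := rfl

end Dual

section Def

variable {k : Type u} [Field k] {X : Scheme.{u}} {x : X ⟶ ArtFun.Art.specPt k}

theorem isIso_i (ξ : ArtFun.DefSch X x (ArtFun.Art.base k k)) : IsIso ξ.i :=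
  ξ.isPullback.isIso_fst_of_isIso

/-- every deformation over the base field is the scheme itself -/
noncomputable def isoSelf (hx : Flat x) (ξ : ArtFun.DefSch X x (ArtFun.Art.base k k)) :
    ξ.Iso (ArtFun.DefSch.self X x hx) :=
  haveI := isIso_i ξ
  { iso := (asIso ξ.i).symm
    hom_f := by
      show inv ξ.i ≫ x = ξ.f
      exact (IsIso.inv_comp_eq ξ.i).mpr
        ((ArtFun.Art.comp_specRes_base x).symm.trans ξ.i_f.symm)
    i_hom := by
      show ξ.i ≫ inv ξ.i = 𝟙 X
      rw [IsIso.hom_inv_id] }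

theorem iso_unique (hx : Flat x) (ξ : ArtFun.DefSch X x (ArtFun.Art.base k k))
    (θ θ' : ξ.Iso (ArtFun.DefSch.self X x hx)) : θ.iso = θ'.iso := by
  haveI := isIso_i ξ
  apply Iso.ext
  exact (cancel_epi ξ.i).mp (θ.i_hom.trans θ'.i_hom.symm)

end Def

/-- first order deformations of an affine scheme are classified by `T¹` -/
theorem defDual (k B : Type u) [Field k] [CommRing B] [Algebra k B] :
    Nonempty ((ArtFun.defFunctor (Λ := k) (Spec (CommRingCat.of B))
      (Spec.map (CommRingCat.ofHom (algebraMap k B)))).obj (ArtFun.Art.dual k k) ≃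
        CotT.T1 (CotT.canon k B) B) := by
  have hx : Flat (Spec.map (CommRingCat.ofHom (algebraMap k B))) :=
    Flat.SpecMap_iff.mpr (RingHom.flat_algebraMap_iff.mpr inferInstance)
  obtain ⟨p, hpdef⟩ : ∃ p : ArtFun.Art.dual k k ⟶ ArtFun.Art.base k k,
      p = ArtFun.Art.toBase (ArtFun.Art.dual k k) := ⟨_, rfl⟩
  have hp : ArtFun.Art.IsSemismallExt p := by
    rw [hpdef]
    exact isSemismallExt_toBase_dual k
  obtain ⟨𝒳, h𝒳⟩ : ∃ 𝒳 : ArtFun.DefSch (Spec (CommRingCat.of B))
      (Spec.map (CommRingCat.ofHom (algebraMap k B))) (ArtFun.Art.base k k),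
      𝒳 = ArtFun.DefSch.self _ _ hx := ⟨_, rfl⟩
  have hne : ∃ 𝒳' : ArtFun.DefSch (Spec (CommRingCat.of B))
      (Spec.map (CommRingCat.ofHom (algebraMap k B))) (ArtFun.Art.dual k k),
      Nonempty ((𝒳'.baseChange p).Iso 𝒳) := by
    refine ⟨ArtFun.DefSch.trivial _ _ hx (ArtFun.Art.dual k k), ⟨?_⟩⟩
    rw [h𝒳]
    exact isoSelf hx _
  obtain ⟨e1⟩ := main p (CotT.canon k B) hp 𝒳 hne
  -- the quotient of the set of extensions is the set of deformations over the dual numbers
  have hR : ∀ a b : Ext p 𝒳,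
      (∃ ψ : a.1.Iso b.1, ((ψ.baseChange p).trans b.2).iso = a.2.iso) →
        (Quotient.mk (ArtFun.DefSch.setoid _ _ (ArtFun.Art.dual k k)) a.1) =
          Quotient.mk (ArtFun.DefSch.setoid _ _ (ArtFun.Art.dual k k)) b.1 := by
    rintro a b ⟨ψ, -⟩
    exact Quotient.sound ⟨ψ⟩
  have e2 : Quot (fun a b : Ext p 𝒳 =>
      ∃ ψ : a.1.Iso b.1, ((ψ.baseChange p).trans b.2).iso = a.2.iso) ≃
      (ArtFun.defFunctor (Λ := k) (Spec (CommRingCat.of B))
        (Spec.map (CommRingCat.ofHom (algebraMap k B)))).obj (ArtFun.Art.dual k k) := by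
    refine Equiv.ofBijective (Quot.lift (fun a => Quotient.mk _ a.1) hR) ⟨?_, ?_⟩
    · intro y z hyz
      induction y using Quot.ind with
      | mk a =>
        induction z using Quot.ind with
        | mk b =>
          have hab : (Quotient.mk (ArtFun.DefSch.setoid _ _ (ArtFun.Art.dual k k)) a.1) =
              Quotient.mk (ArtFun.DefSch.setoid _ _ (ArtFun.Art.dual k k)) b.1 := hyz
          obtain ⟨ψ⟩ := Quotient.exact hab
          apply Quot.sound
          refine ⟨ψ, ?_⟩
          subst h𝒳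
          exact iso_unique hx _ _ _
    · intro q
      induction q using Quotient.inductionOn with
      | h ξ =>
        subst h𝒳
        exact ⟨Quot.mk _ ⟨ξ, isoSelf hx _⟩, rfl⟩
  -- the coefficient module is `B`
  have e3 : CotT.T1 (CotT.canon k B) (B ⊗[k] ↥(RingHom.ker p.toAlgHom)) ≃
      CotT.T1 (CotT.canon k B) B := by
    subst hpdef
    exact T1equiv (CotT.canon k B)
      ((TensorProduct.AlgebraTensorModule.congr (LinearEquiv.refl B B) (kerDualEquiv k)).trans
        (TensorProduct.AlgebraTensorModule.rid k B B))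
  exact ⟨(e2.symm.trans e1).trans e3⟩

end Groth.Agent.Helper3.T1Tors
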