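import Mathlib
import Groth.Agent.Lib.Helper3.DCoprod
/-!
# Telescopes of `ℤ`-indexed inverse systems of complexes
-/
set_option autoImplicit false
universe v u
open CategoryTheory CategoryTheory.Limits

namespace Groth.Agent.Helper3.Tel1

open Groth.Agent.Helper3.DCoprod CochainComplex HomComplex

variable {A : Type u} [Category.{v} A] [Abelian A] [HasCoproducts.{0} A]

section Ext

variable {J : Type} {K : J → CochainComplex A ℤ} {L : CochainComplex A ℤ}

lemma cK_hom_ext {a b : cK K ⟶ L} (h : ∀ j, inK K j ≫ a = inK K j ≫ b) : a = b := by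
  ext n j
  exact HomologicalComplex.congr_hom (h j) n

end Ext

variable (M : ℤ → CochainComplex A ℤ) (f : ∀ j, M (j + 1) ⟶ M j)

/-- the sum of the `M j`, `j ∈ S` -/
noncomputable abbrev T (S : Set ℤ) : CochainComplex A ℤ := cK (fun j : S => M j.1)

/-- the sum of the `M (j + 1)`, `j ∈ S` -/
noncomputable abbrev T' (S : Set ℤ) : CochainComplex A ℤ := cK (fun j : S => M (j.1 + 1))

/-- the inclusion of `M j` -/
noncomputable abbrev iT (S : Set ℤ) (j : ℤ) (hj : j ∈ S) : M j ⟶ T M S :=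
  inK (fun j : S => M j.1) ⟨j, hj⟩

/-- the inclusion of `M (j + 1)` -/
noncomputable abbrev iT' (S : Set ℤ) (j : ℤ) (hj : j ∈ S) : M (j + 1) ⟶ T' M S :=
  inK (fun j : S => M (j.1 + 1)) ⟨j, hj⟩

variable (S : Set ℤ) (hS : ∀ j ∈ S, j + 1 ∈ S)

/-- the telescope map `1 - shift` -/
noncomputable def Φ : T' M S ⟶ T M S :=
  descK (fun j : S => iT M S (j.1 + 1) (hS j.1 j.2) - f j.1 ≫ iT M S j.1 j.2)

lemma iT'_Φ (j : ℤ) (hj : j ∈ S) :
    iT' M S j hj ≫ Φ M f S hS = iT M S (j + 1) (hS j hj) - f j ≫ iT M S j hj :=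
  inK_descK _ _

/-- the telescope -/
noncomputable abbrev F : CochainComplex A ℤ := mappingCone (Φ M f S hS)

section Incl

variable {S} {S' : Set ℤ} (hS' : ∀ j ∈ S', j + 1 ∈ S') (hSS' : S ⊆ S')

/-- enlarging the index set -/
noncomputable def incT : T M S ⟶ T M S' := descK (fun j : S => iT M S' j.1 (hSS' j.2))

/-- enlarging the index set -/
noncomputable def incT' : T' M S ⟶ T' M S' := descK (fun j : S => iT' M S' j.1 (hSS' j.2))

lemma iT_incT (j : ℤ) (hj : j ∈ S) : iT M S j hj ≫ incT M hSS' = iT M S' j (hSS' hj) :=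
  inK_descK _ _

lemma iT'_incT' (j : ℤ) (hj : j ∈ S) : iT' M S j hj ≫ incT' M hSS' = iT' M S' j (hSS' hj) :=
  inK_descK _ _

lemma Φ_incT : Φ M f S hS ≫ incT M hSS' = incT' M hSS' ≫ Φ M f S' hS' := by
  apply cK_hom_ext
  rintro ⟨j, hj⟩
  change iT' M S j hj ≫ _ = iT' M S j hj ≫ _
  rw [← Category.assoc, iT'_Φ, ← Category.assoc, iT'_incT', iT'_Φ, Preadditive.sub_comp,
    Category.assoc, iT_incT, iT_incT]

/-- the induced map of telescopes -/
noncomputable def cF : F M f S hS ⟶ F M f S' hS' :=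
  mappingCone.map (Φ M f S hS) (Φ M f S' hS') (incT' M hSS') (incT M hSS') (Φ_incT M f hS hS' hSS')

lemma inr_cF : mappingCone.inr (Φ M f S hS) ≫ cF M f hS hS' hSS' =
    incT M hSS' ≫ mappingCone.inr (Φ M f S' hS') := by
  unfold cF mappingCone.map
  rw [mappingCone.inr_desc]


lemma cF_fst (n : ℤ) : (cF M f hS hS' hSS').f n ≫ (mappingCone.fst (Φ M f S' hS')).1.v n (n + 1) rfl =
    (mappingCone.fst (Φ M f S hS)).1.v n (n + 1) rfl ≫ (incT' M hSS').f (n + 1) := by
  simp [cF, mappingCone.map, mappingCone.ext_from_iff _ (n + 1) n rfl]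

lemma cF_snd (n : ℤ) : (cF M f hS hS' hSS').f n ≫ (mappingCone.snd (Φ M f S' hS')).v n n (add_zero n) =
    (mappingCone.snd (Φ M f S hS)).v n n (add_zero n) ≫ (incT M hSS').f n := by
  simp [cF, mappingCone.map, mappingCone.ext_from_iff _ (n + 1) n rfl]

/-- the retraction of `incT` -/
noncomputable def retT [DecidablePred (· ∈ S)] : T M S' ⟶ T M S :=
  descK (fun j : S' => if h : j.1 ∈ S then iT M S j.1 h else 0)

lemma incT_retT [DecidablePred (· ∈ S)] : incT M hSS' ≫ retT M (S := S) (S' := S') = 𝟙 _ := by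
  apply cK_hom_ext
  rintro ⟨j, hj⟩
  change iT M S j hj ≫ _ = iT M S j hj ≫ _
  rw [← Category.assoc, iT_incT]
  unfold retT
  rw [inK_descK, dif_pos hj, Category.comp_id]

/-- the retraction of `incT'` -/
noncomputable def retT' [DecidablePred (· ∈ S)] : T' M S' ⟶ T' M S :=
  descK (fun j : S' => if h : j.1 ∈ S then iT' M S j.1 h else 0)

lemma incT'_retT' [DecidablePred (· ∈ S)] : incT' M hSS' ≫ retT' M (S := S) (S' := S') = 𝟙 _ := by
  apply cK_hom_ext
  rintro ⟨j, hj⟩
  change iT' M S j hj ≫ _ = iT' M S j hj ≫ _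
  rw [← Category.assoc, iT'_incT']
  unfold retT'
  rw [inK_descK, dif_pos hj, Category.comp_id]

lemma mono_cF : Mono (cF M f hS hS' hSS') := by
  classical
  haveI : ∀ n, Mono ((cF M f hS hS' hSS').f n) := by
    intro n
    haveI : Mono ((incT M hSS').f n) := by
      have h := HomologicalComplex.congr_hom (incT_retT M hSS') n
      rw [HomologicalComplex.comp_f, HomologicalComplex.id_f] at h
      exact mono_of_mono_fac h
    haveI : Mono ((incT' M hSS').f (n + 1)) := by
      have h := HomologicalComplex.congr_hom (incT'_retT' M hSS') (n + 1)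
      rw [HomologicalComplex.comp_f, HomologicalComplex.id_f] at h
      exact mono_of_mono_fac h
    apply Preadditive.mono_of_cancel_zero
    intro W g hg
    rw [mappingCone.ext_to_iff _ n (n + 1) rfl]
    constructor
    · rw [zero_comp, ← cancel_mono ((incT' M hSS').f (n + 1)), Category.assoc, ← cF_fst M f hS hS' hSS' n,
        reassoc_of% hg, zero_comp, zero_comp]
    · rw [zero_comp, ← cancel_mono ((incT M hSS').f n), Category.assoc, ← cF_snd M f hS hS' hSS' n,
        reassoc_of% hg, zero_comp, zero_comp]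
  exact HomologicalComplex.mono_of_mono_f _ inferInstance

end Incl


section Comp

variable {S} {S' S'' : Set ℤ} (hS' : ∀ j ∈ S', j + 1 ∈ S') (hS'' : ∀ j ∈ S'', j + 1 ∈ S'')
  (hSS' : S ⊆ S') (hS'S'' : S' ⊆ S'')

lemma incT_comp : incT M hSS' ≫ incT M hS'S'' = incT M (hSS'.trans hS'S'') := by
  apply cK_hom_ext
  rintro ⟨j, hj⟩
  change iT M S j hj ≫ _ = iT M S j hj ≫ _
  rw [← Category.assoc, iT_incT, iT_incT, iT_incT]

lemma incT'_comp : incT' M hSS' ≫ incT' M hS'S'' = incT' M (hSS'.trans hS'S'') := by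
  apply cK_hom_ext
  rintro ⟨j, hj⟩
  change iT' M S j hj ≫ _ = iT' M S j hj ≫ _
  rw [← Category.assoc, iT'_incT', iT'_incT', iT'_incT']

lemma cF_comp : cF M f hS hS' hSS' ≫ cF M f hS' hS'' hS'S'' =
    cF M f hS hS'' (hSS'.trans hS'S'') := by
  unfold cF
  rw [← mappingCone.map_comp]
  congr 1
  · exact incT'_comp M hSS' hS'S''
  · exact incT_comp M hSS' hS'S''

end Comp

end Groth.Agent.Helper3.Tel1
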