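import Mathlib
import Groth.Agent.Lib.Helper3.Tel1
/-!
# Telescopes, II: the telescope over `Set.Ici i` is quasi-isomorphic to `M i`
-/
set_option autoImplicit false
universe v u
open CategoryTheory CategoryTheory.Limits

namespace Groth.Agent.Helper3.Tel2

open Groth.Agent.Helper3.DCoprod Groth.Agent.Helper3.Tel1 CochainComplex HomComplex

variable {A : Type u} [Category.{v} A] [Abelian A] [HasCoproducts.{0} A]

variable (M : ℤ → CochainComplex A ℤ) (f : ∀ j, M (j + 1) ⟶ M j) (i : ℤ)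

lemma hIci : ∀ j ∈ Set.Ici i, j + 1 ∈ Set.Ici i := fun j hj =>
  le_trans (Set.mem_Ici.1 hj) (by lia)

/-- the composite transition maps `M j ⟶ M i`, `i ≤ j` (zero if `j < i`) -/
noncomputable def σ (j : ℤ) : M j ⟶ M i :=
  Int.inductionOn' (motive := fun j => M j ⟶ M i) j i (𝟙 _) (fun k _ s => f k ≫ s)
    (fun _ _ _ => 0)

lemma σ_self : σ M f i i = 𝟙 _ := Int.inductionOn'_self

lemma σ_succ (j : ℤ) (hj : i ≤ j) : σ M f i (j + 1) = f j ≫ σ M f i j :=
  Int.inductionOn'_add_one hj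

/-- the components of the retraction of `Φ` -/
noncomputable def r (j : ℤ) : M j ⟶ T' M (Set.Ici i) :=
  Int.inductionOn' (motive := fun j => M j ⟶ T' M (Set.Ici i)) j i 0
    (fun k hk s => iT' M (Set.Ici i) k hk + f k ≫ s) (fun _ _ _ => 0)

lemma r_self : r M f i i = 0 := Int.inductionOn'_self

lemma r_succ (j : ℤ) (hj : i ≤ j) :
    r M f i (j + 1) = iT' M (Set.Ici i) j hj + f j ≫ r M f i j :=
  Int.inductionOn'_add_one hj

/-- the augmentation `T (Ici i) ⟶ M i` -/
noncomputable def Sg : T M (Set.Ici i) ⟶ M i := descK (fun j : Set.Ici i => σ M f i j.1)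

lemma iT_Sg (j : ℤ) (hj : j ∈ Set.Ici i) : iT M (Set.Ici i) j hj ≫ Sg M f i = σ M f i j :=
  inK_descK _ _

/-- the retraction of `Φ` -/
noncomputable def R : T M (Set.Ici i) ⟶ T' M (Set.Ici i) :=
  descK (fun j : Set.Ici i => r M f i j.1)

lemma iT_R (j : ℤ) (hj : j ∈ Set.Ici i) : iT M (Set.Ici i) j hj ≫ R M f i = r M f i j :=
  inK_descK _ _

lemma Φ_Sg : Φ M f (Set.Ici i) (hIci i) ≫ Sg M f i = 0 := by
  apply cK_hom_ext
  rintro ⟨j, hj⟩
  change iT' M (Set.Ici i) j hj ≫ _ = iT' M (Set.Ici i) j hj ≫ _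
  rw [← Category.assoc, iT'_Φ, Preadditive.sub_comp, Category.assoc, iT_Sg, iT_Sg, σ_succ _ _ _ _ hj,
    sub_self, comp_zero]

lemma Φ_R : Φ M f (Set.Ici i) (hIci i) ≫ R M f i = 𝟙 _ := by
  apply cK_hom_ext
  rintro ⟨j, hj⟩
  change iT' M (Set.Ici i) j hj ≫ _ = iT' M (Set.Ici i) j hj ≫ _
  rw [← Category.assoc, iT'_Φ, Preadditive.sub_comp, Category.assoc, iT_R, iT_R, r_succ _ _ _ _ hj,
    add_sub_cancel_right, Category.comp_id]

lemma r_Φ (j : ℤ) (hj : i ≤ j) :
    r M f i j ≫ Φ M f (Set.Ici i) (hIci i) + σ M f i j ≫ iT M (Set.Ici i) i (le_refl i) =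
      iT M (Set.Ici i) j hj := by
  induction j, hj using Int.leInduction with
  | base => rw [r_self, σ_self, zero_comp, zero_add, Category.id_comp]
  | succ j hj ih =>
    rw [r_succ _ _ _ _ hj, σ_succ _ _ _ _ hj, Preadditive.add_comp, iT'_Φ, Category.assoc,
      Category.assoc, add_assoc, ← Preadditive.comp_add, ih, sub_add_cancel]

lemma R_Φ : R M f i ≫ Φ M f (Set.Ici i) (hIci i) + Sg M f i ≫ iT M (Set.Ici i) i (le_refl i) =
    𝟙 _ := by
  apply cK_hom_ext
  rintro ⟨j, hj⟩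
  change iT M (Set.Ici i) j hj ≫ _ = iT M (Set.Ici i) j hj ≫ _
  rw [Preadditive.comp_add, ← Category.assoc, iT_R, ← Category.assoc, iT_Sg, r_Φ _ _ _ _ hj,
    Category.comp_id]

/-- the short complex `T' ⟶ T ⟶ M i` -/
noncomputable def sc : ShortComplex (CochainComplex A ℤ) :=
  ShortComplex.mk (Φ M f (Set.Ici i) (hIci i)) (Sg M f i) (Φ_Sg M f i)

/-- it splits -/
noncomputable def splitting : (sc M f i).Splitting where
  r := R M f i
  s := iT M (Set.Ici i) i (le_refl i)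
  f_r := Φ_R M f i
  s_g := by
    change iT M (Set.Ici i) i (le_refl i) ≫ Sg M f i = 𝟙 _
    rw [iT_Sg, σ_self]
  id := R_Φ M f i

/-- the quasi-isomorphism `F (Ici i) ⟶ M i` -/
noncomputable def ρ : F M f (Set.Ici i) (hIci i) ⟶ M i :=
  mappingCone.descShortComplex (sc M f i)

instance : QuasiIso (ρ M f i) :=
  mappingCone.quasiIso_descShortComplex (splitting M f i).shortExact

/-- the inclusion of `M i` in the telescope -/
noncomputable def u : M i ⟶ F M f (Set.Ici i) (hIci i) :=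
  iT M (Set.Ici i) i (le_refl i) ≫ mappingCone.inr _

lemma u_ρ : u M f i ≫ ρ M f i = 𝟙 _ := by
  unfold u ρ
  rw [Category.assoc]
  have h : mappingCone.inr (Φ M f (Set.Ici i) (hIci i)) ≫ mappingCone.descShortComplex (sc M f i) =
      Sg M f i := mappingCone.inr_descShortComplex (sc M f i)
  exact (congrArg (fun z => iT M (Set.Ici i) i (le_refl i) ≫ z) h).trans (splitting M f i).s_g

instance : QuasiIso (u M f i) := by
  haveI : QuasiIso (u M f i ≫ ρ M f i) := by
    rw [u_ρ]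
    infer_instance
  exact quasiIso_of_comp_right (u M f i) (ρ M f i)

end Groth.Agent.Helper3.Tel2
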