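import Mathlib
import Groth.Agent.Lib.Helper3.Tel2
/-!
# Telescopes, III: the mapping cylinder receiving the full telescope
-/
set_option autoImplicit false
universe v u
open CategoryTheory CategoryTheory.Limits

namespace Groth.Agent.Helper3.Tel3

open Groth.Agent.Helper3.DCoprod Groth.Agent.Helper3.Tel1 CochainComplex HomComplex

variable {A : Type u} [Category.{v} A] [Abelian A] [HasCoproducts.{0} A]

variable (M : ℤ → CochainComplex A ℤ) (f : ∀ j, M (j + 1) ⟶ M j)
  (N : CochainComplex A ℤ) (g : ∀ j, M j ⟶ N) (H : ∀ j, Homotopy (f j ≫ g j) (g (j + 1)))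

lemma hU : ∀ j ∈ (Set.univ : Set ℤ), j + 1 ∈ (Set.univ : Set ℤ) := fun _ _ => Set.mem_univ _

/-- the map `T univ ⟶ N` -/
noncomputable def γ : T M Set.univ ⟶ N := descK (fun j : (Set.univ : Set ℤ) => g j.1)

lemma iT_γ (j : ℤ) : iT M Set.univ j (Set.mem_univ j) ≫ γ M N g = g j := inK_descK _ _

/-- `Φ ≫ γ` is null-homotopic -/
noncomputable def homΦγ : Homotopy (Φ M f Set.univ hU ≫ γ M N g) 0 :=
  homotopyK _ (fun j => (Homotopy.ofEq (by
    obtain ⟨j, hj⟩ := j
    change iT' M Set.univ j hj ≫ _ = _
    rw [← Category.assoc, iT'_Φ, Preadditive.sub_comp, Category.assoc, iT_γ, iT_γ])).trans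
      (Homotopy.equivSubZero (H j.1).symm))

/-- the extension of `γ` to the telescope -/
noncomputable def γbar : F M f Set.univ hU ⟶ N :=
  mappingCone.desc (Φ M f Set.univ hU) (Cochain.ofHomotopy (homΦγ M f N g H)) (γ M N g)
    (by rw [δ_ofHomotopy, Cochain.ofHom_zero, sub_zero])

lemma inr_γbar : mappingCone.inr (Φ M f Set.univ hU) ≫ γbar M f N g H = γ M N g :=
  mappingCone.inr_desc _ _ _ _

/-- the map `X ⟶ X ⊞ N` whose cone is the mapping cylinder -/
noncomputable def w : F M f Set.univ hU ⟶ F M f Set.univ hU ⊞ N :=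
  biprod.lift (𝟙 _) (-γbar M f N g H)

/-- the short complex `X ⟶ X ⊞ N ⟶ N` -/
noncomputable def sc : ShortComplex (CochainComplex A ℤ) :=
  ShortComplex.mk (w M f N g H) (biprod.desc (γbar M f N g H) (𝟙 N)) (by
    unfold w
    rw [biprod.lift_desc, Category.id_comp, Category.comp_id, add_neg_cancel])

lemma split_id : (biprod.fst : F M f Set.univ hU ⊞ N ⟶ _) ≫ w M f N g H +
    biprod.desc (γbar M f N g H) (𝟙 N) ≫ biprod.inr = 𝟙 (F M f Set.univ hU ⊞ N) := by
  unfold w
  apply biprod.hom_ext'
  · apply biprod.hom_ext <;> simp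
  · apply biprod.hom_ext <;> simp

/-- it splits -/
noncomputable def splitting : (sc M f N g H).Splitting where
  r := biprod.fst
  s := biprod.inr
  f_r := by
    change w M f N g H ≫ biprod.fst = 𝟙 _
    unfold w
    rw [biprod.lift_fst]
  s_g := by
    change biprod.inr ≫ biprod.desc (γbar M f N g H) (𝟙 N) = 𝟙 _
    rw [biprod.inr_desc]
  id := split_id M f N g H

/-- the mapping cylinder -/
noncomputable abbrev Cyl : CochainComplex A ℤ := mappingCone (w M f N g H)

/-- the quasi-isomorphism `Cyl ⟶ N` -/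
noncomputable def ρK : Cyl M f N g H ⟶ N := mappingCone.descShortComplex (sc M f N g H)

instance : QuasiIso (ρK M f N g H) :=
  mappingCone.quasiIso_descShortComplex (splitting M f N g H).shortExact

/-- the inclusion of the telescope into the mapping cylinder -/
noncomputable def nX : F M f Set.univ hU ⟶ Cyl M f N g H :=
  biprod.inl ≫ mappingCone.inr (w M f N g H)

lemma nX_ρK : nX M f N g H ≫ ρK M f N g H = γbar M f N g H := by
  unfold nX ρK
  rw [Category.assoc]
  have h : mappingCone.inr (w M f N g H) ≫ mappingCone.descShortComplex (sc M f N g H) =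
      biprod.desc (γbar M f N g H) (𝟙 N) := mappingCone.inr_descShortComplex (sc M f N g H)
  exact (congrArg (fun z => biprod.inl ≫ z) h).trans (biprod.inl_desc _ _)

instance mono_nX : Mono (nX M f N g H) := by
  haveI : ∀ n, Mono ((nX M f N g H).f n) := by
    intro n
    have h : (nX M f N g H).f n ≫ (mappingCone.snd (w M f N g H)).v n n (add_zero n) ≫
        (biprod.fst : F M f Set.univ hU ⊞ N ⟶ _).f n = 𝟙 _ := by
      unfold nX
      rw [HomologicalComplex.comp_f, Category.assoc, mappingCone.inr_f_snd_v_assoc,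
        ← HomologicalComplex.comp_f, biprod.inl_fst, HomologicalComplex.id_f]
    exact mono_of_mono_fac h
  exact HomologicalComplex.mono_of_mono_f _ inferInstance

end Groth.Agent.Helper3.Tel3
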