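import Mathlib
import Groth.Agent.Lib.Helper3.Tel3
import Groth.Agent.Lib.Helper3.KInjD
import Groth.Prelude.Def_SpSeq
/-!
# Telescopes, IV: a filtered complex representing an inverse system in `D(A)`
-/
set_option autoImplicit false
universe w v u
open CategoryTheory CategoryTheory.Limits

namespace Groth.Agent.Helper3.Tel4

open Groth.Agent.Helper3.DCoprod Groth.Agent.Helper3.Tel1 Groth.Agent.Helper3.Tel2
  Groth.Agent.Helper3.Tel3 CochainComplex HomComplex

section Chain

variable {A : Type u} [Category.{v} A] [Abelian A] [HasCoproducts.{0} A]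

variable (M : ℤ → CochainComplex A ℤ) (f : ∀ j, M (j + 1) ⟶ M j)
  (N : CochainComplex A ℤ) (g : ∀ j, M j ⟶ N) (H : ∀ j, Homotopy (f j ≫ g j) (g (j + 1)))

/-- the inclusion of the `i`-th telescope into the cylinder -/
noncomputable def m (i : ℤ) : F M f (Set.Ici i) (hIci i) ⟶ Cyl M f N g H :=
  cF M f (hIci i) hU (Set.subset_univ _) ≫ nX M f N g H

instance mono_m (i : ℤ) : Mono (m M f N g H i) := by
  haveI := mono_cF M f (hIci i) hU (Set.subset_univ _)
  unfold m
  infer_instance

lemma cF_m (i j : ℤ) (h : i ≤ j) :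
    cF M f (hIci j) (hIci i) (Set.Ici_subset_Ici.2 h) ≫ m M f N g H i = m M f N g H j := by
  unfold m
  rw [← Category.assoc, cF_comp]

/-- the filtered complex -/
noncomputable abbrev K : SpSeq.FilCx A where
  obj := Cyl M f N g H
  fil i := Subobject.mk (m M f N g H i)
  anti i j h := Subobject.mk_le_mk_of_comm _ (cF_m M f N g H i j h)

/-- the steps of the filtration are the telescopes -/
noncomputable def uI (i : ℤ) : (K M f N g H).step i ≅ F M f (Set.Ici i) (hIci i) :=
  Subobject.underlyingIso (m M f N g H i)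

lemma uI_inv_arrow (i : ℤ) :
    (uI M f N g H i).inv ≫ ((K M f N g H).fil i).arrow = m M f N g H i :=
  Subobject.underlyingIso_arrow (m M f N g H i)

/-- the comparison maps -/
noncomputable def v (i : ℤ) : M i ⟶ (K M f N g H).step i :=
  u M f i ≫ (uI M f N g H i).inv

instance quasiIso_v (i : ℤ) : QuasiIso (v M f N g H i) := by
  unfold v
  infer_instance

lemma v_arrow (i : ℤ) : v M f N g H i ≫ ((K M f N g H).fil i).arrow = u M f i ≫ m M f N g H i := by
  unfold v
  rw [Category.assoc]
  rw [uI_inv_arrow]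
  done

lemma u_eq (i : ℤ) : u M f i = iT M (Set.Ici i) i Set.self_mem_Ici ≫
    mappingCone.inr (Φ M f (Set.Ici i) (hIci i)) := rfl

lemma v_arrow_ρK (i : ℤ) :
    v M f N g H i ≫ ((K M f N g H).fil i).arrow ≫ ρK M f N g H = g i := by
  rw [← Category.assoc, v_arrow, u_eq]
  unfold m
  rw [Category.assoc, Category.assoc, Category.assoc, nX_ρK,
    ← Category.assoc (mappingCone.inr _), inr_cF, Category.assoc, inr_γbar,
    ← Category.assoc, iT_incT, iT_γ]

lemma underlyingIso_stepLE (i : ℤ) (h : i ≤ i + 1) :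
    (uI M f N g H (i + 1)).inv ≫ (K M f N g H).stepLE h =
    cF M f (hIci (i + 1)) (hIci i) (Set.Ici_subset_Ici.2 h) ≫ (uI M f N g H i).inv := by
  rw [← cancel_mono ((K M f N g H).fil i).arrow, Category.assoc, Category.assoc, uI_inv_arrow,
    cF_m M f N g H i (i + 1) h, Subobject.ofLE_arrow, uI_inv_arrow]

/-- `Φ ≫ inr Φ` is null-homotopic -/
noncomputable def homInr {X Y : CochainComplex A ℤ} (φ : X ⟶ Y) :
    Homotopy (φ ≫ mappingCone.inr φ) 0 :=
  (Cochain.equivHomotopy _ _).symm ⟨mappingCone.inl φ, by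
    rw [mappingCone.δ_inl, Cochain.ofHom_zero, add_zero]⟩

/-- the transition maps are compatible up to homotopy -/
noncomputable def homU (i : ℤ) (h : i ≤ i + 1) :
    Homotopy (u M f (i + 1) ≫
      cF M f (hIci (i + 1)) (hIci i) (Set.Ici_subset_Ici.2 h))
      (f i ≫ u M f i) :=
  Homotopy.equivSubZero.symm ((Homotopy.ofEq (by
    rw [u_eq, u_eq, Category.assoc, inr_cF, ← Category.assoc, iT_incT, ← Category.assoc (f i),
      ← Preadditive.sub_comp, ← iT'_Φ M f (Set.Ici i) (hIci i) i Set.self_mem_Ici,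
      Category.assoc])).trans
    (((homInr (Φ M f (Set.Ici i) (hIci i))).compLeft (iT' M (Set.Ici i) i Set.self_mem_Ici)).trans
      (Homotopy.ofEq comp_zero)))

/-- the transition maps are compatible up to homotopy -/
noncomputable def homV (i : ℤ) (h : i ≤ i + 1) :
    Homotopy (v M f N g H (i + 1) ≫ (K M f N g H).stepLE h)
      (f i ≫ v M f N g H i) :=
  (Homotopy.ofEq (by
    unfold v
    rw [Category.assoc, underlyingIso_stepLE, ← Category.assoc])).trans
  (((homU M f i h).compRight (uI M f N g H i).inv).trans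
    (Homotopy.ofEq (by unfold v; rw [Category.assoc])))

end Chain

section Derived

variable {A : Type u} [Category.{v} A] [Abelian A] [IsGrothendieckAbelian.{v} A]
  [HasDerivedCategory.{w} A]

open DerivedCategory

omit [IsGrothendieckAbelian.{v} A] in
/-- morphisms in `D(A)` into a K-injective complex are represented by morphisms of complexes -/
lemma exists_map_repr {K I : CochainComplex A ℤ} [I.IsKInjective]
    (κ : Q.obj K ⟶ Q.obj I) : ∃ ψ : K ⟶ I, Q.map ψ = κ := by
  obtain ⟨g, hg⟩ := (CochainComplex.IsKInjective.Qh_map_bijective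
    ((HomotopyCategory.quotient _ _).obj K) I).surjective κ
  obtain ⟨ψ, rfl⟩ := (HomotopyCategory.quotient _ _).map_surjective g
  exact ⟨ψ, hg⟩

omit [IsGrothendieckAbelian.{v} A] in
/-- morphisms of complexes into a K-injective complex that agree in `D(A)` are homotopic -/
lemma nonempty_homotopy {K I : CochainComplex A ℤ} [I.IsKInjective] (φ ψ : K ⟶ I)
    (h : Q.map φ = Q.map ψ) : Nonempty (Homotopy φ ψ) := by
  have h' : (HomotopyCategory.quotient _ _).map φ = (HomotopyCategory.quotient _ _).map ψ :=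
    (CochainComplex.IsKInjective.Qh_map_bijective
      ((HomotopyCategory.quotient _ _).obj K) I).injective h
  exact ⟨HomotopyCategory.homotopyOfEq _ _ h'⟩

/-- every object of `D(A)` is represented by a K-injective complex -/
lemma exists_repr (X : DerivedCategory A) :
    ∃ (I : CochainComplex A ℤ) (_ : I.IsKInjective), Nonempty (Q.obj I ≅ X) := by
  obtain ⟨I, f, hI, hf, -, -⟩ := KInjD.exists_kInjective_resolution (Q.objPreimage X)
  haveI : QuasiIso f := hf
  exact ⟨I, hI, ⟨(asIso (Q.map f)).symm ≪≫ Q.objObjPreimageIso X⟩⟩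

/-- **an inverse system in `D(A)` over `ℤ` mapping to `E` is represented by a filtered complex** -/
theorem main (E : DerivedCategory A) (Es : ℤ → DerivedCategory A)
    (t : ∀ i : ℤ, Es (i + 1) ⟶ Es i) (a : ∀ i : ℤ, Es i ⟶ E)
    (hat : ∀ i : ℤ, t i ≫ a i = a (i + 1)) :
    ∃ (K : SpSeq.FilCx A) (e : Q.obj K.obj ≅ E) (ei : ∀ i : ℤ, Q.obj (K.step i) ≅ Es i),
      (∀ i : ℤ, Q.map (K.fil i).arrow ≫ e.hom = (ei i).hom ≫ a i) ∧
      (∀ i : ℤ, ∀ h : i ≤ i + 1, Q.map (K.stepLE h) ≫ (ei i).hom = (ei (i + 1)).hom ≫ t i) := by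
  haveI : HasColimitsOfSize.{0, 0} A := hasColimitsOfSizeShrink.{0, 0, v, v} A
  haveI : HasCoproducts.{0} A := fun J => inferInstance
  choose M hM εM using fun j => exists_repr (Es j)
  obtain ⟨N, hN, ⟨εN⟩⟩ := exists_repr E
  let ε : ∀ j, Q.obj (M j) ≅ Es j := fun j => (εM j).some
  haveI : ∀ j, (M j).IsKInjective := hM
  choose f hf using fun j => exists_map_repr (K := M (j + 1)) (I := M j)
    ((ε (j + 1)).hom ≫ t j ≫ (ε j).inv)
  choose g hg using fun j => exists_map_repr (K := M j) (I := N) ((ε j).hom ≫ a j ≫ εN.inv)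
  have H : ∀ j, Nonempty (Homotopy (f j ≫ g j) (g (j + 1))) := fun j =>
    nonempty_homotopy _ _ (by
      rw [Q.map_comp, hf, hg, hg]
      simp only [Category.assoc, Iso.inv_hom_id_assoc]
      rw [← Category.assoc (t j), hat])
  let H' : ∀ j, Homotopy (f j ≫ g j) (g (j + 1)) := fun j => (H j).some
  refine ⟨K M f N g H', asIso (Q.map (ρK M f N g H')) ≪≫ εN,
    fun i => (asIso (Q.map (v M f N g H' i))).symm ≪≫ ε i, ?_, ?_⟩
  · intro i
    rw [← cancel_epi (Q.map (v M f N g H' i))]
    simp only [Iso.trans_hom, Iso.symm_hom, asIso_hom, asIso_inv, IsIso.hom_inv_id_assoc,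
      Category.assoc]
    rw [← Q.map_comp_assoc, ← Q.map_comp_assoc, Category.assoc, v_arrow_ρK, hg]
    simp only [Category.assoc, Iso.inv_hom_id, Category.comp_id]
  · intro i h
    rw [← cancel_epi (Q.map (v M f N g H' (i + 1)))]
    simp only [Iso.trans_hom, Iso.symm_hom, asIso_hom, asIso_inv, IsIso.hom_inv_id_assoc,
      Category.assoc]
    rw [← Q.map_comp_assoc, Q_map_eq_of_homotopy A (homV M f N g H' i h), Q.map_comp_assoc,
      IsIso.hom_inv_id_assoc, hf]
    simp only [Category.assoc, Iso.inv_hom_id, Category.comp_id]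

end Derived

end Groth.Agent.Helper3.Tel4
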