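import Mathlib
import Groth.Prelude.Def_MoreMor
import Groth.Agent.Lib.Helper7.ThickSch6
import Groth.Agent.Lib.Helper3.NilFib

/-! Deformation of flatness along an arbitrary thickening, for a flat finitely presented total
space (Stacks 0CF4-type statements). -/

set_option autoImplicit false
set_option linter.style.haveILetI false
set_option linter.unusedVariables false
universe u

open AlgebraicGeometry CategoryTheory Limits

namespace Groth.Agent.Helper3.ThickFP

open Groth.Agent.Helper7.ThickAff Groth.Agent.Helper7.ThickAlg Groth.Agent.Helper7.ThickSch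
open TensorProduct

section RingHomVersion

variable {R' B' C' : Type u} [CommRing R'] [CommRing B'] [CommRing C']

theorem ringHom_flat_of_std_nil (ρ : R' →+* B') (φ' : B' →+* C') (I : Ideal R')
    (hI : I ≤ nilradical R') (hft : ρ.FiniteType) (hfp : (φ'.comp ρ).FinitePresentation)
    (hcomp : (φ'.comp ρ).Flat) (hstd : (stdMap φ' (I.map ρ)).Flat) : φ'.Flat := by
  letI := ρ.toAlgebra
  letI := φ'.toAlgebra
  letI := (φ'.comp ρ).toAlgebra
  haveI : IsScalarTower R' B' C' := IsScalarTower.of_algebraMap_eq (fun _ => rfl)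
  haveI : Module.Flat R' C' := hcomp
  haveI : Algebra.FiniteType R' B' := hft
  haveI : Algebra.FinitePresentation R' C' := hfp
  have h3 : Module.Flat (B' ⧸ I.map (algebraMap R' B'))
      (C' ⧸ (I.map (algebraMap R' B')).map (algebraMap B' C')) := by
    have h2 : @Module.Flat (B' ⧸ I.map ρ) (C' ⧸ (I.map ρ).map φ') _ _
      (stdMap φ' (I.map ρ)).toAlgebra.toModule := hstd
    rw [← alg_eq' φ' (I.map ρ)] at h2
    exact h2
  haveI := h3
  have h4 : Module.Flat (B' ⧸ I.map (algebraMap R' B'))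
      ((B' ⧸ I.map (algebraMap R' B')) ⊗[B'] C') :=
    Module.Flat.of_linearEquiv
      (Algebra.TensorProduct.quotIdealMapEquivQuotTensor C'
        (I.map (algebraMap R' B'))).symm.toLinearEquiv
  exact Groth.Agent.Helper3.NilFib.S0422_main (R := R') (S := B') (S' := C') (M := C') I
    (fun a ha => mem_nilradical.mp (hI ha)) h4

end RingHomVersion

variable {X X' Y Y' S S' : Scheme.{u}} {iX : X ⟶ X'} {iY : Y ⟶ Y'} {iS : S ⟶ S'}
  {f : X ⟶ Y} {f' : X' ⟶ Y'} {g : Y ⟶ S} {g' : Y' ⟶ S'}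

set_option backward.isDefEq.respectTransparency false in
/-- generic wrapper in the relative situation `X' ⟶ Y' ⟶ S'` with `X'` flat and locally of finite
presentation over `S'`, `Y'` locally of finite type over `S'`, for an arbitrary thickening. -/
theorem of_std₃' {P : MorphismProperty Scheme.{u}}
    {Q : ∀ {R S : Type u} [CommRing R] [CommRing S], (R →+* S) → Prop}
    [HasRingHomProperty P Q]
    (hQcomp : RingHom.StableUnderCompositionWithLocalizationAwaySource Q)
    (hS : MoreMor.IsThickening iS) (hcX : IsPullback iX (f ≫ g) (f' ≫ g') iS)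
    (hcY : IsPullback iY g g' iS) (w : iX ≫ f' = f ≫ iY) [Flat (f' ≫ g')]
    [LocallyOfFinitePresentation (f' ≫ g')] [LocallyOfFiniteType g']
    (Halg : ∀ {R' B' C' : Type u} [CommRing R'] [CommRing B'] [CommRing C'] (ρ : R' →+* B')
      (φ' : B' →+* C') (I : Ideal R'), I ≤ nilradical R' → ρ.FiniteType →
      (φ'.comp ρ).FinitePresentation → (φ'.comp ρ).Flat →
      Q (stdMap φ' (I.map ρ)) → Q φ')
    (hf : P f) : P f' := by
  obtain ⟨hcl, hsurj⟩ := hS
  haveI := hcl
  have hc : IsPullback iX f f' iY := IsPullback.of_bot hcX w hcY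
  haveI : IsClosedImmersion iY := isClosedImmersion_left hcY
  rw [HasRingHomProperty.iff_exists_appLE (P := P) hQcomp]
  intro x'
  obtain ⟨_, ⟨W', hW', rfl⟩, hxW', -⟩ :=
    S'.isBasis_affineOpens.exists_subset_of_mem_open
      (Set.mem_univ (g'.base (f'.base x'))) isOpen_univ
  obtain ⟨_, ⟨V', hV', rfl⟩, hxV', eV⟩ :=
    Y'.isBasis_affineOpens.exists_subset_of_mem_open hxW' (g' ⁻¹ᵁ W').isOpen
  obtain ⟨_, ⟨U', hU', rfl⟩, hxU', e'⟩ :=
    X'.isBasis_affineOpens.exists_subset_of_mem_open hxV' (f' ⁻¹ᵁ V').isOpen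
  refine ⟨⟨V', hV'⟩, ⟨U', hU'⟩, hxU', e', ?_⟩
  have hV : IsAffineOpen (iY ⁻¹ᵁ V') := hV'.preimage iY
  have hU : IsAffineOpen (UU iX iY f V' U') := isAffineOpen_UU hc V' U' hU' e'
  have hresp : RingHom.RespectsIso Q := (HasRingHomProperty.isLocal_ringHomProperty P).respectsIso
  have hstd := std_of_appLE (Q := Q) hresp hc V' hV' U' hU' e'
    (HasRingHomProperty.appLE P f hf ⟨_, hV⟩ ⟨_, hU⟩ (UU_le_right V' U'))
  have hJ : RingHom.ker (iY.appLE V' (iY ⁻¹ᵁ V') le_rfl).hom =
      (RingHom.ker (iS.appLE W' (iS ⁻¹ᵁ W') le_rfl).hom).map (g'.appLE W' V' eV).hom := by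
    rw [ker_appLE_congr iY V' _ _ (UU_eq hcY W' V' eV).symm le_rfl (UU_le_left W' V'),
      ker_appLE_eq_map hcY W' hW' V' hV' eV]
  rw [hJ] at hstd
  have hfl := HasRingHomProperty.appLE @Flat (f' ≫ g') inferInstance ⟨W', hW'⟩ ⟨U', hU'⟩
    (e'.trans (f'.preimage_mono eV))
  rw [← Scheme.Hom.appLE_comp_appLE _ _ W' V' U' eV e'] at hfl
  have hfp := HasRingHomProperty.appLE @LocallyOfFinitePresentation (f' ≫ g') inferInstance
    ⟨W', hW'⟩ ⟨U', hU'⟩ (e'.trans (f'.preimage_mono eV))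
  rw [← Scheme.Hom.appLE_comp_appLE _ _ W' V' U' eV e'] at hfp
  have hft := HasRingHomProperty.appLE @LocallyOfFiniteType g' inferInstance
    ⟨W', hW'⟩ ⟨V', hV'⟩ eV
  exact Halg (g'.appLE W' V' eV).hom (f'.appLE V' U' e').hom _
    (ker_appLE_le_nilradical hsurj.surj W' hW') hft hfp hfl hstd

theorem S1381_main (hS : MoreMor.IsThickening iS)
    (hcX : IsPullback iX (f ≫ g) (f' ≫ g') iS) (hcY : IsPullback iY g g' iS)
    (w : iX ≫ f' = f ≫ iY) [Flat (f' ≫ g')] [LocallyOfFinitePresentation (f' ≫ g')]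
    [LocallyOfFiniteType g'] :
    Flat f ↔ Flat f' := by
  refine ⟨fun hf => ?_, fun hf' => MorphismProperty.of_isPullback (isPullback_top hcX hcY w) hf'⟩
  refine of_std₃' (P := @Flat)
    (RingHom.Flat.stableUnderComposition.stableUnderCompositionWithLocalizationAway
      RingHom.Flat.holdsForLocalizationAway).1 hS hcX hcY w ?_ hf
  intro R' B' C' _ _ _ ρ φ' I hI hft hfp hcomp hstd
  exact ringHom_flat_of_std_nil ρ φ' I hI hft hfp hcomp hstd

end Groth.Agent.Helper3.ThickFP
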