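import Mathlib
import Groth.Prelude.Def_MoreMor
import Groth.Agent.Lib.Helper3.ThickFP1
import Groth.Agent.Lib.Lead.CritFib20

/-! Deformation of isomorphisms, open immersions, smooth and etale morphisms along an arbitrary
thickening, for a flat finitely presented total space. -/

set_option autoImplicit false
set_option linter.style.haveILetI false
set_option linter.unusedVariables false
universe u

open AlgebraicGeometry CategoryTheory Limits

namespace Groth.Agent.Helper3.ThickFP

open Groth.Agent.Helper7.ThickAff Groth.Agent.Helper7.ThickAlg Groth.Agent.Helper7.ThickSch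

variable {X X' Y Y' S S' : Scheme.{u}} {iX : X ⟶ X'} {iY : Y ⟶ Y'} {iS : S ⟶ S'}
  {f : X ⟶ Y} {f' : X' ⟶ Y'} {g : Y ⟶ S} {g' : Y' ⟶ S'}

lemma isThickening_left {X X' Y Y' : Scheme.{u}} {iX : X ⟶ X'} {iY : Y ⟶ Y'}
    {f : X ⟶ Y} {f' : X' ⟶ Y'}
    (hY : MoreMor.IsThickening iY) (hc : IsPullback iX f f' iY) :
    MoreMor.IsThickening iX := by
  obtain ⟨hcl, hsurj⟩ := hY
  haveI := hcl
  exact ⟨isClosedImmersion_left hc, surjective_left hc hsurj⟩

section

variable (hS : MoreMor.IsThickening iS)
  (hcX : IsPullback iX (f ≫ g) (f' ≫ g') iS) (hcY : IsPullback iY g g' iS)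
  (w : iX ≫ f' = f ≫ iY) [Flat (f' ≫ g')] [LocallyOfFinitePresentation (f' ≫ g')]
  [LocallyOfFiniteType g']

include hS hcX hcY w

theorem lfp_right : LocallyOfFinitePresentation f' :=
  Groth.Agent.Lead.CritFib.locallyOfFinitePresentation_of_comp f' g'

theorem lfp_left : LocallyOfFinitePresentation f :=
  haveI := lfp_right hS hcX hcY w
  MorphismProperty.of_isPullback (isPullback_top hcX hcY w) inferInstance

theorem S1385_main : Etale f ↔ Etale f' := by
  refine ⟨fun hf => ?_, fun hf' => MorphismProperty.of_isPullback (isPullback_top hcX hcY w) hf'⟩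
  haveI := lfp_right hS hcX hcY w
  haveI := lfp_left hS hcX hcY w
  haveI : Flat f' := (S1381_main hS hcX hcY w).mp inferInstance
  haveI : FormallyUnramified f' :=
    (S1314_main (isThickening_left hS hcY) (isPullback_top hcX hcY w)).mp inferInstance
  exact etale_of_flat_of_formallyUnramified f'

theorem S1383_main : IsOpenImmersion f ↔ IsOpenImmersion f' := by
  refine ⟨fun hf => ?_, fun hf' => MorphismProperty.of_isPullback (isPullback_top hcX hcY w) hf'⟩
  haveI := lfp_right hS hcX hcY w
  haveI := lfp_left hS hcX hcY w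
  haveI : Flat f' := (S1381_main hS hcX hcY w).mp inferInstance
  haveI : Mono f' :=
    (S1315_main (isThickening_left hS hcY) (isPullback_top hcX hcY w)).mp inferInstance
  exact IsOpenImmersion.of_flat_of_mono f'

set_option backward.isDefEq.respectTransparency false in
theorem S1382_main : IsIso f ↔ IsIso f' := by
  have hc := isPullback_top hcX hcY w
  refine ⟨fun hf => ?_, fun hf' => ?_⟩
  · haveI : IsOpenImmersion f' := (S1383_main hS hcX hcY w).mp inferInstance
    have hYs : Surjective iY := (isThickening_left hS hcY).2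
    haveI : Surjective f' := by
      constructor
      intro y'
      obtain ⟨y, rfl⟩ := hYs.surj y'
      obtain ⟨x, rfl⟩ := f.surjective y
      exact ⟨iX.base x, base_comm hc x⟩
    exact (isIso_iff_isOpenImmersion_and_surjective _).mpr ⟨inferInstance, inferInstance⟩
  · exact hc.flip.isIso_fst_of_isIso

theorem S1384_main : Smooth f ↔ Smooth f' := by
  have hc := isPullback_top hcX hcY w
  refine ⟨fun hf => ?_, fun hf' => MorphismProperty.of_isPullback hc hf'⟩
  haveI := lfp_right hS hcX hcY w
  haveI := lfp_left hS hcX hcY w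
  haveI : Flat f' := (S1381_main hS hcX hcY w).mp inferInstance
  have hXs : Surjective iX := (isThickening_left (isThickening_left hS hcY) hc).2
  rw [← Scheme.Hom.smoothLocus_eq_top_iff, eq_top_iff]
  intro x' _
  obtain ⟨x, rfl⟩ := hXs.surj x'
  have hx : x ∈ f.smoothLocus := by
    rw [(Scheme.Hom.smoothLocus_eq_top_iff (f := f)).mpr hf]
    trivial
  exact Groth.Agent.Lead.CritFib.mem_smoothLocus_of_flatAt_left f' iY f iX hc x hx
    (Flat.stalkMap f' _)

end

end Groth.Agent.Helper3.ThickFP
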