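import Groth.Agent.Lib.Helper9.GrLC.Watts
import Groth.Agent.Lib.Helper8.LC18

set_option autoImplicit false
universe u
open CategoryTheory

/-!
# Top local cohomology is `H^d_I(R) ⊗ -` (Watts-type argument for arbitrary modules)
-/

namespace Groth.Agent.Lib.Helper3.TopLC

open Abelian LocCoh TensorProduct
open Groth.Agent.Helper8.LC Groth.Agent.Helper9.GrLCLib

variable {R : Type u} [CommRing R] [IsNoetherianRing R]

/-- an Ext class from a finite module into an fg submodule which dies in the ambient module already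
dies in a larger fg submodule. -/
theorem exists_fg_kill (i : ℕ) : ∀ (X : Type u) [AddCommGroup X] [Module R X] [Module.Finite R X]
    (M : Type u) [AddCommGroup M] [Module R M] (N' : Submodule R M) (_ : N'.FG)
    (e : Abelian.Ext (ModuleCat.of R X) (ModuleCat.of R N') i)
    (_ : e.comp (Ext.mk₀ (ModuleCat.ofHom N'.subtype)) (add_zero i) = 0),
    ∃ (N : Submodule R M) (_ : N.FG) (h : N' ≤ N),
      e.comp (Ext.mk₀ (ModuleCat.ofHom (Submodule.inclusion h))) (add_zero i) = 0 := by
  induction i with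
  | zero =>
    intro X _ _ _ M _ _ N' hN' e he
    refine ⟨N', hN', le_rfl, ?_⟩
    obtain ⟨f, rfl⟩ : ∃ f, Ext.mk₀ f = e := ⟨_, Ext.mk₀_linearEquiv₀_apply (R := R) e⟩
    rw [Ext.mk₀_comp_mk₀, Ext.mk₀_eq_zero_iff] at he
    have hf : f = 0 := by
      haveI : Mono (ModuleCat.ofHom N'.subtype) :=
        (ModuleCat.mono_iff_injective _).mpr N'.injective_subtype
      rw [← cancel_mono (ModuleCat.ofHom N'.subtype), he, Limits.zero_comp]
    rw [hf, Ext.mk₀_zero, Ext.zero_comp]
  | succ i ih =>
    intro X _ _ _ M _ _ N' hN' e he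
    obtain ⟨k, π, hπ⟩ := Module.Finite.exists_fin' R X
    have hS := LinearMap.shortExact_shortComplexKer hπ
    haveI : Projective (ModuleCat.of R (Fin k → R)) :=
      (IsProjective.iff_projective (Fin k → R)).mp inferInstance
    have h0 : (Ext.mk₀ (LinearMap.shortComplexKer π).g).comp e (zero_add (i + 1)) = 0 :=
      Ext.eq_zero_of_projective _
    obtain ⟨x₁, hx₁⟩ := Ext.contravariant_sequence_exact₃ hS _ e h0 (add_comm 1 i)
    haveI : Module.Finite R (LinearMap.ker π) := Module.IsNoetherian.finite R _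
    have he' : hS.extClass.comp
        (x₁.comp (Ext.mk₀ (ModuleCat.ofHom N'.subtype)) (add_zero i)) (add_comm 1 i) = 0 := by
      rw [← Ext.comp_assoc_of_third_deg_zero, hx₁, he]
    obtain ⟨x₂, hx₂⟩ := Ext.contravariant_sequence_exact₁ hS _ _ (add_comm 1 i) he'
    cases i with
    | zero =>
      obtain ⟨g, rfl⟩ : ∃ g, Ext.mk₀ g = x₂ := ⟨_, Ext.mk₀_linearEquiv₀_apply (R := R) x₂⟩
      have hNfg : (N' ⊔ LinearMap.range g.hom).FG :=
        hN'.sup (by rw [LinearMap.range_eq_map]; exact Submodule.FG.map _ Module.Finite.fg_top)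
      have h : N' ≤ N' ⊔ LinearMap.range g.hom := le_sup_left
      let g' : ModuleCat.of R (Fin k → R) ⟶ ModuleCat.of R ↥(N' ⊔ LinearMap.range g.hom) :=
        ModuleCat.ofHom (g.hom.codRestrict (N' ⊔ LinearMap.range g.hom)
          (fun x => (le_sup_right : LinearMap.range g.hom ≤ N' ⊔ LinearMap.range g.hom)
            (LinearMap.mem_range_self _ x)))
      refine ⟨N' ⊔ LinearMap.range g.hom, hNfg, h, ?_⟩
      have key : x₁.comp (Ext.mk₀ (ModuleCat.ofHom (Submodule.inclusion h))) (add_zero 0) =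
          (Ext.mk₀ (LinearMap.shortComplexKer π).f).comp (Ext.mk₀ g') (zero_add 0) := by
        haveI : Mono (ModuleCat.ofHom (N' ⊔ LinearMap.range g.hom).subtype) :=
          (ModuleCat.mono_iff_injective _).mpr (Submodule.injective_subtype _)
        apply Ext.postcomp_mk₀_injective_of_mono _
          (ModuleCat.ofHom (N' ⊔ LinearMap.range g.hom).subtype)
        change (x₁.comp _ _).comp
            (Ext.mk₀ (ModuleCat.ofHom (N' ⊔ LinearMap.range g.hom).subtype)) (add_zero 0) =
          ((Ext.mk₀ _).comp (Ext.mk₀ g') _).comp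
            (Ext.mk₀ (ModuleCat.ofHom (N' ⊔ LinearMap.range g.hom).subtype)) (add_zero 0)
        rw [Ext.comp_assoc_of_third_deg_zero, Ext.mk₀_comp_mk₀, Ext.comp_assoc_of_third_deg_zero,
          Ext.mk₀_comp_mk₀]
        have e1 : ModuleCat.ofHom (Submodule.inclusion h) ≫
            ModuleCat.ofHom (N' ⊔ LinearMap.range g.hom).subtype = ModuleCat.ofHom N'.subtype := rfl
        have e2 : g' ≫ ModuleCat.ofHom (N' ⊔ LinearMap.range g.hom).subtype = g := rfl
        rw [e1, e2, hx₂]
      rw [← hx₁, Ext.comp_assoc_of_third_deg_zero, key]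
      exact hS.extClass_comp_assoc _
    | succ j =>
      have hx0 : x₂ = 0 := Ext.eq_zero_of_projective _
      rw [hx0, Ext.comp_zero] at hx₂
      obtain ⟨N, hN, h, hk⟩ := ih (LinearMap.ker π) M N' hN' x₁ hx₂.symm
      refine ⟨N, hN, h, ?_⟩
      rw [← hx₁, Ext.comp_assoc_of_third_deg_zero, hk, Ext.comp_zero]

variable (I : Ideal R) (d : ℕ)

/-- every class in `H^d_I(M)` comes from an fg submodule. -/
lemma exists_fg_lift (M : Type u) [AddCommGroup M] [Module R M] (u : H I d M) :
    ∃ (N : Submodule R M) (_ : N.FG) (v : H I d N), Watts.Tmap I d N.subtype v = u := by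
  obtain ⟨n, e, rfl⟩ := ι_rep I d (ModuleCat.of R M) u
  haveI : Module.Finite R (R ⧸ I ^ n) := Module.Finite.quotient R _
  obtain ⟨N, hN, e', he'⟩ := exists_fg_submodule_ext d (R ⧸ I ^ n) M e
  refine ⟨N, hN, ι I d n (ModuleCat.of R N) e', ?_⟩
  rw [Watts.Tmap_apply, ι_map, he']

/-- a class of an fg submodule dying in `H^d_I(M)` dies in a larger fg submodule. -/
lemma exists_fg_kill_H (M : Type u) [AddCommGroup M] [Module R M] (N' : Submodule R M)
    (hN' : N'.FG) (v : H I d N') (hv : Watts.Tmap I d N'.subtype v = 0) :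
    ∃ (N : Submodule R M) (_ : N.FG) (h : N' ≤ N),
      Watts.Tmap I d (Submodule.inclusion h) v = 0 := by
  obtain ⟨n, e, rfl⟩ := ι_rep I d (ModuleCat.of R N') v
  rw [Watts.Tmap_apply, ι_map, ι_eq_zero_iff] at hv
  obtain ⟨k, hk, hk'⟩ := hv
  rw [trans_comp] at hk'
  haveI : Module.Finite R (R ⧸ I ^ k) := Module.Finite.quotient R _
  obtain ⟨N, hN, h, hkill⟩ := exists_fg_kill d (R ⧸ I ^ k) M N' hN' _ hk'
  refine ⟨N, hN, h, ?_⟩
  rw [Watts.Tmap_apply, ι_map, ← ι_trans I d hk, trans_comp, hkill, map_zero]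

section Tau

lemma mu_add {M : Type u} [AddCommGroup M] [Module R M] (x y : M) :
    Watts.mu (R := R) (x + y) = Watts.mu x + Watts.mu y := by
  apply LinearMap.ext
  intro r
  simp [LinearMap.toSpanSingleton_apply]

lemma mu_smul {M : Type u} [AddCommGroup M] [Module R M] (r : R) (x : M) :
    Watts.mu (R := R) (r • x) = Watts.mu x ∘ₗ (r • (LinearMap.id : R →ₗ[R] R)) := by
  apply LinearMap.ext
  intro s
  simp only [LinearMap.toSpanSingleton_apply, LinearMap.comp_apply, LinearMap.smul_apply,
    LinearMap.id_apply, smul_eq_mul]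
  rw [smul_smul, mul_comm]

lemma comp_mu {M M' : Type u} [AddCommGroup M] [Module R M] [AddCommGroup M'] [Module R M']
    (g : M →ₗ[R] M') (x : M) : g ∘ₗ Watts.mu (R := R) x = Watts.mu (g x) := by
  apply LinearMap.ext
  intro s
  simp [LinearMap.toSpanSingleton_apply]

variable (M : Type u) [AddCommGroup M] [Module R M]

/-- the comparison map `H^d_I(R) ⊗ M → H^d_I(M)`. -/
noncomputable def τ : H I d R ⊗[R] M →ₗ[R] H I d M :=
  TensorProduct.lift (LinearMap.mk₂ R (fun h m => Watts.Tmap I d (Watts.mu m) h)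
    (fun h h' m => map_add _ _ _)
    (fun r h m => map_smul _ _ _)
    (fun h m m' => by rw [mu_add, Watts.Tmap_add])
    (fun r h m => by rw [mu_smul, Watts.Tmap_comp, Watts.Tmap_smul_id, map_smul]))

lemma τ_tmul (h : H I d R) (m : M) : τ I d M (h ⊗ₜ m) = Watts.Tmap I d (Watts.mu m) h := rfl

end Tau

lemma τ_natural {M M' : Type u} [AddCommGroup M] [Module R M] [AddCommGroup M'] [Module R M']
    (g : M →ₗ[R] M') (z : H I d R ⊗[R] M) :
    Watts.Tmap I d g (τ I d M z) = τ I d M' (LinearMap.lTensor (H I d R) g z) := by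
  induction z using TensorProduct.induction_on with
  | zero => rw [map_zero, map_zero, map_zero, map_zero]
  | tmul h m => rw [τ_tmul, LinearMap.lTensor_tmul, τ_tmul, ← Watts.Tmap_comp, comp_mu]
  | add x y hx hy => rw [map_add, map_add, hx, hy, map_add, map_add]

section Finite

variable (hcd : LocCoh.CdLE R I d) (N : Type u) [AddCommGroup N] [Module R N] [Module.Finite R N]

include hcd in
lemma τ_surjective_of_finite : Function.Surjective (τ I d N) := by
  intro u
  obtain ⟨t, m, hm⟩ := Module.Finite.exists_fin (R := R) (M := N)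
  have hsurj : Function.Surjective (Fintype.linearCombination R m) := by
    rw [← LinearMap.range_eq_top, Fintype.range_linearCombination, hm]
  obtain ⟨h, rfl⟩ := Watts.exists_gen I d hcd m hsurj u
  refine ⟨∑ i, h i ⊗ₜ m i, ?_⟩
  rw [map_sum]
  rfl

omit [Module.Finite R N] in
lemma exists_sum_tmul {t : ℕ} (m : Fin t → N)
    (hm : Function.Surjective (Fintype.linearCombination R m)) (z : H I d R ⊗[R] N) :
    ∃ h : Fin t → H I d R, z = ∑ i, h i ⊗ₜ m i := by
  induction z using TensorProduct.induction_on with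
  | zero => exact ⟨0, by simp⟩
  | tmul h n =>
    obtain ⟨c, rfl⟩ := hm n
    refine ⟨fun i => c i • h, ?_⟩
    rw [Fintype.linearCombination_apply, TensorProduct.tmul_sum]
    refine Finset.sum_congr rfl (fun i _ => ?_)
    rw [TensorProduct.tmul_smul, TensorProduct.smul_tmul']
  | add x y hx hy =>
    obtain ⟨h₁, rfl⟩ := hx
    obtain ⟨h₂, rfl⟩ := hy
    exact ⟨h₁ + h₂, by simp [TensorProduct.add_tmul, Finset.sum_add_distrib]⟩

include hcd in
lemma τ_injective_of_finite : Function.Injective (τ I d N) := by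
  rw [injective_iff_map_eq_zero]
  intro z hz
  obtain ⟨t, m, hm⟩ := Module.Finite.exists_fin (R := R) (M := N)
  have hsurj : Function.Surjective (Fintype.linearCombination R m) := by
    rw [← LinearMap.range_eq_top, Fintype.range_linearCombination, hm]
  obtain ⟨h, rfl⟩ := exists_sum_tmul I d N m hsurj z
  have h0 : ∑ i, Watts.Tmap I d (Watts.mu (m i)) (h i) = 0 := by
    rw [← hz, map_sum]
    rfl
  obtain ⟨s, c, h', hc, hh⟩ := Watts.exists_rel I d hcd m hsurj h h0
  calc ∑ i, h i ⊗ₜ[R] m i = ∑ i, ∑ j, (c j i • h' j) ⊗ₜ[R] m i := by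
        refine Finset.sum_congr rfl (fun i _ => ?_)
        rw [hh i, TensorProduct.sum_tmul]
    _ = ∑ j, ∑ i, h' j ⊗ₜ[R] (c j i • m i) := by
        rw [Finset.sum_comm]
        refine Finset.sum_congr rfl (fun j _ => Finset.sum_congr rfl (fun i _ => ?_))
        rw [TensorProduct.smul_tmul]
    _ = ∑ j, h' j ⊗ₜ[R] (∑ i, c j i • m i) := by
        refine Finset.sum_congr rfl (fun j _ => ?_)
        rw [TensorProduct.tmul_sum]
    _ = 0 := by
        refine Finset.sum_eq_zero (fun j _ => ?_)
        rw [hc j, TensorProduct.tmul_zero]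

end Finite

theorem τ_bijective (hcd : LocCoh.CdLE R I d) (M : Type u) [AddCommGroup M] [Module R M] :
    Function.Bijective (τ I d M) := by
  constructor
  · rw [injective_iff_map_eq_zero]
    intro z hz
    obtain ⟨N', hN'fin, hzN'⟩ := TensorProduct.exists_finite_submodule_right_of_setFinite
      ({z} : Set (H I d R ⊗[R] M)) (Set.finite_singleton z)
    obtain ⟨z', rfl⟩ := hzN' (Set.mem_singleton z)
    rw [← τ_natural] at hz
    have hN'fg : N'.FG := Module.Finite.iff_fg.mp hN'fin
    obtain ⟨N, hN, h, hk⟩ := exists_fg_kill_H I d M N' hN'fg _ hz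
    haveI : Module.Finite R N := Module.Finite.iff_fg.mpr hN
    rw [τ_natural] at hk
    have h1 : LinearMap.lTensor (H I d R) (Submodule.inclusion h) z' = 0 :=
      τ_injective_of_finite I d hcd N (hk.trans (map_zero _).symm)
    have h2 : N'.subtype = N.subtype ∘ₗ Submodule.inclusion h := rfl
    rw [h2, LinearMap.lTensor_comp, LinearMap.comp_apply, h1, map_zero]
  · intro u
    obtain ⟨N, hN, v, rfl⟩ := exists_fg_lift I d M u
    haveI : Module.Finite R N := Module.Finite.iff_fg.mpr hN
    obtain ⟨z, rfl⟩ := τ_surjective_of_finite I d hcd N v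
    exact ⟨LinearMap.lTensor _ N.subtype z, (τ_natural I d N.subtype z).symm⟩

/-- **S17757**. -/
theorem main (d : ℕ) (hd : ringKrullDim R = d) (I : Ideal R) (M : Type u) [AddCommGroup M]
    [Module R M] : Nonempty (LocCoh.H I d M ≃ₗ[R] TensorProduct R (LocCoh.H I d R) M) :=
  ⟨(LinearEquiv.ofBijective (τ I d M)
    (τ_bijective I d (cdLE_of_ringKrullDim_le I d hd.le) M)).symm⟩

end Groth.Agent.Lib.Helper3.TopLC
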