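import Mathlib

/-! Long exact sequence for `Tor` in the first variable (ModuleCat), in vanishing form. -/

open CategoryTheory MonoidalCategory Limits

namespace Groth.Agent.Helper3.TorLES

universe u
variable {R : Type u} [CommRing R]

/-- The complex `M ⊗ Q`. -/
noncomputable abbrev tq (M : ModuleCat.{u} R) (Q : ChainComplex (ModuleCat.{u} R) ℕ) :
    ChainComplex (ModuleCat.{u} R) ℕ :=
  ((tensorLeft M).mapHomologicalComplex _).obj Q

/-- The map `M₁ ⊗ Q ⟶ M₂ ⊗ Q`. -/
noncomputable abbrev tqMap {M₁ M₂ : ModuleCat.{u} R} (f : M₁ ⟶ M₂)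
    (Q : ChainComplex (ModuleCat.{u} R) ℕ) : tq M₁ Q ⟶ tq M₂ Q :=
  (NatTrans.mapHomologicalComplex ((tensoringLeft (ModuleCat.{u} R)).map f) _).app Q

lemma tqMap_f {M₁ M₂ : ModuleCat.{u} R} (f : M₁ ⟶ M₂)
    (Q : ChainComplex (ModuleCat.{u} R) ℕ) (n : ℕ) :
    (tqMap f Q).f n = f ▷ Q.X n := rfl

lemma isZero_tor_iff (M S : ModuleCat.{u} R) (P : ProjectiveResolution S) (i : ℕ) :
    IsZero (((Tor (ModuleCat.{u} R) i).obj M).obj S) ↔ IsZero ((tq M P.complex).homology i) :=
  (P.isoLeftDerivedObj (tensorLeft M) i).isZero_iff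

/-- The short complex of complexes `M₁ ⊗ Q → M₂ ⊗ Q → M₃ ⊗ Q`. -/
noncomputable def sc {M₁ M₂ M₃ : ModuleCat.{u} R} (f : M₁ ⟶ M₂) (g : M₂ ⟶ M₃) (w : f ≫ g = 0)
    (Q : ChainComplex (ModuleCat.{u} R) ℕ) : ShortComplex (ChainComplex (ModuleCat.{u} R) ℕ) :=
  ShortComplex.mk (tqMap f Q) (tqMap g Q) (by
    apply HomologicalComplex.hom_ext
    intro n
    show (f ▷ Q.X n) ≫ (g ▷ Q.X n) = 0
    rw [← MonoidalCategory.comp_whiskerRight, w, MonoidalPreadditive.zero_whiskerRight])

lemma sc_shortExact {M₁ M₂ M₃ : ModuleCat.{u} R} (f : M₁ ⟶ M₂) (g : M₂ ⟶ M₃) (w : f ≫ g = 0)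
    (hf : Function.Injective f.hom) (hfg : Function.Exact f.hom g.hom)
    (hg : Function.Surjective g.hom)
    (Q : ChainComplex (ModuleCat.{u} R) ℕ) (hQ : ∀ n, Module.Flat R (Q.X n)) :
    (sc f g w Q).ShortExact := by
  rw [HomologicalComplex.shortExact_iff_degreewise_shortExact]
  intro n
  have hn := hQ n
  refine ShortComplex.ShortExact.mk' ?_ ?_ ?_
  · rw [ShortComplex.ShortExact.moduleCat_exact_iff_function_exact]
    show Function.Exact ((f ▷ Q.X n).hom) ((g ▷ Q.X n).hom)
    rw [ModuleCat.hom_whiskerRight, ModuleCat.hom_whiskerRight]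
    exact rTensor_exact (Q.X n) hfg hg
  · rw [ModuleCat.mono_iff_injective]
    show Function.Injective ((f ▷ Q.X n).hom)
    rw [ModuleCat.hom_whiskerRight]
    exact Module.Flat.rTensor_preserves_injective_linearMap _ hf
  · rw [ModuleCat.epi_iff_surjective]
    show Function.Surjective ((g ▷ Q.X n).hom)
    rw [ModuleCat.hom_whiskerRight]
    exact LinearMap.rTensor_surjective _ hg


lemma isZero_tor_succ_of_flat (M S : ModuleCat.{u} R) [Module.Flat R M] (i : ℕ) :
    IsZero (((Tor (ModuleCat.{u} R) (i + 1)).obj M).obj S) := by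
  let P := projectiveResolution S
  rw [isZero_tor_iff M S P]
  have h : (tq M P.complex).ExactAt (i + 1) :=
    ShortComplex.Exact.map (P.complex_exactAt_succ i) (tensorLeft M)
  exact h.isZero_homology

lemma flat_of_projective_X (S : ModuleCat.{u} R) (P : ProjectiveResolution S) (n : ℕ) :
    Module.Flat R (P.complex.X n) := by
  have : Projective (P.complex.X n) := P.projective n
  have : Module.Projective R (P.complex.X n) :=
    (IsProjective.iff_projective (P.complex.X n)).mpr this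
  infer_instance

section
variable {M₁ M₂ M₃ : ModuleCat.{u} R} (f : M₁ ⟶ M₂) (g : M₂ ⟶ M₃)
    (hf : Function.Injective f.hom) (hfg : Function.Exact f.hom g.hom)
    (hg : Function.Surjective g.hom) (S : ModuleCat.{u} R)
include hf hfg hg

lemma isZero_tor_mid (i : ℕ)
    (h₁ : IsZero (((Tor (ModuleCat.{u} R) i).obj M₁).obj S))
    (h₃ : IsZero (((Tor (ModuleCat.{u} R) i).obj M₃).obj S)) :
    IsZero (((Tor (ModuleCat.{u} R) i).obj M₂).obj S) := by
  let P := projectiveResolution S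
  rw [isZero_tor_iff _ S P] at h₁ h₃ ⊢
  have w : f ≫ g = 0 := by
    ext x
    exact hfg.apply_apply_eq_zero x
  have hS := sc_shortExact f g w hf hfg hg P.complex (flat_of_projective_X S P)
  have := hS.homology_exact₂ i
  exact this.isZero_of_both_zeros (h₁.eq_of_src _ _) (h₃.eq_of_tgt _ _)

lemma isZero_tor_left (i : ℕ)
    (h₃ : IsZero (((Tor (ModuleCat.{u} R) (i + 1)).obj M₃).obj S))
    (h₂ : IsZero (((Tor (ModuleCat.{u} R) i).obj M₂).obj S)) :
    IsZero (((Tor (ModuleCat.{u} R) i).obj M₁).obj S) := by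
  let P := projectiveResolution S
  rw [isZero_tor_iff _ S P] at h₃ h₂ ⊢
  have w : f ≫ g = 0 := by
    ext x
    exact hfg.apply_apply_eq_zero x
  have hS := sc_shortExact f g w hf hfg hg P.complex (flat_of_projective_X S P)
  have := hS.homology_exact₁ (i + 1) i (by simp)
  exact this.isZero_of_both_zeros (h₃.eq_of_src _ _) (h₂.eq_of_tgt _ _)

end

end Groth.Agent.Helper3.TorLES
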