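import Mathlib
import Groth.Prelude.Def_MoreMor
import Groth.Agent.Lib.Helper3.PerfLoc2
import Groth.Agent.Lib.Helper5.DRing.RelPC4

/-! Openness of the finite tor dimension locus of a pseudo-coherent module, and the resulting
local-to-global principle for perfect modules. -/

set_option autoImplicit false
universe u
open CategoryTheory CategoryTheory.Limits TensorProduct DerivedCategory

attribute [local instance] HasDerivedCategory.standard

namespace Groth.Agent.Helper3.PCLoc
open Groth.Agent.Helper5.PCHom Groth.Agent.Helper5.PCRes Groth.Agent.Helper3.PerfHom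
open Groth.Agent.Helper5.TorAmp Groth.Agent.Helper5.FlatBC Groth.Agent.Helper5.PerfHom

section shift

variable {R : Type u} [CommRing R]

/-- dimension shifting, downwards -/
theorem torAmp_X₁_of_X₃ (S : ShortComplex (ModuleCat.{u} R)) (hS : S.ShortExact)
    [Module.Flat R S.X₂] (d : ℕ)
    (h : DRing.HasTorAmplitudeIn R (-((d + 1 : ℕ) : ℤ)) 0
      ((singleFunctor (ModuleCat.{u} R) 0).obj S.X₃)) :
    DRing.HasTorAmplitudeIn R (-(d : ℤ)) 0 ((singleFunctor (ModuleCat.{u} R) 0).obj S.X₁) := by
  have hT := hS.singleTriangle_distinguished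
  have hF : DRing.HasTorAmplitudeIn R (-((d + 1 : ℕ) : ℤ) + 1) (0 + 1) hS.singleTriangle.obj₂ :=
    hasTorAmplitudeIn_mono (hasTorAmplitudeIn_single_of_flat S.X₂) (by push_cast; omega)
      (by omega)
  have hZ := (hasTorAmplitudeIn_of_distTriang _ _ _ hT).2.2 hF h
  have hZ' : DRing.HasTorAmplitudeIn R (-((d + 1 : ℕ) : ℤ) + 1) (0 + 1)
      ((singleFunctor (ModuleCat.{u} R) 0).obj S.X₁) := hZ
  have := hasTorAmplitudeIn_trim (b' := 0) hZ'
  exact hasTorAmplitudeIn_mono this (by push_cast; omega) le_rfl

/-- dimension shifting, upwards -/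
theorem torAmp_X₃_of_X₁ (S : ShortComplex (ModuleCat.{u} R)) (hS : S.ShortExact)
    [Module.Flat R S.X₂] (d : ℕ)
    (h : DRing.HasTorAmplitudeIn R (-(d : ℤ)) 0 ((singleFunctor (ModuleCat.{u} R) 0).obj S.X₁)) :
    DRing.HasTorAmplitudeIn R (-((d + 1 : ℕ) : ℤ)) 0
      ((singleFunctor (ModuleCat.{u} R) 0).obj S.X₃) := by
  have hT := hS.singleTriangle_distinguished
  have hZ' : DRing.HasTorAmplitudeIn R (-((d + 1 : ℕ) : ℤ) + 1) (0 + 1) hS.singleTriangle.obj₁ :=
    hasTorAmplitudeIn_mono h (by push_cast; omega) (by omega)
  have hF : DRing.HasTorAmplitudeIn R (-((d + 1 : ℕ) : ℤ)) 0 hS.singleTriangle.obj₂ :=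
    hasTorAmplitudeIn_mono (hasTorAmplitudeIn_single_of_flat S.X₂) (by push_cast; omega) le_rfl
  exact (hasTorAmplitudeIn_of_distTriang _ _ _ hT).1 hZ' hF

end shift

section ses

variable {R : Type u} [CommRing R] (R' : Type u) [CommRing R'] [Algebra R R'] [Module.Flat R R']
variable {K F M : Type u} [AddCommGroup K] [Module R K] [AddCommGroup F] [Module R F]
  [AddCommGroup M] [Module R M] (i : K →ₗ[R] F) (p : F →ₗ[R] M)

/-- the base change of a short complex of modules -/
noncomputable def bcSC (hex : Function.Exact i p) : ShortComplex (ModuleCat.{u} R') :=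
  ModuleCat.shortComplexOfCompEqZero (i.baseChange R') (p.baseChange R') (by
    rw [← LinearMap.baseChange_comp, hex.linearMap_comp_eq_zero, LinearMap.baseChange_zero])

theorem bcSC_shortExact (hi : Function.Injective i) (hp : Function.Surjective p)
    (hex : Function.Exact i p) : (bcSC R' i p hex).ShortExact := by
  refine ModuleCat.shortComplex_shortExact _ ?_ ?_ ?_
  · show Function.Exact (i.baseChange R') (p.baseChange R')
    exact lTensor_exact R' hex hp
  · show Function.Injective (i.baseChange R')
    exact Module.Flat.lTensor_preserves_injective_linearMap i hi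
  · show Function.Surjective (p.baseChange R')
    exact LinearMap.lTensor_surjective R' hp

end ses

section pres

variable (P : Type u) [CommRing P]

/-- a pseudo-coherent module is finitely generated -/
theorem finite_of_pcModule' (M : Type u) [AddCommGroup M] [Module P M]
    (h : DRing.IsPseudoCoherentModule' P M) : Module.Finite P M :=
  (Groth.Agent.Helper5.PCDev.s6935 M).1.1 ((allPC_iff_pcModule' M).2 h 0)

/-- a pseudo-coherent module is finitely presented -/
theorem fp_of_pcModule' (M : Type u) [AddCommGroup M] [Module P M]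
    (h : DRing.IsPseudoCoherentModule' P M) : Module.FinitePresentation P M :=
  (Groth.Agent.Helper5.PCDev.s6935 M).2.1 ((allPC_iff_pcModule' M).2 h (-1))

/-- the first syzygy of a pseudo-coherent module is pseudo-coherent -/
theorem exists_pres_of_pcModule' (M : Type u) [AddCommGroup M] [Module P M]
    (h : DRing.IsPseudoCoherentModule' P M) :
    ∃ (n : ℕ) (p : (Fin n → P) →ₗ[P] M), Function.Surjective p ∧
      DRing.IsPseudoCoherentModule' P (LinearMap.ker p) := by
  haveI := finite_of_pcModule' P M h
  obtain ⟨n, p, hp⟩ := Module.Finite.exists_fin' P M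
  refine ⟨n, p, hp, ?_⟩
  have hS := LinearMap.shortExact_shortComplexKer hp
  have hM : AllPC (ModuleCat.of P M) := (allPC_iff_pcModule' M).2 h
  have hF : AllPC (ModuleCat.of P (Fin n → P)) := allPC_of_finite_free
  rw [← allPC_iff_pcModule']
  intro m
  have := (Groth.Agent.S2067.main _ hS.singleTriangle_distinguished (m - 1)).2.2
    (by simpa using hF (m - 1 + 1)) (hM (m - 1))
  simpa using this

end pres

section spread

variable (P : Type u) [CommRing P] (Q : Ideal P) [Q.IsPrime]

/-- spreading out a bound on the tor dimension of a pseudo-coherent module from the local ring at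
a prime to a principal open neighbourhood -/
theorem exists_away_torAmp : ∀ (d : ℕ) (M : Type u) [AddCommGroup M] [Module P M],
    DRing.IsPseudoCoherentModule' P M →
    DRing.HasTorAmplitudeIn (Localization.AtPrime Q) (-(d : ℤ)) 0
      (Dual.inD (Localization.AtPrime Q) (Localization.AtPrime Q ⊗[P] M)) →
    ∃ f : P, f ∉ Q ∧ DRing.HasTorAmplitudeIn (Localization.Away f) (-(d : ℤ)) 0
      (Dual.inD (Localization.Away f) (Localization.Away f ⊗[P] M)) := by
  intro d
  induction d with
  | zero =>
    intro M _ _ hpc h
    haveI := fp_of_pcModule' P M hpc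
    haveI : Module.Flat (Localization.AtPrime Q) (Localization.AtPrime Q ⊗[P] M) :=
      flat_of_hasTorAmplitudeIn_single (ModuleCat.of _ _) (by simpa using h)
    haveI : Module.Free (Localization.AtPrime Q) (Localization.AtPrime Q ⊗[P] M) :=
      Module.free_of_flat_of_isLocalRing
    obtain ⟨r, hr, hfree, -⟩ := Module.FinitePresentation.exists_free_localizedModule_powers
      Q.primeCompl (TensorProduct.mk P (Localization.AtPrime Q) M 1) (Localization.AtPrime Q)
    refine ⟨r, hr, ?_⟩
    have hbc : IsBaseChange (Localization.Away r)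
        (LocalizedModule.mkLinearMap (Submonoid.powers r) M) :=
      IsLocalizedModule.isBaseChange (Submonoid.powers r) (Localization.Away r) _
    haveI : Module.Flat (Localization.Away r) (Localization.Away r ⊗[P] M) :=
      Module.Flat.of_linearEquiv hbc.equiv
    simpa using hasTorAmplitudeIn_single_of_flat
      (ModuleCat.of (Localization.Away r) (Localization.Away r ⊗[P] M))
  | succ d ih =>
    intro M _ _ hpc h
    obtain ⟨n, p, hp, hK⟩ := exists_pres_of_pcModule' P M hpc
    have hex : Function.Exact (LinearMap.ker p).subtype p := LinearMap.exact_subtype_ker_map p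
    have hi := (LinearMap.ker p).injective_subtype
    have hS := bcSC_shortExact (Localization.AtPrime Q) _ p hi hp hex
    haveI : Module.Flat (Localization.AtPrime Q) (bcSC (Localization.AtPrime Q) _ p hex).X₂ :=
      (inferInstance : Module.Flat (Localization.AtPrime Q)
        (Localization.AtPrime Q ⊗[P] (Fin n → P)))
    have h1 := torAmp_X₁_of_X₃ _ hS d h
    obtain ⟨f, hf, h2⟩ := ih (LinearMap.ker p) hK h1
    refine ⟨f, hf, ?_⟩
    have hS' := bcSC_shortExact (Localization.Away f) _ p hi hp hex
    haveI : Module.Flat (Localization.Away f) (bcSC (Localization.Away f) _ p hex).X₂ :=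
      (inferInstance : Module.Flat (Localization.Away f)
        (Localization.Away f ⊗[P] (Fin n → P)))
    exact torAmp_X₃_of_X₁ _ hS' d h2

end spread

section glob

variable (P : Type u) [CommRing P]

/-- a pseudo-coherent module which has finite tor dimension at every prime is perfect -/
theorem isPerfectModule_of_local_ftd (M : Type u) [AddCommGroup M] [Module P M]
    (hpc : DRing.IsPseudoCoherentModule' P M)
    (h : ∀ (Q : Ideal P) [Q.IsPrime],
      DRing.HasFiniteTorDim (Localization.AtPrime Q) (Localization.AtPrime Q ⊗[P] M)) :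
    DRing.IsPerfectModule P M := by
  classical
  let S : Set P := {f | DRing.IsPerfectModule (Localization.Away f) (Localization.Away f ⊗[P] M)}
  have hloc : ∀ (Q : Ideal P) [Q.IsPrime], ∃ f ∈ S, f ∉ Q := by
    intro Q _
    obtain ⟨d, hd⟩ := h Q
    obtain ⟨f, hf, hamp⟩ := exists_away_torAmp P Q d M hpc (((s6946 _ d).1).1 hd)
    refine ⟨f, ?_, hf⟩
    show DRing.IsPerfect _ _
    rw [Groth.Agent.Helper5.TorAmp.s6954]
    exact ⟨(Groth.Agent.Helper5.FlatBC.s7000 (Localization.Away f) 0 M).2 hpc, _, _, hamp⟩
  have htop : Ideal.span S = ⊤ := by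
    by_contra hne
    obtain ⟨Q, hQ, hle⟩ := Ideal.exists_le_maximal _ hne
    obtain ⟨f, hfS, hfQ⟩ := hloc Q
    exact hfQ (hle (Ideal.subset_span hfS))
  obtain ⟨t, htS, ht⟩ := (Ideal.span_eq_top_iff_finite S).1 htop
  let f : Fin t.card → P := fun i => (t.equivFin.symm i : P)
  have hrange : Set.range f = (t : Set P) := by
    ext x
    constructor
    · rintro ⟨i, rfl⟩
      exact (t.equivFin.symm i).2
    · intro hx
      exact ⟨t.equivFin ⟨x, hx⟩, by simp [f]⟩
  refine isPerfectModule_of_cover f (by rw [hrange]; exact ht) M (fun i => ?_)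
  exact htS (t.equivFin.symm i).2

end glob

end Groth.Agent.Helper3.PCLoc
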