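import Mathlib
import Groth.Prelude.Def_MoreMor
import Groth.Agent.Lib.Helper3.TorLoc1

/-! Perfect ring maps and finite tor dimension of the local rings. -/

set_option autoImplicit false
universe u
open CategoryTheory CategoryTheory.Limits TensorProduct DerivedCategory

attribute [local instance] HasDerivedCategory.standard

namespace Groth.Agent.Helper3.PCLoc
open Groth.Agent.Helper5.PCHom Groth.Agent.Helper5.PCRes Groth.Agent.Helper3.PerfHom
open Groth.Agent.Helper5.TorAmp Groth.Agent.Helper5.FlatBC Groth.Agent.Helper5.PerfHom

section basics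

/-- a flat module has finite tor dimension -/
theorem ftd_of_flat {R : Type u} [CommRing R] (M : Type u) [AddCommGroup M] [Module R M]
    [Module.Flat R M] : DRing.HasFiniteTorDim R M :=
  ⟨0, (s6946 M 0).2.2 inferInstance⟩

/-- finite tor dimension passes to modules over a localization -/
theorem ftd_of_isLocalization {A : Type u} [CommRing A] (S : Submonoid A) (Ap : Type u)
    [CommRing Ap] [Algebra A Ap] [IsLocalization S Ap] (N : Type u) [AddCommGroup N] [Module A N]
    [Module Ap N] [IsScalarTower A Ap N] (h : DRing.HasFiniteTorDim A N) :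
    DRing.HasFiniteTorDim Ap N := by
  haveI : Module.Flat A Ap := IsLocalization.flat Ap S
  haveI := isLocalizedModule_id S N Ap
  have hbc : IsBaseChange Ap (LinearMap.id : N →ₗ[A] N) :=
    IsLocalizedModule.isBaseChange S Ap _
  exact ftd_baseChange (R := A) (R' := Ap) N N hbc.equiv h

/-- finite tor dimension of a module over an algebra, then over the base -/
theorem ftd_trans {R S : Type u} [CommRing R] [CommRing S] [Algebra R S] (N : Type u)
    [AddCommGroup N] [Module R N] [Module S N] [IsScalarTower R S N]
    (h1 : DRing.HasFiniteTorDim R S) (h2 : DRing.HasFiniteTorDim S N) :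
    DRing.HasFiniteTorDim R N := by
  obtain ⟨d, hd⟩ := h1
  have hB : DRing.HasTorAmplitudeIn R (-(d : ℤ)) 0 (Dual.inD R S) := ((s6946 S d).1).1 hd
  rw [finTorDim_iff] at h2 ⊢
  obtain ⟨a, b, hab⟩ := h2
  have h3 := Groth.Agent.Helper5.TorRes.s6947 d hB _ a b hab
  refine ⟨a - d, b, hasTorAmplitudeIn_of_iso ?_ h3⟩
  exact restrictDSingle (algebraMap R S) (ModuleCat.of S N) ≪≫
    (DerivedCategory.singleFunctor (ModuleCat.{u} R) 0).mapIso (restrictEquiv R S N).toModuleIso

/-- finite tor dimension of a ring map passes to the local rings -/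
theorem ftd_local_of_ftd {A B : Type u} [CommRing A] [CommRing B] [Algebra A B] (S : Submonoid A)
    (Ap Bq : Type u) [CommRing Ap] [CommRing Bq] [Algebra A Ap] [Algebra B Bq] [Algebra Ap Bq]
    [Algebra A Bq] [IsScalarTower A Ap Bq] [IsScalarTower A B Bq] [IsLocalization S Ap]
    [Module.Flat B Bq] (h : DRing.HasFiniteTorDim A B) : DRing.HasFiniteTorDim Ap Bq :=
  ftd_of_isLocalization S Ap Bq (ftd_comp h (ftd_of_flat Bq))

end basics

section main

variable {A B : Type u} [CommRing A] [CommRing B] [Algebra A B]

/-- the local data at a prime of `B` used in the pointwise criterion -/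
def LocalFtdAt (q : Ideal B) [q.IsPrime] : Prop :=
  ∃ (Ap Bq : Type u) (_ : CommRing Ap) (_ : CommRing Bq) (_ : Algebra A Ap) (_ : Algebra B Bq)
    (_ : Algebra Ap Bq) (_ : Algebra A Bq), IsScalarTower A Ap Bq ∧ IsScalarTower A B Bq ∧
      IsLocalization.AtPrime Bq q ∧ Module.Flat A Ap ∧ DRing.HasFiniteTorDim Ap Bq

/-- a pseudo-coherent ring map all of whose local rings have finite tor dimension is perfect -/
theorem perfectHom_of_local_ftd (hpc : MoreMor.IsPseudoCoherentHom A B)
    (h : ∀ (q : Ideal B) [q.IsPrime], LocalFtdAt (A := A) q) : MoreMor.IsPerfectHom A B := by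
  obtain ⟨n, α, hα, hpcM⟩ := hpc
  rw [perfectHom_iff_of_presentation α hα]
  letI : Algebra (MvPolynomial (Fin n) A) B := α.toRingHom.toAlgebra
  haveI : IsScalarTower A (MvPolynomial (Fin n) A) B :=
    IsScalarTower.of_algebraMap_eq (fun r => (α.commutes r).symm)
  refine isPerfectModule_of_local_ftd (MvPolynomial (Fin n) A) B hpcM ?_
  intro Q _
  by_cases hker : RingHom.ker α.toRingHom ≤ Q
  · -- the prime of `B` corresponding to `Q`
    have hsurj : Function.Surjective α.toRingHom := hα
    haveI hqp : (Q.map α.toRingHom).IsPrime := Ideal.map_isPrime_of_surjective hsurj hker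
    have hcomap : (Q.map α.toRingHom).comap α.toRingHom = Q := by
      rw [Ideal.comap_map_of_surjective _ hsurj]
      exact sup_eq_left.2 hker
    obtain ⟨Ap, Bq, _, _, _, _, _, _, hst1, hst2, hloc, hflat, hftd⟩ := h (Q.map α.toRingHom)
    -- `Bq` has finite tor dimension over `A`
    have h1 : DRing.HasFiniteTorDim A Bq := ftd_comp (ftd_of_flat Ap) hftd
    -- hence over the polynomial ring
    letI : Algebra (MvPolynomial (Fin n) A) Bq :=
      ((algebraMap B Bq).comp α.toRingHom).toAlgebra
    haveI : IsScalarTower (MvPolynomial (Fin n) A) B Bq :=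
      IsScalarTower.of_algebraMap_eq (fun _ => rfl)
    haveI : IsScalarTower A (MvPolynomial (Fin n) A) Bq :=
      IsScalarTower.of_algebraMap_eq (fun r => by
        rw [IsScalarTower.algebraMap_apply A B Bq,
          IsScalarTower.algebraMap_apply A (MvPolynomial (Fin n) A) B,
          ← IsScalarTower.algebraMap_apply (MvPolynomial (Fin n) A) B Bq])
    have h2 : DRing.HasFiniteTorDim (MvPolynomial (Fin n) A) Bq := ftd_mvPolynomial Bq h1
    -- `Bq` is the localization of the module `B` at `Q`
    haveI : IsLocalization (Algebra.algebraMapSubmonoid B Q.primeCompl) Bq := by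
      have heq : Algebra.algebraMapSubmonoid B Q.primeCompl = (Q.map α.toRingHom).primeCompl := by
        ext x
        constructor
        · rintro ⟨y, hy, rfl⟩
          intro hx
          apply hy
          rw [← hcomap]
          exact hx
        · intro hx
          obtain ⟨y, rfl⟩ := hsurj x
          refine ⟨y, ?_, rfl⟩
          intro hy
          exact hx (Ideal.mem_map_of_mem _ hy)
      rw [heq]
      exact hloc
    have hlm : IsLocalizedModule Q.primeCompl
        (IsScalarTower.toAlgHom (MvPolynomial (Fin n) A) B Bq).toLinearMap :=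
      inferInstance
    let e1 : Bq ≃ₗ[MvPolynomial (Fin n) A] Localization.AtPrime Q ⊗[MvPolynomial (Fin n) A] B :=
      IsLocalizedModule.linearEquiv Q.primeCompl
        (IsScalarTower.toAlgHom (MvPolynomial (Fin n) A) B Bq).toLinearMap
        (TensorProduct.mk (MvPolynomial (Fin n) A) (Localization.AtPrime Q) B 1)
    have h3 : DRing.HasFiniteTorDim (MvPolynomial (Fin n) A)
        (Localization.AtPrime Q ⊗[MvPolynomial (Fin n) A] B) := ftd_of_equiv e1 h2
    exact ftd_of_isLocalization Q.primeCompl (Localization.AtPrime Q) _ h3
  · -- the localization of `B` at `Q` vanishes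
    obtain ⟨g, hg, hgQ⟩ := Set.not_subset.1 hker
    haveI : Subsingleton (Localization.AtPrime Q ⊗[MvPolynomial (Fin n) A] B) := by
      have hu : IsUnit (algebraMap (MvPolynomial (Fin n) A) (Localization.AtPrime Q) g) :=
        IsLocalization.map_units (Localization.AtPrime Q) (⟨g, hgQ⟩ : Q.primeCompl)
      have h0 : ∀ z : Localization.AtPrime Q ⊗[MvPolynomial (Fin n) A] B, z = 0 := by
        intro z
        have h3 : (algebraMap (MvPolynomial (Fin n) A) (Localization.AtPrime Q) g) • z = 0 := by
          rw [algebraMap_smul]
          induction z using TensorProduct.induction_on with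
          | zero => simp
          | tmul x y =>
            rw [TensorProduct.smul_tmul', TensorProduct.smul_tmul]
            have : g • y = 0 := by
              rw [Algebra.smul_def]
              have : algebraMap (MvPolynomial (Fin n) A) B g = 0 := hg
              rw [this, zero_mul]
            rw [this, TensorProduct.tmul_zero]
          | add x y hx hy => rw [smul_add, hx, hy, add_zero]
        calc z = (hu.unit⁻¹ : (Localization.AtPrime Q)ˣ) •
              ((hu.unit : (Localization.AtPrime Q)ˣ) • z) := by
              rw [smul_smul, inv_mul_cancel, one_smul]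
          _ = 0 := by
              rw [show ((hu.unit : (Localization.AtPrime Q)ˣ) • z) =
                (algebraMap (MvPolynomial (Fin n) A) (Localization.AtPrime Q) g) • z from rfl, h3,
                smul_zero]
      exact ⟨fun a b => (h0 a).trans (h0 b).symm⟩
    exact ftd_of_flat _

end main

end Groth.Agent.Helper3.PCLoc
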