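import Mathlib
import Groth.Prelude.Def_MoreMor
import Groth.Agent.Lib.Helper3.TorLoc2
import Groth.Agent.Lib.Helper3.PerfLoc3

/-! S7174: a pseudo-coherent morphism is perfect iff its local rings have finite tor dimension. -/

set_option autoImplicit false
universe u
open CategoryTheory CategoryTheory.Limits TensorProduct DerivedCategory AlgebraicGeometry

attribute [local instance] HasDerivedCategory.standard

namespace Groth.Agent.Helper3.PCLoc

section stalks

variable {X S : Scheme.{u}} (f : X ⟶ S)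

/-- compatibility of germs with the stalk map -/
theorem germ_appLE_apply (U : X.Opens) (V : S.Opens) (hUV : U ≤ f ⁻¹ᵁ V) (x : X) (hx : x ∈ U)
    (a : Γ(S, V)) :
    (f.stalkMap x).hom ((S.presheaf.germ V (f x) (hUV hx)).hom a) =
      (X.presheaf.germ U x hx).hom ((f.appLE V U hUV).hom a) := by
  have h1 := Scheme.Hom.germ_stalkMap_apply f V x (hUV hx) a
  have h2 : (X.presheaf.germ U x hx).hom ((f.appLE V U hUV).hom a) =
      (X.presheaf.germ (f ⁻¹ᵁ V) x (hUV hx)).hom ((f.app V).hom a) := by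
    simp only [Scheme.Hom.appLE, CommRingCat.hom_comp, RingHom.comp_apply]
    exact TopCat.Presheaf.germ_res_apply X.presheaf (homOfLE hUV) x hx _
  exact h1.trans h2.symm

end stalks

/-- S7174 -/
theorem S7174_main {X S : Scheme.{u}} (f : X ⟶ S) (hf : MoreMor.IsPseudoCoherentMor f) :
    MoreMor.IsPerfectMor f ↔ ∀ x : X,
      (letI := (f.stalkMap x).hom.toAlgebra
       DRing.HasFiniteTorDim ↑(S.presheaf.stalk (f x)) ↑(X.presheaf.stalk x)) := by
  constructor
  · intro hperf x
    obtain ⟨V, hV, hfxV⟩ : ∃ V : S.Opens, IsAffineOpen V ∧ f x ∈ V := by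
      obtain ⟨V, hV, hx, -⟩ := TopologicalSpace.Opens.isBasis_iff_nbhd.mp
        S.isBasis_affineOpens (TopologicalSpace.Opens.mem_top (f x))
      exact ⟨V, hV, hx⟩
    obtain ⟨U, hU, hxU, hUV⟩ : ∃ U : X.Opens, IsAffineOpen U ∧ x ∈ U ∧ U ≤ f ⁻¹ᵁ V := by
      obtain ⟨U, hU, hx, hle⟩ := TopologicalSpace.Opens.isBasis_iff_nbhd.mp
        X.isBasis_affineOpens (show x ∈ f ⁻¹ᵁ V from hfxV)
      exact ⟨U, hU, hx, hle⟩
    letI := (f.appLE V U hUV).hom.toAlgebra
    have hAB : DRing.HasFiniteTorDim Γ(S, V) Γ(X, U) := (hperf U V hU hV hUV).2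
    letI := (f.stalkMap x).hom.toAlgebra
    letI : Algebra Γ(S, V) (S.presheaf.stalk (f x)) :=
      (S.presheaf.germ V (f x) hfxV).hom.toAlgebra
    letI : Algebra Γ(X, U) (X.presheaf.stalk x) := (X.presheaf.germ U x hxU).hom.toAlgebra
    letI : Algebra Γ(S, V) (X.presheaf.stalk x) :=
      ((X.presheaf.germ U x hxU).hom.comp (f.appLE V U hUV).hom).toAlgebra
    haveI : IsScalarTower Γ(S, V) Γ(X, U) (X.presheaf.stalk x) :=
      IsScalarTower.of_algebraMap_eq (fun _ => rfl)
    haveI : IsScalarTower Γ(S, V) (S.presheaf.stalk (f x)) (X.presheaf.stalk x) :=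
      IsScalarTower.of_algebraMap_eq (fun a => (germ_appLE_apply f U V hUV x hxU a).symm)
    haveI : IsLocalization.AtPrime (S.presheaf.stalk (f x))
        (hV.primeIdealOf ⟨f x, hfxV⟩).asIdeal := hV.isLocalization_stalk ⟨f x, hfxV⟩
    haveI : IsLocalization.AtPrime (X.presheaf.stalk x)
        (hU.primeIdealOf ⟨x, hxU⟩).asIdeal := hU.isLocalization_stalk ⟨x, hxU⟩
    haveI : Module.Flat Γ(X, U) (X.presheaf.stalk x) :=
      IsLocalization.flat _ (hU.primeIdealOf ⟨x, hxU⟩).asIdeal.primeCompl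
    exact ftd_local_of_ftd (hV.primeIdealOf ⟨f x, hfxV⟩).asIdeal.primeCompl _ _ hAB
  · intro h U V hU hV hUV
    letI := (f.appLE V U hUV).hom.toAlgebra
    refine perfectHom_of_local_ftd (hf U V hU hV hUV) ?_
    intro q hq
    let y : PrimeSpectrum Γ(X, U) := ⟨q, hq⟩
    have hy : hU.fromSpec y ∈ U := by
      have : hU.fromSpec y ∈ Set.range hU.fromSpec := ⟨y, rfl⟩
      rw [hU.range_fromSpec] at this
      exact this
    have hfxV : f (hU.fromSpec y) ∈ V := hUV hy
    letI a1 : Algebra Γ(S, V) (S.presheaf.stalk (f (hU.fromSpec y))) :=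
      (S.presheaf.germ V (f (hU.fromSpec y)) hfxV).hom.toAlgebra
    letI a2 : Algebra Γ(X, U) (X.presheaf.stalk (hU.fromSpec y)) :=
      (X.presheaf.germ U (hU.fromSpec y) hy).hom.toAlgebra
    letI a3 : Algebra (S.presheaf.stalk (f (hU.fromSpec y))) (X.presheaf.stalk (hU.fromSpec y)) :=
      (f.stalkMap (hU.fromSpec y)).hom.toAlgebra
    letI a4 : Algebra Γ(S, V) (X.presheaf.stalk (hU.fromSpec y)) :=
      ((X.presheaf.germ U (hU.fromSpec y) hy).hom.comp (f.appLE V U hUV).hom).toAlgebra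
    refine ⟨S.presheaf.stalk (f (hU.fromSpec y)), X.presheaf.stalk (hU.fromSpec y),
      inferInstance, inferInstance, a1, a2, a3, a4, ?_, ?_, ?_, ?_, ?_⟩
    · exact IsScalarTower.of_algebraMap_eq
        (fun a => (germ_appLE_apply f U V hUV (hU.fromSpec y) hy a).symm)
    · exact IsScalarTower.of_algebraMap_eq (fun _ => rfl)
    · exact hU.isLocalization_stalk' y hy
    · haveI : IsLocalization.AtPrime (S.presheaf.stalk (f (hU.fromSpec y)))
          (hV.primeIdealOf ⟨f (hU.fromSpec y), hfxV⟩).asIdeal :=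
        hV.isLocalization_stalk ⟨f (hU.fromSpec y), hfxV⟩
      exact IsLocalization.flat _ (hV.primeIdealOf ⟨f (hU.fromSpec y), hfxV⟩).asIdeal.primeCompl
    · exact h (hU.fromSpec y)

end Groth.Agent.Helper3.PCLoc
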