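import Mathlib
import Groth.Prelude.Def_Tors
import Groth.Agent.Lib.Helper3.ShSec
import Groth.Agent.Lib.Helper5.Misc.Bdry1

/-!
# H^1 and torsors, part (a): global sections of abelian sheaves as maps from the constant sheaf ℤ,
gluing lemmas, and the Ext criterion.
-/

set_option autoImplicit false
universe u
open CategoryTheory Limits Opposite

namespace Groth.Agent.Lib.Helper3.TorsH1

variable {C : Type u} [SmallCategory C] {J : GrothendieckTopology C}

section Fam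

/-- the constant sheaf `ℤ` -/
noncomputable abbrev ZX (J : GrothendieckTopology C) : Sheaf J AddCommGrpCat.{u} :=
  (presheafToSheaf J AddCommGrpCat.{u}).obj
    ((Functor.const Cᵒᵖ).obj (AddCommGrpCat.of (ULift.{u} ℤ)))

lemma ZX_eq (J : GrothendieckTopology C) :
    ZX J = (constantSheaf J AddCommGrpCat.{u}).obj (AddCommGrpCat.of (ULift.{u} ℤ)) := rfl

variable {F F' : Sheaf J AddCommGrpCat.{u}}

/-- the presheaf morphism adjoint to `σ` -/
noncomputable def adjHom (σ : ZX J ⟶ F) :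
    (Functor.const Cᵒᵖ).obj (AddCommGrpCat.of (ULift.{u} ℤ)) ⟶ F.obj :=
  (sheafificationAdjunction J AddCommGrpCat.{u}).homEquiv _ _ σ

/-- the compatible family of sections attached to `σ : ℤ ⟶ F` -/
noncomputable def fam (σ : ZX J ⟶ F) (U : Cᵒᵖ) : F.obj.obj U :=
  ((adjHom σ).app U).hom (ULift.up 1)

lemma fam_map (σ : ZX J ⟶ F) {U V : Cᵒᵖ} (f : U ⟶ V) : F.obj.map f (fam σ U) = fam σ V := by
  have h := ConcreteCategory.congr_hom ((adjHom σ).naturality f) (ULift.up 1)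
  exact h.symm

lemma fam_comp (σ : ZX J ⟶ F) (f : F ⟶ F') (U : Cᵒᵖ) :
    fam (σ ≫ f) U = f.hom.app U (fam σ U) := by
  have h := Adjunction.homEquiv_naturality_right (sheafificationAdjunction J AddCommGrpCat.{u}) σ f
  unfold fam adjHom
  rw [h]
  rfl

lemma ulift_eq (x : ULift.{u} ℤ) : x = x.down • (ULift.up 1 : ULift.{u} ℤ) := by
  apply ULift.ext
  simp

lemma fam_injective {σ σ' : ZX J ⟶ F} (h : ∀ U, fam σ U = fam σ' U) : σ = σ' := by
  apply ((sheafificationAdjunction J AddCommGrpCat.{u}).homEquiv _ _).injective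
  ext U x
  change ((adjHom σ).app U).hom x = ((adjHom σ').app U).hom x
  rw [ulift_eq x, map_zsmul, map_zsmul]
  exact congrArg _ (h U)

lemma exists_hom_of_fam (s : ∀ U : Cᵒᵖ, F.obj.obj U)
    (hs : ∀ {U V : Cᵒᵖ} (f : U ⟶ V), F.obj.map f (s U) = s V) :
    ∃ σ : ZX J ⟶ F, ∀ U, fam σ U = s U := by
  let α : (Functor.const Cᵒᵖ).obj (AddCommGrpCat.of (ULift.{u} ℤ)) ⟶ F.obj :=
    { app := fun U => AddCommGrpCat.ofHom
        ((zmultiplesHom (F.obj.obj U) (s U)).comp AddEquiv.ulift.toAddMonoidHom)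
      naturality := by
        intro U V f
        ext x
        change (zmultiplesHom (F.obj.obj V) (s V)) x.down =
          F.obj.map f ((zmultiplesHom (F.obj.obj U) (s U)) x.down)
        rw [zmultiplesHom_apply, zmultiplesHom_apply, map_zsmul, hs] }
  refine ⟨((sheafificationAdjunction J AddCommGrpCat.{u}).homEquiv _ _).symm α, ?_⟩
  intro U
  unfold fam adjHom
  rw [Equiv.apply_symm_apply]
  change (zmultiplesHom (F.obj.obj U) (s U)) 1 = s U
  rw [zmultiplesHom_apply, one_zsmul]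

end Fam

section Glue

variable (F : Sheaf J AddCommGrpCat.{u})

lemma isSheaf_forget : Presieve.IsSheaf J (F.obj ⋙ forget AddCommGrpCat.{u}) :=
  (isSheaf_iff_isSheaf_of_type J _).1
    ((Presheaf.isSheaf_iff_isSheaf_forget J F.obj (forget AddCommGrpCat.{u})).1 F.property)

lemma ab_ext {V : C} {R : Sieve V} (hR : R ∈ J V) {a b : F.obj.obj (op V)}
    (h : ∀ ⦃W : C⦄ (f : W ⟶ V), R f → F.obj.map f.op a = F.obj.map f.op b) : a = b :=
  ((isSheaf_forget F) R hR).isSeparatedFor.ext (fun _ f hf => h f hf)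

lemma ab_glue {V : C} {R : Sieve V} (hR : R ∈ J V)
    (x : ∀ ⦃W : C⦄ (f : W ⟶ V), R f → F.obj.obj (op W))
    (hx : ∀ ⦃W W' : C⦄ (h : W' ⟶ W) (f : W ⟶ V) (hf : R f),
      F.obj.map h.op (x f hf) = x (h ≫ f) (R.downward_closed hf h)) :
    ∃ a : F.obj.obj (op V), ∀ ⦃W : C⦄ (f : W ⟶ V) (hf : R f), F.obj.map f.op a = x f hf := by
  let y : Presieve.FamilyOfElements (F.obj ⋙ forget AddCommGrpCat.{u}) R.arrows :=
    fun W f hf => x f hf
  have hy : y.Compatible := by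
    rw [Presieve.compatible_iff_sieveCompatible]
    intro W W' f h hf
    exact (hx h f hf).symm
  exact ⟨((isSheaf_forget F) R hR).amalgamate y hy,
    fun W f hf => ((isSheaf_forget F) R hR).valid_glue hy f hf⟩

end Glue

section Crit

variable {S : ShortComplex (Sheaf J AddCommGrpCat.{u})} (hS : S.ShortExact)

include hS in
lemma lift_of_subsingleton (h : Subsingleton (Abelian.Ext.{u} (ZX J) S.X₁ 1)) (q : ZX J ⟶ S.X₃) :
    ∃ τ : ZX J ⟶ S.X₂, τ ≫ S.g = q := by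
  have h0 : (Abelian.Ext.mk₀ q).comp hS.extClass (zero_add 1) = 0 := Subsingleton.elim _ _
  obtain ⟨x₂, hx₂⟩ := Abelian.Ext.covariant_sequence_exact₃ _ hS (Abelian.Ext.mk₀ q) (zero_add 1) h0
  obtain ⟨τ, rfl⟩ := (Abelian.Ext.mk₀_bijective _ _).2 x₂
  refine ⟨τ, (Abelian.Ext.mk₀_bijective _ _).1 ?_⟩
  rw [← hx₂, Abelian.Ext.mk₀_comp_mk₀]

include hS in
lemma subsingleton_of_lift [Injective S.X₂]
    (h : ∀ q : ZX J ⟶ S.X₃, ∃ τ : ZX J ⟶ S.X₂, τ ≫ S.g = q) :
    Subsingleton (Abelian.Ext.{u} (ZX J) S.X₁ 1) := by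
  suffices H : ∀ x : Abelian.Ext.{u} (ZX J) S.X₁ 1, x = 0 from ⟨fun x y => by rw [H x, H y]⟩
  intro x
  have h1 : x.comp (Abelian.Ext.mk₀ S.f) (add_zero 1) = 0 := Abelian.Ext.eq_zero_of_injective _
  obtain ⟨x₃, hx₃⟩ := Abelian.Ext.covariant_sequence_exact₁ _ hS x h1 (zero_add 1)
  obtain ⟨q, rfl⟩ := (Abelian.Ext.mk₀_bijective _ _).2 x₃
  obtain ⟨τ, rfl⟩ := h q
  rw [← hx₃, ← Abelian.Ext.mk₀_comp_mk₀,
    Abelian.Ext.comp_assoc_of_second_deg_zero, hS.comp_extClass, Abelian.Ext.comp_zero]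

end Crit

end Groth.Agent.Lib.Helper3.TorsH1
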