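import Groth.Agent.Lib.Helper3.TorsH1a

/-!
# H^1 and torsors, part (b): the fibre torsor of a global section of a quotient,
and "all torsors have sections ⇒ global sections lift".
-/

set_option autoImplicit false
universe u
open CategoryTheory Limits Opposite

namespace Groth.Agent.Lib.Helper3.TorsH1

open Groth.Agent.Helper3.ShSec

variable {C : Type u} [SmallCategory C] {J : GrothendieckTopology C}

section Family

variable {G : Sheaf J AddCommGrpCat.{u}}

/-- the constant one-point sheaf -/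
def ptSheaf (J : GrothendieckTopology C) : Sheaf J (Type u) :=
  ⟨(Functor.const _).obj PUnit, Presheaf.isSheaf_of_isTerminal J Types.isTerminalPUnit⟩

lemma exists_family (T : Tors.Torsor G) (h : T.HasSection) :
    ∃ s : ∀ U : Cᵒᵖ, T.P.obj.obj U, ∀ {U V : Cᵒᵖ} (f : U ⟶ V), T.P.obj.map f (s U) = s V := by
  obtain ⟨σ⟩ := h
  let τ : ptSheaf J ⟶ T.P := terminal.from (ptSheaf J) ≫ σ
  refine ⟨fun U => τ.hom.app U (PUnit.unit : (ptSheaf J).obj.obj U), ?_⟩
  intro U V f
  have := ConcreteCategory.congr_hom (τ.hom.naturality f) (PUnit.unit : (ptSheaf J).obj.obj U)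
  exact this.symm

lemma hasSection_of_family (T : Tors.Torsor G) (s : ∀ U : Cᵒᵖ, T.P.obj.obj U)
    (hs : ∀ {U V : Cᵒᵖ} (f : U ⟶ V), T.P.obj.map f (s U) = s V) : T.HasSection := by
  refine ⟨ObjectProperty.homMk ⟨fun U => TypeCat.ofHom (fun _ => s U), ?_⟩⟩
  intro U V f
  ext x
  exact (hs f).symm

end Family

section Fib

variable {S : ShortComplex (Sheaf J AddCommGrpCat.{u})} (hS : S.ShortExact)
  (s : ∀ U : Cᵒᵖ, S.X₃.obj.obj U)
  (hs : ∀ {U V : Cᵒᵖ} (f : U ⟶ V), S.X₃.obj.map f (s U) = s V)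

lemma g_map {U V : Cᵒᵖ} (f : U ⟶ V) (i : S.X₂.obj.obj U) :
    S.g.hom.app V (S.X₂.obj.map f i) = S.X₃.obj.map f (S.g.hom.app U i) :=
  ConcreteCategory.congr_hom (S.g.hom.naturality f) i

lemma f_map {U V : Cᵒᵖ} (f : U ⟶ V) (g : S.X₁.obj.obj U) :
    S.f.hom.app V (S.X₁.obj.map f g) = S.X₂.obj.map f (S.f.hom.app U g) :=
  ConcreteCategory.congr_hom (S.f.hom.naturality f) g

lemma g_f (U : Cᵒᵖ) (g : S.X₁.obj.obj U) : S.g.hom.app U (S.f.hom.app U g) = 0 := by
  obtain ⟨U⟩ := U
  exact zero_apply U g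

include hs in
/-- the presheaf of local liftings of the family `s`. -/
def fibPre : Cᵒᵖ ⥤ Type u where
  obj U := {i : S.X₂.obj.obj U // S.g.hom.app U i = s U}
  map {U V} f := TypeCat.ofHom (fun i => ⟨S.X₂.obj.map f i.1, by rw [g_map, i.2, hs f]⟩)
  map_id U := by
    refine ConcreteCategory.hom_ext _ _ (fun i => ?_)
    apply Subtype.ext
    change S.X₂.obj.map (𝟙 U) i.1 = i.1
    rw [CategoryTheory.Functor.map_id]
    rfl
  map_comp f h := by
    refine ConcreteCategory.hom_ext _ _ (fun i => ?_)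
    apply Subtype.ext
    change S.X₂.obj.map (f ≫ h) i.1 = S.X₂.obj.map h (S.X₂.obj.map f i.1)
    rw [CategoryTheory.Functor.map_comp]
    rfl

lemma fibPre_isSheaf : Presieve.IsSheaf J (fibPre s hs) := by
  intro V R hR x hx
  rw [Presieve.compatible_iff_sieveCompatible] at hx
  obtain ⟨a, ha⟩ := ab_glue S.X₂ hR (fun W f hf => (x f hf).1) (by
    intro W W' h f hf
    exact (congrArg Subtype.val (hx f h hf)).symm)
  have hac : S.g.hom.app (op V) a = s (op V) := by
    refine ab_ext S.X₃ hR ?_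
    intro W f hf
    rw [← g_map, ha f hf, (x f hf).2, hs f.op]
  refine ⟨⟨a, hac⟩, ?_, ?_⟩
  · intro W f hf
    apply Subtype.ext
    exact ha f hf
  · intro t ht
    apply Subtype.ext
    apply ab_ext S.X₂ hR
    intro W f hf
    rw [ha f hf, ← ht f hf]
    rfl

include hS in
/-- the fibre torsor -/
noncomputable def fib : Tors.Torsor S.X₁ where
  P := ⟨fibPre s hs, (isSheaf_iff_isSheaf_of_type _ _).2 (fibPre_isSheaf s hs)⟩
  vadd {U} g i := ⟨S.f.hom.app U g + i.1, by rw [map_add, g_f, zero_add, i.2]⟩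
  zero_vadd {U} i := by
    apply Subtype.ext
    change S.f.hom.app U 0 + i.1 = i.1
    rw [map_zero, zero_add]
  add_vadd {U} g h i := by
    apply Subtype.ext
    change S.f.hom.app U (g + h) + i.1 = S.f.hom.app U g + (S.f.hom.app U h + i.1)
    rw [map_add, add_assoc]
  map_vadd {U V} f g i := by
    apply Subtype.ext
    change S.X₂.obj.map f (S.f.hom.app U g + i.1) = S.f.hom.app V (S.X₁.obj.map f g) + S.X₂.obj.map f i.1
    rw [map_add, f_map]
  free_transitive {U} i i' := by
    obtain ⟨U⟩ := U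
    have h0 : S.g.hom.app (op U) (i'.1 - i.1) = 0 := by
      rw [map_sub, i.2, i'.2, sub_self]
    obtain ⟨g, hg⟩ := exact_sections hS U (i'.1 - i.1) h0
    refine ⟨g, ?_, ?_⟩
    · apply Subtype.ext
      change S.f.hom.app (op U) g + i.1 = i'.1
      have : (S.f.hom.app (op U)) g = i'.1 - i.1 := hg
      rw [this, sub_add_cancel]
    · intro g' hg'
      apply injective_f hS U
      have h1 : S.f.hom.app (op U) g' + i.1 = i'.1 := congrArg Subtype.val hg'
      have : (S.f.hom.app (op U)) g = i'.1 - i.1 := hg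
      change (S.f.hom.app (op U)) g' = (S.f.hom.app (op U)) g
      rw [this, ← h1, add_sub_cancel_right]
  locally_nonempty U := by
    refine ⟨_, imageSieve_mem hS (s (op U)), ?_⟩
    intro V f hf
    obtain ⟨i, hi⟩ := hf
    exact ⟨⟨i, by rw [← hs f.op]; exact hi⟩⟩

include hS in
/-- if all torsors have sections then global sections of the quotient lift. -/
lemma lift_of_sections (h : ∀ T : Tors.Torsor S.X₁, T.HasSection) (q : ZX J ⟶ S.X₃) :
    ∃ τ : ZX J ⟶ S.X₂, τ ≫ S.g = q := by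
  obtain ⟨t, ht⟩ := exists_family _ (h (fib hS (fam q) (fun f => fam_map q f)))
  obtain ⟨τ, hτ⟩ := exists_hom_of_fam (F := S.X₂) (fun U => (t U).1)
    (fun f => congrArg Subtype.val (ht f))
  refine ⟨τ, fam_injective (fun U => ?_)⟩
  rw [fam_comp, hτ]
  exact (t U).2

end Fib

end Groth.Agent.Lib.Helper3.TorsH1
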