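import Groth.Agent.Lib.Helper3.TorsH1b

/-!
# H^1 and torsors, part (c): an equivariant map from a torsor to an injective sheaf,
and "global sections lift ⇒ all torsors have sections".
-/

set_option autoImplicit false
universe u
open CategoryTheory Limits Opposite

namespace Groth.Agent.Lib.Helper3.TorsH1

open Groth.Agent.Helper3.ShSec

variable {C : Type u} [SmallCategory C] {J : GrothendieckTopology C}

section Diff

variable {G : Sheaf J AddCommGrpCat.{u}} (T : Tors.Torsor G)

/-- the unique `g` with `g +ᵥ p = q` -/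
noncomputable def diff {U : Cᵒᵖ} (p q : T.P.obj.obj U) : G.obj.obj U :=
  (T.free_transitive p q).choose

lemma diff_vadd {U : Cᵒᵖ} (p q : T.P.obj.obj U) : T.vadd (diff T p q) p = q :=
  (T.free_transitive p q).choose_spec.1

variable {T} in
lemma eq_diff {U : Cᵒᵖ} {p q : T.P.obj.obj U} {g : G.obj.obj U} (h : T.vadd g p = q) :
    g = diff T p q :=
  (T.free_transitive p q).choose_spec.2 g h

lemma map_diff {U V : Cᵒᵖ} (f : U ⟶ V) (p q : T.P.obj.obj U) :
    G.obj.map f (diff T p q) = diff T (T.P.obj.map f p) (T.P.obj.map f q) := by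
  apply eq_diff
  rw [← T.map_vadd, diff_vadd]

lemma diff_add {U : Cᵒᵖ} (p q r : T.P.obj.obj U) : diff T q r + diff T p q = diff T p r := by
  apply eq_diff
  rw [T.add_vadd, diff_vadd, diff_vadd]

lemma diff_vadd_left {U : Cᵒᵖ} (g : G.obj.obj U) (p q : T.P.obj.obj U) :
    diff T p (T.vadd g q) = g + diff T p q := by
  symm
  apply eq_diff
  rw [T.add_vadd, diff_vadd]

lemma vadd_cancel {U : Cᵒᵖ} {g g' : G.obj.obj U} {p : T.P.obj.obj U}
    (h : T.vadd g p = T.vadd g' p) : g = g' :=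
  (eq_diff h).trans (eq_diff rfl).symm

end Diff

section Free

variable {G : Sheaf J AddCommGrpCat.{u}} (T : Tors.Torsor G)

/-- restriction on the free abelian groups -/
noncomputable def zmap {U V : Cᵒᵖ} (f : U ⟶ V) :
    FreeAbelianGroup (T.P.obj.obj U) →+ FreeAbelianGroup (T.P.obj.obj V) :=
  FreeAbelianGroup.map (fun p => T.P.obj.map f p)

lemma zmap_of {U V : Cᵒᵖ} (f : U ⟶ V) (p : T.P.obj.obj U) :
    zmap T f (FreeAbelianGroup.of p) = FreeAbelianGroup.of (T.P.obj.map f p) :=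
  FreeAbelianGroup.map_of_apply _

lemma zmap_id (U : Cᵒᵖ) : zmap T (𝟙 U) = AddMonoidHom.id _ := by
  apply FreeAbelianGroup.lift_ext
  intro p
  rw [zmap_of, CategoryTheory.Functor.map_id]
  rfl

lemma zmap_comp {U V W : Cᵒᵖ} (f : U ⟶ V) (h : V ⟶ W) :
    zmap T (f ≫ h) = (zmap T h).comp (zmap T f) := by
  apply FreeAbelianGroup.lift_ext
  intro p
  rw [zmap_of, AddMonoidHom.comp_apply, zmap_of, zmap_of, CategoryTheory.Functor.map_comp]
  rfl

/-- the presheaf `ℤ[T]` -/
noncomputable def Zpre : Cᵒᵖ ⥤ AddCommGrpCat.{u} where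
  obj U := AddCommGrpCat.of (FreeAbelianGroup (T.P.obj.obj U))
  map {U V} f := AddCommGrpCat.ofHom (zmap T f)
  map_id U := by
    rw [zmap_id]
    rfl
  map_comp f h := by
    rw [zmap_comp]
    rfl

/-- the degree map -/
noncomputable def deg (U : Cᵒᵖ) : FreeAbelianGroup (T.P.obj.obj U) →+ ℤ :=
  FreeAbelianGroup.lift (fun _ => 1)

lemma deg_of {U : Cᵒᵖ} (p : T.P.obj.obj U) : deg T U (FreeAbelianGroup.of p) = 1 :=
  FreeAbelianGroup.lift_apply_of _ _

lemma deg_zmap {U V : Cᵒᵖ} (f : U ⟶ V) (x : FreeAbelianGroup (T.P.obj.obj U)) :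
    deg T V (zmap T f x) = deg T U x := by
  have : (deg T V).comp (zmap T f) = deg T U := by
    apply FreeAbelianGroup.lift_ext
    intro p
    rw [AddMonoidHom.comp_apply, zmap_of, deg_of, deg_of]
  exact DFunLike.congr_fun this x

/-- restriction on the degree zero parts -/
noncomputable def kmap {U V : Cᵒᵖ} (f : U ⟶ V) : (deg T U).ker →+ (deg T V).ker :=
  ((zmap T f).comp (deg T U).ker.subtype).codRestrict (deg T V).ker (fun x => by
    rw [AddMonoidHom.mem_ker, AddMonoidHom.comp_apply, deg_zmap]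
    exact x.2)

lemma kmap_val {U V : Cᵒᵖ} (f : U ⟶ V) (x : (deg T U).ker) :
    (kmap T f x).1 = zmap T f x.1 := rfl

/-- the presheaf of degree zero elements of `ℤ[T]` -/
noncomputable def Kpre : Cᵒᵖ ⥤ AddCommGrpCat.{u} where
  obj U := AddCommGrpCat.of (deg T U).ker
  map {U V} f := AddCommGrpCat.ofHom (kmap T f)
  map_id U := by
    ext x
    change zmap T (𝟙 U) x.1 = x.1
    rw [zmap_id]
    rfl
  map_comp f h := by
    ext x
    change zmap T (f ≫ h) x.1 = zmap T h (zmap T f x.1)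
    rw [zmap_comp]
    rfl

/-- the inclusion -/
noncomputable def inc : Kpre T ⟶ Zpre T where
  app U := AddCommGrpCat.ofHom (deg T U).ker.subtype
  naturality U V f := by
    ext x
    rfl

instance : Mono (inc T) := by
  haveI : ∀ U, Mono ((inc T).app U) := fun U =>
    (AddCommGrpCat.mono_iff_injective _).2 Subtype.val_injective
  exact NatTrans.mono_of_mono_app _

/-- `t ↦ t - t₀` extended additively -/
noncomputable def psiHom (U : Cᵒᵖ) (t₀ : T.P.obj.obj U) :
    FreeAbelianGroup (T.P.obj.obj U) →+ G.obj.obj U :=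
  FreeAbelianGroup.lift (fun t => diff T t₀ t)

lemma psiHom_of (U : Cᵒᵖ) (t₀ t : T.P.obj.obj U) :
    psiHom T U t₀ (FreeAbelianGroup.of t) = diff T t₀ t :=
  FreeAbelianGroup.lift_apply_of _ _

lemma psiHom_eq (U : Cᵒᵖ) (t₀ t₁ : T.P.obj.obj U) (x : FreeAbelianGroup (T.P.obj.obj U)) :
    psiHom T U t₀ x = psiHom T U t₁ x + deg T U x • diff T t₀ t₁ := by
  have : psiHom T U t₀ = psiHom T U t₁ +
      (zmultiplesHom (G.obj.obj U) (diff T t₀ t₁)).comp (deg T U) := by
    apply FreeAbelianGroup.lift_ext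
    intro t
    rw [AddMonoidHom.add_apply, AddMonoidHom.comp_apply, psiHom_of, psiHom_of, deg_of,
      zmultiplesHom_apply, one_zsmul, diff_add]
  rw [this]
  rfl

lemma psiHom_indep (U : Cᵒᵖ) (t₀ t₁ : T.P.obj.obj U) (x : FreeAbelianGroup (T.P.obj.obj U))
    (hx : deg T U x = 0) : psiHom T U t₀ x = psiHom T U t₁ x := by
  rw [psiHom_eq T U t₀ t₁, hx, zero_zsmul, add_zero]

lemma psiHom_zmap {U V : Cᵒᵖ} (f : U ⟶ V) (t₀ : T.P.obj.obj U)
    (x : FreeAbelianGroup (T.P.obj.obj U)) :
    psiHom T V (T.P.obj.map f t₀) (zmap T f x) = G.obj.map f (psiHom T U t₀ x) := by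
  have : (psiHom T V (T.P.obj.map f t₀)).comp (zmap T f) =
      (G.obj.map f).hom.comp (psiHom T U t₀) := by
    apply FreeAbelianGroup.lift_ext
    intro t
    rw [AddMonoidHom.comp_apply, AddMonoidHom.comp_apply, zmap_of, psiHom_of, psiHom_of]
    exact (map_diff T f t₀ t).symm
  exact DFunLike.congr_fun this x

open Classical in
/-- the components of `ψ` -/
noncomputable def psiApp (U : Cᵒᵖ) : (deg T U).ker →+ G.obj.obj U :=
  if h : Nonempty (T.P.obj.obj U) then (psiHom T U h.some).comp (deg T U).ker.subtype else 0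

lemma psiApp_eq (U : Cᵒᵖ) (t₀ : T.P.obj.obj U) (x : (deg T U).ker) :
    psiApp T U x = psiHom T U t₀ x.1 := by
  have h : Nonempty (T.P.obj.obj U) := ⟨t₀⟩
  unfold psiApp
  rw [dif_pos h]
  exact psiHom_indep T U _ _ _ x.2

lemma psi_nat {U V : Cᵒᵖ} (f : U ⟶ V) (x : (deg T U).ker) :
    psiApp T V (kmap T f x) = G.obj.map f (psiApp T U x) := by
  by_cases h : Nonempty (T.P.obj.obj U)
  · obtain ⟨t₀⟩ := h
    rw [psiApp_eq T V (T.P.obj.map f t₀), psiApp_eq T U t₀, kmap_val, psiHom_zmap]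
  · haveI : IsEmpty (T.P.obj.obj U) := not_nonempty_iff.1 h
    have hx : x = 0 := Subtype.ext (Subsingleton.elim _ _)
    rw [hx, map_zero, map_zero, map_zero]
    exact (map_zero (G.obj.map f).hom).symm

/-- `ψ : K ⟶ G` -/
noncomputable def psi : Kpre T ⟶ G.obj where
  app U := AddCommGrpCat.ofHom (psiApp T U)
  naturality U V f := by
    ext x
    exact psi_nat T f x

end Free

section Phi

variable {S : ShortComplex (Sheaf J AddCommGrpCat.{u})} (hS : S.ShortExact) [Injective S.X₂]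
  (T : Tors.Torsor S.X₁)

instance injective_obj : Injective S.X₂.obj :=
  Injective.injective_of_adjoint (sheafificationAdjunction J AddCommGrpCat.{u}) S.X₂

/-- the extension `ℤ[T] ⟶ I` -/
noncomputable def Phi : Zpre T ⟶ S.X₂.obj :=
  Injective.factorThru (psi T ≫ S.f.hom) (inc T)

lemma inc_Phi : inc T ≫ Phi T = psi T ≫ S.f.hom := Injective.comp_factorThru _ _

/-- the equivariant map `T ⟶ I` -/
noncomputable def phi (U : Cᵒᵖ) (t : T.P.obj.obj U) : S.X₂.obj.obj U :=
  (Phi T).app U (FreeAbelianGroup.of t : FreeAbelianGroup (T.P.obj.obj U))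

lemma phi_map {U V : Cᵒᵖ} (f : U ⟶ V) (t : T.P.obj.obj U) :
    S.X₂.obj.map f (phi T U t) = phi T V (T.P.obj.map f t) := by
  have h := ConcreteCategory.congr_hom ((Phi T).naturality f)
    (FreeAbelianGroup.of t : FreeAbelianGroup (T.P.obj.obj U))
  refine h.symm.trans ?_
  change (Phi T).app V (zmap T f (FreeAbelianGroup.of t)) = _
  rw [zmap_of]
  rfl

lemma phi_vadd (U : Cᵒᵖ) (g : S.X₁.obj.obj U) (t : T.P.obj.obj U) :
    phi T U (T.vadd g t) = S.f.hom.app U g + phi T U t := by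
  let k : (deg T U).ker := ⟨FreeAbelianGroup.of (T.vadd g t) - FreeAbelianGroup.of t, by
    rw [AddMonoidHom.mem_ker, map_sub, deg_of, deg_of, sub_self]⟩
  have h1 := ConcreteCategory.congr_hom (NatTrans.congr_app (inc_Phi T) U) (k : (Kpre T).obj U)
  have h2 : (Phi T).app U (k.1 : FreeAbelianGroup (T.P.obj.obj U)) = S.f.hom.app U (psiApp T U k) := h1
  have h3 : psiApp T U k = g := by
    rw [psiApp_eq T U t k]
    change psiHom T U t (FreeAbelianGroup.of (T.vadd g t) - FreeAbelianGroup.of t) = g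
    rw [map_sub, psiHom_of, psiHom_of, diff_vadd_left, add_sub_cancel_right]
  rw [h3] at h2
  have h4 : (Phi T).app U (k.1 : FreeAbelianGroup (T.P.obj.obj U)) =
      phi T U (T.vadd g t) - phi T U t := map_sub ((Phi T).app U).hom _ _
  rw [h4] at h2
  rw [← h2, sub_add_cancel]

include hS in
lemma phi_injective (U : Cᵒᵖ) {t t' : T.P.obj.obj U} (h : phi T U t = phi T U t') : t = t' := by
  obtain ⟨U⟩ := U
  have h1 := phi_vadd T (op U) (diff T t t') t
  rw [diff_vadd, ← h] at h1
  have h2 : S.f.hom.app (op U) (diff T t t') = 0 := by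
    have := h1
    rwa [right_eq_add] at this
  have h3 : diff T t t' = 0 := injective_f hS U (h2.trans (map_zero _).symm)
  have := diff_vadd T t t'
  rw [h3, T.zero_vadd] at this
  exact this

end Phi

end Groth.Agent.Lib.Helper3.TorsH1
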