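import Groth.Agent.Lib.Helper3.TorsH1c

/-!
# H^1 and torsors, part (d): "global sections lift ⇒ all torsors have sections", and the main theorem.
-/

set_option autoImplicit false
universe u
open CategoryTheory Limits Opposite

namespace Groth.Agent.Lib.Helper3.TorsH1

open Groth.Agent.Helper3.ShSec Groth.Agent.Lib.Helper5.Tors

variable {C : Type u} [SmallCategory C] {J : GrothendieckTopology C}

section B

variable {S : ShortComplex (Sheaf J AddCommGrpCat.{u})} (hS : S.ShortExact) [Injective S.X₂]
  (T : Tors.Torsor S.X₁)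

lemma g_phi_indep (U : Cᵒᵖ) (t t' : T.P.obj.obj U) :
    S.g.hom.app U (phi T U t') = S.g.hom.app U (phi T U t) := by
  have h1 := phi_vadd T U (diff T t t') t
  rw [diff_vadd] at h1
  rw [h1, map_add, g_f, zero_add]

/-- objects over which the torsor has a section -/
def good (W : C) : Prop := Nonempty (T.P.obj.obj (op W))

lemma good_pre ⦃W W' : C⦄ (h : W' ⟶ W) (hW : good T W) : good T W' := by
  obtain ⟨t⟩ := hW
  exact ⟨T.P.obj.map h.op t⟩

lemma good_cov (V : C) : goodSieve (good T) (good_pre T) V ∈ J V := by
  obtain ⟨R, hR, h⟩ := T.locally_nonempty V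
  exact J.superset_covering (fun W f hf => h f hf) hR

include hS in
lemma sections_of_lift (h : ∀ q : ZX J ⟶ S.X₃, ∃ τ : ZX J ⟶ S.X₂, τ ≫ S.g = q) :
    T.HasSection := by
  -- the global section of the quotient
  obtain ⟨s, hs⟩ := exists_section_of_good (good T) (good_pre T) (good_cov T)
    (isSheaf_forget S.X₃)
    (fun W hW => S.g.hom.app (op W) (phi T (op W) hW.some))
    (by
      intro W W' k hW hW'
      change S.g.hom.app (op W') (phi T (op W') hW'.some) =
        S.X₃.obj.map k.op (S.g.hom.app (op W) (phi T (op W) hW.some))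
      rw [← g_map, phi_map]
      exact g_phi_indep T _ _ _)
  obtain ⟨q, hq⟩ := exists_hom_of_fam (F := S.X₃) (fun U => s.1 U) (fun f => s.2 f)
  obtain ⟨τ, hτ⟩ := h q
  have hi : ∀ U, S.g.hom.app U (fam τ U) = s.1 U := by
    intro U
    rw [← fam_comp, hτ, hq]
  -- local sections mapping to `fam τ`
  have hex : ∀ (W : C), good T W → ∃ y : T.P.obj.obj (op W), phi T (op W) y = fam τ (op W) := by
    intro W hW
    have h0 : S.g.hom.app (op W) (phi T (op W) hW.some - fam τ (op W)) = 0 := by
      rw [map_sub, hi, hs W hW, sub_self]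
    obtain ⟨g, hg⟩ := exact_sections hS W _ h0
    refine ⟨T.vadd (-g) hW.some, ?_⟩
    have hg' : S.f.hom.app (op W) g = phi T (op W) hW.some - fam τ (op W) := hg
    rw [phi_vadd, map_neg, hg']
    abel
  obtain ⟨y, hy⟩ := exists_section_of_good (good T) (good_pre T) (good_cov T)
    ((isSheaf_iff_isSheaf_of_type _ _).1 T.P.property)
    (fun W hW => (hex W hW).choose)
    (by
      intro W W' k hW hW'
      apply phi_injective hS T
      rw [(hex W' hW').choose_spec, ← phi_map, (hex W hW).choose_spec, fam_map])
  exact hasSection_of_family T (fun U => y.1 U) (fun f => y.2 f)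

end B

theorem main (G : Sheaf J AddCommGrpCat.{u}) :
    Subsingleton (Sheaf.H.{u} G 1) ↔ ∀ T : Tors.Torsor G, T.HasSection := by
  let S : ShortComplex (Sheaf J AddCommGrpCat.{u}) :=
    ShortComplex.mk (Injective.ι G) (cokernel.π (Injective.ι G)) (cokernel.condition _)
  have hS : S.ShortExact :=
    { exact := ShortComplex.exact_cokernel _
      mono_f := inferInstanceAs (Mono (Injective.ι G))
      epi_g := inferInstanceAs (Epi (cokernel.π (Injective.ι G))) }
  haveI : Injective S.X₂ := inferInstanceAs (Injective (Injective.under G))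
  constructor
  · intro h T
    exact sections_of_lift hS T (fun q => lift_of_subsingleton hS h q)
  · intro h
    exact subsingleton_of_lift hS (fun q => lift_of_sections hS h q)

end Groth.Agent.Lib.Helper3.TorsH1
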