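import Mathlib

/-!
# The total complex functor preserves (row-wise) quasi-isomorphisms (locally finite case)
-/

open CategoryTheory CategoryTheory.Limits

namespace Groth.Agent.Helper3.TotQis

universe v u
variable {A : Type u} [Category.{v} A] [Abelian A]

/-- double complexes with integer bidegrees -/
abbrev DC (A : Type u) [Category.{v} A] [Abelian A] :=
  HomologicalComplex₂ A (ComplexShape.up ℤ) (ComplexShape.up ℤ)

section Proj

variable (K : DC A) [K.HasTotal (ComplexShape.up ℤ)]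

/-- projection of the total complex on the `(p, q)` summand -/
noncomputable def pr (n p q : ℤ) (h : p + q = n) :
    (K.total (ComplexShape.up ℤ)).X n ⟶ (K.X p).X q :=
  K.totalDesc (fun p' q' h' => if hq : q' = q then eqToHom (by
      have h'' : p' + q' = n := h'
      obtain rfl : p' = p := by omega
      rw [hq]) else 0)

@[reassoc (attr := simp)]
lemma ι_pr_self (n p q : ℤ) (h : p + q = n) :
    K.ιTotal (ComplexShape.up ℤ) p q n h ≫ pr K n p q h = 𝟙 _ := by
  simp [pr]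

@[reassoc]
lemma ι_pr_ne (n p q : ℤ) (h : p + q = n) (p' q' : ℤ) (h' : p' + q' = n) (hq : q' ≠ q) :
    K.ιTotal (ComplexShape.up ℤ) p' q' n h' ≫ pr K n p q h = 0 := by
  simp [pr, hq]

lemma d_pr (n n' p p' q' q : ℤ) (hn : n + 1 = n') (hp : p + 1 = p') (hq : q' + 1 = q)
    (h : p + q = n) :
    (K.total (ComplexShape.up ℤ)).d n n' ≫ pr K n' p' q (by omega) =
      pr K n p q h ≫ (K.d p p').f q +
        p'.negOnePow • (pr K n p' q' (by omega) ≫ (K.X p').d q' q) := by
  apply HomologicalComplex₂.total.hom_ext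
  intro i₁ i₂ hi
  have hi' : i₁ + i₂ = n := hi
  rw [K.total_d, Preadditive.add_comp, Preadditive.comp_add, K.ι_D₁_assoc, K.ι_D₂_assoc,
    K.d₁_eq _ (show (ComplexShape.up ℤ).Rel i₁ (i₁ + 1) from rfl) i₂ n'
      (show i₁ + 1 + i₂ = n' by omega),
    K.d₂_eq _ i₁ (show (ComplexShape.up ℤ).Rel i₂ (i₂ + 1) from rfl) n'
      (show i₁ + (i₂ + 1) = n' by omega)]
  simp only [ComplexShape.ε₁, ComplexShape.ε₂, TotalComplexShape.ε₁, TotalComplexShape.ε₂,
    one_smul, ComplexShape.ε_up_ℤ, Linear.units_smul_comp, Category.assoc,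
    Preadditive.comp_add, Linear.comp_units_smul]
  by_cases h1 : i₂ = q
  · subst h1
    obtain rfl : i₁ = p := by omega
    obtain rfl : p' = i₁ + 1 := by omega
    rw [ι_pr_self, Category.comp_id, ι_pr_self_assoc,
      ι_pr_ne K n' (i₁ + 1) i₂ (by omega) i₁ (i₂ + 1) (by omega) (by omega), comp_zero, smul_zero,
      add_zero, ι_pr_ne_assoc K n (i₁ + 1) q' (by omega) i₁ i₂ (by omega) (by omega), zero_comp,
      smul_zero, add_zero]
  · by_cases h2 : i₂ + 1 = q
    · obtain rfl : i₂ = q' := by omega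
      obtain rfl : i₁ = p' := by omega
      subst h2
      rw [ι_pr_ne K n' i₁ (i₂ + 1) (by omega) (i₁ + 1) i₂ (by omega) (by omega), comp_zero,
        zero_add, ι_pr_self, Category.comp_id,
        ι_pr_ne_assoc K n p (i₂ + 1) (by omega) i₁ i₂ (by omega) (by omega), zero_comp, zero_add,
        ι_pr_self_assoc]
    · rw [ι_pr_ne K n' p' q (by omega) (i₁ + 1) i₂ (by omega) h1, comp_zero,
        ι_pr_ne K n' p' q (by omega) i₁ (i₂ + 1) (by omega) h2, comp_zero, smul_zero, add_zero,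
        ι_pr_ne_assoc K n p q (by omega) i₁ i₂ (by omega) h1, zero_comp,
        ι_pr_ne_assoc K n p' q' (by omega) i₁ i₂ (by omega) (by omega), zero_comp, smul_zero,
        add_zero]

lemma eq_zero_of_pr (n q₀ q₁ : ℤ)
    (hz : ∀ q, q < q₀ ∨ q₁ < q → IsZero ((K.X (n - q)).X q)) {Y : A}
    (x : Y ⟶ (K.total (ComplexShape.up ℤ)).X n)
    (hx : ∀ p q h, x ≫ pr K n p q h = 0) : x = 0 := by
  have key : 𝟙 ((K.total (ComplexShape.up ℤ)).X n) =
      ∑ q ∈ Finset.Icc q₀ q₁, pr K n (n - q) q (by omega) ≫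
        K.ιTotal (ComplexShape.up ℤ) (n - q) q n (by show n - q + q = n; omega) := by
    apply HomologicalComplex₂.total.hom_ext
    intro i₁ i₂ hi
    have hi' : i₁ + i₂ = n := hi
    obtain rfl : i₁ = n - i₂ := by omega
    rw [Category.comp_id, Preadditive.comp_sum]
    by_cases hmem : i₂ ∈ Finset.Icc q₀ q₁
    · rw [Finset.sum_eq_single i₂]
      · rw [ι_pr_self_assoc]
      · intro b _ hb
        rw [ι_pr_ne_assoc K n (n - b) b (by omega) (n - i₂) i₂ (by omega) (Ne.symm hb), zero_comp]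
      · intro h; exact absurd hmem h
    · have hZ : IsZero ((K.X (n - i₂)).X i₂) := hz i₂ (by
        rw [Finset.mem_Icc] at hmem; omega)
      exact hZ.eq_of_src _ _
  rw [← Category.comp_id x, key, Preadditive.comp_sum]
  apply Finset.sum_eq_zero
  intro q _
  rw [← Category.assoc, hx, zero_comp]

end Proj

section Map

variable {K L : DC A} [K.HasTotal (ComplexShape.up ℤ)] [L.HasTotal (ComplexShape.up ℤ)]
  (φ : K ⟶ L)

lemma map_pr (n p q : ℤ) (h : p + q = n) :
    (HomologicalComplex₂.total.map φ (ComplexShape.up ℤ)).f n ≫ pr L n p q h =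
      pr K n p q h ≫ (φ.f p).f q := by
  apply HomologicalComplex₂.total.hom_ext
  intro i₁ i₂ hi
  have hi' : i₁ + i₂ = n := hi
  rw [HomologicalComplex₂.ιTotal_map_assoc]
  by_cases h1 : i₂ = q
  · subst h1
    obtain rfl : i₁ = p := by omega
    rw [ι_pr_self, Category.comp_id, ι_pr_self_assoc]
  · rw [ι_pr_ne L n p q h i₁ i₂ hi' h1, comp_zero, ι_pr_ne_assoc K n p q h i₁ i₂ hi' h1, zero_comp]

/-- elementwise form of "every row map `K^{•,q} ⟶ L^{•,q}` is a quasi-isomorphism" -/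
structure RowQis (φ : K ⟶ L) : Prop where
  mono : ∀ (p₀ p p₁ q : ℤ) (_ : p₀ + 1 = p) (_ : p + 1 = p₁) ⦃Y : A⦄
    (x : Y ⟶ (K.X p).X q) (y : Y ⟶ (L.X p₀).X q),
    x ≫ (K.d p p₁).f q = 0 → x ≫ (φ.f p).f q = y ≫ (L.d p₀ p).f q →
    ∃ (Y' : A) (π : Y' ⟶ Y) (_ : Epi π) (u : Y' ⟶ (K.X p₀).X q), π ≫ x = u ≫ (K.d p₀ p).f q
  epi : ∀ (p₀ p p₁ q : ℤ) (_ : p₀ + 1 = p) (_ : p + 1 = p₁) ⦃Y : A⦄ (y : Y ⟶ (L.X p).X q),
    y ≫ (L.d p p₁).f q = 0 →
    ∃ (Y' : A) (π : Y' ⟶ Y) (_ : Epi π) (v : Y' ⟶ (K.X p).X q) (t : Y' ⟶ (L.X p₀).X q),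
      v ≫ (K.d p p₁).f q = 0 ∧ π ≫ y = v ≫ (φ.f p).f q + t ≫ (L.d p₀ p).f q


open HomologicalComplex₂ in
theorem coneAcyclic (hφ : RowQis φ) (nm n n' n'' : ℤ) (h0 : nm + 1 = n) (h1 : n + 1 = n')
    (h2 : n' + 1 = n'') (q₀ q₁ : ℤ)
    (hK : ∀ q, q < q₀ ∨ q₁ < q → IsZero ((K.X (n' - q)).X q))
    (hL : ∀ q, q < q₀ ∨ q₁ < q → IsZero ((L.X (n - q)).X q)) :
    ∀ (N : ℕ) (j : ℤ), q₁ < j + N → ∀ ⦃Y : A⦄ (x : Y ⟶ (K.total (ComplexShape.up ℤ)).X n')
      (y : Y ⟶ (L.total (ComplexShape.up ℤ)).X n),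
      x ≫ (K.total (ComplexShape.up ℤ)).d n' n'' = 0 →
      x ≫ (total.map φ (ComplexShape.up ℤ)).f n' = y ≫ (L.total (ComplexShape.up ℤ)).d n n' →
      (∀ p q h, q < j → x ≫ pr K n' p q h = 0) → (∀ p q h, q < j → y ≫ pr L n p q h = 0) →
      ∃ (Y' : A) (π : Y' ⟶ Y) (_ : Epi π) (x' : Y' ⟶ (K.total (ComplexShape.up ℤ)).X n)
        (y' : Y' ⟶ (L.total (ComplexShape.up ℤ)).X nm),
        π ≫ x = x' ≫ (K.total (ComplexShape.up ℤ)).d n n' ∧
        π ≫ y = x' ≫ (total.map φ (ComplexShape.up ℤ)).f n +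
          y' ≫ (L.total (ComplexShape.up ℤ)).d nm n := by
  intro N
  induction N with
  | zero =>
    intro j hj Y x y _ _ hx hy
    have hx0 : x = 0 := by
      apply eq_zero_of_pr K n' q₀ q₁ hK
      intro p q h
      by_cases hq : q < j
      · exact hx p q h hq
      · obtain rfl : p = n' - q := by omega
        exact (hK q (Or.inr (by simp at hj; omega))).eq_of_tgt _ _
    have hy0 : y = 0 := by
      apply eq_zero_of_pr L n q₀ q₁ hL
      intro p q h
      by_cases hq : q < j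
      · exact hy p q h hq
      · obtain rfl : p = n - q := by omega
        exact (hL q (Or.inr (by simp at hj; omega))).eq_of_tgt _ _
    refine ⟨Y, 𝟙 Y, inferInstance, 0, 0, ?_, ?_⟩
    · rw [hx0, comp_zero, zero_comp]
    · rw [hy0, comp_zero, zero_comp, zero_comp, add_zero]
  | succ N ih =>
    intro j hj Y x y hxd hxy hx hy
    -- indices
    have hpj : (n - j) + j = n := by omega
    have hpj' : (n' - j) + j = n' := by omega
    have hpjm : (nm - j) + j = nm := by omega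
    have hx' : ∀ p q h, q < j → ∀ {Z : A} (g : (K.X p).X q ⟶ Z), x ≫ pr K n' p q h ≫ g = 0 :=
      fun p q h hq _ g => by rw [← Category.assoc, hx p q h hq, zero_comp]
    have hy' : ∀ p q h, q < j → ∀ {Z : A} (g : (L.X p).X q ⟶ Z), y ≫ pr L n p q h ≫ g = 0 :=
      fun p q h hq _ g => by rw [← Category.assoc, hy p q h hq, zero_comp]
    -- the `j`-components
    obtain ⟨xj, hxj⟩ : ∃ xj : Y ⟶ (K.X (n' - j)).X j, xj = x ≫ pr K n' (n' - j) j hpj' := ⟨_, rfl⟩
    obtain ⟨yj, hyj⟩ : ∃ yj : Y ⟶ (L.X (n - j)).X j, yj = y ≫ pr L n (n - j) j hpj := ⟨_, rfl⟩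
    -- (a) `xj` is a `d₁`-cycle
    have ha : xj ≫ (K.d (n' - j) (n'' - j)).f j = 0 := by
      have h3 := d_pr K n' n'' (n' - j) (n'' - j) (j - 1) j h2 (by omega) (by omega) hpj'
      have h4 : x ≫ (K.total (ComplexShape.up ℤ)).d n' n'' ≫ pr K n'' (n'' - j) j (by omega) = 0 := by
        rw [← Category.assoc, hxd, zero_comp]
      rw [h3, Preadditive.comp_add, Linear.comp_units_smul,
        hx' (n'' - j) (j - 1) (by omega) (by omega), smul_zero, add_zero, ← Category.assoc] at h4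
      rw [hxj]; exact h4
    -- (b) `φ xj = d₁ yj`
    have hb : xj ≫ (φ.f (n' - j)).f j = yj ≫ (L.d (n - j) (n' - j)).f j := by
      have h3 := d_pr L n n' (n - j) (n' - j) (j - 1) j h1 (by omega) (by omega) hpj
      have h4 : x ≫ (total.map φ (ComplexShape.up ℤ)).f n' ≫ pr L n' (n' - j) j hpj' =
          y ≫ (L.total (ComplexShape.up ℤ)).d n n' ≫ pr L n' (n' - j) j hpj' := by
        rw [← Category.assoc, hxy, Category.assoc]
      rw [map_pr, h3, Preadditive.comp_add, Linear.comp_units_smul,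
        hy' (n' - j) (j - 1) (by omega) (by omega), smul_zero, add_zero, ← Category.assoc,
        ← Category.assoc] at h4
      rw [hxj, hyj]; exact h4
    -- (c)
    obtain ⟨Y₁, π₁, hπ₁, u, hu⟩ :=
      hφ.mono (n - j) (n' - j) (n'' - j) j (by omega) (by omega) xj yj ha hb
    -- (d)
    have hd : (π₁ ≫ yj - u ≫ (φ.f (n - j)).f j) ≫ (L.d (n - j) (n' - j)).f j = 0 := by
      have hcomm : (φ.f (n - j)).f j ≫ (L.d (n - j) (n' - j)).f j =
          (K.d (n - j) (n' - j)).f j ≫ (φ.f (n' - j)).f j := by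
        rw [← HomologicalComplex.comp_f, ← HomologicalComplex.comp_f, φ.comm]
      rw [Preadditive.sub_comp, Category.assoc, Category.assoc, ← hb, hcomm, ← Category.assoc u,
        ← hu, Category.assoc, sub_self]
    -- (e)
    obtain ⟨Y₂, π₂, hπ₂, v, t, hv, hvt⟩ :=
      hφ.epi (nm - j) (n - j) (n' - j) j (by omega) (by omega) _ hd
    -- (f)
    obtain ⟨x'₀, hx'₀⟩ : ∃ x'₀ : Y₂ ⟶ (K.total (ComplexShape.up ℤ)).X n,
      x'₀ = (π₂ ≫ u + v) ≫ K.ιTotal (ComplexShape.up ℤ) (n - j) j n hpj := ⟨_, rfl⟩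
    obtain ⟨y'₀, hy'₀⟩ : ∃ y'₀ : Y₂ ⟶ (L.total (ComplexShape.up ℤ)).X nm,
      y'₀ = t ≫ L.ιTotal (ComplexShape.up ℤ) (nm - j) j nm hpjm := ⟨_, rfl⟩
    obtain ⟨x₁, hx₁⟩ : ∃ x₁ : Y₂ ⟶ (K.total (ComplexShape.up ℤ)).X n',
      x₁ = π₂ ≫ π₁ ≫ x - x'₀ ≫ (K.total (ComplexShape.up ℤ)).d n n' := ⟨_, rfl⟩
    obtain ⟨y₁, hy₁⟩ : ∃ y₁ : Y₂ ⟶ (L.total (ComplexShape.up ℤ)).X n,
      y₁ = π₂ ≫ π₁ ≫ y - x'₀ ≫ (total.map φ (ComplexShape.up ℤ)).f n -
        y'₀ ≫ (L.total (ComplexShape.up ℤ)).d nm n := ⟨_, rfl⟩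
    -- (g)
    have hg1 : x₁ ≫ (K.total (ComplexShape.up ℤ)).d n' n'' = 0 := by
      simp only [hx₁, Preadditive.sub_comp, Category.assoc, hxd, comp_zero,
        HomologicalComplex.d_comp_d, sub_self]
    have hg2 : x₁ ≫ (total.map φ (ComplexShape.up ℤ)).f n' =
        y₁ ≫ (L.total (ComplexShape.up ℤ)).d n n' := by
      simp only [hx₁, hy₁, Preadditive.sub_comp, Category.assoc, hxy,
        HomologicalComplex.d_comp_d, comp_zero, sub_zero, HomologicalComplex.Hom.comm]
    -- projections of `x'₀` and `y'₀`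
    have hx'₀_ne : ∀ p q h, q ≠ j → ∀ {Z : A} (g : (K.X p).X q ⟶ Z),
        x'₀ ≫ pr K n p q h ≫ g = 0 := by
      intro p q h hq Z g
      rw [hx'₀, Category.assoc, ι_pr_ne_assoc K n p q h (n - j) j hpj (Ne.symm hq), zero_comp,
        comp_zero]
    have hy'₀_ne : ∀ p q h, q ≠ j → ∀ {Z : A} (g : (L.X p).X q ⟶ Z),
        y'₀ ≫ pr L nm p q h ≫ g = 0 := by
      intro p q h hq Z g
      rw [hy'₀, Category.assoc, ι_pr_ne_assoc L nm p q h (nm - j) j hpjm (Ne.symm hq), zero_comp,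
        comp_zero]
    -- (h)
    have hh : ∀ p q h, q < j + 1 → x₁ ≫ pr K n' p q h = 0 := by
      intro p q h hq
      obtain ⟨pm, hpm⟩ : ∃ pm : ℤ, pm + 1 = p := ⟨p - 1, by omega⟩
      rw [hx₁, Preadditive.sub_comp, Category.assoc, Category.assoc, Category.assoc,
        d_pr K n n' pm p (q - 1) q h1 hpm (by omega) (by omega),
        Preadditive.comp_add, Linear.comp_units_smul,
        hx'₀_ne p (q - 1) (by omega) (by omega), smul_zero, add_zero]
      by_cases hqj : q = j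
      · subst hqj
        obtain rfl : pm = n - q := by omega
        obtain rfl : p = n' - q := by omega
        rw [hx'₀, Category.assoc, ι_pr_self_assoc, Preadditive.add_comp, hv, add_zero,
          Category.assoc, ← hu, hxj, sub_self]
      · rw [hx p q h (by omega), comp_zero, comp_zero, hx'₀_ne pm q (by omega) hqj, sub_zero]
    -- (i)
    have hi : ∀ p q h, q < j + 1 → y₁ ≫ pr L n p q h = 0 := by
      intro p q h hq
      obtain ⟨pm, hpm⟩ : ∃ pm : ℤ, pm + 1 = p := ⟨p - 1, by omega⟩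
      rw [hy₁, Preadditive.sub_comp, Preadditive.sub_comp, Category.assoc, Category.assoc,
        Category.assoc, Category.assoc, map_pr,
        d_pr L nm n pm p (q - 1) q h0 hpm (by omega) (by omega),
        Preadditive.comp_add, Linear.comp_units_smul,
        hy'₀_ne p (q - 1) (by omega) (by omega), smul_zero, add_zero]
      by_cases hqj : q = j
      · subst hqj
        obtain rfl : pm = nm - q := by omega
        obtain rfl : p = n - q := by omega
        rw [hx'₀, hy'₀, Category.assoc, Category.assoc, ι_pr_self_assoc, ι_pr_self_assoc,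
          ← hyj]
        have h5 := hvt
        rw [Preadditive.comp_sub, sub_eq_iff_eq_add] at h5
        rw [h5, Preadditive.add_comp, Category.assoc]
        abel
      · rw [hy p q h (by omega), comp_zero, comp_zero, hx'₀_ne p q h hqj,
          hy'₀_ne pm q (by omega) hqj, sub_zero, sub_zero]
    -- (j)
    obtain ⟨Y₃, π₃, hπ₃, x'₁, y'₁, e1, e2⟩ :=
      ih (j + 1) (by push_cast at hj; omega) x₁ y₁ hg1 hg2 hh hi
    -- (k)
    refine ⟨Y₃, π₃ ≫ π₂ ≫ π₁, inferInstance, π₃ ≫ x'₀ + x'₁, π₃ ≫ y'₀ + y'₁, ?_, ?_⟩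
    · have h6 : π₃ ≫ π₂ ≫ π₁ ≫ x =
          π₃ ≫ x₁ + π₃ ≫ x'₀ ≫ (K.total (ComplexShape.up ℤ)).d n n' := by
        rw [hx₁, Preadditive.comp_sub, sub_add_cancel]
      rw [Category.assoc, Category.assoc, h6, e1, Preadditive.add_comp, Category.assoc, add_comm]
    · have h6 : π₃ ≫ π₂ ≫ π₁ ≫ y =
          π₃ ≫ y₁ + (π₃ ≫ x'₀ ≫ (total.map φ (ComplexShape.up ℤ)).f n +
          π₃ ≫ y'₀ ≫ (L.total (ComplexShape.up ℤ)).d nm n) := by
        rw [hy₁, Preadditive.comp_sub, Preadditive.comp_sub]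
        abel
      rw [Category.assoc, Category.assoc, h6, e2, Preadditive.add_comp, Preadditive.add_comp,
        Category.assoc, Category.assoc]
      abel


open HomologicalComplex₂ in
/-- The total complex functor sends a row-wise quasi-isomorphism to a quasi-isomorphism, provided
that in each total degree only finitely many terms are nonzero. -/
theorem quasiIso_total_map (hφ : RowQis φ)
    (hfin : ∀ n : ℤ, ∃ q₀ q₁ : ℤ, ∀ q, q < q₀ ∨ q₁ < q →
      IsZero ((K.X (n - q)).X q) ∧ IsZero ((L.X (n - q)).X q)) :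
    QuasiIso (total.map φ (ComplexShape.up ℤ)) := by
  rw [quasiIso_iff]
  intro n
  rw [quasiIsoAt_iff_isIso_homologyMap]
  obtain ⟨a₀, a₁, ha⟩ := hfin n
  obtain ⟨b₀, b₁, hb⟩ := hfin (n + 1)
  obtain ⟨c₀, c₁, hc⟩ := hfin (n - 1)
  have hmono : Mono (HomologicalComplex.homologyMap (total.map φ (ComplexShape.up ℤ)) n) := by
    rw [HomologicalComplex.mono_homologyMap_iff_up_to_refinements _ (n - 1) n (n + 1)
      (by simp) (by simp)]
    intro Y x hx y hxy
    obtain ⟨Y', π, hπ, x', y', e1, _⟩ :=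
      coneAcyclic φ hφ (n - 1 - 1) (n - 1) n (n + 1) (by omega) (by omega) rfl
        (min a₀ c₀) (max a₁ c₁)
        (fun q hq => (ha q (by omega)).1)
        (fun q hq => (hc q (by omega)).2)
        (Int.toNat (max a₁ c₁ - min a₀ c₀ + 1)) (min a₀ c₀) (by omega) x y hx hxy
        (fun p q h hq => by
          obtain rfl : p = n - q := by omega
          exact (ha q (by omega)).1.eq_of_tgt _ _)
        (fun p q h hq => by
          obtain rfl : p = n - 1 - q := by omega
          exact (hc q (by omega)).2.eq_of_tgt _ _)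
    exact ⟨Y', π, hπ, x', e1⟩
  have hepi : Epi (HomologicalComplex.homologyMap (total.map φ (ComplexShape.up ℤ)) n) := by
    rw [HomologicalComplex.epi_homologyMap_iff_up_to_refinements _ (n - 1) n (n + 1)
      (by simp) (by simp)]
    intro Y y hy
    obtain ⟨Y', π, hπ, x', y', e1, e2⟩ :=
      coneAcyclic φ hφ (n - 1) n (n + 1) (n + 1 + 1) (by omega) rfl rfl
        (min a₀ b₀) (max a₁ b₁)
        (fun q hq => (hb q (by omega)).1)
        (fun q hq => (ha q (by omega)).2)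
        (Int.toNat (max a₁ b₁ - min a₀ b₀ + 1)) (min a₀ b₀) (by omega)
        (0 : Y ⟶ (K.total (ComplexShape.up ℤ)).X (n + 1)) y (by rw [zero_comp])
        (by rw [zero_comp, hy])
        (fun p q h hq => by rw [zero_comp])
        (fun p q h hq => by
          obtain rfl : p = n - q := by omega
          exact (ha q (by omega)).2.eq_of_tgt _ _)
    refine ⟨Y', π, hπ, x', ?_, y', e2⟩
    rw [← e1, comp_zero]
  exact isIso_of_mono_of_epi _

/-- `QuasiIso φ` (in the first direction, with values in complexes in the second direction)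
gives the elementwise row-wise condition. -/
theorem rowQis_of_quasiIso [QuasiIso φ] : RowQis φ := by
  have hq : ∀ q : ℤ, QuasiIso (((HomologicalComplex.eval A (ComplexShape.up ℤ) q).mapHomologicalComplex
      (ComplexShape.up ℤ)).map φ) := fun q => inferInstance
  constructor
  · intro p₀ p p₁ q hp₀ hp₁ Y x y hx hxy
    have hm : Mono (HomologicalComplex.homologyMap
        (((HomologicalComplex.eval A (ComplexShape.up ℤ) q).mapHomologicalComplex
          (ComplexShape.up ℤ)).map φ) p) := by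
      have := (hq q).quasiIsoAt p
      rw [quasiIsoAt_iff_isIso_homologyMap] at this
      infer_instance
    rw [HomologicalComplex.mono_homologyMap_iff_up_to_refinements _ p₀ p p₁
      (by simp; omega) (by simp; omega)] at hm
    exact hm x hx y hxy
  · intro p₀ p p₁ q hp₀ hp₁ Y y hy
    have he : Epi (HomologicalComplex.homologyMap
        (((HomologicalComplex.eval A (ComplexShape.up ℤ) q).mapHomologicalComplex
          (ComplexShape.up ℤ)).map φ) p) := by
      have := (hq q).quasiIsoAt p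
      rw [quasiIsoAt_iff_isIso_homologyMap] at this
      infer_instance
    rw [HomologicalComplex.epi_homologyMap_iff_up_to_refinements _ p₀ p p₁
      (by simp; omega) (by simp; omega)] at he
    obtain ⟨Y', π, hπ, v, hv, t, e⟩ := he y hy
    exact ⟨Y', π, hπ, v, t, hv, e⟩

end Map

end Groth.Agent.Helper3.TotQis
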