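import Groth.Agent.Lib.Helper3.ExtProd1
import Groth.Prelude.Def_Formal2

/-!
# Ext into the limit of a tower: the Milnor sequence
-/

universe w v u

open CategoryTheory Limits Abelian

namespace Groth.Agent.Helper3.TowerExt

open Groth.Agent.Helper3.ExtProd

variable {𝒜 : Type u} [Category.{v} 𝒜] [Abelian 𝒜] [HasExt.{w} 𝒜]

lemma mk₀_sub {X Y : 𝒜} (f g : X ⟶ Y) : Ext.mk₀ (f - g) = Ext.mk₀ f - Ext.mk₀ g := by
  rw [sub_eq_add_neg, Ext.mk₀_add, Ext.mk₀_neg, sub_eq_add_neg]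

lemma comp_sub {X Y Z : 𝒜} {n m p : ℕ} (α : Ext X Y n) (β₁ β₂ : Ext Y Z m) (h : n + m = p) :
    α.comp (β₁ - β₂) h = α.comp β₁ h - α.comp β₂ h := by
  rw [sub_eq_add_neg, Ext.comp_add, Ext.comp_neg, sub_eq_add_neg]

variable [HasProductsOfShape ℕ 𝒜]
variable {ι : Type*} {Z : ι → 𝒜}
variable (G : ℕ → 𝒜) (t : ∀ n, G (n + 1) ⟶ G n)

/-- The difference map `(x_n) ↦ (x_n - t x_{n+1})`. -/
noncomputable def Φ : ∏ᶜ G ⟶ ∏ᶜ G := Pi.lift (fun n => Pi.π G n - Pi.π G (n + 1) ≫ t n)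

@[reassoc (attr := simp)]
lemma Φ_π (n : ℕ) : Φ G t ≫ Pi.π G n = Pi.π G n - Pi.π G (n + 1) ≫ t n := by simp [Φ]

lemma Φ_epi (hZ : DetectsEpi Z)
    (hlift : ∀ (i : ι) (n : ℕ) (y : Z i ⟶ G n), ∃ x : Z i ⟶ G (n + 1), x ≫ t n = y) :
    Epi (Φ G t) := by
  apply hZ
  intro i y
  let x : ∀ n, Z i ⟶ G n := fun n => Nat.rec (motive := fun n => Z i ⟶ G n) 0
    (fun n xn => (hlift i n (xn - y ≫ Pi.π G n)).choose) n
  have hx : ∀ n, x (n + 1) ≫ t n = x n - y ≫ Pi.π G n :=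
    fun n => (hlift i n (x n - y ≫ Pi.π G n)).choose_spec
  refine ⟨Pi.lift x, ?_⟩
  apply Pi.hom_ext
  intro n
  simp only [Category.assoc, Φ_π, Preadditive.comp_sub, Pi.lift_π, Pi.lift_π_assoc, hx]
  abel

variable {G t}
variable {K : 𝒜} (p : ∀ n, K ⟶ G n) (hp : ∀ n, p (n + 1) ≫ t n = p n)

include hp in
lemma lift_Φ : Pi.lift p ≫ Φ G t = 0 := by
  apply Pi.hom_ext
  intro n
  simp [hp]

/-- The short complex `0 → K → ∏ G → ∏ G → 0`. -/
noncomputable abbrev T : ShortComplex 𝒜 := ShortComplex.mk (Pi.lift p) (Φ G t) (lift_Φ p hp)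

variable (hK : ∀ (A : 𝒜) (k : ∀ n, A ⟶ G n), (∀ n, k (n + 1) ≫ t n = k n) →
      ∃ l : A ⟶ K, ∀ n, l ≫ p n = k n)
  (hmono : ∀ (A : 𝒜) (l l' : A ⟶ K), (∀ n, l ≫ p n = l' ≫ p n) → l = l')

include hmono in
lemma mono_lift : Mono (Pi.lift p) := by
  constructor
  intro A l l' h
  apply hmono
  intro n
  have := congrArg (fun q => q ≫ Pi.π G n) h
  simpa using this

include hK hmono in
lemma T_exact : (T p hp).Exact := by
  have := mono_lift p hmono
  apply ShortComplex.exact_of_f_is_kernel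
  refine KernelFork.IsLimit.ofι' _ _ (fun {A} k hk => ?_)
  have hk' : ∀ n, (k ≫ Pi.π G (n + 1)) ≫ t n = k ≫ Pi.π G n := by
    intro n
    have := congrArg (fun q => q ≫ Pi.π G n) hk
    simp only [Category.assoc, Φ_π, Preadditive.comp_sub, zero_comp, sub_eq_zero] at this
    rw [Category.assoc]
    exact this.symm
  refine ⟨(hK A (fun n => k ≫ Pi.π G n) hk').choose, ?_⟩
  apply Pi.hom_ext
  intro n
  simp only [Category.assoc, Pi.lift_π]
  exact (hK A (fun n => k ≫ Pi.π G n) hk').choose_spec n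

include hK hmono in
lemma hT (hΦ : Epi (Φ G t)) : (T p hp).ShortExact :=
  { exact := T_exact p hp hK hmono
    mono_f := mono_lift p hmono
    epi_g := hΦ }

variable (G t) in
/-- the tower of Ext groups -/
noncomputable abbrev τ (W : 𝒜) (k : ℕ) (n : ℕ) : Ext W (G (n + 1)) k →+ Ext W (G n) k :=
  (Ext.mk₀ (t n)).postcomp W (add_zero k)

lemma cmp_Φ (W : 𝒜) (k : ℕ) (x : Ext W (∏ᶜ G) k) :
    cmp W G k (x.comp (Ext.mk₀ (Φ G t)) (add_zero k)) =
      Formal2.towerDiff (fun n => Ext W (G n) k) (τ G t W k) (cmp W G k x) := by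
  funext n
  simp only [cmp_apply, Formal2.towerDiff, AddMonoidHom.coe_mk, ZeroHom.coe_mk,
    AddMonoidHom.flip_apply, Ext.bilinearComp_apply_apply]
  rw [Ext.comp_assoc_of_second_deg_zero, Ext.mk₀_comp_mk₀, Φ_π, mk₀_sub, comp_sub,
    Ext.comp_assoc_of_second_deg_zero, Ext.mk₀_comp_mk₀]

lemma cmp_f (W : 𝒜) (k : ℕ) (η : Ext W K k) (n : ℕ) :
    cmp W G k (η.comp (Ext.mk₀ (Pi.lift p)) (add_zero k)) n =
      η.comp (Ext.mk₀ (p n)) (add_zero k) := by
  simp only [cmp_apply]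
  rw [Ext.comp_assoc_of_second_deg_zero, Ext.mk₀_comp_mk₀, Pi.lift_π]

variable [EnoughInjectives 𝒜]

include hp hK hmono in
theorem exists_lift (hZ : DetectsEpi Z) (hG : Good Z G) (hΦ : Epi (Φ G t))
    (W : 𝒜) (k : ℕ) (ξ : ∀ n, Ext W (G n) k)
    (hξ : ∀ n, (ξ (n + 1)).comp (Ext.mk₀ (t n)) (add_zero k) = ξ n) :
    ∃ η : Ext W K k, ∀ n, η.comp (Ext.mk₀ (p n)) (add_zero k) = ξ n := by
  have hc := cmp_bijective hZ W k G hG
  have hT' := hT p hp hK hmono hΦ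
  obtain ⟨x, hx⟩ := hc.2 ξ
  have h0 : x.comp (Ext.mk₀ (T p hp).g) (add_zero k) = 0 := by
    apply hc.1
    rw [cmp_Φ, hx, map_zero]
    funext n
    simp only [Formal2.towerDiff, AddMonoidHom.coe_mk, ZeroHom.coe_mk, Pi.zero_apply]
    rw [sub_eq_zero]
    exact (hξ n).symm
  obtain ⟨η, hη⟩ := Ext.covariant_sequence_exact₂ W hT' x h0
  refine ⟨η, fun n => ?_⟩
  rw [← cmp_f p W k η n, hη, hx]

include hp hK hmono in
theorem ker_equiv (hZ : DetectsEpi Z) (hG : Good Z G) (hΦ : Epi (Φ G t))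
    (W : 𝒜) (j : ℕ) :
    Nonempty ((AddMonoidHom.pi fun n : ℕ => (Ext.mk₀ (p n)).postcomp W (add_zero (j + 1))).ker ≃+
      Formal2.limOne (fun n => Ext W (G n) j) (τ G t W j)) := by
  have hc := cmp_bijective hZ W j G hG
  have hc1 := cmp_bijective hZ W (j + 1) G hG
  have hT' := hT p hp hK hmono hΦ
  let e := AddEquiv.ofBijective (cmp W G j) hc
  let δ : Ext W (∏ᶜ G) j →+ Ext W K (j + 1) := hT'.extClass.postcomp W rfl
  let ψ : (∀ n, Ext W (G n) j) →+ Ext W K (j + 1) := δ.comp e.symm.toAddMonoidHom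
  let C := AddMonoidHom.pi fun n : ℕ => (Ext.mk₀ (p n)).postcomp W (add_zero (j + 1))
  have hC : ∀ η : Ext W K (j + 1), η ∈ C.ker ↔ η.comp (Ext.mk₀ (Pi.lift p)) (add_zero _) = 0 := by
    intro η
    rw [AddMonoidHom.mem_ker]
    constructor
    · intro h
      apply hc1.1
      rw [map_zero]
      funext n
      rw [cmp_f]
      exact congrFun h n
    · intro h
      funext n
      have := cmp_f p W (j + 1) η n
      rw [h, map_zero] at this
      exact this.symm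
  have hA1 : ∀ ξ, ψ ξ ∈ C.ker := by
    intro ξ
    rw [hC]
    show ((e.symm ξ).comp hT'.extClass rfl).comp (Ext.mk₀ (T p hp).f) (add_zero _) = 0
    rw [Ext.comp_assoc _ _ _ rfl (add_zero 1) (by omega), hT'.extClass_comp, Ext.comp_zero]
  have hA2 : ∀ η ∈ C.ker, ∃ ξ, ψ ξ = η := by
    intro η hη
    rw [hC] at hη
    obtain ⟨x₃, hx₃⟩ := Ext.covariant_sequence_exact₁ W hT' η hη rfl
    exact ⟨e x₃, by simpa [ψ, δ] using hx₃⟩
  have hB : ψ.ker = (Formal2.towerDiff (fun n => Ext W (G n) j) (τ G t W j)).range := by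
    ext ξ
    rw [AddMonoidHom.mem_ker, AddMonoidHom.mem_range]
    constructor
    · intro h
      obtain ⟨x₂, hx₂⟩ := Ext.covariant_sequence_exact₃ W hT' (e.symm ξ) rfl h
      refine ⟨e x₂, ?_⟩
      have := cmp_Φ (t := t) W j x₂
      refine this.symm.trans ?_
      show e (x₂.comp (Ext.mk₀ (T p hp).g) (add_zero j)) = ξ
      rw [hx₂, AddEquiv.apply_symm_apply]
    · rintro ⟨x, rfl⟩
      obtain ⟨x₂, rfl⟩ := e.surjective x
      have := cmp_Φ (t := t) W j x₂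
      show (e.symm _).comp hT'.extClass rfl = 0
      rw [show (Formal2.towerDiff (fun n => Ext W (G n) j) (τ G t W j)) (e x₂) =
        e (x₂.comp (Ext.mk₀ (T p hp).g) (add_zero j)) from this.symm, AddEquiv.symm_apply_apply,
        Ext.comp_assoc_of_second_deg_zero, hT'.comp_extClass, Ext.comp_zero]
  let ψ' : (∀ n, Ext W (G n) j) →+ C.ker := ψ.codRestrict C.ker hA1
  have hs : Function.Surjective ψ' := by
    rintro ⟨η, hη⟩
    obtain ⟨ξ, hξ⟩ := hA2 η hη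
    exact ⟨ξ, Subtype.ext hξ⟩
  have hk : ψ'.ker = (Formal2.towerDiff (fun n => Ext W (G n) j) (τ G t W j)).range := by
    rw [← hB]
    ext ξ
    simp only [AddMonoidHom.mem_ker]
    constructor
    · intro h
      exact congrArg Subtype.val h
    · intro h
      exact Subtype.ext h
  exact ⟨((QuotientAddGroup.quotientAddEquivOfEq hk).symm.trans
    (QuotientAddGroup.quotientKerEquivOfSurjective ψ' hs)).symm⟩

end Groth.Agent.Helper3.TowerExt
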