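import Groth.Agent.Lib.Helper3.TowerExt1

/-!
# The Milnor short exact sequence, packaged with explicit maps
-/

universe w v u

open CategoryTheory Limits Abelian

namespace Groth.Agent.Helper3.TowerExt

open Groth.Agent.Helper3.ExtProd

variable {𝒜 : Type u} [Category.{v} 𝒜] [Abelian 𝒜] [HasExt.{w} 𝒜] [HasProductsOfShape ℕ 𝒜]
  [EnoughInjectives 𝒜]
variable {ι : Type*} {Z : ι → 𝒜}
variable {G : ℕ → 𝒜} {t : ∀ n, G (n + 1) ⟶ G n}
variable {K : 𝒜} (p : ∀ n, K ⟶ G n) (hp : ∀ n, p (n + 1) ≫ t n = p n)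
variable (hK : ∀ (A : 𝒜) (k : ∀ n, A ⟶ G n), (∀ n, k (n + 1) ≫ t n = k n) →
      ∃ l : A ⟶ K, ∀ n, l ≫ p n = k n)
  (hmono : ∀ (A : 𝒜) (l l' : A ⟶ K), (∀ n, l ≫ p n = l' ≫ p n) → l = l')

include hp hK hmono in
theorem ses (hZ : DetectsEpi Z) (hG : Good Z G) (hΦ : Epi (Φ G t))
    (W : 𝒜) (j : ℕ) :
    ∃ (α : Formal2.limOne (fun n => Ext W (G n) j) (τ G t W j) →+ Ext W K (j + 1))
      (β : Ext W K (j + 1) →+
        Formal2.limZero (fun n => Ext W (G n) (j + 1)) (τ G t W (j + 1))),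
      Function.Injective α ∧ Function.Surjective β ∧ α.range = β.ker ∧
      ∀ (x : Ext W K (j + 1)) (n : ℕ),
        (β x : ∀ n, Ext W (G n) (j + 1)) n = x.comp (Ext.mk₀ (p n)) (add_zero (j + 1)) := by
  let C : Ext W K (j + 1) →+ ∀ n, Ext W (G n) (j + 1) :=
    AddMonoidHom.pi fun n : ℕ => (Ext.mk₀ (p n)).postcomp W (add_zero (j + 1))
  have hmem : ∀ x, C x ∈ Formal2.limZero (fun n => Ext W (G n) (j + 1)) (τ G t W (j + 1)) := by
    intro x
    rw [AddMonoidHom.mem_ker]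
    funext n
    simp only [Formal2.towerDiff, AddMonoidHom.coe_mk, ZeroHom.coe_mk, Pi.zero_apply]
    rw [sub_eq_zero]
    show x.comp (Ext.mk₀ (p n)) (add_zero _) =
      (x.comp (Ext.mk₀ (p (n + 1))) (add_zero _)).comp (Ext.mk₀ (t n)) (add_zero _)
    rw [Ext.comp_assoc_of_second_deg_zero, Ext.mk₀_comp_mk₀, hp]
  obtain ⟨e⟩ := ker_equiv p hp hK hmono hZ hG hΦ W j
  refine ⟨(C.ker.subtype).comp e.symm.toAddMonoidHom, C.codRestrict _ hmem, ?_, ?_, ?_, ?_⟩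
  · intro a b hab
    exact e.symm.injective (Subtype.ext hab)
  · rintro ⟨ξ, hξ⟩
    have hξ' : ∀ n, (ξ (n + 1)).comp (Ext.mk₀ (t n)) (add_zero (j + 1)) = ξ n := by
      intro n
      have := congrFun (AddMonoidHom.mem_ker.1 hξ) n
      simp only [Formal2.towerDiff, AddMonoidHom.coe_mk, ZeroHom.coe_mk, Pi.zero_apply] at this
      exact (sub_eq_zero.1 this).symm
    obtain ⟨η, hη⟩ := exists_lift p hp hK hmono hZ hG hΦ W (j + 1) ξ hξ'
    refine ⟨η, Subtype.ext ?_⟩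
    funext n
    exact hη n
  · ext x
    rw [AddMonoidHom.mem_range, AddMonoidHom.mem_ker]
    constructor
    · rintro ⟨a, rfl⟩
      apply Subtype.ext
      exact (e.symm a).2
    · intro hx
      have hx' : x ∈ C.ker := congrArg Subtype.val hx
      exact ⟨e ⟨x, hx'⟩, by simp⟩
  · intro x n
    rfl

end Groth.Agent.Helper3.TowerExt
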