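import Groth.Agent.Lib.Helper3.TowerExt2

/-!
# Vanishing of Ext into the limit of a tower
-/

universe w v u

open CategoryTheory Limits Abelian

namespace Groth.Agent.Helper3.TowerExt

open Groth.Agent.Helper3.ExtProd

/-- a tower of abelian groups with surjective transition maps has vanishing lim¹ -/
theorem towerDiff_surjective_of_surjective {E : ℕ → Type w} [∀ n, AddCommGroup (E n)]
    (s : ∀ n, E (n + 1) →+ E n) (hs : ∀ n, Function.Surjective (s n)) :
    Function.Surjective (Formal2.towerDiff E s) := by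
  intro y
  let x : ∀ n, E n := fun n => Nat.rec (motive := fun n => E n) 0
    (fun n xn => (hs n (xn - y n)).choose) n
  have hx : ∀ n, s n (x (n + 1)) = x n - y n := fun n => (hs n (x n - y n)).choose_spec
  refine ⟨x, ?_⟩
  funext n
  simp only [Formal2.towerDiff, AddMonoidHom.coe_mk, ZeroHom.coe_mk, hx]
  abel

variable {𝒜 : Type u} [Category.{v} 𝒜] [Abelian 𝒜] [HasExt.{w} 𝒜] [HasProductsOfShape ℕ 𝒜]
  [EnoughInjectives 𝒜]
variable {ι : Type*} {Z : ι → 𝒜}
variable {G : ℕ → 𝒜} {t : ∀ n, G (n + 1) ⟶ G n}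
variable {K : 𝒜} (p : ∀ n, K ⟶ G n) (hp : ∀ n, p (n + 1) ≫ t n = p n)
variable (hK : ∀ (A : 𝒜) (k : ∀ n, A ⟶ G n), (∀ n, k (n + 1) ≫ t n = k n) →
      ∃ l : A ⟶ K, ∀ n, l ≫ p n = k n)
  (hmono : ∀ (A : 𝒜) (l l' : A ⟶ K), (∀ n, l ≫ p n = l' ≫ p n) → l = l')

include hp hK hmono in
theorem ext_eq_zero (hZ : DetectsEpi Z) (hG : Good Z G) (hΦ : Epi (Φ G t))
    (W : 𝒜) (hW : ∀ (n k : ℕ) (x : Ext W (G n) (k + 1)), x = 0)
    (hWl : Function.Surjective (Formal2.towerDiff (fun n => Ext W (G n) 0) (τ G t W 0)))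
    (k : ℕ) (η : Ext W K (k + 1)) : η = 0 := by
  obtain ⟨e⟩ := ker_equiv p hp hK hmono hZ hG hΦ W k
  have hsub : Subsingleton (Formal2.limOne (fun n => Ext W (G n) k) (τ G t W k)) := by
    cases k with
    | zero =>
      have hs := hWl
      unfold Formal2.limOne
      rw [AddMonoidHom.range_eq_top.2 hs]
      exact QuotientAddGroup.subsingleton_quotient_top
    | succ k =>
      have : Subsingleton (∀ n, Ext W (G n) (k + 1)) :=
        ⟨fun a b => funext fun n => (hW n k (a n)).trans (hW n k (b n)).symm⟩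
      unfold Formal2.limOne
      exact ⟨fun a b => by
        obtain ⟨a', rfl⟩ := QuotientAddGroup.mk_surjective a
        obtain ⟨b', rfl⟩ := QuotientAddGroup.mk_surjective b
        rw [Subsingleton.elim a' b']⟩
  have hmem : η ∈ (AddMonoidHom.pi fun n : ℕ =>
      (Ext.mk₀ (p n)).postcomp W (add_zero (k + 1))).ker := by
    rw [AddMonoidHom.mem_ker]
    funext n
    exact hW n k _
  have h0 : (⟨η, hmem⟩ : (AddMonoidHom.pi fun n : ℕ =>
      (Ext.mk₀ (p n)).postcomp W (add_zero (k + 1))).ker) = 0 :=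
    e.injective (Subsingleton.elim _ _)
  exact congrArg Subtype.val h0

lemma towerDiff_surjective_of_lift (W : 𝒜)
    (hWl : ∀ (n : ℕ) (y : W ⟶ G n), ∃ x : W ⟶ G (n + 1), x ≫ t n = y) :
    Function.Surjective (Formal2.towerDiff (fun n => Ext W (G n) 0) (τ G t W 0)) := by
  apply towerDiff_surjective_of_surjective
  intro n y
  obtain ⟨f, rfl⟩ := (Ext.mk₀_bijective _ _).2 y
  obtain ⟨g, rfl⟩ := hWl n f
  exact ⟨Ext.mk₀ g, by simp [τ]⟩

end Groth.Agent.Helper3.TowerExt
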