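import Groth.Prelude.Def_Formal2
import Mathlib.Tactic

/-! Towers of abelian groups: lim and lim¹. -/

universe u

namespace Groth.Agent.Helper3.Tower

variable (G : ℕ → Type u) [∀ n, AddCommGroup (G n)] (t : ∀ n, G (n + 1) →+ G n)

/-- `X` solves `x n - t (x (n+1)) = y n` below level `N`. -/
def PartialSol (y : ∀ n, G n) (N : ℕ) (X : ∀ n, G n) : Prop :=
  ∀ n < N, X n = y n + t n (X (n + 1))

lemma exists_partial_top (y : ∀ n, G n) (N : ℕ) (top : G N) :
    ∃ X : ∀ n, G n, X N = top ∧ PartialSol G t y N X := by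
  induction N with
  | zero =>
    exact ⟨Function.update (fun _ => 0) 0 top, by simp, fun n hn => absurd hn (Nat.not_lt_zero n)⟩
  | succ N ih =>
    obtain ⟨X, hX, hc⟩ := ih (y N + t N top)
    refine ⟨Function.update X (N+1) top, by simp, ?_⟩
    intro n hn
    rcases Nat.lt_succ_iff_lt_or_eq.1 hn with h | rfl
    · rw [Function.update_of_ne (by omega), Function.update_of_ne (by omega)]; exact hc n h
    · rw [Function.update_self, Function.update_of_ne (by omega), hX]

lemma exists_partial (y : ∀ n, G n) (N : ℕ) : ∃ X : ∀ n, G n, PartialSol G t y N X := by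
  obtain ⟨X, -, hX⟩ := exists_partial_top G t y N 0
  exact ⟨X, hX⟩

theorem limZero_eq_bot_and_surjective
    (h : ∀ i : ℕ, ∃ j : ℕ, i ≤ j ∧
      ∀ x : ∀ n, G n, (∀ n, i ≤ n → n < j → x n = t n (x (n + 1))) → x i = 0) :
    Formal2.limZero G t = ⊥ ∧ Function.Surjective (Formal2.towerDiff G t) := by
  constructor
  · rw [eq_bot_iff]
    intro x hx
    rw [AddMonoidHom.mem_ker] at hx
    have hx' : ∀ n, x n = t n (x (n + 1)) := by
      intro n
      have := congrFun hx n
      exact sub_eq_zero.1 this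
    rw [AddSubgroup.mem_bot]
    funext i
    obtain ⟨j, -, hj⟩ := h i
    exact hj x (fun n _ _ => hx' n)
  · intro y
    choose j hij hj using h
    have agree : ∀ (N i : ℕ) (X X' : ∀ n, G n), PartialSol G t y N X → PartialSol G t y N X' →
        j i ≤ N → X i = X' i := by
      intro N i X X' hX hX' hN
      have := hj i (X - X') (fun n _ hn => by
        simp only [Pi.sub_apply, map_sub]
        rw [hX n (by omega), hX' n (by omega)]
        abel)
      exact sub_eq_zero.1 this
    have mono : ∀ (N N' : ℕ) (X : ∀ n, G n), N' ≤ N → PartialSol G t y N X →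
        PartialSol G t y N' X := fun N N' X hNN hX n hn => hX n (by omega)
    choose Xs hXs using exists_partial G t y
    refine ⟨fun i => Xs (j i) i, ?_⟩
    funext n
    show Xs (j n) n - t n (Xs (j (n + 1)) (n + 1)) = y n
    let N := max (j n) (max (j (n + 1)) (n + 1))
    have h1 : Xs (j n) n = Xs N n :=
      agree (j n) n _ _ (hXs _) (mono N (j n) _ (by omega) (hXs N)) le_rfl
    have h2 : Xs (j (n + 1)) (n + 1) = Xs N (n + 1) :=
      agree (j (n + 1)) (n + 1) _ _ (hXs _) (mono N (j (n + 1)) _ (by omega) (hXs N)) le_rfl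
    rw [h1, h2, hXs N n (by omega)]
    abel

end Groth.Agent.Helper3.Tower

namespace Groth.Agent.Helper3.Tower6

open Formal2

variable (G' G G'' : ℕ → Type u)
    [∀ n, AddCommGroup (G' n)] [∀ n, AddCommGroup (G n)] [∀ n, AddCommGroup (G'' n)]
    (t' : ∀ n, G' (n + 1) →+ G' n) (t : ∀ n, G (n + 1) →+ G n) (t'' : ∀ n, G'' (n + 1) →+ G'' n)
    (u : ∀ n, G' n →+ G n) (v : ∀ n, G n →+ G'' n)

/-- levelwise map on products -/
def lvl {H K : ℕ → Type u} [∀ n, AddCommGroup (H n)] [∀ n, AddCommGroup (K n)]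
    (w : ∀ n, H n →+ K n) : (∀ n, H n) →+ (∀ n, K n) where
  toFun x := fun n => w n (x n)
  map_zero' := by ext n; simp
  map_add' x y := by ext n; simp

@[simp] lemma lvl_apply {H K : ℕ → Type u} [∀ n, AddCommGroup (H n)] [∀ n, AddCommGroup (K n)]
    (w : ∀ n, H n →+ K n) (x : ∀ n, H n) (n : ℕ) : lvl w x n = w n (x n) := rfl

@[simp] lemma towerDiff_apply {H : ℕ → Type u} [∀ n, AddCommGroup (H n)]
    (s : ∀ n, H (n + 1) →+ H n) (x : ∀ n, H n) (n : ℕ) :
    towerDiff H s x n = x n - s n (x (n + 1)) := rfl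

lemma lvl_comm {H K : ℕ → Type u} [∀ n, AddCommGroup (H n)] [∀ n, AddCommGroup (K n)]
    (s : ∀ n, H (n + 1) →+ H n) (s' : ∀ n, K (n + 1) →+ K n)
    (w : ∀ n, H n →+ K n) (hw : ∀ n x, s' n (w (n + 1) x) = w n (s n x)) (x : ∀ n, H n) :
    towerDiff K s' (lvl w x) = lvl w (towerDiff H s x) := by
  funext n
  simp [hw]

theorem six_term
    (hu : ∀ n x, t n (u (n + 1) x) = u n (t' n x)) (hv : ∀ n x, t'' n (v (n + 1) x) = v n (t n x))
    (hinj : ∀ n, Function.Injective (u n)) (hsurj : ∀ n, Function.Surjective (v n))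
    (hex : ∀ n, (v n).ker = (u n).range) :
    ∃ (α : Formal2.limZero G' t' →+ Formal2.limZero G t) (β : Formal2.limZero G t →+ Formal2.limZero G'' t'')
      (δ : Formal2.limZero G'' t'' →+ Formal2.limOne G' t')
      (ε : Formal2.limOne G' t' →+ Formal2.limOne G t) (ζ : Formal2.limOne G t →+ Formal2.limOne G'' t''),
      (∀ (x : Formal2.limZero G' t') (n : ℕ), (α x : ∀ n, G n) n = u n ((x : ∀ n, G' n) n)) ∧
      (∀ (x : Formal2.limZero G t) (n : ℕ), (β x : ∀ n, G'' n) n = v n ((x : ∀ n, G n) n)) ∧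
      (∀ (z : Formal2.limZero G'' t'') (y : ∀ n, G n) (w : ∀ n, G' n),
          (∀ n, v n (y n) = (z : ∀ n, G'' n) n) → (∀ n, u n (w n) = Formal2.towerDiff G t y n) →
            δ z = (QuotientAddGroup.mk w : Formal2.limOne G' t')) ∧
      (∀ y : ∀ n, G' n, ε (QuotientAddGroup.mk y : Formal2.limOne G' t') =
          (QuotientAddGroup.mk (fun n => u n (y n)) : Formal2.limOne G t)) ∧
      (∀ y : ∀ n, G n, ζ (QuotientAddGroup.mk y : Formal2.limOne G t) =
          (QuotientAddGroup.mk (fun n => v n (y n)) : Formal2.limOne G'' t'')) ∧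
      Function.Injective α ∧ α.range = β.ker ∧ β.range = δ.ker ∧ δ.range = ε.ker ∧ ε.range = ζ.ker ∧
      Function.Surjective ζ := by
  -- basic facts
  have hUd : ∀ x, towerDiff G t (lvl u x) = lvl u (towerDiff G' t' x) := lvl_comm t' t u hu
  have hVd : ∀ x, towerDiff G'' t'' (lvl v x) = lvl v (towerDiff G t x) := lvl_comm t t'' v hv
  have hUinj : Function.Injective (lvl u) := by
    intro x y hxy
    funext n
    exact hinj n (congrFun hxy n)
  have hVsurj : Function.Surjective (lvl v) := by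
    intro z
    choose y hy using fun n => hsurj n (z n)
    exact ⟨y, funext hy⟩
  have hVU : ∀ x, lvl v (lvl u x) = 0 := by
    intro x
    funext n
    have : u n (x n) ∈ (v n).ker := by rw [hex n]; exact ⟨_, rfl⟩
    exact this
  have hkerV : ∀ y, lvl v y = 0 → ∃ a, lvl u a = y := by
    intro y hy
    have : ∀ n, ∃ a, u n a = y n := by
      intro n
      have : y n ∈ (v n).ker := congrFun hy n
      rw [hex n] at this
      exact this
    choose a ha using this
    exact ⟨a, funext ha⟩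
  -- α and β
  let α : limZero G' t' →+ limZero G t :=
    ((lvl u).comp (limZero G' t').subtype).codRestrict (limZero G t) (fun x => by
      rw [AddMonoidHom.mem_ker]
      show towerDiff G t (lvl u x.1) = 0
      rw [hUd, (AddMonoidHom.mem_ker).1 x.2, map_zero])
  let β : limZero G t →+ limZero G'' t'' :=
    ((lvl v).comp (limZero G t).subtype).codRestrict (limZero G'' t'') (fun x => by
      rw [AddMonoidHom.mem_ker]
      show towerDiff G'' t'' (lvl v x.1) = 0
      rw [hVd, (AddMonoidHom.mem_ker).1 x.2, map_zero])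
  have hα : ∀ x : limZero G' t', (α x).1 = lvl u x.1 := fun x => rfl
  have hβ : ∀ x : limZero G t, (β x).1 = lvl v x.1 := fun x => rfl
  -- ε and ζ
  let ε : limOne G' t' →+ limOne G t :=
    QuotientAddGroup.map _ _ (lvl u) (by
      rintro _ ⟨x, rfl⟩
      exact ⟨lvl u x, hUd x⟩)
  let ζ : limOne G t →+ limOne G'' t'' :=
    QuotientAddGroup.map _ _ (lvl v) (by
      rintro _ ⟨x, rfl⟩
      exact ⟨lvl v x, hVd x⟩)
  have hε : ∀ y, ε (QuotientAddGroup.mk y) = QuotientAddGroup.mk (lvl u y) := fun y => rfl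
  have hζ : ∀ y, ζ (QuotientAddGroup.mk y) = QuotientAddGroup.mk (lvl v y) := fun y => rfl
  -- δ
  have hchoice : ∀ z : limZero G'' t'', ∃ yw : (∀ n, G n) × (∀ n, G' n),
      lvl v yw.1 = z.1 ∧ lvl u yw.2 = towerDiff G t yw.1 := by
    intro z
    obtain ⟨y, hy⟩ := hVsurj z.1
    obtain ⟨w, hw⟩ := hkerV (towerDiff G t y) (by
      rw [← hVd, hy]; exact (AddMonoidHom.mem_ker).1 z.2)
    exact ⟨(y, w), hy, hw⟩
  choose yw hyw1 hyw2 using hchoice
  have hindep : ∀ (z : limZero G'' t'') (y : ∀ n, G n) (w : ∀ n, G' n),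
      lvl v y = z.1 → lvl u w = towerDiff G t y →
      (QuotientAddGroup.mk (yw z).2 : limOne G' t') = QuotientAddGroup.mk w := by
    intro z y w hy hw
    obtain ⟨a, ha⟩ := hkerV (y - (yw z).1) (by rw [map_sub, hy, hyw1, sub_self])
    rw [QuotientAddGroup.eq]
    refine ⟨a, ?_⟩
    apply hUinj
    rw [← hUd, ha, map_sub, map_add, map_neg, hw, hyw2]
    abel
  let δ : limZero G'' t'' →+ limOne G' t' :=
    { toFun := fun z => QuotientAddGroup.mk (yw z).2
      map_zero' := by
        rw [hindep 0 0 0 (by simp) (by simp)]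
        rfl
      map_add' := fun z₁ z₂ => by
        rw [hindep (z₁ + z₂) ((yw z₁).1 + (yw z₂).1) ((yw z₁).2 + (yw z₂).2)
          (by rw [map_add, hyw1, hyw1]; rfl) (by rw [map_add, map_add, hyw2, hyw2])]
        rfl }
  have hδ : ∀ (z : limZero G'' t'') (y : ∀ n, G n) (w : ∀ n, G' n),
      lvl v y = z.1 → lvl u w = towerDiff G t y → δ z = QuotientAddGroup.mk w :=
    fun z y w hy hw => hindep z y w hy hw
  refine ⟨α, β, δ, ε, ζ, fun x n => rfl, fun x n => rfl,
    fun z y w hy hw => hδ z y w (funext hy) (funext hw), hε, hζ, ?_, ?_, ?_, ?_, ?_, ?_⟩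
  · -- α injective
    intro x y hxy
    apply Subtype.ext
    apply hUinj
    rw [← hα, ← hα, hxy]
  · -- range α = ker β
    ext x
    constructor
    · rintro ⟨a, rfl⟩
      rw [AddMonoidHom.mem_ker]
      apply Subtype.ext
      rw [hβ, hα]
      exact hVU _
    · intro hx
      rw [AddMonoidHom.mem_ker] at hx
      have hx' : lvl v x.1 = 0 := by rw [← hβ, hx]; rfl
      obtain ⟨a, ha⟩ := hkerV x.1 hx'
      have ha' : a ∈ limZero G' t' := by
        rw [AddMonoidHom.mem_ker]
        apply hUinj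
        rw [← hUd, ha, (AddMonoidHom.mem_ker).1 x.2, map_zero]
      exact ⟨⟨a, ha'⟩, Subtype.ext ha⟩
  · -- range β = ker δ
    ext z
    constructor
    · rintro ⟨x, rfl⟩
      rw [AddMonoidHom.mem_ker]
      rw [hδ (β x) x.1 0 (hβ x).symm (by rw [map_zero, (AddMonoidHom.mem_ker).1 x.2])]
      rfl
    · intro hz
      rw [AddMonoidHom.mem_ker] at hz
      have hz' : (QuotientAddGroup.mk (yw z).2 : limOne G' t') = 0 := hz
      rw [QuotientAddGroup.eq_zero_iff] at hz'
      obtain ⟨a, ha⟩ := hz'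
      have hmem : (yw z).1 - lvl u a ∈ limZero G t := by
        rw [AddMonoidHom.mem_ker, map_sub, hUd, ha, hyw2, sub_self]
      refine ⟨⟨_, hmem⟩, Subtype.ext ?_⟩
      rw [hβ]
      show lvl v ((yw z).1 - lvl u a) = z.1
      rw [map_sub, hVU, sub_zero, hyw1]
  · -- range δ = ker ε
    ext c
    constructor
    · rintro ⟨z, rfl⟩
      rw [AddMonoidHom.mem_ker]
      show ε (QuotientAddGroup.mk (yw z).2) = 0
      rw [hε, hyw2, QuotientAddGroup.eq_zero_iff]
      exact ⟨_, rfl⟩
    · intro hc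
      obtain ⟨w, rfl⟩ := QuotientAddGroup.mk_surjective c
      rw [AddMonoidHom.mem_ker, hε, QuotientAddGroup.eq_zero_iff] at hc
      obtain ⟨y, hy⟩ := hc
      have hz : lvl v y ∈ limZero G'' t'' := by
        rw [AddMonoidHom.mem_ker, hVd, hy, hVU]
      exact ⟨⟨_, hz⟩, hδ ⟨_, hz⟩ y w rfl hy.symm⟩
  · -- range ε = ker ζ
    ext c
    constructor
    · rintro ⟨c', rfl⟩
      obtain ⟨w, rfl⟩ := QuotientAddGroup.mk_surjective c'
      rw [AddMonoidHom.mem_ker, hε, hζ, hVU]
      rfl
    · intro hc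
      obtain ⟨y, rfl⟩ := QuotientAddGroup.mk_surjective c
      rw [AddMonoidHom.mem_ker, hζ, QuotientAddGroup.eq_zero_iff] at hc
      obtain ⟨z'', hz''⟩ := hc
      obtain ⟨x, rfl⟩ := hVsurj z''
      obtain ⟨w, hw⟩ := hkerV (y - towerDiff G t x) (by rw [map_sub, ← hVd, hz'', sub_self])
      refine ⟨QuotientAddGroup.mk w, ?_⟩
      rw [hε, hw, QuotientAddGroup.eq]
      refine ⟨x, ?_⟩
      abel
  · -- ζ surjective
    intro c
    obtain ⟨z, rfl⟩ := QuotientAddGroup.mk_surjective c
    obtain ⟨y, rfl⟩ := hVsurj z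
    exact ⟨QuotientAddGroup.mk y, hζ y⟩

end Groth.Agent.Helper3.Tower6
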