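import Groth.Agent.Lib.Helper3.TowerLimA
import Mathlib.CategoryTheory.Functor.OfSequence
import Mathlib.CategoryTheory.CofilteredSystem
import Mathlib.Algebra.Category.Grp.Basic

/-! Mittag-Leffler towers have vanishing lim¹. -/

universe u

open CategoryTheory

namespace Groth.Agent.Helper3.TowerML

open Formal2

lemma surjective_towerDiff_of_surjective (H : ℕ → Type u) [∀ n, AddCommGroup (H n)]
    (s : ∀ n, H (n + 1) →+ H n) (hs : ∀ n, Function.Surjective (s n)) :
    Function.Surjective (towerDiff H s) := by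
  intro y
  choose r hr using hs
  let x : ∀ n, H n := fun n => Nat.rec (motive := H) 0 (fun n xn => r n (xn - y n)) n
  refine ⟨x, ?_⟩
  funext n
  show x n - s n (r n (x n - y n)) = y n
  rw [hr]
  abel

variable (G : ℕ → Type u) [∀ n, AddCommGroup (G n)] (t : ∀ n, G (n + 1) →+ G n)

/-- the functor to sets attached to a tower -/
abbrev Fun : ℕᵒᵖ ⥤ Type u :=
  Functor.ofOpSequence (X := fun n => AddCommGrpCat.of (G n))
      (fun n => AddCommGrpCat.ofHom (t n)) ⋙ forget AddCommGrpCat

/-- transition homomorphisms -/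
def T {a b : ℕᵒᵖ} (φ : a ⟶ b) : G a.unop →+ G b.unop :=
  ((Functor.ofOpSequence (X := fun n => AddCommGrpCat.of (G n))
      (fun n => AddCommGrpCat.ofHom (t n))).map φ).hom

lemma Fun_map {a b : ℕᵒᵖ} (φ : a ⟶ b) (x : G a.unop) : (Fun G t).map φ x = T G t φ x := rfl

lemma T_succ (n : ℕ) (x : G (n + 1)) :
    T G t (homOfLE (Nat.le_add_right n 1)).op x = t n x := by
  unfold T
  rw [Functor.ofOpSequence_map_homOfLE_succ]
  rfl

lemma T_comp {a b c : ℕᵒᵖ} (φ : a ⟶ b) (ψ : b ⟶ c) (x : G a.unop) :
    T G t (φ ≫ ψ) x = T G t ψ (T G t φ x) := by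
  unfold T
  rw [CategoryTheory.Functor.map_comp]
  rfl

lemma T_id (a : ℕᵒᵖ) (x : G a.unop) : T G t (𝟙 a) x = x := by
  unfold T
  rw [CategoryTheory.Functor.map_id]
  rfl

lemma mem_eventualRange_iff (n : ℕ) (x : G n) :
    x ∈ (Fun G t).eventualRange (Opposite.op n) ↔
      ∀ (k : ℕᵒᵖ) (f : k ⟶ Opposite.op n), ∃ y : G k.unop, T G t f y = x := by
  constructor
  · intro h k f
    exact (CategoryTheory.Functor.mem_eventualRange_iff (F := Fun G t)).1 h f
  · intro h
    exact (CategoryTheory.Functor.mem_eventualRange_iff (F := Fun G t)).2 (fun k f => h k f)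

/-- eventual ranges as subgroups -/
def E (n : ℕ) : AddSubgroup (G n) where
  carrier := (Fun G t).eventualRange (Opposite.op n)
  zero_mem' := by
    apply (mem_eventualRange_iff G t n 0).2
    intro k f
    exact ⟨0, map_zero (T G t f)⟩
  add_mem' := by
    intro a b ha hb
    have ha' := (mem_eventualRange_iff G t n a).1 ha
    have hb' := (mem_eventualRange_iff G t n b).1 hb
    apply (mem_eventualRange_iff G t n (a + b)).2
    intro k f
    obtain ⟨a', ha''⟩ := ha' k f
    obtain ⟨b', hb''⟩ := hb' k f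
    exact ⟨a' + b', by rw [map_add, ha'', hb'']⟩
  neg_mem' := by
    intro a ha
    have ha' := (mem_eventualRange_iff G t n a).1 ha
    apply (mem_eventualRange_iff G t n (-a)).2
    intro k f
    obtain ⟨a', ha''⟩ := ha' k f
    exact ⟨-a', by rw [map_neg, ha'']⟩

lemma mem_E_iff (n : ℕ) (x : G n) :
    x ∈ E G t n ↔ ∀ (k : ℕᵒᵖ) (f : k ⟶ Opposite.op n), ∃ y : G k.unop, T G t f y = x :=
  mem_eventualRange_iff G t n x

theorem surjective_of_ML (h : (Fun G t).IsMittagLeffler) :
    Function.Surjective (towerDiff G t) := by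
  -- t maps E (n+1) onto E n
  have hmap : ∀ n (x : G (n + 1)), x ∈ E G t (n + 1) → t n x ∈ E G t n := by
    intro n x hx
    have := (h.eq_image_eventualRange (Fun G t) (homOfLE (Nat.le_add_right n 1)).op)
    have h2 : t n x ∈ (Fun G t).eventualRange (Opposite.op n) := by
      rw [this]
      exact ⟨x, hx, T_succ G t n x⟩
    exact h2
  have honto : ∀ n (y : G n), y ∈ E G t n → ∃ x ∈ E G t (n + 1), t n x = y := by
    intro n y hy
    have := (h.eq_image_eventualRange (Fun G t) (homOfLE (Nat.le_add_right n 1)).op)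
    have h2 : y ∈ (Fun G t).eventualRange (Opposite.op n) := hy
    rw [this] at h2
    obtain ⟨x, hx, hxy⟩ := h2
    exact ⟨x, hx, (T_succ G t n x).symm.trans hxy⟩
  -- the sub-tower
  let te : ∀ n, E G t (n + 1) →+ E G t n := fun n =>
    ((t n).comp (E G t (n + 1)).subtype).codRestrict (E G t n) (fun x => hmap n x.1 x.2)
  have hte : ∀ n, Function.Surjective (te n) := by
    intro n y
    obtain ⟨x, hx, hxy⟩ := honto n y.1 y.2
    exact ⟨⟨x, hx⟩, Subtype.ext hxy⟩
  have hEsurj := surjective_towerDiff_of_surjective (fun n => E G t n) te hte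
  -- the quotient tower
  let tq : ∀ n, (G (n + 1) ⧸ E G t (n + 1)) →+ (G n ⧸ E G t n) := fun n =>
    QuotientAddGroup.map _ _ (t n) (fun x hx => hmap n x hx)
  have htq : ∀ n (g : G (n + 1)), tq n (QuotientAddGroup.mk g) = QuotientAddGroup.mk (t n g) :=
    fun n g => rfl
  have hQzero : ∀ i : ℕ, ∃ j : ℕ, i ≤ j ∧
      ∀ x : ∀ n, G n ⧸ E G t n, (∀ n, i ≤ n → n < j → x n = tq n (x (n + 1))) → x i = 0 := by
    intro i
    obtain ⟨k, f, hf⟩ := (Functor.isMittagLeffler_iff_eventualRange (Fun G t)).1 h (Opposite.op i)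
    have hik : i ≤ k.unop := leOfHom f.unop
    refine ⟨k.unop, hik, ?_⟩
    intro x hx
    have claim : ∀ m, i ≤ m → m ≤ k.unop → ∀ (g : G m), (QuotientAddGroup.mk g : G m ⧸ E G t m) = x m →
        ∀ φ : Opposite.op m ⟶ Opposite.op i,
          (QuotientAddGroup.mk (T G t φ g) : G i ⧸ E G t i) = x i := by
      intro m hm
      induction m, hm using Nat.le_induction with
      | base =>
        intro _ g hg φ
        have : φ = 𝟙 _ := Subsingleton.elim _ _
        rw [this, T_id]
        exact hg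
      | succ m him ih =>
        intro hmk g hg φ
        have hxm : (QuotientAddGroup.mk (t m g) : G m ⧸ E G t m) = x m := by
          rw [hx m him (by omega), ← hg, htq]
        have hφ : φ = (homOfLE (Nat.le_add_right m 1)).op ≫ (homOfLE him).op :=
          Subsingleton.elim _ _
        rw [hφ, T_comp, T_succ]
        exact ih (by omega) (t m g) hxm _
    obtain ⟨g, hg⟩ := QuotientAddGroup.mk_surjective (x k.unop)
    have := claim k.unop hik le_rfl g hg f
    rw [← this, QuotientAddGroup.eq_zero_iff]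
    show T G t f g ∈ (Fun G t).eventualRange (Opposite.op i)
    rw [hf]
    exact ⟨g, rfl⟩
  have hQsurj := (Groth.Agent.Helper3.Tower.limZero_eq_bot_and_surjective
    (fun n => G n ⧸ E G t n) tq hQzero).2
  -- combine
  intro y
  obtain ⟨xq, hxq⟩ := hQsurj (fun n => QuotientAddGroup.mk (y n))
  choose x hx using fun n => QuotientAddGroup.mk_surjective (xq n)
  have hmem : ∀ n, y n - towerDiff G t x n ∈ E G t n := by
    intro n
    rw [← QuotientAddGroup.eq_zero_iff, QuotientAddGroup.mk_sub, sub_eq_zero]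
    have := congrFun hxq n
    simp only [Groth.Agent.Helper3.Tower6.towerDiff_apply] at this ⊢
    rw [QuotientAddGroup.mk_sub, ← htq, hx, hx]
    exact this.symm
  obtain ⟨e, he⟩ := hEsurj (fun n => ⟨_, hmem n⟩)
  refine ⟨fun n => x n + (e n).1, ?_⟩
  funext n
  have := congrArg Subtype.val (congrFun he n)
  simp only [Groth.Agent.Helper3.Tower6.towerDiff_apply] at this ⊢
  have h3 : ((e n).1 - t n (e (n + 1)).1) = y n - (x n - t n (x (n + 1))) := this
  rw [map_add]
  have h4 : x n + (e n).1 - (t n (x (n + 1)) + t n (e (n + 1)).1) =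
      (x n - t n (x (n + 1))) + ((e n).1 - t n (e (n + 1)).1) := by abel
  rw [h4, h3]
  abel

end Groth.Agent.Helper3.TowerML
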