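import Groth.Agent.Lib.Helper3.TowerExt2
import Groth.Agent.Lib.Helper3.TowerSh1
import Groth.Agent.Lib.Helper1.QcAcyc
import Groth.Agent.Lib.Helper1.QcAbel
import Groth.Agent.Lib.Helper1.QcExt
import Groth.Prelude.Def_Formal2

/-!
# Cohomology of the limit of a tower of quasi-coherent modules with epimorphic transitions
-/

universe u

open CategoryTheory Limits TopologicalSpace Opposite Abelian AlgebraicGeometry

namespace Groth.Agent.Helper3.TowerQc

open Groth.Agent.Helper3.ExtProd Groth.Agent.Helper6.DRef Groth.Agent.Helper1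

variable {X : Scheme.{u}}

noncomputable instance : PreservesLimitsOfShape ℕᵒᵖ (SheafOfModules.toSheaf.{u} X.ringCatSheaf) :=
  have : PreservesLimitsOfShape ℕᵒᵖ
      (SheafOfModules.toSheaf.{u} X.ringCatSheaf ⋙ sheafToPresheaf _ _) :=
    comp_preservesLimitsOfShape (SheafOfModules.forget.{u} X.ringCatSheaf)
      (PresheafOfModules.toPresheaf X.ringCatSheaf.obj)
  preservesLimitsOfShape_of_reflects_of_preserves _ (sheafToPresheaf _ _)

/-- the affine opens -/
def Baff (X : Scheme.{u}) : Set (Opens X.toTopCat) := {V | IsAffineOpen (X := X) V}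

variable (G : ℕᵒᵖ ⥤ X.Modules)

/-- levels -/
noncomputable abbrev Gs (n : ℕ) : CohTop.Ab X.toTopCat := Coh.toAb (G.obj (op n))

/-- transitions -/
noncomputable abbrev ts (n : ℕ) : Gs G (n + 1) ⟶ Gs G n :=
  (SheafOfModules.toSheaf _).map (G.map (homOfLE (Nat.le_succ n)).op)

/-- projections -/
noncomputable abbrev ps (n : ℕ) : Coh.toAb (limit G) ⟶ Gs G n :=
  (SheafOfModules.toSheaf _).map (limit.π G (op n))

lemma hps (n : ℕ) : ps G (n + 1) ≫ ts G n = ps G n := by
  dsimp only [ps, ts]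
  rw [← Functor.map_comp]
  exact congrArg _ (limit.w G (homOfLE (Nat.le_succ n)).op)

lemma hKs (A : CohTop.Ab X.toTopCat) (k : ∀ n, A ⟶ Gs G n)
    (hk : ∀ n, k (n + 1) ≫ ts G n = k n) :
    ∃ l : A ⟶ Coh.toAb (limit G), ∀ n, l ≫ ps G n = k n := by
  let c : Cone (G ⋙ SheafOfModules.toSheaf.{u} X.ringCatSheaf) :=
    ⟨A, NatTrans.ofOpSequence (F := (Functor.const ℕᵒᵖ).obj A)
      (G := G ⋙ SheafOfModules.toSheaf.{u} X.ringCatSheaf) k (by
        intro n
        simp only [Functor.const_obj_obj, Functor.const_obj_map, Category.id_comp]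
        exact (hk n).symm)⟩
  have hl := isLimitOfPreserves (SheafOfModules.toSheaf.{u} X.ringCatSheaf) (limit.isLimit G)
  exact ⟨hl.lift c, fun n => hl.fac c (op n)⟩

lemma hmonos (A : CohTop.Ab X.toTopCat) (l l' : A ⟶ Coh.toAb (limit G))
    (h : ∀ n, l ≫ ps G n = l' ≫ ps G n) : l = l' := by
  have hl := isLimitOfPreserves (SheafOfModules.toSheaf.{u} X.ringCatSheaf) (limit.isLimit G)
  apply hl.hom_ext
  rintro ⟨n⟩
  exact h n

lemma goods (hq : ∀ n, (G.obj (op n)).IsQuasicoherent) :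
    Good (TowerSh.Zb (Baff X)) (Gs G) := by
  intro V n k x
  have := hq n
  exact (QcAcyc.subsingleton_HU (G.obj (op n)) V.1 V.2 k).elim x 0

lemma hls (hq : ∀ n, (G.obj (op n)).IsQuasicoherent)
    (hepi : ∀ n, Epi (G.map (homOfLE (Nat.le_succ n)).op))
    (V : Baff X) (n : ℕ) (y : TowerSh.Zb (Baff X) V ⟶ Gs G n) :
    ∃ x : TowerSh.Zb (Baff X) V ⟶ Gs G (n + 1), x ≫ ts G n = y := by
  have := hq n
  have := hq (n + 1)
  have := hepi n
  let f := G.map (homOfLE (Nat.le_succ n)).op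
  let S : ShortComplex X.Modules := ShortComplex.mk (kernel.ι f) f (kernel.condition f)
  have hS : S.ShortExact :=
    { exact := ShortComplex.exact_of_f_is_kernel _ (kernelIsKernel f)
      mono_f := inferInstanceAs (Mono (kernel.ι f))
      epi_g := hepi n }
  have hqk : (kernel f).IsQuasicoherent := QcAbel.isQuasicoherent_kernel f
  have hSab := QcExt.Sab_shortExact hS
  obtain ⟨x₂, hx₂⟩ := Ext.covariant_sequence_exact₃ (TowerSh.Zb (Baff X) V) hSab (Ext.mk₀ y)
    (zero_add 1) ((QcAcyc.subsingleton_HU (kernel f) V.1 V.2 0).elim _ _)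
  obtain ⟨x, rfl⟩ := (Ext.mk₀_bijective _ _).2 x₂
  refine ⟨x, ?_⟩
  rw [Ext.mk₀_comp_mk₀] at hx₂
  exact (Ext.mk₀_bijective _ _).1 hx₂

theorem ses_qc (hq : ∀ n, (G.obj (op n)).IsQuasicoherent)
    (hepi : ∀ n, Epi (G.map (homOfLE (Nat.le_succ n)).op)) (p : ℕ) :
    ∃ (α : Formal2.limOne (fun n => Coh.HH X (G.obj (op n)) p) (Formal2.HHsysMap G p) →+
        Coh.HH X (limit G) (p + 1))
      (β : Coh.HH X (limit G) (p + 1) →+
        Formal2.limZero (fun n => Coh.HH X (G.obj (op n)) (p + 1)) (Formal2.HHsysMap G (p + 1))),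
      Function.Injective α ∧ Function.Surjective β ∧ α.range = β.ker ∧
      ∀ (x : Coh.HH X (limit G) (p + 1)) (n : ℕ),
        (β x : ∀ n, Coh.HH X (G.obj (op n)) (p + 1)) n =
          Sheaf.H.map ((SheafOfModules.toSheaf _).map (limit.π G (op n))) (p + 1) x :=
  TowerExt.ses (ps G) (hps G) (hKs G) (hmonos G)
    (TowerSh.detectsEpi (Baff X) X.isBasis_affineOpens) (goods G hq)
    (TowerExt.Φ_epi _ _ (TowerSh.detectsEpi (Baff X) X.isBasis_affineOpens) (hls G hq hepi))
    ((constantSheaf (Opens.grothendieckTopology X.toTopCat) AddCommGrpCat.{u}).obj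
      (AddCommGrpCat.of (ULift ℤ))) p

end Groth.Agent.Helper3.TowerQc
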