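import Groth.Agent.Lib.Helper3.TowerQc1

universe u

open CategoryTheory Limits TopologicalSpace Opposite Abelian AlgebraicGeometry

namespace Groth.Agent.Helper3.TowerQc

lemma epi_of_isQCohFormal {A : Type u} [CommRing A] {X : Scheme.{u}}
    [X.Over (Spec (CommRingCat.of A))] (I : Ideal A) (G : ℕᵒᵖ ⥤ X.Modules)
    (hG : Formal2.IsQCohFormal I G) (n : ℕ) : Epi (G.map (homOfLE (Nat.le_succ n)).op) := by
  obtain ⟨h, hiso⟩ := hG.2.2 n
  have e : G.map (homOfLE (Nat.le_succ n)).op =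
      cokernel.π _ ≫ cokernel.desc _ _ h := (cokernel.π_desc _ _ h).symm
  rw [e]
  have h1 : Epi (cokernel.desc _ _ h) := IsIso.epi_of_iso _
  exact epi_comp _ _

theorem s0827_main {A : Type u} [CommRing A] (I : Ideal A) {X : Scheme.{u}}
    [X.Over (Spec (CommRingCat.of A))] (G : ℕᵒᵖ ⥤ X.Modules) (hG : Formal2.IsQCohFormal I G)
    (p : ℕ) :
    ∃ (α : Formal2.limOne (fun n => Coh.HH X (G.obj (op n)) p) (Formal2.HHsysMap G p) →+
        Coh.HH X (limit G) (p + 1))
      (β : Coh.HH X (limit G) (p + 1) →+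
        Formal2.limZero (fun n => Coh.HH X (G.obj (op n)) (p + 1)) (Formal2.HHsysMap G (p + 1))),
      Function.Injective α ∧ Function.Surjective β ∧ α.range = β.ker ∧
      ∀ (x : Coh.HH X (limit G) (p + 1)) (n : ℕ),
        (β x : ∀ n, Coh.HH X (G.obj (op n)) (p + 1)) n =
          Sheaf.H.map ((SheafOfModules.toSheaf _).map (limit.π G (op n))) (p + 1) x :=
  ses_qc G (fun n => hG.1 n) (epi_of_isQCohFormal I G hG) p

end Groth.Agent.Helper3.TowerQc
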