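import Groth.Agent.Lib.Helper3.TowerQc2
import Groth.Agent.Lib.Helper3.TowerExt3
import Groth.Agent.Lib.Helper4.HUon1

universe u

open CategoryTheory Limits TopologicalSpace Opposite Abelian AlgebraicGeometry

namespace Groth.Agent.Helper3.TowerQc

open Groth.Agent.Helper3.ExtProd Groth.Agent.Helper6.DRef Groth.Agent.Helper1

variable {X : Scheme.{u}}

theorem subsingleton_HU_limit (G : ℕᵒᵖ ⥤ X.Modules) (hq : ∀ n, (G.obj (op n)).IsQuasicoherent)
    (hepi : ∀ n, Epi (G.map (homOfLE (Nat.le_succ n)).op)) (U : X.Opens) (hU : IsAffineOpen U)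
    (k : ℕ) : Subsingleton (CohTop.HU (Coh.toAb (limit G)) (k + 1) U) := by
  have key : ∀ η : Ext (TowerSh.Zb (Baff X) ⟨U, hU⟩) (Coh.toAb (limit G)) (k + 1), η = 0 :=
    TowerExt.ext_eq_zero (ps G) (hps G) (hKs G) (hmonos G)
      (TowerSh.detectsEpi (Baff X) X.isBasis_affineOpens) (goods G hq)
      (TowerExt.Φ_epi _ _ (TowerSh.detectsEpi (Baff X) X.isBasis_affineOpens) (hls G hq hepi))
      (TowerSh.Zb (Baff X) ⟨U, hU⟩) (fun n k x => goods G hq ⟨U, hU⟩ n k x)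
      (TowerExt.towerDiff_surjective_of_lift _ (fun n y => hls G hq hepi ⟨U, hU⟩ n y)) k
  exact ⟨fun a b => (key a).trans (key b).symm⟩

theorem s0826_main {A : Type u} [CommRing A] (I : Ideal A) {X : Scheme.{u}}
    [X.Over (Spec (CommRingCat.of A))] (G : ℕᵒᵖ ⥤ X.Modules) (hG : Formal2.IsQCohFormal I G)
    (U : X.Opens) (hU : IsAffineOpen U) (p : ℕ) (hp : 0 < p) :
    Subsingleton (Coh.HHon X (limit G) U p) := by
  obtain ⟨k, rfl⟩ : ∃ k, p = k + 1 := ⟨p - 1, by omega⟩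
  obtain ⟨e⟩ := Groth.Agent.Lib.Helper4.HUon1.nonempty_HU_equiv_HHon (limit G) U (k + 1)
  have := subsingleton_HU_limit G (fun n => hG.1 n) (epi_of_isQCohFormal I G hG) U hU k
  exact e.symm.toEquiv.subsingleton

end Groth.Agent.Helper3.TowerQc
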