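import Groth.Agent.Lib.Helper3.TowerExt3
import Groth.Agent.Lib.Helper6.DRef.FreeSec
import Groth.Prelude.Def_CohCx

/-!
# Towers of abelian sheaves on a small site: test objects from a covering class
-/

universe u

open CategoryTheory Limits Opposite Abelian

namespace Groth.Agent.Helper3.TowerSite

open Groth.Agent.Helper3.ExtProd Groth.Agent.Helper6.DRef

variable {C : Type u} [SmallCategory C] {J : GrothendieckTopology C}

/-- test objects: free sheaves on the members of `B` -/
noncomputable abbrev Zb (J : GrothendieckTopology C) (B : Set C) : B → Sheaf J AddCommGrpCat.{u} :=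
  fun V => (Fr J).obj V.1

/-- every object is covered by members of `B` -/
def Covers (J : GrothendieckTopology C) (B : Set C) : Prop :=
  ∀ U : C, ∃ (ι : Type u) (Y : ι → C) (f : ∀ i, Y i ⟶ U), Sieve.ofArrows Y f ∈ J U ∧ ∀ i, Y i ∈ B

lemma detectsEpi (B : Set C) (hB : Covers J B) : DetectsEpi (Zb J B) := by
  intro P Q φ h
  rw [← Sheaf.isLocallySurjective_iff_epi' AddCommGrpCat.{u} φ]
  constructor
  intro U s
  obtain ⟨ι, Y, f, hcov, hY⟩ := hB U
  refine J.superset_covering ?_ hcov
  intro V g hg
  obtain ⟨i, a, rfl⟩ := (Sieve.mem_ofArrows_iff Y f g).1 hg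
  -- the restriction of `s` to `Y i` lifts
  obtain ⟨x, hx⟩ := h ⟨Y i, hY i⟩ ((secEquiv J (Y i) Q).symm (Q.obj.map (f i).op s))
  have h1 := secEquiv_comp J (Y i) x φ
  rw [hx, Equiv.apply_symm_apply] at h1
  -- now restrict along `a`
  refine ⟨P.obj.map a.op (secEquiv J (Y i) P x), ?_⟩
  have h2 := congrArg (fun z => Q.obj.map a.op z) h1
  simp only at h2
  rw [op_comp, Functor.map_comp]
  refine Eq.trans ?_ h2.symm
  exact ConcreteCategory.congr_hom (φ.hom.naturality a.op) (secEquiv J (Y i) P x)

end Groth.Agent.Helper3.TowerSite
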