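import Groth.Agent.Lib.Helper3.TowerSite1
import Groth.Agent.Lib.Helper3.Milnor
import Groth.Agent.Lib.Helper6.DRef.Sheafify
import Groth.Prelude.Def_DCoh2

/-!
# Detecting isomorphisms in the derived category of abelian sheaves by maps out of free sheaves
-/

universe u

open CategoryTheory Limits Opposite Abelian Pretriangulated

namespace Groth.Agent.Helper3.TowerSite

open Groth.Agent.Helper3.ExtProd Groth.Agent.Helper6.DRef

variable {C : Type u} [SmallCategory C] {J : GrothendieckTopology C}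

/-- a section of an abelian sheaf which is locally zero is zero -/
lemma eq_zero_of_locally_zero (H : Sheaf J AddCommGrpCat.{u}) {U : C}
    (s : ToType (H.obj.obj (op U))) (S : Sieve U) (hS : S ∈ J U)
    (h : ∀ ⦃V : C⦄ (f : V ⟶ U), S f → H.obj.map f.op s = 0) : s = 0 := by
  have hsh := (Presheaf.isSheaf_iff_isSheaf_forget J H.obj (forget AddCommGrpCat.{u})).1 H.property
  have hsep := (hsh.isSheafFor S hS).isSeparatedFor
  refine hsep.ext (t₁ := s) (t₂ := (0 : ToType (H.obj.obj (op U)))) ?_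
  intro V f hf
  have h1 := h f hf
  have h2 : H.obj.map f.op (0 : ToType (H.obj.obj (op U))) = 0 := map_zero _
  exact h1.trans h2.symm

variable [HasDerivedCategory.{u} (Sheaf J AddCommGrpCat.{u})]

/-- the single functor in degree zero -/
noncomputable abbrev sg (J : GrothendieckTopology C)
    [HasDerivedCategory.{u} (Sheaf J AddCommGrpCat.{u})] :
    Sheaf J AddCommGrpCat.{u} ⥤ DerivedCategory (Sheaf J AddCommGrpCat.{u}) :=
  DerivedCategory.singleFunctor (Sheaf J AddCommGrpCat.{u}) 0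

lemma isZero_H0_of_hPre_zero (B : Set C) (hB : Covers J B)
    (N : DerivedCategory (Sheaf J AddCommGrpCat.{u}))
    (h : ∀ U ∈ B, ∀ ξ : (sg J).obj ((Fr J).obj U) ⟶ N, ξ = 0) :
    IsZero ((DerivedCategory.homologyFunctor (Sheaf J AddCommGrpCat.{u}) 0).obj N) := by
  rw [IsZero.iff_id_eq_zero]
  apply Sheaf.hom_ext
  ext ⟨U⟩ s
  change s = 0
  -- `s` is locally in the image of `phi`
  have hloc := Presheaf.imageSieve_mem J (phi J N) s
  refine eq_zero_of_locally_zero _ s _ hloc ?_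
  rintro V f ⟨ξ, hξ⟩
  rw [← hξ]
  obtain ⟨ι, Y, g, hcov, hY⟩ := hB V
  refine eq_zero_of_locally_zero _ _ _ hcov ?_
  intro W k hk
  obtain ⟨i, a, rfl⟩ := (Sieve.mem_ofArrows_iff Y g k).1 hk
  have hnat := ConcreteCategory.congr_hom ((phi J N).naturality (a ≫ g i).op) ξ
  refine hnat.symm.trans ?_
  have h0 : ((hPre J N).map (a ≫ g i).op) ξ = 0 := by
    let ξ' : (sg J).obj ((Fr J).obj V) ⟶ N := ξ
    change (sg J).map ((Fr J).map (a ≫ g i)) ≫ ξ' = 0
    rw [Functor.map_comp, Functor.map_comp, Category.assoc,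
      h (Y i) (hY i) ((sg J).map ((Fr J).map (g i)) ≫ ξ'), comp_zero]
  change (phi J N).app (op W) (((hPre J N).map (a ≫ g i).op) ξ) = 0
  rw [h0, map_zero]

lemma isZero_of_hPre_zero (B : Set C) (hB : Covers J B)
    (N : DerivedCategory (Sheaf J AddCommGrpCat.{u}))
    (h : ∀ U ∈ B, ∀ (q : ℤ) (ξ : (sg J).obj ((Fr J).obj U) ⟶ N⟦q⟧), ξ = 0) : IsZero N := by
  have hH : ∀ n : ℤ,
      IsZero ((DerivedCategory.homologyFunctor (Sheaf J AddCommGrpCat.{u}) n).obj N) := by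
    intro n
    have h1 := isZero_H0_of_hPre_zero B hB (N⟦n⟧) (fun U hU ξ => h U hU n ξ)
    exact IsZero.of_iso h1
      (((DerivedCategory.homologyFunctor (Sheaf J AddCommGrpCat.{u}) 0).shiftIso n 0 n
        (by simp)).app N).symm
  let f : N ⟶ N := 0
  have hf : IsIso f := by
    rw [DerivedCategory.isIso_iff]
    intro n
    exact ⟨⟨0, (hH n).eq_of_src _ _, (hH n).eq_of_src _ _⟩⟩
  rw [IsZero.iff_id_eq_zero]
  have := IsIso.hom_inv_id f
  rw [← this]
  exact zero_comp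

lemma isIso_of_bijective (B : Set C) (hB : Covers J B)
    {M N : DerivedCategory (Sheaf J AddCommGrpCat.{u})} (φ : M ⟶ N)
    (h : ∀ U ∈ B, ∀ q : ℤ, Function.Bijective
      (fun ξ : (sg J).obj ((Fr J).obj U) ⟶ M⟦q⟧ => ξ ≫ φ⟦q⟧')) : IsIso φ := by
  obtain ⟨Cn, g, h3, hT⟩ := distinguished_cocone_triangle φ
  refine ((Triangle.mk φ g h3).isZero₃_iff_isIso₁ hT).1 ?_
  apply isZero_of_hPre_zero B hB
  intro U hU q ξ
  change (sg J).obj ((Fr J).obj U) ⟶ Cn⟦q⟧ at ξ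
  -- first: `ξ ≫ h3⟦q⟧' = 0`
  have hη : ξ ≫ h3⟦q⟧' = 0 := by
    have h31 : h3 ≫ φ⟦(1 : ℤ)⟧' = 0 := comp_distTriang_mor_zero₃₁ _ hT
    have h0 : (ξ ≫ h3⟦q⟧') ≫ (φ⟦(1 : ℤ)⟧')⟦q⟧' = 0 := by
      rw [Category.assoc, ← Functor.map_comp, h31, Functor.map_zero, comp_zero]
    let a := shiftFunctorAdd' (DerivedCategory (Sheaf J AddCommGrpCat.{u})) 1 q (q + 1)
      (by omega)
    have hnat : φ⟦q + 1⟧' ≫ a.hom.app N = a.hom.app M ≫ (φ⟦(1 : ℤ)⟧')⟦q⟧' := a.hom.naturality φ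
    have h1 : ((ξ ≫ h3⟦q⟧') ≫ a.inv.app M) ≫ φ⟦q + 1⟧' = 0 := by
      have : a.inv.app M ≫ φ⟦q + 1⟧' = (φ⟦(1 : ℤ)⟧')⟦q⟧' ≫ a.inv.app N :=
        (a.inv.naturality φ).symm
      rw [Category.assoc, this, ← Category.assoc, h0, zero_comp]
    have h2 : (ξ ≫ h3⟦q⟧') ≫ a.inv.app M = 0 := by
      apply (h U hU (q + 1)).1
      simp only
      rw [h1, zero_comp]
    have := congrArg (fun z => z ≫ a.hom.app M) h2
    simpa using this
  -- exactness of the rotated triangle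
  have hrot := rot_of_distTriang _ hT
  obtain ⟨y, hy⟩ := Milnor.coyoneda_exact₂_shift _ hrot q ξ hη
  change (sg J).obj ((Fr J).obj U) ⟶ N⟦q⟧ at y
  obtain ⟨x, hx⟩ := (h U hU q).2 y
  simp only at hx
  have h12 : φ ≫ g = 0 := comp_distTriang_mor_zero₁₂ _ hT
  have hy' : ξ = y ≫ g⟦q⟧' := hy
  have h4 : (x ≫ φ⟦q⟧') ≫ g⟦q⟧' = 0 := by
    rw [Category.assoc, ← Functor.map_comp, h12, Functor.map_zero, comp_zero]
  rw [hy', ← hx]
  exact h4

end Groth.Agent.Helper3.TowerSite
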