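import Groth.Agent.Lib.Helper3.TowerSite2

/-!
# The product of good sheaves is also their product in the derived category
-/

universe u

open CategoryTheory Limits Opposite Abelian Pretriangulated

namespace Groth.Agent.Helper3.TowerSite

open Groth.Agent.Helper3.ExtProd Groth.Agent.Helper6.DRef

variable {C : Type u} [SmallCategory C] {J : GrothendieckTopology C}
  [HasDerivedCategory.{u} (Sheaf J AddCommGrpCat.{u})]

lemma neg_hom_zero (W G' : Sheaf J AddCommGrpCat.{u}) (q : ℤ) (hq : q < 0)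
    (ξ : (sg J).obj W ⟶ ((sg J).obj G')⟦q⟧) : ξ = 0 := by
  have : DerivedCategory.TStructure.t.IsGE (((sg J).obj G')⟦q⟧) (-q) :=
    DerivedCategory.TStructure.t.isGE_shift ((sg J).obj G') 0 q (-q) (by omega)
  exact DerivedCategory.TStructure.t.zero ξ 0 (-q) (by omega)

/-- comparison of `Ext` with shifted homs, compatible with post-composition by a morphism -/
lemma homEquiv_comp_mk₀ {W G₁ G₂ : Sheaf J AddCommGrpCat.{u}} (f : G₁ ⟶ G₂) (k : ℕ)
    (x : Ext W G₁ k) :
    (x.comp (Ext.mk₀ f) (add_zero k)).hom = x.hom ≫ ((sg J).map f)⟦(k : ℤ)⟧' := by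
  rw [Ext.comp_hom, Ext.mk₀_hom, ShiftedHom.comp_mk₀]

variable (G : ℕ → Sheaf J AddCommGrpCat.{u}) [HasProduct fun n => (sg J).obj (G n)]

/-- the comparison morphism from the single complex of the product to the derived product -/
noncomputable def e : (sg J).obj (∏ᶜ G) ⟶ ∏ᶜ fun n => (sg J).obj (G n) :=
  Pi.lift fun n => (sg J).map (Pi.π G n)

@[reassoc (attr := simp)]
lemma e_π (n : ℕ) : e G ≫ Pi.π (fun n => (sg J).obj (G n)) n = (sg J).map (Pi.π G n) := by
  simp [e]

variable {G}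

lemma bijective_components {ι : Type*} {Z : ι → Sheaf J AddCommGrpCat.{u}} (hZ : DetectsEpi Z)
    (hG : Good Z G) (W : Sheaf J AddCommGrpCat.{u}) (q : ℤ) :
    Function.Bijective (fun (ξ : (sg J).obj W ⟶ ((sg J).obj (∏ᶜ G))⟦q⟧) (n : ℕ) =>
      ξ ≫ ((sg J).map (Pi.π G n))⟦q⟧') := by
  by_cases hq : q < 0
  · constructor
    · intro a b _
      rw [neg_hom_zero W _ q hq a, neg_hom_zero W _ q hq b]
    · intro y
      refine ⟨0, ?_⟩
      funext n
      rw [neg_hom_zero W _ q hq (y n)]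
      exact zero_comp
  · obtain ⟨k, rfl⟩ : ∃ k : ℕ, q = (k : ℤ) := ⟨q.toNat, by omega⟩
    have hc := cmp_bijective hZ W k G hG
    constructor
    · intro a b hab
      obtain ⟨a', rfl⟩ := Ext.homEquiv.surjective a
      obtain ⟨b', rfl⟩ := Ext.homEquiv.surjective b
      congr 1
      apply hc.1
      funext n
      apply Ext.homEquiv.injective
      have := congrFun hab n
      simp only at this
      change (a'.comp (Ext.mk₀ (Pi.π G n)) (add_zero k)).hom =
        (b'.comp (Ext.mk₀ (Pi.π G n)) (add_zero k)).hom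
      rw [homEquiv_comp_mk₀, homEquiv_comp_mk₀]
      exact this
    · intro y
      obtain ⟨x, hx⟩ := hc.2 (fun n => Ext.homEquiv.symm (y n))
      refine ⟨x.hom, ?_⟩
      funext n
      have := congrArg (fun z => Ext.homEquiv z) (congrFun hx n)
      simp only [Equiv.apply_symm_apply, cmp_apply] at this
      rw [← this]
      exact (homEquiv_comp_mk₀ (Pi.π G n) k x).symm

lemma bijective_e {ι : Type*} {Z : ι → Sheaf J AddCommGrpCat.{u}} (hZ : DetectsEpi Z)
    (hG : Good Z G) (W : Sheaf J AddCommGrpCat.{u}) (q : ℤ) :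
    Function.Bijective (fun (ξ : (sg J).obj W ⟶ ((sg J).obj (∏ᶜ G))⟦q⟧) => ξ ≫ (e G)⟦q⟧') := by
  have hb := bijective_components hZ hG W q
  have hl := Milnor.isLimitShift (fun n => (sg J).obj (G n)) q
  have key : ∀ (ξ : (sg J).obj W ⟶ ((sg J).obj (∏ᶜ G))⟦q⟧) (n : ℕ),
      (ξ ≫ (e G)⟦q⟧') ≫ (Pi.π (fun n => (sg J).obj (G n)) n)⟦q⟧' =
        ξ ≫ ((sg J).map (Pi.π G n))⟦q⟧' := by
    intro ξ n
    rw [Category.assoc, ← Functor.map_comp, e_π]
  constructor
  · intro a b hab
    apply hb.1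
    funext n
    simp only at hab ⊢
    rw [← key, ← key, hab]
  · intro y
    obtain ⟨x, hx⟩ := hb.2 (fun n => y ≫ (Pi.π (fun n => (sg J).obj (G n)) n)⟦q⟧')
    refine ⟨x, ?_⟩
    refine Fan.IsLimit.hom_ext hl _ _ (fun n => ?_)
    exact (key x n).trans (congrFun hx n)

theorem isIso_e (B : Set C) (hB : Covers J B) (hG : Good (Zb J B) G) : IsIso (e G) :=
  isIso_of_bijective B hB (e G) (fun U _ q => bijective_e (detectsEpi B hB) hG ((Fr J).obj U) q)

end Groth.Agent.Helper3.TowerSite
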