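import Groth.Agent.Lib.Helper3.TowerSite3

/-!
# The limit of a tower of good sheaves is a derived limit
-/

universe w v u' u

open CategoryTheory Limits Opposite Abelian Pretriangulated

namespace Groth.Agent.Helper3.TowerSite

open Groth.Agent.Helper3.ExtProd Groth.Agent.Helper6.DRef Groth.Agent.Helper3.TowerExt

section Abstract

variable {𝒜 : Type u'} [Category.{v} 𝒜] [Abelian 𝒜] [HasExt.{w} 𝒜] [HasProductsOfShape ℕ 𝒜]
variable {ι : Type*} {Z : ι → 𝒜} (G : ℕ → 𝒜) (t : ∀ n, G (n + 1) ⟶ G n)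

lemma Φ_epi_of_limOne (hZ : DetectsEpi Z)
    (h : ∀ (i : ι) (y : ∀ n, Z i ⟶ G n), ∃ x : ∀ n, Z i ⟶ G n,
      ∀ n, x n - x (n + 1) ≫ t n = y n) : Epi (Φ G t) := by
  apply hZ
  intro i y
  obtain ⟨x, hx⟩ := h i (fun n => y ≫ Pi.π G n)
  refine ⟨Pi.lift x, ?_⟩
  apply Pi.hom_ext
  intro n
  simp only [Category.assoc, Φ_π, Preadditive.comp_sub, Pi.lift_π, Pi.lift_π_assoc, hx]

end Abstract

variable {C : Type u} [SmallCategory C] {J : GrothendieckTopology C}

lemma secEquiv_sub (U : C) {F : Sheaf J AddCommGrpCat.{u}} (a b : (Fr J).obj U ⟶ F) :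
    secEquiv J U F (a - b) = secEquiv J U F a - secEquiv J U F b := by
  have := secEquiv_add J U (a - b) b
  rw [sub_add_cancel] at this
  rw [this, add_sub_cancel_right]

variable (F : ℕ → Sheaf J AddCommGrpCat.{u}) (t : ∀ n, F (n + 1) ⟶ F n)

/-- the limit of the tower -/
noncomputable abbrev Kl : Sheaf J AddCommGrpCat.{u} := limit (CohCx.opSequence F t)

/-- projections -/
noncomputable def pl (n : ℕ) : Kl F t ⟶ F n := limit.π (CohCx.opSequence F t) (op n)

lemma hpl (n : ℕ) : pl F t (n + 1) ≫ t n = pl F t n := by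
  have := limit.w (CohCx.opSequence F t) (homOfLE (Nat.le_add_right n 1)).op
  rw [Functor.ofOpSequence_map_homOfLE_succ] at this
  exact this

lemma hKl (A : Sheaf J AddCommGrpCat.{u}) (k : ∀ n, A ⟶ F n)
    (hk : ∀ n, k (n + 1) ≫ t n = k n) : ∃ l : A ⟶ Kl F t, ∀ n, l ≫ pl F t n = k n := by
  let c : Cone (CohCx.opSequence F t) :=
    ⟨A, NatTrans.ofOpSequence (F := (Functor.const ℕᵒᵖ).obj A) (G := CohCx.opSequence F t) k (by
      intro n
      simp only [Functor.const_obj_obj, Functor.const_obj_map, Category.id_comp]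
      rw [Functor.ofOpSequence_map_homOfLE_succ]
      exact (hk n).symm)⟩
  exact ⟨limit.lift _ c, fun n => limit.lift_π c (op n)⟩

lemma hmonol (A : Sheaf J AddCommGrpCat.{u}) (l l' : A ⟶ Kl F t)
    (h : ∀ n, l ≫ pl F t n = l' ≫ pl F t n) : l = l' := by
  apply limit.hom_ext
  rintro ⟨n⟩
  exact h n

variable {F t}

/-- vanishing of lim¹ on sections gives solutions of the difference equation for maps out of
free sheaves -/
lemma exists_diff (U : C)
    (h2 : CohCx.LimOneIsZero (fun n => (F n).obj.obj (op U)) (fun n => ((t n).hom.app (op U)).hom))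
    (y : ∀ n, (Fr J).obj U ⟶ F n) :
    ∃ x : ∀ n, (Fr J).obj U ⟶ F n, ∀ n, x n - x (n + 1) ≫ t n = y n := by
  obtain ⟨a, ha⟩ := h2 (fun n => secEquiv J U (F n) (y n))
  refine ⟨fun n => (secEquiv J U (F n)).symm (a n), fun n => ?_⟩
  apply (secEquiv J U (F n)).injective
  rw [secEquiv_sub, secEquiv_comp, Equiv.apply_symm_apply, Equiv.apply_symm_apply]
  exact congrFun ha n

lemma good_of_subsingleton (B : Set C)
    (h1 : ∀ U ∈ B, ∀ (p n : ℕ), Subsingleton (CohSite.HU (F n) (p + 1) U)) :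
    Good (Zb J B) F := by
  intro V n k x
  exact (h1 V.1 V.2 k n).elim x 0

lemma Φ_epi_site (B : Set C) (hB : Covers J B)
    (h2 : ∀ U ∈ B, CohCx.LimOneIsZero (fun n => (F n).obj.obj (op U))
      (fun n => ((t n).hom.app (op U)).hom)) : Epi (Φ F t) :=
  Φ_epi_of_limOne F t (detectsEpi B hB) (fun V y => exists_diff V.1 (h2 V.1 V.2) y)

lemma towerDiff_surjective_site (U : C)
    (h2 : CohCx.LimOneIsZero (fun n => (F n).obj.obj (op U)) (fun n => ((t n).hom.app (op U)).hom)) :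
    Function.Surjective (Formal2.towerDiff (fun n => Ext ((Fr J).obj U) (F n) 0)
      (τ F t ((Fr J).obj U) 0)) := by
  intro y
  choose f hf using fun n => (Ext.mk₀_bijective _ _).2 (y n)
  obtain ⟨x, hx⟩ := exists_diff U h2 f
  refine ⟨fun n => Ext.mk₀ (x n), ?_⟩
  funext n
  simp only [Formal2.towerDiff, AddMonoidHom.coe_mk, ZeroHom.coe_mk, τ,
    AddMonoidHom.flip_apply, Ext.bilinearComp_apply_apply]
  rw [Ext.mk₀_comp_mk₀, ← mk₀_sub, hx, hf]

theorem subsingleton_HU_limit (B : Set C) (hB : Covers J B)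
    (h1 : ∀ U ∈ B, ∀ (p n : ℕ), Subsingleton (CohSite.HU (F n) (p + 1) U))
    (h2 : ∀ U ∈ B, CohCx.LimOneIsZero (fun n => (F n).obj.obj (op U))
      (fun n => ((t n).hom.app (op U)).hom))
    (U : C) (hU : U ∈ B) (p : ℕ) : Subsingleton (CohSite.HU (Kl F t) (p + 1) U) := by
  have key : ∀ η : Ext ((Fr J).obj U) (Kl F t) (p + 1), η = 0 :=
    ext_eq_zero (pl F t) (hpl F t) (hKl F t) (hmonol F t) (detectsEpi B hB)
      (good_of_subsingleton B h1) (Φ_epi_site B hB h2) ((Fr J).obj U)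
      (fun n k x => (h1 U hU k n).elim x 0) (towerDiff_surjective_site U (h2 U hU)) p
  exact ⟨fun a b => (key a).trans (key b).symm⟩

end Groth.Agent.Helper3.TowerSite
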