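import Groth.Agent.Lib.Helper3.TowerSite4

/-!
# The limit of a tower of good sheaves is a derived limit: the distinguished triangle
-/

universe u

open CategoryTheory Limits Opposite Abelian Pretriangulated

namespace Groth.Agent.Helper3.TowerSite

open Groth.Agent.Helper3.ExtProd Groth.Agent.Helper6.DRef Groth.Agent.Helper3.TowerExt

variable {C : Type u} [SmallCategory C] {J : GrothendieckTopology C}
  [HasDerivedCategory.{u} (Sheaf J AddCommGrpCat.{u})]
variable {F : ℕ → Sheaf J AddCommGrpCat.{u}} {t : ∀ n, F (n + 1) ⟶ F n}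
  [HasProduct fun n => (sg J).obj (F n)]

theorem isRlim_limit (B : Set C) (hB : Covers J B)
    (h1 : ∀ U ∈ B, ∀ (p n : ℕ), Subsingleton (CohSite.HU (F n) (p + 1) U))
    (h2 : ∀ U ∈ B, CohCx.LimOneIsZero (fun n => (F n).obj.obj (op U))
      (fun n => ((t n).hom.app (op U)).hom)) :
    DCoh.IsRlim (fun n => (sg J).obj (F n)) (fun n => (sg J).map (t n))
      ((sg J).obj (Kl F t)) := by
  have hG := good_of_subsingleton B h1
  have hΦ := Φ_epi_site B hB h2
  have hT := TowerExt.hT (pl F t) (hpl F t) (hKl F t) (hmonol F t) hΦ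
  have hiso : IsIso (e F) := isIso_e B hB hG
  have hdist := hT.singleTriangle_distinguished
  let Φ' : (∏ᶜ fun n => (sg J).obj (F n)) ⟶ ∏ᶜ fun n => (sg J).obj (F n) :=
    Pi.lift fun n => Pi.π (fun n => (sg J).obj (F n)) n -
      Pi.π (fun n => (sg J).obj (F n)) (n + 1) ≫ (sg J).map (t n)
  have comm : (sg J).map (Φ F t) ≫ e F = e F ≫ Φ' := by
    apply Pi.hom_ext
    intro n
    simp only [Category.assoc, e_π, Φ', Pi.lift_π, Preadditive.comp_sub, e_π_assoc]
    rw [← Functor.map_comp, Φ_π, Functor.map_sub, Functor.map_comp]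
  let eI : (sg J).obj (∏ᶜ F) ≅ ∏ᶜ fun n => (sg J).obj (F n) := asIso (e F)
  refine ⟨(sg J).map (T (pl F t) (hpl F t)).f ≫ e F, inv (e F) ≫ hT.singleδ, ?_⟩
  have iso : hT.singleTriangle ≅ Triangle.mk ((sg J).map (T (pl F t) (hpl F t)).f ≫ e F) Φ'
      (inv (e F) ≫ hT.singleδ) :=
    Triangle.isoMk _ _ (Iso.refl _) eI eI
      (by
        simp only [eI, asIso_hom, Iso.refl_hom]
        exact (Category.id_comp _).symm)
      comm
      (by
        change hT.singleδ ≫ (shiftFunctor (DerivedCategory (Sheaf J AddCommGrpCat.{u})) (1 : ℤ)).map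
          (𝟙 ((sg J).obj (Kl F t))) = e F ≫ inv (e F) ≫ hT.singleδ
        rw [CategoryTheory.Functor.map_id, IsIso.hom_inv_id_assoc]
        exact Category.comp_id _)
  exact isomorphic_distinguished _ hdist _ iso.symm

end Groth.Agent.Helper3.TowerSite
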