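import Groth.Agent.Lib.Helper3.TrLim9
import Groth.Agent.Lib.Helper3.DLimInj2

/-!
# The comparison map `Hom(ℤ_U[0], M) → H⁰(M)(U)`: bijectivity criteria
-/

universe u

open CategoryTheory Limits Opposite Pretriangulated

namespace Groth.Agent.Helper3.TrLim

open Groth.Agent.Helper6.DRef Groth.Agent.Helper3.TowerSite Groth.Agent.Helper3.DLimInj

variable {C : Type u} [SmallCategory C] {J : GrothendieckTopology C}
  [HasDerivedCategory.{u} (Sheaf J AddCommGrpCat.{u})]

section Base

variable (A : Sheaf J AddCommGrpCat.{u}) (U : C)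

/-- the class of the identity of `A[0]`: an isomorphism `A ≅ H⁰(A[0])` -/
noncomputable def clsId : A ⟶ (H0 J).obj ((sg J).obj A) :=
  cls (P := A) (K := (sg J).obj A) (𝟙 (DerivedCategory.Q.obj (sgl A)))

instance isIso_clsId : IsIso (clsId A) := by
  have h : clsId A = (HomologicalComplex.singleObjHomologySelfIso (ComplexShape.up ℤ) 0 A).inv ≫
      (hff (sgl A)).inv := by
    change _ ≫ _ ≫ (DerivedCategory.homologyFunctor (Sheaf J AddCommGrpCat.{u}) 0).map
      (𝟙 (DerivedCategory.Q.obj (sgl A))) = _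
    rw [CategoryTheory.Functor.map_id, Category.comp_id]
  rw [h]
  exact ((HomologicalComplex.singleObjHomologySelfIso (ComplexShape.up ℤ) 0 A).symm ≪≫
    (hff (sgl A)).symm).isIso_hom

lemma phiFun_single_map (g : (Fr J).obj U ⟶ A) :
    phiFun J ((sg J).obj A) U ((sg J).map g) = secEquiv J U _ (g ≫ clsId A) := by
  unfold phiFun
  congr 1
  have h := cls_precomp g (𝟙 (DerivedCategory.Q.obj (sgl A)))
  rw [Category.comp_id] at h
  exact h

/-- base case: for a sheaf in degree zero the comparison map is bijective -/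
theorem bijective_phiFun_single :
    Function.Bijective (phiFun J ((sg J).obj A) U) := by
  constructor
  · intro ξ ξ' h
    obtain ⟨g, rfl⟩ := (sg J).map_surjective ξ
    obtain ⟨g', rfl⟩ := (sg J).map_surjective ξ'
    rw [phiFun_single_map, phiFun_single_map] at h
    have h2 := (secEquiv J U _).injective h
    rw [(cancel_mono _).1 h2]
  · intro s
    refine ⟨(sg J).map ((secEquiv J U _).symm s ≫ inv (clsId A)), ?_⟩
    rw [phiFun_single_map, Category.assoc, IsIso.inv_hom_id, Category.comp_id,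
      Equiv.apply_symm_apply]

end Base

section Transfer

variable {M M' : DerivedCategory (Sheaf J AddCommGrpCat.{u})} (κ : M ⟶ M') (U : C)

/-- if `κ` induces bijections on `Hom(ℤ_U[0], -)` and on `H⁰(-)(U)` and the comparison map of
`M'` is bijective, so is that of `M` -/
lemma bijective_phiFun_of_target
    (h1 : Function.Bijective (fun ξ : (sg J).obj ((Fr J).obj U) ⟶ M => ξ ≫ κ))
    (h2 : Function.Bijective (((H0 J).map κ).hom.app (op U)))
    (h3 : Function.Bijective (phiFun J M' U)) : Function.Bijective (phiFun J M U) := by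
  have hc : (((H0 J).map κ).hom.app (op U)) ∘ (phiFun J M U) =
      (phiFun J M' U) ∘ (fun ξ : (sg J).obj ((Fr J).obj U) ⟶ M => ξ ≫ κ) := by
    funext ξ
    exact (phiFun_postcomp κ U ξ).symm
  have h4 : Function.Bijective ((((H0 J).map κ).hom.app (op U)) ∘ (phiFun J M U)) := by
    rw [hc]
    exact h3.comp h1
  exact (Function.Bijective.of_comp_iff' h2 _).1 h4

/-- if `κ` induces bijections on `Hom(ℤ_U[0], -)` and on `H⁰(-)(U)` and the comparison map of
`M` is bijective, so is that of `M'` -/
lemma bijective_phiFun_of_source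
    (h1 : Function.Bijective (fun ξ : (sg J).obj ((Fr J).obj U) ⟶ M => ξ ≫ κ))
    (h2 : Function.Bijective (((H0 J).map κ).hom.app (op U)))
    (h3 : Function.Bijective (phiFun J M U)) : Function.Bijective (phiFun J M' U) := by
  have hc : (((H0 J).map κ).hom.app (op U)) ∘ (phiFun J M U) =
      (phiFun J M' U) ∘ (fun ξ : (sg J).obj ((Fr J).obj U) ⟶ M => ξ ≫ κ) := by
    funext ξ
    exact (phiFun_postcomp κ U ξ).symm
  have h4 : Function.Bijective ((phiFun J M' U) ∘
      (fun ξ : (sg J).obj ((Fr J).obj U) ⟶ M => ξ ≫ κ)) := by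
    rw [← hc]
    exact h2.comp h3
  exact (Function.Bijective.of_comp_iff _ h1).1 h4

/-- an isomorphism of sheaves is bijective on sections -/
lemma bijective_app_of_isIso {F G : Sheaf J AddCommGrpCat.{u}} (φ : F ⟶ G) [IsIso φ] (U : C) :
    Function.Bijective (φ.hom.app (op U)) := by
  have : IsIso (((sheafSections J AddCommGrpCat.{u}).obj (op U)).map φ) := inferInstance
  exact ConcreteCategory.bijective_of_isIso (((sheafSections J AddCommGrpCat.{u}).obj (op U)).map φ)

/-- `H⁰(κ⟦q⟧)` is an isomorphism when `H^q(κ)` is -/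
lemma isIso_H0_shift_map {X Y : DerivedCategory (Sheaf J AddCommGrpCat.{u})} (κ : X ⟶ Y) (q : ℤ)
    (h : IsIso ((DerivedCategory.homologyFunctor (Sheaf J AddCommGrpCat.{u}) q).map κ)) :
    IsIso ((H0 J).map (κ⟦q⟧')) :=
  (NatIso.isIso_map_iff ((DerivedCategory.homologyFunctor (Sheaf J AddCommGrpCat.{u}) 0).shiftIso
    q 0 q (by simp)) κ).2 h

lemma bijective_postcomp_of_isIso {X Y Z : DerivedCategory (Sheaf J AddCommGrpCat.{u})}
    (κ : X ⟶ Y) [IsIso κ] : Function.Bijective (fun ξ : Z ⟶ X => ξ ≫ κ) :=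
  ⟨fun _ _ h => (cancel_mono κ).1 h, fun η => ⟨η ≫ inv κ, by simp⟩⟩

end Transfer

end Groth.Agent.Helper3.TrLim
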