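import Groth.Agent.Lib.Helper3.TrLim10

/-!
# The comparison map `H^q(U, K) → H^q(K)(U)` is bijective on acyclic objects
-/

universe u

open CategoryTheory Limits Opposite Pretriangulated

namespace Groth.Agent.Helper3.TrLim

open Groth.Agent.Helper6.DRef Groth.Agent.Helper3.TowerSite Groth.Agent.Helper3.DLimInj

variable {C : Type u} [SmallCategory C] {J : GrothendieckTopology C}
  [HasDerivedCategory.{u} (Sheaf J AddCommGrpCat.{u})]
  (K : DerivedCategory (Sheaf J AddCommGrpCat.{u})) (W : C)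

/-- `Hom(ℤ_W[0], (τ_{<q+1}Y)[q]) → Hom(ℤ_W[0], Y[q])` is bijective when `Y` is in degrees `≥ q`;
this holds for any `Y`, since the cone is in degrees `≥ q+1`. -/
lemma bijective_postcomp_truncLTι (Y : DerivedCategory (Sheaf J AddCommGrpCat.{u})) (q : ℤ) :
    Function.Bijective (fun ξ : (sg J).obj ((Fr J).obj W) ⟶
        (((tS (A := Sheaf J AddCommGrpCat.{u})).truncLT (q + 1)).obj Y)⟦q⟧ =>
      ξ ≫ (((tS (A := Sheaf J AddCommGrpCat.{u})).truncLTι (q + 1)).app Y)⟦q⟧') := by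
  let Z0 := (DerivedCategory.singleFunctor (Sheaf J AddCommGrpCat.{u}) 0).obj (CohCx.freeSheaf J W)
  have hT := (tS (A := Sheaf J AddCommGrpCat.{u})).triangleLTGE_distinguished (q + 1) Y
  have hZ0 : (tS (A := Sheaf J AddCommGrpCat.{u})).IsLE Z0 0 :=
    inferInstanceAs (((DerivedCategory.singleFunctor (Sheaf J AddCommGrpCat.{u}) 0).obj
      (CohCx.freeSheaf J W)).IsLE 0)
  have h3 : (tS (A := Sheaf J AddCommGrpCat.{u})).IsGE
      ((((tS (A := Sheaf J AddCommGrpCat.{u})).truncGE (q + 1)).obj Y)⟦(-1 : ℤ)⟧) (q + 2) :=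
    (tS (A := Sheaf J AddCommGrpCat.{u})).isGE_shift _ (q + 1) (-1) (q + 2) (by omega)
  have h4 : (tS (A := Sheaf J AddCommGrpCat.{u})).IsGE
      (((((tS (A := Sheaf J AddCommGrpCat.{u})).truncGE (q + 1)).obj Y)⟦(-1 : ℤ)⟧)⟦q⟧) 2 :=
    (tS (A := Sheaf J AddCommGrpCat.{u})).isGE_shift _ (q + 2) q 2 (by omega)
  have h5 : (tS (A := Sheaf J AddCommGrpCat.{u})).IsGE
      (((((tS (A := Sheaf J AddCommGrpCat.{u})).truncGE (q + 1)).obj Y)⟦(-1 : ℤ)⟧)⟦(1 : ℤ)⟧)
      (q + 1) :=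
    (tS (A := Sheaf J AddCommGrpCat.{u})).isGE_shift _ (q + 2) 1 (q + 1) (by omega)
  have h6 : (tS (A := Sheaf J AddCommGrpCat.{u})).IsGE
      ((((((tS (A := Sheaf J AddCommGrpCat.{u})).truncGE (q + 1)).obj Y)⟦(-1 : ℤ)⟧)⟦(1 : ℤ)⟧)⟦q⟧)
      1 :=
    (tS (A := Sheaf J AddCommGrpCat.{u})).isGE_shift _ (q + 1) q 1 (by omega)
  exact bijective_postcomp_of_subsingleton _ (inv_rot_of_distTriang _ hT) Z0 q
    ⟨fun f g => ((tS (A := Sheaf J AddCommGrpCat.{u})).zero_of_isLE_of_isGE f 0 2 (by omega)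
        hZ0 h4).trans
      ((tS (A := Sheaf J AddCommGrpCat.{u})).zero_of_isLE_of_isGE g 0 2 (by omega) hZ0 h4).symm⟩
    ⟨fun f g => ((tS (A := Sheaf J AddCommGrpCat.{u})).zero_of_isLE_of_isGE f 0 1 (by omega)
        hZ0 h6).trans
      ((tS (A := Sheaf J AddCommGrpCat.{u})).zero_of_isLE_of_isGE g 0 1 (by omega) hZ0 h6).symm⟩

/-- the comparison map `Hom(ℤ_U[0], K[q]) → H⁰(K[q])(U)` is bijective for `U` in a covering class
of objects over which the cohomology sheaves of `K` are acyclic -/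
theorem bijective_phiFun_shift (B : Set C)
    (hB : ∀ U : C, ∃ (ι : Type u) (Y : ι → C) (f : ∀ i, Y i ⟶ U),
      Sieve.ofArrows Y f ∈ J U ∧ ∀ i, Y i ∈ B)
    (h : ∀ U ∈ B, ∀ (p : ℕ) (q : ℤ), Subsingleton (CohSite.HU (CohCx.HD K q) (p + 1) U))
    (U : C) (hU : U ∈ B) (q : ℤ) :
    Function.Bijective (phiFun J (K⟦q⟧) U) := by
  have hL : CohCx.IsRlimVia (CohCx.truncTower K) (CohCx.truncTowerMap K) K
      (CohCx.toTruncTower K) := by
    refine s0881_main K B hB (fun V hV => ⟨fun _ => 0, fun T hT => ?_⟩)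
    obtain ⟨ι, Y, f, hf, hcov, hY⟩ := exists_cover_in_sieve B hB V T hT
    refine ⟨ι, Y, f, hf, hcov, fun i m k hk => ?_⟩
    exact hv0 K (Y i) (fun q k => h (Y i) (hY i) k q) m k hk
  have hv : ∀ (q : ℤ) (k : ℕ), Subsingleton (CohSite.HU (CohCx.HD K q) (k + 1) U) :=
    fun q k => h U hU k q
  -- the objects
  let Y := ((tS (A := Sheaf J AddCommGrpCat.{u})).truncGE q).obj K
  let M := ((tS (A := Sheaf J AddCommGrpCat.{u})).truncLT (q + 1)).obj Y
  -- step 1: `K → τ_{≥q}K`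
  have hb1 := bijective_toTruncTower K U hv hL q (-q).toNat le_rfl
  have hle : -(((-q).toNat : ℕ) : ℤ) ≤ q := by
    have := Int.self_le_toNat (-q); omega
  have hb2 := bijective_natTrans K U hv (-(((-q).toNat : ℕ) : ℤ)) q q hle le_rfl
  have hπ : Function.Bijective (fun ξ : (sg J).obj ((Fr J).obj U) ⟶ K⟦q⟧ =>
      ξ ≫ (((tS (A := Sheaf J AddCommGrpCat.{u})).truncGEπ q).app K)⟦q⟧') := by
    have hc : (fun ξ : (sg J).obj ((Fr J).obj U) ⟶ K⟦q⟧ =>
        ξ ≫ (((tS (A := Sheaf J AddCommGrpCat.{u})).truncGEπ q).app K)⟦q⟧') =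
        (fun ξ : (DerivedCategory.singleFunctor _ 0).obj (CohCx.freeSheaf J U) ⟶
          (((tS (A := Sheaf J AddCommGrpCat.{u})).truncGE (-(((-q).toNat : ℕ) : ℤ))).obj K)⟦q⟧ =>
          ξ ≫ (((tS (A := Sheaf J AddCommGrpCat.{u})).natTransTruncGEOfLE
            (-(((-q).toNat : ℕ) : ℤ)) q hle).app K)⟦q⟧') ∘
        (Preadditive.rightComp ((DerivedCategory.singleFunctor _ 0).obj (CohCx.freeSheaf J U))
          ((shiftFunctor _ q).map (CohCx.toTruncTower K (-q).toNat))) := by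
      funext ξ
      change _ = (ξ ≫ _) ≫ _
      rw [Category.assoc, ← Functor.map_comp,
        (tS (A := Sheaf J AddCommGrpCat.{u})).π_natTransTruncGEOfLE_app]
    rw [hc]
    exact hb2.comp hb1
  haveI i1 := isIso_H0_shift_map (((tS (A := Sheaf J AddCommGrpCat.{u})).truncGEπ q).app K) q
    (isIso_homology_truncGEπ K q q le_rfl)
  have hπ2 := bijective_app_of_isIso
    ((H0 J).map ((((tS (A := Sheaf J AddCommGrpCat.{u})).truncGEπ q).app K)⟦q⟧')) U
  -- step 2: `τ_{<q+1}τ_{≥q}K → τ_{≥q}K`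
  have hι := bijective_postcomp_truncLTι U Y q
  haveI i2 := isIso_H0_shift_map (((tS (A := Sheaf J AddCommGrpCat.{u})).truncLTι (q + 1)).app Y)
    q (isIso_homology_truncLTι q Y)
  have hι2 := bijective_app_of_isIso
    ((H0 J).map ((((tS (A := Sheaf J AddCommGrpCat.{u})).truncLTι (q + 1)).app Y)⟦q⟧')) U
  -- step 3: `τ_{<q+1}τ_{≥q}K ≅ H^q(K)[-q]`
  obtain ⟨e⟩ := nonempty_iso_single K q
  let i : M⟦q⟧ ≅ (sg J).obj (CohCx.HD K q) :=
    (shiftFunctor _ q).mapIso e ≪≫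
      ((DerivedCategory.singleFunctors (Sheaf J AddCommGrpCat.{u})).shiftIso q 0 q
        (add_zero q)).app (CohCx.HD K q)
  have hM : Function.Bijective (phiFun J (M⟦q⟧) U) :=
    bijective_phiFun_of_target i.hom U (bijective_postcomp_of_isIso i.hom)
      (bijective_app_of_isIso ((H0 J).map i.hom) U) (bijective_phiFun_single _ U)
  have hY : Function.Bijective (phiFun J (Y⟦q⟧) U) :=
    bijective_phiFun_of_source _ U hι hι2 hM
  exact bijective_phiFun_of_target _ U hπ hπ2 hY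

end Groth.Agent.Helper3.TrLim
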