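import Groth.Agent.Lib.Helper3.TrLim11
import Groth.Agent.Lib.Helper3.TowerSite4
import Groth.Agent.Lib.Helper3.CxLim3

/-!
# The natural comparison map `H^q(U, X) → H^q(X)(U)` and transfer of `lim¹`
-/

universe u

open CategoryTheory Limits Opposite Pretriangulated

namespace Groth.Agent.Helper3.TrLim

open Groth.Agent.Helper6.DRef Groth.Agent.Helper3.TowerSite Groth.Agent.Helper3.DLimInj

section LimOne

variable {A A' : ℕ → Type u} [∀ n, AddCommGroup (A n)] [∀ n, AddCommGroup (A' n)]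
  (t : ∀ n, A (n + 1) →+ A n) (t' : ∀ n, A' (n + 1) →+ A' n)

/-- vanishing of `lim¹` transfers along an isomorphism of towers -/
lemma limOneIsZero_of_bijective (β : ∀ n, A n → A' n) (hβ : ∀ n, Function.Bijective (β n))
    (hadd : ∀ n x y, β n (x - y) = β n x - β n y)
    (hcomm : ∀ n x, β n (t n x) = t' n (β (n + 1) x))
    (h : CohCx.LimOneIsZero A' t') : CohCx.LimOneIsZero A t := by
  intro y
  obtain ⟨b, hb⟩ := h (fun n => β n (y n))
  choose x hx using fun n => (hβ n).2 (b n)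
  refine ⟨x, ?_⟩
  funext n
  apply (hβ n).1
  have := congrFun hb n
  beta_reduce at this ⊢
  rw [hadd, hcomm, hx, hx]
  exact this

end LimOne

variable {C : Type u} [SmallCategory C] {J : GrothendieckTopology C}
  [HasDerivedCategory.{u} (Sheaf J AddCommGrpCat.{u})]

section Phi

/-- the isomorphism `H⁰(X⟦q⟧) ≅ H^q(X)` -/
noncomputable abbrev shIso (J : GrothendieckTopology C)
    [HasDerivedCategory.{u} (Sheaf J AddCommGrpCat.{u})] (q : ℤ) :
    shiftFunctor (DerivedCategory (Sheaf J AddCommGrpCat.{u})) q ⋙ H0 J ≅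
      DerivedCategory.homologyFunctor (Sheaf J AddCommGrpCat.{u}) q :=
  (DerivedCategory.homologyFunctor (Sheaf J AddCommGrpCat.{u}) 0).shiftIso q 0 q (add_zero q)

variable (q : ℤ) (X : DerivedCategory (Sheaf J AddCommGrpCat.{u})) (U : C)

/-- the natural comparison map `H^q(U, X) → H^q(X)(U)` -/
noncomputable def Phi (ξ : CohCx.HDU X q U) : ToType ((CohCx.HD X q).obj.obj (op U)) :=
  ((shIso J q).hom.app X).hom.app (op U) (phiFun J (X⟦q⟧) U ξ)

lemma Phi_add (ξ ξ' : CohCx.HDU X q U) : Phi q X U (ξ + ξ') = Phi q X U ξ + Phi q X U ξ' := by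
  unfold Phi
  have := phiFun_add J (X⟦q⟧) U ξ ξ'
  rw [this, map_add]

lemma Phi_sub (ξ ξ' : CohCx.HDU X q U) : Phi q X U (ξ - ξ') = Phi q X U ξ - Phi q X U ξ' := by
  have := Phi_add q X U (ξ - ξ') ξ'
  rw [sub_add_cancel] at this
  rw [this, add_sub_cancel_right]

lemma Phi_zero : Phi q X U 0 = 0 := by
  have := Phi_add q X U 0 0
  rw [add_zero] at this
  exact left_eq_add.mp this

variable {X} in
lemma Phi_postcomp {X' : DerivedCategory (Sheaf J AddCommGrpCat.{u})} (κ : X ⟶ X')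
    (ξ : CohCx.HDU X q U) :
    Phi q X' U (ξ ≫ κ⟦q⟧') =
      ((DerivedCategory.homologyFunctor (Sheaf J AddCommGrpCat.{u}) q).map κ).hom.app (op U)
        (Phi q X U ξ) := by
  unfold Phi
  have h0 := phiFun_postcomp (κ⟦q⟧') U ξ
  have h0' : phiFun J (X'⟦q⟧) U (ξ ≫ κ⟦q⟧') =
      ((H0 J).map (κ⟦q⟧')).hom.app (op U) (phiFun J (X⟦q⟧) U ξ) := h0
  rw [h0']
  have hnat := (shIso J q).hom.naturality κ
  have h1 := congrArg (fun φ => φ.hom.app (op U)) hnat
  exact ConcreteCategory.congr_hom h1 (phiFun J (X⟦q⟧) U ξ)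

/-- bijectivity of the comparison map on a covering class of acyclic objects -/
theorem bijective_Phi (B : Set C)
    (hB : ∀ U : C, ∃ (ι : Type u) (Y : ι → C) (f : ∀ i, Y i ⟶ U),
      Sieve.ofArrows Y f ∈ J U ∧ ∀ i, Y i ∈ B)
    (h : ∀ U ∈ B, ∀ (p : ℕ) (q : ℤ), Subsingleton (CohSite.HU (CohCx.HD X q) (p + 1) U))
    (hU : U ∈ B) : Function.Bijective (Phi q X U) := by
  have h1 := bijective_phiFun_shift X B hB h U hU q
  have h2 := bijective_app_of_isIso ((shIso J q).hom.app X) U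
  exact h2.comp h1

end Phi

end Groth.Agent.Helper3.TrLim
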