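import Groth.Agent.Lib.Helper3.TrLim12
import Groth.Prelude.Def_DCoh2

/-!
# Cohomology sheaves of a derived limit
-/

universe u

open CategoryTheory Limits Opposite Pretriangulated

namespace Groth.Agent.Helper3.TrLim

open Groth.Agent.Helper6.DRef Groth.Agent.Helper3.TowerSite Groth.Agent.Helper3.DLimInj

variable {C : Type u} [SmallCategory C] {J : GrothendieckTopology C}
  [HasDerivedCategory.{u} (Sheaf J AddCommGrpCat.{u})]

/-- sections of the limit sheaf are determined by their projections -/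
lemma sec_ext (F : ℕ → Sheaf J AddCommGrpCat.{u}) (t : ∀ n, F (n + 1) ⟶ F n) (U : C)
    (s s' : ToType ((Kl F t).obj.obj (op U)))
    (h : ∀ n, (pl F t n).hom.app (op U) s = (pl F t n).hom.app (op U) s') : s = s' := by
  have h1 : (secEquiv J U (Kl F t)).symm s = (secEquiv J U (Kl F t)).symm s' := by
    apply hmonol
    intro n
    apply (secEquiv J U (F n)).injective
    rw [secEquiv_comp, secEquiv_comp, Equiv.apply_symm_apply, Equiv.apply_symm_apply]
    exact h n
  exact (secEquiv J U (Kl F t)).symm.injective h1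

theorem s0878_main (K : ℕ → DerivedCategory (Sheaf J AddCommGrpCat.{u})) (t : ∀ n, K (n + 1) ⟶ K n)
    [HasProduct K]
    (L : DerivedCategory (Sheaf J AddCommGrpCat.{u})) (hL : DCoh.IsRlim K t L) (B : Set C)
    (hB : ∀ U : C, ∃ (ι : Type u) (Y : ι → C) (f : ∀ i, Y i ⟶ U),
      Sieve.ofArrows Y f ∈ J U ∧ ∀ i, Y i ∈ B)
    (h1 : ∀ U ∈ B, ∀ (p : ℕ) (q : ℤ) (n : ℕ),
      Subsingleton (CohSite.HU (CohCx.HD (K n) q) (p + 1) U))
    (h2 : ∀ U ∈ B, ∀ (q : ℤ), CohCx.LimOneIsZero (fun n => (CohCx.HD (K n) q).obj.obj (op U))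
      (fun n => (((DerivedCategory.homologyFunctor _ q).map (t n)).hom.app (op U)).hom))
    (q : ℤ) :
    Nonempty (CohCx.HD L q ≅ limit (CohCx.opSequence (fun n => CohCx.HD (K n) q)
      (fun n => (DerivedCategory.homologyFunctor _ q).map (t n)))) := by
  obtain ⟨a', c, hc⟩ := hL
  let a : ∀ n, L ⟶ K n := fun n => a' ≫ Pi.π K n
  have ha : Pi.lift a = a' := by
    apply Pi.hom_ext
    intro n
    rw [Pi.lift_π]
  have hLv : CohCx.IsRlimVia K t L a := ⟨c, by rw [ha]; exact hc⟩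
  let F : ℕ → Sheaf J AddCommGrpCat.{u} := fun n => CohCx.HD (K n) q
  let tF : ∀ n, F (n + 1) ⟶ F n := fun n => (DerivedCategory.homologyFunctor _ q).map (t n)
  obtain ⟨ψ, hψ⟩ := hKl F tF (CohCx.HD L q)
    (fun n => (DerivedCategory.homologyFunctor _ q).map (a n)) (fun n => by
      change (DerivedCategory.homologyFunctor _ q).map (a (n + 1)) ≫
        (DerivedCategory.homologyFunctor _ q).map (t n) = _
      rw [← Functor.map_comp, a_succ hLv])
  suffices IsIso ψ from ⟨asIso ψ⟩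
  -- bijectivity of the comparison maps for the `K n`
  have hbij : ∀ U ∈ B, ∀ (m : ℤ) (n : ℕ), Function.Bijective (Phi m (K n) U) :=
    fun U hU m n => bijective_Phi m (K n) U B hB (fun V hV p q' => h1 V hV p q' n) hU
  -- the comparison map for `L`, composed with `ψ`
  haveI : IsIso ((shIso J q).hom.app L).hom :=
    inferInstanceAs (IsIso ((sheafToPresheaf J AddCommGrpCat.{u}).map ((shIso J q).hom.app L)))
  let f₁ : hPre J (L⟦q⟧) ⟶ (CohCx.HD L q).obj := phi J (L⟦q⟧) ≫ ((shIso J q).hom.app L).hom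
  let Θ : hPre J (L⟦q⟧) ⟶ (Kl F tF).obj := f₁ ≫ ψ.hom
  have hΘapp : ∀ (U : C) (ξ : CohCx.HDU L q U), Θ.app (op U) ξ = ψ.hom.app (op U) (Phi q L U ξ) :=
    fun U ξ => rfl
  have hproj : ∀ (U : C) (ξ : CohCx.HDU L q U) (n : ℕ),
      (pl F tF n).hom.app (op U) (Θ.app (op U) ξ) = Phi q (K n) U (ξ ≫ (a n)⟦q⟧') := by
    intro U ξ n
    rw [hΘapp, Phi_postcomp]
    have := congrArg (fun φ => φ.hom.app (op U)) (hψ n)
    exact ConcreteCategory.congr_hom this (Phi q L U ξ)
  have hΘ : ∀ U ∈ B, Function.Bijective (Θ.app (op U)) := by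
    intro U hU
    constructor
    · rw [injective_iff_map_eq_zero]
      intro ξ hξ
      have hlim : CohCx.LimOneIsZero (fun n => (sg J).obj ((Fr J).obj U) ⟶ (K n)⟦q - 1⟧)
          (fun n => Preadditive.rightComp _ ((t n)⟦q - 1⟧')) := by
        refine limOneIsZero_of_bijective _ _ (fun n => Phi (q - 1) (K n) U)
          (fun n => hbij U hU (q - 1) n) (fun n x y => Phi_sub (q - 1) (K n) U x y)
          (fun n x => ?_) (h2 U hU (q - 1))
        exact Phi_postcomp (q - 1) U (t n) x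
      refine Milnor.eq_zero_of_limOne hLv _ q hlim ξ (fun n => ?_)
      apply (hbij U hU q n).1
      rw [← hproj, Phi_zero]
      have : Θ.app (op U) ξ = 0 := hξ
      rw [this]
      exact map_zero _
    · intro s
      choose ξ hξ using fun n => (hbij U hU q n).2 ((pl F tF n).hom.app (op U) s)
      have hcompat : ∀ n, ξ (n + 1) ≫ (t n)⟦q⟧' = ξ n := by
        intro n
        apply (hbij U hU q n).1
        rw [Phi_postcomp, hξ, hξ]
        have := congrArg (fun φ => φ.hom.app (op U)) (hpl F tF n)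
        exact ConcreteCategory.congr_hom this s
      obtain ⟨y, hy⟩ := Milnor.exists_lift hLv ((sg J).obj ((Fr J).obj U)) q ξ hcompat
      refine ⟨y, sec_ext F tF U _ _ (fun n => ?_)⟩
      rw [hproj, hy, hξ]
  obtain ⟨hi, hs⟩ := CxLim.locallyBijective_of_bijective_on J B hB Θ hΘ
  haveI : Presheaf.IsLocallyInjective J (f₁ ≫ ψ.hom) := hi
  haveI : Presheaf.IsLocallySurjective J (f₁ ≫ ψ.hom) := hs
  haveI : Presheaf.IsLocallySurjective J f₁ := inferInstance
  have hs' : Presheaf.IsLocallySurjective J ψ.hom :=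
    Presheaf.isLocallySurjective_of_isLocallySurjective J f₁ ψ.hom
  have hi' : Presheaf.IsLocallyInjective J ψ.hom :=
    Presheaf.isLocallyInjective_of_isLocallyInjective_of_isLocallySurjective J f₁ ψ.hom
  exact (Sheaf.isLocallyBijective_iff_isIso ψ).1 ⟨hi', hs'⟩

open TopologicalSpace in
theorem s0869_main {X : TopCat.{u}} [HasDerivedCategory.{u} (CohTop.Ab X)]
    (K : ℕ → DerivedCategory (CohTop.Ab X)) (t : ∀ n, K (n + 1) ⟶ K n) [HasProduct K]
    (L : DerivedCategory (CohTop.Ab X)) (hL : DCoh.IsRlim K t L)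
    (B : Set (Opens X)) (hB : Opens.IsBasis B)
    (h1 : ∀ U ∈ B, ∀ (p : ℕ) (q : ℤ) (n : ℕ),
      Subsingleton (CohTop.HU (CohCx.HD (K n) q) (p + 1) U))
    (h2 : ∀ U ∈ B, ∀ (q : ℤ), CohCx.LimOneIsZero (fun n => (CohCx.HD (K n) q).obj.obj (op U))
      (fun n => (((DerivedCategory.homologyFunctor (CohTop.Ab X) q).map (t n)).hom.app
        (op U)).hom))
    (q : ℤ) :
    Nonempty (CohCx.HD L q ≅ limit (CohCx.opSequence (fun n => CohCx.HD (K n) q)
      (fun n => (DerivedCategory.homologyFunctor (CohTop.Ab X) q).map (t n)))) := by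
  refine s0878_main K t L hL B ?_ h1 h2 q
  intro U
  refine ⟨{V : Opens X // V ∈ B ∧ V ≤ U}, fun i => i.1, fun i => homOfLE i.2.2, ?_,
    fun i => i.2.1⟩
  rw [Opens.mem_grothendieckTopology]
  intro x hx
  obtain ⟨V, hV, hxV, hVU⟩ := Opens.isBasis_iff_nbhd.1 hB hx
  exact ⟨V, homOfLE hVU, (Sieve.mem_ofArrows_iff _ _ _).2 ⟨⟨V, hV, hVU⟩, 𝟙 _, rfl⟩, hxV⟩

end Groth.Agent.Helper3.TrLim
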