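import Groth.Agent.Lib.Helper3.TrLim9
import Groth.Agent.Lib.Helper3.TowerSite6

/-!
# `E = Rlim τ_{≥ -n} E` on a topological space, from vanishing on a basis
-/

universe u

open CategoryTheory Limits Opposite Pretriangulated TopologicalSpace

namespace Groth.Agent.Helper3.TrLim

open Groth.Agent.Helper3.TowerSite

variable {X : TopCat.{u}} [HasDerivedCategory.{u} (CohTop.Ab X)]

theorem s6521_main (E : DerivedCategory (CohTop.Ab X))
    [HasProduct (CohCx.truncTower E)] (B : Set (Opens X)) (hB : Opens.IsBasis B) (p : ℤ → ℤ)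
    (h : ∀ U ∈ B, ∀ (m : ℤ) (k : ℕ), p m < k →
      Subsingleton (CohTop.HU (CohCx.HD E (m - k)) k U)) :
    CohCx.IsRlimVia (CohCx.truncTower E) (CohCx.truncTowerMap E) E (CohCx.toTruncTower E) := by
  have hB' := covers_of_isBasis B hB
  refine s0881_main E B hB' (fun V _ => ⟨p, fun T hT => ?_⟩)
  obtain ⟨ι, Y, f, hf, hcov, hY⟩ := exists_cover_in_sieve B hB' V T hT
  exact ⟨ι, Y, f, hf, hcov, fun i m k hk => h (Y i) (hY i) m k hk⟩

theorem s6522_main (E : DerivedCategory (CohTop.Ab X))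
    [HasProduct (CohCx.truncTower E)] (B : Set (Opens X)) (hB : Opens.IsBasis B) (d : ℕ)
    (h : ∀ U ∈ B, ∀ (p : ℕ) (q : ℤ), d < p → q < 0 →
      Subsingleton (CohTop.HU (CohCx.HD E q) p U)) :
    CohCx.IsRlimVia (CohCx.truncTower E) (CohCx.truncTowerMap E) E (CohCx.toTruncTower E) := by
  refine s6521_main E B hB (fun m => max (d : ℤ) m) (fun U hU m k hk => ?_)
  have h1 : (d : ℤ) < k := lt_of_le_of_lt (le_max_left _ _) hk
  have h2 : m < k := lt_of_le_of_lt (le_max_right _ _) hk
  exact h U hU k (m - k) (by exact_mod_cast h1) (by omega)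

end Groth.Agent.Helper3.TrLim
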