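import Groth.Agent.Lib.Helper3.TrLim15

/-!
# `E = Rlim τ_{≥ -n} E` on a topological space, from pointwise bounds on cohomological dimension
-/

universe u

open CategoryTheory Limits Opposite Pretriangulated TopologicalSpace

namespace Groth.Agent.Helper3.TrLim

open Groth.Agent.Helper3.TowerSite

variable {X : TopCat.{u}} [HasDerivedCategory.{u} (CohTop.Ab X)]

theorem s6520_main (E : DerivedCategory (CohTop.Ab X))
    [HasProduct (CohCx.truncTower E)]
    (h : ∀ x : X, ∃ d : ℕ, ∀ V : Opens X, x ∈ V → ∃ U : Opens X, x ∈ U ∧ U ≤ V ∧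
      ∀ (p : ℕ) (q : ℤ), d < p → q < 0 → Subsingleton (CohTop.HU (CohCx.HD E q) p U)) :
    CohCx.IsRlimVia (CohCx.truncTower E) (CohCx.truncTowerMap E) E (CohCx.toTruncTower E) := by
  obtain ⟨L, a', f, hL, hf⟩ := exists_holim (CohCx.truncTower E) (CohCx.truncTowerMap E) E
    (CohCx.toTruncTower E) (truncTower_compat E)
  refine isRlimVia_of_iso hL f ?_ hf
  rw [DerivedCategory.isIso_iff]
  intro m
  -- mono
  haveI hmono : Mono ((DerivedCategory.homologyFunctor _ m).map f) := by
    haveI := isIso_homology_toTruncTower E m (-m).toNat (by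
      have := Int.self_le_toNat (-m); omega)
    have h1 : (DerivedCategory.homologyFunctor _ m).map f ≫
        (DerivedCategory.homologyFunctor _ m).map (a' (-m).toNat) =
        (DerivedCategory.homologyFunctor _ m).map (CohCx.toTruncTower E (-m).toNat) := by
      rw [← Functor.map_comp, hf]
    haveI : Mono ((DerivedCategory.homologyFunctor _ m).map f ≫
        (DerivedCategory.homologyFunctor _ m).map (a' (-m).toNat)) := by
      rw [h1]; infer_instance
    exact mono_of_mono _ ((DerivedCategory.homologyFunctor _ m).map (a' (-m).toNat))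
  -- epi
  haveI hepi : Epi ((DerivedCategory.homologyFunctor _ m).map f) := by
    rw [← Sheaf.isLocallySurjective_iff_epi' AddCommGrpCat.{u}]
    constructor
    intro V s
    rw [Opens.mem_grothendieckTopology]
    intro x hx
    obtain ⟨d, hd⟩ := h x
    let p : ℤ → ℤ := fun m => max (d : ℤ) m
    let n : ℕ := max (-m).toNat (thr p m)
    have hn : -((n : ℕ) : ℤ) ≤ m := by
      have h1 := Int.self_le_toNat (-m)
      have h2 : ((-m).toNat : ℤ) ≤ ((n : ℕ) : ℤ) := by
        exact_mod_cast le_max_left _ _
      omega
    -- injectivity on stalks at `x`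
    have hinj := DLimInj.Top.s0874_main (CohCx.truncTowerMap E) L a' hL x m n (by
      intro V' hxV'
      obtain ⟨U, hxU, hUV', hU⟩ := hd V' hxV'
      have hvan : ∀ (m : ℤ) (k : ℕ), p m < k →
          Subsingleton (CohSite.HU (CohCx.HD E (m - k)) k U) := by
        intro m k hk
        have h1 : (d : ℤ) < k := lt_of_le_of_lt (le_max_left _ _) hk
        have h2 : m < k := lt_of_le_of_lt (le_max_right _ _) hk
        exact hU k (m - k) (by exact_mod_cast h1) (by omega)
      exact ⟨U, hxU, hUV', cond1 E U p hvan m, fun k => cond2 E U p hvan m n (le_max_right _ _) k⟩)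
    -- the candidate preimage
    haveI := isIso_homology_toTruncTower E m n hn
    let φ := (DerivedCategory.homologyFunctor (CohTop.Ab X) m).map (CohCx.toTruncTower E n)
    let w := (inv φ).hom.app (op V)
      (((DerivedCategory.homologyFunctor _ m).map (a' n)).hom.app (op V) s)
    have h1 : (DerivedCategory.homologyFunctor _ m).map f ≫
        (DerivedCategory.homologyFunctor _ m).map (a' n) = φ := by
      rw [← Functor.map_comp, hf]
    have h2 := ConcreteCategory.congr_hom (congrArg (fun ψ => ψ.hom.app (op V)) h1) w
    have h3 : inv φ ≫ φ = 𝟙 _ := IsIso.inv_hom_id φ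
    have h4 : ((DerivedCategory.homologyFunctor _ m).map (a' n)).hom.app (op V)
        (((DerivedCategory.homologyFunctor _ m).map f).hom.app (op V) w) =
        ((DerivedCategory.homologyFunctor _ m).map (a' n)).hom.app (op V) s :=
      h2.trans (ConcreteCategory.congr_hom (congrArg (fun ψ => ψ.hom.app (op V)) h3) _)
    -- equality of germs
    have h5 : TopCat.Presheaf.germ ((DerivedCategory.homologyFunctor (CohTop.Ab X) m).obj L).obj
        V x hx (((DerivedCategory.homologyFunctor _ m).map f).hom.app (op V) w) =
        TopCat.Presheaf.germ ((DerivedCategory.homologyFunctor (CohTop.Ab X) m).obj L).obj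
          V x hx s := by
      apply hinj
      rw [TopCat.Presheaf.stalkFunctor_map_germ_apply, TopCat.Presheaf.stalkFunctor_map_germ_apply,
        h4]
    obtain ⟨W, hxW, iU, iV, e⟩ := TopCat.Presheaf.germ_eq _ x hx hx _ _ h5
    refine ⟨W, iU, ⟨((DerivedCategory.homologyFunctor _ m).obj E).obj.map iU.op w, ?_⟩, hxW⟩
    have hnat := ConcreteCategory.congr_hom
      (((DerivedCategory.homologyFunctor (CohTop.Ab X) m).map f).hom.naturality iU.op) w
    refine hnat.trans ?_
    have : iU = iV := Subsingleton.elim _ _
    rw [this] at e ⊢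
    exact e
  exact isIso_of_mono_of_epi _

end Groth.Agent.Helper3.TrLim
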