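import Groth.Agent.Lib.Helper3.TrLim5

/-!
# An object of the derived category of abelian sheaves on a space is the derived limit of its
truncations (pointwise hypotheses)
-/

universe u

open CategoryTheory Limits Opposite Pretriangulated

namespace Groth.Agent.Helper3.TrLim

section Top

open TopologicalSpace

variable {X : TopCat.{u}} [HasDerivedCategory.{u} (CohTop.Ab X)]

/-- sections of `Hᵐ(L)` have the same image in `Hᵐ(K n)` as a section coming from `Hᵐ(E)` -/
lemma exists_section_same_image {C : Type u} [SmallCategory C] {J : GrothendieckTopology C}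
    [HasDerivedCategory.{u} (Sheaf J AddCommGrpCat.{u})]
    (E L : DerivedCategory (Sheaf J AddCommGrpCat.{u}))
    (a' : ∀ n, L ⟶ CohCx.truncTower E n) (f : E ⟶ L)
    (hf : ∀ n, f ≫ a' n = CohCx.toTruncTower E n) (m : ℤ) (n : ℕ) (hn : -(n : ℤ) ≤ m) (Y : C)
    (s : ToType (((DerivedCategory.homologyFunctor _ m).obj L).obj.obj (op Y))) :
    ∃ u : ToType (((DerivedCategory.homologyFunctor _ m).obj E).obj.obj (op Y)),
      ((DerivedCategory.homologyFunctor _ m).map (a' n)).hom.app (op Y)
        (((DerivedCategory.homologyFunctor _ m).map f).hom.app (op Y) u) =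
      ((DerivedCategory.homologyFunctor _ m).map (a' n)).hom.app (op Y) s := by
  haveI := isIso_homology_toTruncTower E m n hn
  let φ := (DerivedCategory.homologyFunctor (Sheaf J AddCommGrpCat.{u}) m).map
    (CohCx.toTruncTower E n)
  let u := (inv φ).hom.app (op Y)
    (((DerivedCategory.homologyFunctor _ m).map (a' n)).hom.app (op Y) s)
  refine ⟨u, ?_⟩
  have h1 : (DerivedCategory.homologyFunctor _ m).map f ≫
      (DerivedCategory.homologyFunctor _ m).map (a' n) = φ := by
    rw [← Functor.map_comp, hf]
  have h2 := ConcreteCategory.congr_hom (congrArg (fun ψ => ψ.hom.app (op Y)) h1) u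
  refine h2.trans ?_
  have h3 : inv φ ≫ φ = 𝟙 _ := IsIso.inv_hom_id φ
  exact ConcreteCategory.congr_hom (congrArg (fun ψ => ψ.hom.app (op Y)) h3) _

theorem s0875_main (E : DerivedCategory (CohTop.Ab X)) [HasProduct (CohCx.truncTower E)]
    (h : ∀ x : X, ∃ p : ℤ → ℤ, ∀ V : Opens X, x ∈ V → ∃ U : Opens X, x ∈ U ∧ U ≤ V ∧
      ∀ (m : ℤ) (k : ℕ), p m < k → Subsingleton (CohTop.HU (CohCx.HD E (m - k)) k U)) :
    CohCx.IsRlimVia (CohCx.truncTower E) (CohCx.truncTowerMap E) E (CohCx.toTruncTower E) := by
  obtain ⟨L, a', f, hL, hf⟩ := exists_holim (CohCx.truncTower E) (CohCx.truncTowerMap E) E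
    (CohCx.toTruncTower E) (truncTower_compat E)
  refine isRlimVia_of_iso hL f ?_ hf
  rw [DerivedCategory.isIso_iff]
  intro m
  haveI hmono : Mono ((DerivedCategory.homologyFunctor _ m).map f) := by
    haveI := isIso_homology_toTruncTower E m (-m).toNat (by
      have := Int.self_le_toNat (-m); omega)
    have h1 : (DerivedCategory.homologyFunctor _ m).map f ≫
        (DerivedCategory.homologyFunctor _ m).map (a' (-m).toNat) =
        (DerivedCategory.homologyFunctor _ m).map (CohCx.toTruncTower E (-m).toNat) := by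
      rw [← Functor.map_comp, hf]
    haveI : Mono ((DerivedCategory.homologyFunctor _ m).map f ≫
        (DerivedCategory.homologyFunctor _ m).map (a' (-m).toNat)) := by
      rw [h1]; infer_instance
    exact mono_of_mono _ ((DerivedCategory.homologyFunctor _ m).map (a' (-m).toNat))
  haveI hepi : Epi ((DerivedCategory.homologyFunctor _ m).map f) := by
    rw [← Sheaf.isLocallySurjective_iff_epi' AddCommGrpCat.{u}]
    constructor
    intro V s
    rw [Opens.mem_grothendieckTopology]
    intro x hx
    obtain ⟨p, hp⟩ := h x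
    have hn : -((max (-m).toNat (thr p m) : ℕ) : ℤ) ≤ m := by
      have h1 := Int.self_le_toNat (-m)
      have h2 : ((-m).toNat : ℤ) ≤ ((max (-m).toNat (thr p m) : ℕ) : ℤ) := by
        exact_mod_cast le_max_left _ _
      omega
    obtain ⟨u, hu⟩ := exists_section_same_image E L a' f hf m _ hn V s
    have hinj := DLimInj.Top.s0874_main (CohCx.truncTowerMap E) L a' hL x m
      (max (-m).toNat (thr p m)) (by
        intro V' hxV'
        obtain ⟨U, hxU, hUV', hvan⟩ := hp V' hxV'
        exact ⟨U, hxU, hUV', cond1 E U p hvan m,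
          fun k => cond2 E U p hvan m _ (le_max_right _ _) k⟩)
    have hgerm : TopCat.Presheaf.germ ((DerivedCategory.homologyFunctor _ m).obj L).obj V x hx
        (((DerivedCategory.homologyFunctor _ m).map f).hom.app (op V) u) =
        TopCat.Presheaf.germ ((DerivedCategory.homologyFunctor _ m).obj L).obj V x hx s := by
      apply hinj
      rw [TopCat.Presheaf.stalkFunctor_map_germ_apply, TopCat.Presheaf.stalkFunctor_map_germ_apply,
        hu]
    obtain ⟨U', hxU', iU, iV, e⟩ := TopCat.Presheaf.germ_eq _ x hx hx _ _ hgerm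
    refine ⟨U', iU, ⟨((DerivedCategory.homologyFunctor _ m).obj E).obj.map iU.op u, ?_⟩, hxU'⟩
    have hnat := ConcreteCategory.congr_hom
      (((DerivedCategory.homologyFunctor _ m).map f).hom.naturality iU.op) u
    refine hnat.trans (e.trans ?_)
    have : iV = iU := Subsingleton.elim _ _
    rw [this]
  exact isIso_of_mono_of_epi _

end Top

end Groth.Agent.Helper3.TrLim
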