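import Groth.Agent.Lib.Helper3.TrLim7

/-!
# Hypercohomology on a class of acyclic objects equals sections of the cohomology sheaves
-/

universe u

open CategoryTheory Limits Opposite Pretriangulated

namespace Groth.Agent.Helper3.TrLim

open Groth.Agent.Helper6.DRef

variable {C : Type u} [SmallCategory C] {J : GrothendieckTopology C}
  [HasDerivedCategory.{u} (Sheaf J AddCommGrpCat.{u})]
  (K : DerivedCategory (Sheaf J AddCommGrpCat.{u})) (W : C)

section Steps

variable (hv : ∀ (q : ℤ) (k : ℕ), Subsingleton (CohSite.HU (CohCx.HD K q) (k + 1) W))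

include hv in
/-- passing from `τ_{≥a}K` to `τ_{≥b}K` does not change `H^q(W, -)` as long as `b ≤ q` -/
theorem bijective_natTrans (a q : ℤ) : ∀ (b : ℤ) (hab : a ≤ b), b ≤ q →
    Function.Bijective (fun ξ : (DerivedCategory.singleFunctor _ 0).obj (CohCx.freeSheaf J W) ⟶
        (((tS (A := Sheaf J AddCommGrpCat.{u})).truncGE a).obj K)⟦q⟧ =>
      ξ ≫ (((tS (A := Sheaf J AddCommGrpCat.{u})).natTransTruncGEOfLE a b hab).app K)⟦q⟧') := by
  refine Int.leInduction (m := a) ?_ ?_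
  · intro _
    have : ∀ ξ : (DerivedCategory.singleFunctor _ 0).obj (CohCx.freeSheaf J W) ⟶
        (((tS (A := Sheaf J AddCommGrpCat.{u})).truncGE a).obj K)⟦q⟧,
        ξ ≫ (((tS (A := Sheaf J AddCommGrpCat.{u})).natTransTruncGEOfLE a a
          (le_refl a)).app K)⟦q⟧' = ξ := by
      intro ξ
      rw [(tS (A := Sheaf J AddCommGrpCat.{u})).natTransTruncGEOfLE_refl_app,
        CategoryTheory.Functor.map_id, Category.comp_id]
    constructor
    · intro ξ ξ' h
      beta_reduce at h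
      rw [this, this] at h
      exact h
    · intro η
      exact ⟨η, this η⟩
  · intro b hab ih hbq
    have ih' := ih (by omega)
    obtain ⟨k, hk⟩ : ∃ k : ℕ, (k : ℤ) = q - b - 1 :=
      ⟨(q - b - 1).toNat, Int.toNat_of_nonneg (by omega)⟩
    have hstep := bijective_transition K (CohCx.freeSheaf J W) b (b + 1) q (k + 1)
      (by push_cast; omega) rfl (hv b k) (hv b (k + 1))
    have hcomp : ∀ ξ : (DerivedCategory.singleFunctor _ 0).obj (CohCx.freeSheaf J W) ⟶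
        (((tS (A := Sheaf J AddCommGrpCat.{u})).truncGE a).obj K)⟦q⟧,
        ξ ≫ (((tS (A := Sheaf J AddCommGrpCat.{u})).natTransTruncGEOfLE a (b + 1)
          (Int.le_add_one hab)).app K)⟦q⟧' =
        (ξ ≫ (((tS (A := Sheaf J AddCommGrpCat.{u})).natTransTruncGEOfLE a b hab).app K)⟦q⟧') ≫
          (((tS (A := Sheaf J AddCommGrpCat.{u})).natTransTruncGEOfLE b (b + 1)
            (by omega)).app K)⟦q⟧' := by
      intro ξ
      rw [Category.assoc, ← Functor.map_comp,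
        (tS (A := Sheaf J AddCommGrpCat.{u})).natTransTruncGEOfLE_trans_app]
    constructor
    · intro ξ ξ' h
      beta_reduce at h
      rw [hcomp, hcomp] at h
      exact ih'.1 (hstep.1 h)
    · intro η
      obtain ⟨y, hy⟩ := hstep.2 η
      obtain ⟨ξ, hξ⟩ := ih'.2 y
      refine ⟨ξ, ?_⟩
      beta_reduce at hξ hy ⊢
      rw [hcomp, hξ]
      exact hy

end Steps

section Heart

/-- `Hom(ℤ_W[0], (τ_{≥q}K)[q])` is the group of sections over `W` of `H^q(K)` -/
theorem nonempty_addEquiv_truncGE (q : ℤ) :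
    Nonempty (CohCx.HDU (((tS (A := Sheaf J AddCommGrpCat.{u})).truncGE q).obj K) q W ≃+
      (CohCx.HD K q).obj.obj (op W)) := by
  -- notation
  let Y := ((tS (A := Sheaf J AddCommGrpCat.{u})).truncGE q).obj K
  let M := ((tS (A := Sheaf J AddCommGrpCat.{u})).truncLT (q + 1)).obj Y
  let Z0 := (DerivedCategory.singleFunctor (Sheaf J AddCommGrpCat.{u}) 0).obj (CohCx.freeSheaf J W)
  have hT := (tS (A := Sheaf J AddCommGrpCat.{u})).triangleLTGE_distinguished (q + 1) Y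
  have hZ0 : (tS (A := Sheaf J AddCommGrpCat.{u})).IsLE Z0 0 :=
    inferInstanceAs (((DerivedCategory.singleFunctor (Sheaf J AddCommGrpCat.{u}) 0).obj
      (CohCx.freeSheaf J W)).IsLE 0)
  -- step 1
  have h3 : (tS (A := Sheaf J AddCommGrpCat.{u})).IsGE
      ((((tS (A := Sheaf J AddCommGrpCat.{u})).truncGE (q + 1)).obj Y)⟦(-1 : ℤ)⟧) (q + 2) :=
    (tS (A := Sheaf J AddCommGrpCat.{u})).isGE_shift _ (q + 1) (-1) (q + 2) (by omega)
  have h4 : (tS (A := Sheaf J AddCommGrpCat.{u})).IsGE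
      (((((tS (A := Sheaf J AddCommGrpCat.{u})).truncGE (q + 1)).obj Y)⟦(-1 : ℤ)⟧)⟦q⟧) 2 :=
    (tS (A := Sheaf J AddCommGrpCat.{u})).isGE_shift _ (q + 2) q 2 (by omega)
  have h5 : (tS (A := Sheaf J AddCommGrpCat.{u})).IsGE
      (((((tS (A := Sheaf J AddCommGrpCat.{u})).truncGE (q + 1)).obj Y)⟦(-1 : ℤ)⟧)⟦(1 : ℤ)⟧)
      (q + 1) :=
    (tS (A := Sheaf J AddCommGrpCat.{u})).isGE_shift _ (q + 2) 1 (q + 1) (by omega)
  have h6 : (tS (A := Sheaf J AddCommGrpCat.{u})).IsGE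
      ((((((tS (A := Sheaf J AddCommGrpCat.{u})).truncGE (q + 1)).obj Y)⟦(-1 : ℤ)⟧)⟦(1 : ℤ)⟧)⟦q⟧)
      1 :=
    (tS (A := Sheaf J AddCommGrpCat.{u})).isGE_shift _ (q + 1) q 1 (by omega)
  have hb1 := bijective_postcomp_of_subsingleton _ (inv_rot_of_distTriang _ hT) Z0 q
    ⟨fun f g => ((tS (A := Sheaf J AddCommGrpCat.{u})).zero_of_isLE_of_isGE f 0 2 (by omega)
        hZ0 h4).trans
      ((tS (A := Sheaf J AddCommGrpCat.{u})).zero_of_isLE_of_isGE g 0 2 (by omega) hZ0 h4).symm⟩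
    ⟨fun f g => ((tS (A := Sheaf J AddCommGrpCat.{u})).zero_of_isLE_of_isGE f 0 1 (by omega)
        hZ0 h6).trans
      ((tS (A := Sheaf J AddCommGrpCat.{u})).zero_of_isLE_of_isGE g 0 1 (by omega) hZ0 h6).symm⟩
  let e1 : (Z0 ⟶ M⟦q⟧) ≃+ (Z0 ⟶ Y⟦q⟧) :=
    AddEquiv.ofBijective (Preadditive.rightComp Z0
      ((shiftFunctor _ q).map (((tS (A := Sheaf J AddCommGrpCat.{u})).truncLTι (q + 1)).app Y)))
      hb1
  -- step 2
  obtain ⟨e⟩ := nonempty_iso_single K q
  let i : M⟦q⟧ ≅ (DerivedCategory.singleFunctor (Sheaf J AddCommGrpCat.{u}) 0).obj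
      (CohCx.HD K q) :=
    (shiftFunctor _ q).mapIso e ≪≫
      ((DerivedCategory.singleFunctors (Sheaf J AddCommGrpCat.{u})).shiftIso q 0 q
        (add_zero q)).app (CohCx.HD K q)
  let e2 : (Z0 ⟶ M⟦q⟧) ≃+ (Z0 ⟶ (DerivedCategory.singleFunctor (Sheaf J AddCommGrpCat.{u}) 0).obj
      (CohCx.HD K q)) :=
    AddEquiv.ofBijective (Preadditive.rightComp Z0 i.hom)
      ⟨fun f g h => (cancel_mono i.hom).1 h, fun g => ⟨g ≫ i.inv, by
        change (g ≫ i.inv) ≫ i.hom = g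
        rw [Category.assoc, Iso.inv_hom_id, Category.comp_id]⟩⟩
  -- step 3
  let e3 : (CohCx.freeSheaf J W ⟶ CohCx.HD K q) ≃+
      (Z0 ⟶ (DerivedCategory.singleFunctor (Sheaf J AddCommGrpCat.{u}) 0).obj (CohCx.HD K q)) :=
    AddEquiv.ofBijective
      ((DerivedCategory.singleFunctor (Sheaf J AddCommGrpCat.{u}) 0).mapAddHom)
      ⟨(DerivedCategory.singleFunctor (Sheaf J AddCommGrpCat.{u}) 0).map_injective,
        (DerivedCategory.singleFunctor (Sheaf J AddCommGrpCat.{u}) 0).map_surjective⟩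
  -- step 4
  let e4 : (CohCx.freeSheaf J W ⟶ CohCx.HD K q) ≃+ (CohCx.HD K q).obj.obj (op W) :=
    { secEquiv J W (CohCx.HD K q) with
      map_add' := fun a b => secEquiv_add J W a b }
  exact ⟨e1.symm.trans (e2.trans (e3.symm.trans e4))⟩

end Heart

end Groth.Agent.Helper3.TrLim
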