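import Groth.Agent.Lib.Helper3.TrLim8
import Groth.Agent.Lib.Helper3.KInjProd

/-!
# `H^q(U, K) = H^q(K)(U)` on a class of acyclic objects
-/

universe u

open CategoryTheory Limits Opposite Pretriangulated

namespace Groth.Agent.Helper3.TrLim

variable {C : Type u} [SmallCategory C] {J : GrothendieckTopology C}
  [HasDerivedCategory.{u} (Sheaf J AddCommGrpCat.{u})]

instance hasProductsOfShape_nat :
    HasProductsOfShape ℕ (DerivedCategory (Sheaf J AddCommGrpCat.{u})) := by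
  haveI := KInjProd.hasProductsOfShape (A := Sheaf J AddCommGrpCat.{u}) (ULift.{u} ℕ)
  exact hasLimitsOfShape_of_equivalence
    (Discrete.equivalence (Equiv.ulift.{u} (α := ℕ)))

theorem s0877_main (K : DerivedCategory (Sheaf J AddCommGrpCat.{u})) (B : Set C)
    (hB : ∀ U : C, ∃ (ι : Type u) (Y : ι → C) (f : ∀ i, Y i ⟶ U),
      Sieve.ofArrows Y f ∈ J U ∧ ∀ i, Y i ∈ B)
    (h : ∀ U ∈ B, ∀ (p : ℕ) (q : ℤ), Subsingleton (CohSite.HU (CohCx.HD K q) (p + 1) U))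
    (U : C) (hU : U ∈ B) (q : ℤ) :
    Nonempty (CohCx.HDU K q U ≃+ (CohCx.HD K q).obj.obj (op U)) := by
  have hL : CohCx.IsRlimVia (CohCx.truncTower K) (CohCx.truncTowerMap K) K
      (CohCx.toTruncTower K) := by
    refine s0881_main K B hB (fun V hV => ⟨fun _ => 0, fun T hT => ?_⟩)
    obtain ⟨ι, Y, f, hf, hcov, hY⟩ := exists_cover_in_sieve B hB V T hT
    refine ⟨ι, Y, f, hf, hcov, fun i m k hk => ?_⟩
    exact hv0 K (Y i) (fun q k => h (Y i) (hY i) k q) m k hk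
  have hv : ∀ (q : ℤ) (k : ℕ), Subsingleton (CohSite.HU (CohCx.HD K q) (k + 1) U) :=
    fun q k => h U hU k q
  -- step 1
  have hb1 := bijective_toTruncTower K U hv hL q (-q).toNat le_rfl
  let e1 : CohCx.HDU K q U ≃+ CohCx.HDU (CohCx.truncTower K (-q).toNat) q U :=
    AddEquiv.ofBijective _ hb1
  -- step 2
  have hle : -(((-q).toNat : ℕ) : ℤ) ≤ q := by
    have := Int.self_le_toNat (-q); omega
  have hb2 := bijective_natTrans K U hv (-(((-q).toNat : ℕ) : ℤ)) q q hle le_rfl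
  let e2 : CohCx.HDU (CohCx.truncTower K (-q).toNat) q U ≃+
      CohCx.HDU (((tS (A := Sheaf J AddCommGrpCat.{u})).truncGE q).obj K) q U :=
    AddEquiv.ofBijective (Preadditive.rightComp _ ((shiftFunctor _ q).map
      (((tS (A := Sheaf J AddCommGrpCat.{u})).natTransTruncGEOfLE
        (-(((-q).toNat : ℕ) : ℤ)) q hle).app K))) hb2
  obtain ⟨e3⟩ := nonempty_addEquiv_truncGE K U q
  exact ⟨e1.trans (e2.trans e3)⟩

open TopologicalSpace in
theorem s0868_main {X : TopCat.{u}} [HasDerivedCategory.{u} (CohTop.Ab X)]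
    (K : DerivedCategory (CohTop.Ab X))
    (B : Set (Opens X)) (hB : Opens.IsBasis B)
    (h : ∀ U ∈ B, ∀ (p : ℕ) (q : ℤ), Subsingleton (CohTop.HU (CohCx.HD K q) (p + 1) U))
    (U : Opens X) (hU : U ∈ B) (q : ℤ) :
    Nonempty (CohCx.HDU K q U ≃+ (CohCx.HD K q).obj.obj (op U)) := by
  refine s0877_main K B ?_ h U hU q
  intro U
  refine ⟨{V : Opens X // V ∈ B ∧ V ≤ U}, fun i => i.1, fun i => homOfLE i.2.2, ?_,
    fun i => i.2.1⟩
  rw [Opens.mem_grothendieckTopology]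
  intro x hx
  obtain ⟨V, hV, hxV, hVU⟩ := Opens.isBasis_iff_nbhd.1 hB hx
  exact ⟨V, homOfLE hVU, (Sieve.mem_ofArrows_iff _ _ _).2 ⟨⟨V, hV, hVU⟩, 𝟙 _, rfl⟩, hxV⟩

end Groth.Agent.Helper3.TrLim
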