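import Mathlib
import Groth.Agent.Lib.Helper1.TraceLen

/-! Trace of `B/pB` over `A/p` as a sum over primes of `e(Q|p) • Tr_{(B/Q)/(A/p)}` (helper3; S11081). -/

set_option autoImplicit false
universe u

namespace Groth.Agent.Helper3.TrQuot

open LinearMap

section abstract

variable {A k B : Type u} [CommRing A] [Field k] [CommRing B] [Algebra A k] [Algebra A B]
  (hk : Function.Surjective (algebraMap A k))

/-- `k`-linear multiplication by `y : B` on a module with compatible `A`, `B`, `k`-structures,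
where `A → k` is surjective. -/
noncomputable def mulBy (M : Type u) [AddCommGroup M] [Module A M] [Module B M] [Module k M]
    [IsScalarTower A B M] [IsScalarTower A k M] (y : B) : M →ₗ[k] M :=
  LinearMap.extendScalarsOfSurjective hk ((LinearMap.lsmul B M y).restrictScalars A)

@[simp] lemma mulBy_apply (M : Type u) [AddCommGroup M] [Module A M] [Module B M] [Module k M]
    [IsScalarTower A B M] [IsScalarTower A k M] (y : B) (m : M) :
    mulBy hk M y m = y • m := rfl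

omit [Algebra A k] [CommRing A] in
lemma trace_eq_of_intertwine {M N : Type u} [AddCommGroup M] [Module k M] [AddCommGroup N]
    [Module k N] (e : M ≃ₗ[k] N) (f : M →ₗ[k] M) (g : N →ₗ[k] N)
    (h : ∀ m, e (f m) = g (e m)) : trace k M f = trace k N g := by
  rw [← LinearMap.trace_conj' f e]
  congr 1
  ext n
  obtain ⟨m, rfl⟩ := e.surjective n
  rw [LinearEquiv.conj_apply_apply, LinearEquiv.symm_apply_apply, h]

lemma algTrace_eq (I : Ideal B) [Algebra k (B ⧸ I)] [IsScalarTower A k (B ⧸ I)] (y : B) :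
    Algebra.trace k (B ⧸ I) (Ideal.Quotient.mk I y) =
      trace k (B ⧸ I) (mulBy hk (B ⧸ I) y) := by
  rw [Algebra.trace_apply]
  congr 1

theorem one_step (Q J : Ideal B) (a : B) (ha : a ∈ J) (hgen : J ≤ Ideal.span {a} ⊔ Q * J)
    (hker : ∀ x, a * x ∈ Q * J → x ∈ Q)
    [Module k (B ⧸ (Q * J))] [IsScalarTower A k (B ⧸ (Q * J))]
    [Module k (B ⧸ J)] [IsScalarTower A k (B ⧸ J)]
    [Module k (B ⧸ Q)] [IsScalarTower A k (B ⧸ Q)]
    [FiniteDimensional k (B ⧸ (Q * J))] (y : B) :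
    trace k (B ⧸ (Q * J)) (mulBy hk (B ⧸ (Q * J)) y) =
      trace k (B ⧸ J) (mulBy hk (B ⧸ J) y) + trace k (B ⧸ Q) (mulBy hk (B ⧸ Q) y) := by
  have hQJ : Q * J ≤ J := Ideal.mul_le_right
  -- the projection ψ : B/(QJ) → B/J
  let ψB : (B ⧸ (Q * J)) →ₗ[B] (B ⧸ J) :=
    Submodule.liftQ (Q * J) (Submodule.mkQ J) (by rw [Submodule.ker_mkQ]; exact hQJ)
  have hψB : ∀ x : B, ψB (Ideal.Quotient.mk (Q * J) x) = Ideal.Quotient.mk J x := fun x => rfl
  let ψ : (B ⧸ (Q * J)) →ₗ[k] (B ⧸ J) :=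
    LinearMap.extendScalarsOfSurjective hk (ψB.restrictScalars A)
  have hψ : ∀ v, ψ v = ψB v := fun v => rfl
  -- the map φ : B/Q → B/(QJ), x ↦ x a
  have hle : Q ≤ LinearMap.ker
      (LinearMap.toSpanSingleton B (B ⧸ (Q * J)) (Ideal.Quotient.mk (Q * J) a)) := by
    intro x hx
    rw [LinearMap.mem_ker, LinearMap.toSpanSingleton_apply]
    show Ideal.Quotient.mk (Q * J) (x * a) = 0
    exact Ideal.Quotient.eq_zero_iff_mem.mpr (Ideal.mul_mem_mul hx ha)
  let φB : (B ⧸ Q) →ₗ[B] (B ⧸ (Q * J)) :=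
    Submodule.liftQ Q (LinearMap.toSpanSingleton B (B ⧸ (Q * J)) (Ideal.Quotient.mk (Q * J) a)) hle
  have hφB : ∀ x : B, φB (Ideal.Quotient.mk Q x) = Ideal.Quotient.mk (Q * J) (x * a) :=
    fun x => rfl
  let φ : (B ⧸ Q) →ₗ[k] (B ⧸ (Q * J)) :=
    LinearMap.extendScalarsOfSurjective hk (φB.restrictScalars A)
  have hφ : ∀ v, φ v = φB v := fun v => rfl
  have F1 : ∀ v, ψ (y • v) = y • ψ v := fun v => map_smul ψB y v
  have F2 : ∀ v, φ (y • v) = y • φ v := fun v => map_smul φB y v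
  have F3 : Function.Surjective ψ := by
    intro w
    obtain ⟨x, rfl⟩ := Ideal.Quotient.mk_surjective w
    exact ⟨Ideal.Quotient.mk (Q * J) x, rfl⟩
  have F4 : Function.Injective φ := by
    rw [injective_iff_map_eq_zero]
    intro v hv
    obtain ⟨x, rfl⟩ := Ideal.Quotient.mk_surjective v
    rw [hφ, hφB, Ideal.Quotient.eq_zero_iff_mem] at hv
    rw [Ideal.Quotient.eq_zero_iff_mem]
    apply hker
    rw [mul_comm a x]; exact hv
  have F5 : ∀ v, ψ (φ v) = 0 := by
    intro v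
    obtain ⟨x, rfl⟩ := Ideal.Quotient.mk_surjective v
    rw [hφ, hφB, hψ, hψB, Ideal.Quotient.eq_zero_iff_mem]
    exact J.mul_mem_left x ha
  have F6 : ∀ v, ψ v = 0 → ∃ u, φ u = v := by
    intro v hv
    obtain ⟨j, rfl⟩ := Ideal.Quotient.mk_surjective v
    rw [hψ, hψB, Ideal.Quotient.eq_zero_iff_mem] at hv
    obtain ⟨y₁, hy₁, z, hz, hyz⟩ := Submodule.mem_sup.mp (hgen hv)
    obtain ⟨c, rfl⟩ := Ideal.mem_span_singleton'.mp hy₁
    refine ⟨Ideal.Quotient.mk Q c, ?_⟩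
    rw [hφ, hφB, Ideal.Quotient.eq, ← hyz]
    have : c * a - (c * a + z) = -z := by ring
    rw [this]
    exact neg_mem hz
  obtain ⟨W, hW⟩ : ∃ W : Submodule k (B ⧸ (Q * J)), W = LinearMap.ker ψ := ⟨_, rfl⟩
  have hWmem : ∀ v, v ∈ W ↔ ψ v = 0 := fun v => by rw [hW, LinearMap.mem_ker]
  let e₁ : (B ⧸ Q) ≃ₗ[k] W :=
    LinearEquiv.ofBijective (φ.codRestrict W (fun u => (hWmem _).mpr (F5 u)))
      ⟨fun u v h => F4 (congrArg Subtype.val h), fun ⟨v, hv⟩ => by
        obtain ⟨u, hu⟩ := F6 v ((hWmem v).mp hv)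
        exact ⟨u, Subtype.ext hu⟩⟩
  have he₁ : ∀ u, ((e₁ u : W) : B ⧸ (Q * J)) = φ u := fun u => rfl
  let e₂ : ((B ⧸ (Q * J)) ⧸ W) ≃ₗ[k] (B ⧸ J) :=
    (Submodule.quotEquivOfEq W (LinearMap.ker ψ) hW).trans (ψ.quotKerEquivOfSurjective F3)
  have he₂ : ∀ v, e₂ (Submodule.Quotient.mk v) = ψ v := fun v => rfl
  have hWf : W ≤ W.comap (mulBy hk (B ⧸ (Q * J)) y) := by
    intro v hv
    rw [Submodule.mem_comap, hWmem, mulBy_apply, F1, (hWmem v).mp hv, smul_zero]
  have hadd := Groth.Agent.Helper1.TraceLen.trace_eq_restrict_add_mapQ W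
    (mulBy hk (B ⧸ (Q * J)) y) hWf
  have h1 : trace k W ((mulBy hk (B ⧸ (Q * J)) y).restrict hWf) =
      trace k (B ⧸ Q) (mulBy hk (B ⧸ Q) y) := by
    symm
    apply trace_eq_of_intertwine e₁
    intro u
    apply Subtype.ext
    rw [he₁, mulBy_apply, F2]
    rfl
  have h2 : trace k ((B ⧸ (Q * J)) ⧸ W) (W.mapQ W (mulBy hk (B ⧸ (Q * J)) y) hWf) =
      trace k (B ⧸ J) (mulBy hk (B ⧸ J) y) := by
    apply trace_eq_of_intertwine e₂
    intro q
    obtain ⟨v, rfl⟩ := Submodule.Quotient.mk_surjective W q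
    rw [Submodule.mapQ_apply, he₂, he₂, mulBy_apply, mulBy_apply, F1]
  rw [hadd, h1, h2, add_comm]

end abstract

section dedekind

variable {B : Type u} [CommRing B] [IsDedekindDomain B]

theorem exists_gen (Q J : Ideal B) (hQ : Q.IsMaximal) (hJ : J ≠ ⊥) :
    ∃ a ∈ J, J ≤ Ideal.span {a} ⊔ Q * J ∧ ∀ x, a * x ∈ Q * J → x ∈ Q := by
  have hQJ : Q * J ≤ J := Ideal.mul_le_right
  have hne : Q * J ≠ J := by
    intro h
    have h1 : Q * J = 1 * J := by rw [one_mul]; exact h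
    have h2 : Q = 1 := mul_right_cancel₀ hJ h1
    exact hQ.ne_top (by rw [h2, Ideal.one_eq_top])
  obtain ⟨a, haJ, haQJ⟩ := SetLike.exists_of_lt (lt_of_le_of_ne hQJ hne)
  refine ⟨a, haJ, ?_, ?_⟩
  · obtain ⟨I, hI⟩ : ∃ I, I = Ideal.span {a} ⊔ Q * J := ⟨_, rfl⟩
    rw [← hI]
    have hIJ : I ≤ J := by
      rw [hI]; exact sup_le ((Ideal.span_singleton_le_iff_mem _).mpr haJ) hQJ
    obtain ⟨I', hI'⟩ := Ideal.dvd_iff_le.mpr hIJ
    have hQJI : Q * J ≤ I := by rw [hI]; exact le_sup_right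
    have h3 : J * I' ∣ J * Q := by
      rw [← hI', mul_comm J Q]; exact Ideal.dvd_iff_le.mpr hQJI
    have h4 : I' ∣ Q := (mul_dvd_mul_iff_left hJ).mp h3
    have h5 : Q ≤ I' := Ideal.dvd_iff_le.mp h4
    by_cases hI'top : I' = ⊤
    · rw [hI', hI'top, Ideal.mul_top]
    · exfalso
      have h6 : Q = I' := hQ.eq_of_le hI'top h5
      apply haQJ
      have : a ∈ I := by
        rw [hI]; exact Ideal.mem_sup_left (Ideal.mem_span_singleton_self a)
      rw [hI', ← h6, mul_comm] at this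
      exact this
  · intro x hx
    obtain ⟨K, hK⟩ : ∃ K : Ideal B, K = Submodule.comap (LinearMap.mulLeft B a) (Q * J) :=
      ⟨_, rfl⟩
    have hKmem : ∀ z, z ∈ K ↔ a * z ∈ Q * J := fun z => by
      rw [hK, Submodule.mem_comap, LinearMap.mulLeft_apply]
    have hQK : Q ≤ K := by
      intro z hz
      rw [hKmem, mul_comm a z]
      exact Ideal.mul_mem_mul hz haJ
    have hKtop : K ≠ ⊤ := by
      intro h
      have h1 : (1 : B) ∈ K := by rw [h]; trivial
      rw [hKmem, mul_one] at h1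
      exact haQJ h1
    have : Q = K := hQ.eq_of_le hKtop hQK
    rw [this, hKmem]; exact hx

end dedekind

section main

attribute [local instance] Ideal.Quotient.field

variable {A B : Type u} [CommRing A] [CommRing B] [IsDedekindDomain A] [IsDedekindDomain B]
  [Algebra A B] [Module.Finite A B] [Module.IsTorsionFree A B]
  (p : Ideal A) [p.IsMaximal]

omit [IsDedekindDomain A] [p.IsMaximal] in
lemma hkp : Function.Surjective (algebraMap A (A ⧸ p)) := Ideal.Quotient.mk_surjective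

open scoped Classical in
theorem trace_quot_eq_sum [Fintype (p.primesOver B)] (y : B) (I : Ideal B) : I ≠ ⊥ →
    ∀ (h : p ≤ Ideal.comap (algebraMap A B) I),
    letI := Ideal.Quotient.algebraQuotientOfLEComap h
    Algebra.trace (A ⧸ p) (B ⧸ I) (Ideal.Quotient.mk I y) =
      ∑ Q : p.primesOver B, (UniqueFactorizationMonoid.normalizedFactors I).count Q.1 •
        Algebra.trace (A ⧸ p) (B ⧸ Q.1) (Ideal.Quotient.mk Q.1 y) := by
  induction I using UniqueFactorizationMonoid.induction_on_prime with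
  | h₁ => intro h; exact absurd rfl h
  | h₂ I hI =>
    intro _ h
    have hI' : I = ⊤ := Ideal.isUnit_iff.mp hI
    subst hI'
    have h0 : (Ideal.Quotient.mk (⊤ : Ideal B) y) = 0 :=
      Ideal.Quotient.eq_zero_iff_mem.mpr trivial
    rw [h0, map_zero]
    symm
    apply Finset.sum_eq_zero
    intro Q _
    rw [← Ideal.one_eq_top, UniqueFactorizationMonoid.normalizedFactors_one,
      Multiset.count_zero, zero_smul]
  | h₃ J Q₀ hJ hQ₀ ih =>
    intro _ h
    have hJ' : J ≠ ⊥ := hJ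
    have hQ₀prime : Q₀.IsPrime := Ideal.isPrime_of_prime hQ₀
    have hQ₀ne : Q₀ ≠ ⊥ := hQ₀.ne_zero
    have hQ₀max : Q₀.IsMaximal := hQ₀prime.isMaximal hQ₀ne
    have hpJ : p ≤ Ideal.comap (algebraMap A B) J :=
      h.trans (Ideal.comap_mono Ideal.mul_le_right)
    have hpQ : p ≤ Ideal.comap (algebraMap A B) Q₀ :=
      h.trans (Ideal.comap_mono Ideal.mul_le_left)
    have hover : p = Ideal.comap (algebraMap A B) Q₀ :=
      (inferInstance : p.IsMaximal).eq_of_le (Ideal.comap_ne_top _ hQ₀prime.ne_top) hpQ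
    haveI hlies : Q₀.LiesOver p := ⟨hover⟩
    obtain ⟨a, haJ, hgen, hker⟩ := exists_gen Q₀ J hQ₀max hJ'
    letI algQJ : Algebra (A ⧸ p) (B ⧸ (Q₀ * J)) := Ideal.Quotient.algebraQuotientOfLEComap h
    letI algJ : Algebra (A ⧸ p) (B ⧸ J) := Ideal.Quotient.algebraQuotientOfLEComap hpJ
    haveI t1 : IsScalarTower A (A ⧸ p) (B ⧸ (Q₀ * J)) := IsScalarTower.of_algebraMap_eq' rfl
    haveI t2 : IsScalarTower A (A ⧸ p) (B ⧸ J) := IsScalarTower.of_algebraMap_eq' rfl
    haveI fdA : Module.Finite A (B ⧸ (Q₀ * J)) :=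
      Module.Finite.of_surjective ((Ideal.Quotient.mkₐ A (Q₀ * J)).toLinearMap)
        (Ideal.Quotient.mkₐ_surjective A _)
    haveI fd : FiniteDimensional (A ⧸ p) (B ⧸ (Q₀ * J)) :=
      Module.Finite.of_restrictScalars_finite A (A ⧸ p) (B ⧸ (Q₀ * J))
    have hstep := one_step (hkp p) Q₀ J a haJ hgen hker y
    have e1 := algTrace_eq (hkp p) (Q₀ * J) y
    have e2 := algTrace_eq (hkp p) J y
    have e3 := algTrace_eq (hkp p) Q₀ y
    have ihJ := ih hJ' hpJ
    have hmain : Algebra.trace (A ⧸ p) (B ⧸ (Q₀ * J)) (Ideal.Quotient.mk (Q₀ * J) y) =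
        Algebra.trace (A ⧸ p) (B ⧸ J) (Ideal.Quotient.mk J y) +
          Algebra.trace (A ⧸ p) (B ⧸ Q₀) (Ideal.Quotient.mk Q₀ y) := by
      rw [e1, e2, e3]; exact hstep
    refine hmain.trans ?_
    rw [ihJ, UniqueFactorizationMonoid.normalizedFactors_mul hQ₀ne hJ,
      UniqueFactorizationMonoid.normalizedFactors_irreducible hQ₀.irreducible, normalize_eq]
    simp only [Multiset.count_add, Multiset.count_singleton, add_smul, Finset.sum_add_distrib]
    rw [add_comm]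
    congr 1
    rw [Finset.sum_eq_single (⟨Q₀, hQ₀prime, hlies⟩ : p.primesOver B)]
    · rw [if_pos rfl, one_smul]
    · intro Q _ hne
      rw [if_neg (fun h' => hne (Subtype.ext h')), zero_smul]
    · intro h'; exact absurd (Finset.mem_univ _) h'

theorem s11081 (A B : Type u) [CommRing A] [CommRing B]
    [IsDedekindDomain A] [IsDedekindDomain B] [Algebra A B] [Module.Finite A B]
    [Module.IsTorsionFree A B]
    (p : Ideal A) [p.IsMaximal] (hp : p ≠ ⊥) (y : B) :
    Ideal.Quotient.mk p (Algebra.intTrace A B y) =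
      ∑ᶠ Q : p.primesOver B,
        Q.1.ramificationIdx A •
          Algebra.trace (A ⧸ p) (B ⧸ Q.1) (Ideal.Quotient.mk Q.1 y) := by
  classical
  haveI : Finite (p.primesOver B) := (Algebra.QuasiFinite.finite_primesOver p).to_subtype
  letI := Fintype.ofFinite (p.primesOver B)
  rw [finsum_eq_sum_of_fintype]
  have hp0 : p.map (algebraMap A B) ≠ ⊥ := Ideal.map_ne_bot_of_ne_bot hp
  rw [← Algebra.trace_quotient_eq_of_isDedekindDomain B p y]
  refine (trace_quot_eq_sum p y (p.map (algebraMap A B)) hp0 Ideal.le_comap_map).trans ?_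
  refine Finset.sum_congr rfl (fun Q _ => ?_)
  rw [Ideal.IsDedekindDomain.ramificationIdx_eq_normalizedFactors_count p Q.1 hp0]

end main

end Groth.Agent.Helper3.TrQuot
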