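import Mathlib
import Groth.Prelude.Def_Wider
import Groth.Prelude.Def_DDual2
import Groth.Agent.Lib.Helper3.RelDual1
import Groth.Agent.Lib.Helper3.DualFL
import Groth.Agent.Lib.Helper3.DualFun2

/-!
# The triangle `RHom_A(A/I, ω) → ω → Hom_A(I, E)[0]` for an ideal `I` of finite length
-/

set_option autoImplicit false
universe u
open CategoryTheory CategoryTheory.Limits DerivedCategory Pretriangulated Triangulated

attribute [local instance] HasDerivedCategory.standard

namespace Groth.Agent.Helper3.TriFL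

section Cx

variable {A : Type u} [CommRing A] (I : Ideal A)

/-- `A/I` as an `A`-module by restriction of scalars -/
noncomputable abbrev resB : ModuleCat.{u} A := RelDual.AP (Ideal.Quotient.mk I)

/-- an element of `A/I` viewed in the restricted module -/
def toResB (b : A ⧸ I) : resB I := b

lemma smul_toResB (a : A) (b : A ⧸ I) :
    a • toResB I b = toResB I (Ideal.Quotient.mk I a * b) := rfl

/-- evaluation at `1`: `Hom_A(A/I, J^•) → J^•` as a map of complexes of `A`-modules -/
noncomputable def evOne (J : DRing.Cx A) :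
    (FinAdj.resC (Ideal.Quotient.mk I)).obj ((RelDual.coC (Ideal.Quotient.mk I)).obj J) ⟶ J where
  f q := (ModuleCat.restrictCoextendScalarsAdj.{u, u, u} (Ideal.Quotient.mk I)).counit.app (J.X q)
  comm' i j _ :=
    ((ModuleCat.restrictCoextendScalarsAdj.{u, u, u} (Ideal.Quotient.mk I)).counit.naturality
      (J.d i j)).symm

lemma evOne_apply (J : DRing.Cx A) (q : ℤ)
    (g : ((FinAdj.resC (Ideal.Quotient.mk I)).obj
      ((RelDual.coC (Ideal.Quotient.mk I)).obj J)).X q) :
    ((evOne I J).f q).hom g = (show resB I →ₗ[A] J.X q from g) (toResB I 1) := rfl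

/-- `x ↦ (a ↦ a • x)` -/
noncomputable def mulI (X : ModuleCat.{u} A) (x : X) : ModuleCat.of A I ⟶ X :=
  ModuleCat.ofHom ((LinearMap.toSpanSingleton A X x).comp I.subtype)

lemma mulI_apply (X : ModuleCat.{u} A) (x : X) (a : I) : (mulI I X x).hom a = (a : A) • x := rfl

/-- the chain map `J^• → Hom_A(I, J^•)` -/
noncomputable def thetaI (J : DRing.Cx A) : J ⟶ DualFun.Dc J (ModuleCat.of A I) where
  f q := ModuleCat.ofHom
    { toFun := fun x => mulI I (J.X q) x
      map_add' := fun x y => by
        apply ModuleCat.hom_ext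
        apply LinearMap.ext
        intro (a : I)
        exact smul_add (a : A) x y
      map_smul' := fun r x => by
        apply ModuleCat.hom_ext
        apply LinearMap.ext
        intro (a : I)
        exact smul_comm (a : A) r x }
  comm' i j _ := by
    apply ModuleCat.hom_ext
    apply LinearMap.ext
    intro x
    show mulI I (J.X i) x ≫ J.d i j = mulI I (J.X j) ((J.d i j).hom x)
    apply ModuleCat.hom_ext
    apply LinearMap.ext
    intro (a : I)
    exact (J.d i j).hom.map_smul (a : A) x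

lemma thetaI_apply (J : DRing.Cx A) (q : ℤ) (x : J.X q) :
    ((thetaI I J).f q).hom x = mulI I (J.X q) x := rfl

/-- the short complex `Hom_A(A/I, J^•) → J^• → Hom_A(I, J^•)` -/
noncomputable abbrev sesCx (J : DRing.Cx A) : ShortComplex (DRing.Cx A) :=
  ShortComplex.mk (evOne I J) (thetaI I J) (by
    apply HomologicalComplex.hom_ext
    intro q
    apply ModuleCat.hom_ext
    apply LinearMap.ext
    intro g
    show mulI I (J.X q) (((evOne I J).f q).hom g) = 0
    apply ModuleCat.hom_ext
    apply LinearMap.ext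
    intro (a : I)
    show (a : A) • ((evOne I J).f q).hom g = 0
    rw [evOne_apply, ← map_smul, smul_toResB]
    have h0 : Ideal.Quotient.mk I (a : A) * (1 : A ⧸ I) = 0 := by
      rw [mul_one]
      exact Ideal.Quotient.eq_zero_iff_mem.2 a.2
    rw [h0]
    exact map_zero _)

lemma sesCx_shortExact (J : DRing.Cx A) (hJ : ∀ q : ℤ, Injective (J.X q)) :
    (sesCx I J).ShortExact := by
  apply HomologicalComplex.shortExact_of_degreewise_shortExact
  intro q
  haveI := hJ q
  haveI : Module.Injective A (J.X q) := Module.injective_module_of_injective_object A (J.X q)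
  refine { exact := (ShortComplex.moduleCat_exact_iff _).2 ?_,
           mono_f := (ModuleCat.mono_iff_injective _).2 ?_,
           epi_g := (ModuleCat.epi_iff_surjective _).2 ?_ }
  · -- exactness in the middle
    intro (x : J.X q) (hx : mulI I (J.X q) x = 0)
    have hx' : ∀ a ∈ I, a • x = 0 := fun a ha => by
      have := congrArg (fun φ : ModuleCat.of A I ⟶ J.X q => φ.hom (⟨a, ha⟩ : I)) hx
      exact this
    let g₀ : (A ⧸ I) →ₗ[A] J.X q :=
      Submodule.liftQ I (LinearMap.toSpanSingleton A (J.X q) x) (by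
        intro a ha
        rw [LinearMap.mem_ker, LinearMap.toSpanSingleton_apply]
        exact hx' a ha)
    let g : resB I →ₗ[A] J.X q :=
      { toFun := fun b => g₀ b
        map_add' := fun b b' => g₀.map_add b b'
        map_smul' := fun a b => by
          show g₀ (algebraMap A (A ⧸ I) a * (show A ⧸ I from b)) = a • g₀ (show A ⧸ I from b)
          rw [← g₀.map_smul, Algebra.smul_def] }
    refine ⟨(show ((FinAdj.resC (Ideal.Quotient.mk I)).obj
      ((RelDual.coC (Ideal.Quotient.mk I)).obj J)).X q from g), ?_⟩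
    show g (toResB I 1) = x
    show g₀ (Submodule.Quotient.mk (1 : A)) = x
    rw [Submodule.liftQ_apply, LinearMap.toSpanSingleton_apply, one_smul]
  · -- injectivity of evaluation at `1`
    intro g₁ g₂ h
    have h' : (show resB I →ₗ[A] J.X q from g₁) (toResB I 1) =
        (show resB I →ₗ[A] J.X q from g₂) (toResB I 1) := h
    apply LinearMap.ext
    intro b
    obtain ⟨a, rfl⟩ := Ideal.Quotient.mk_surjective (I := I) b
    have hb : toResB I (Ideal.Quotient.mk I a) = a • toResB I 1 :=
      (congrArg (toResB I) (mul_one (Ideal.Quotient.mk I a))).symm.trans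
        (smul_toResB I a 1).symm
    show (show resB I →ₗ[A] J.X q from g₁) (toResB I (Ideal.Quotient.mk _ a)) =
      (show resB I →ₗ[A] J.X q from g₂) (toResB I (Ideal.Quotient.mk _ a))
    rw [hb, map_smul, map_smul, h']
  · -- surjectivity of `x ↦ (a ↦ a • x)`: Baer
    intro (φ : ModuleCat.of A I ⟶ J.X q)
    obtain ⟨h, hh⟩ := Module.Injective.extension_property A (J.X q) I A I.subtype
      Subtype.val_injective φ.hom
    refine ⟨h 1, ?_⟩
    show mulI I (J.X q) (h 1) = φ
    apply ModuleCat.hom_ext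
    apply LinearMap.ext
    intro (a : I)
    have h1 : h (a : A) = φ.hom a := LinearMap.congr_fun hh a
    show (a : A) • h 1 = φ.hom a
    rw [← h1, ← map_smul, smul_eq_mul, mul_one]

end Cx

section Single

variable {A : Type u} [CommRing A]

/-- an object with cohomology concentrated in degree `0` is its `H^0` placed in degree `0` -/
lemma nonempty_iso_inD (X : Dual.D A) (M : Type u) [AddCommGroup M] [Module A M]
    (h : ∀ i : ℤ, i ≠ 0 → Subsingleton (Dual.HD A X i)) (e : Dual.HD A X 0 ≃ₗ[A] M) :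
    Nonempty (X ≅ Dual.inD A M) := by
  haveI : X.IsGE 0 := RegGlDim.isGE_of_subsingleton X 0 (fun i hi => h i (by omega))
  haveI : X.IsLE 0 := RegGlDim.isLE_of_subsingleton X 0 (fun i hi => h i (by omega))
  obtain ⟨Y, ⟨e'⟩⟩ := DerivedCategory.exists_iso_singleFunctor_obj_of_isGE_of_isLE X 0
  let e2 : Y ≅ ModuleCat.of A M :=
    ((DerivedCategory.singleFunctorCompHomologyFunctorIso (ModuleCat.{u} A) 0).app Y).symm ≪≫
      (DerivedCategory.homologyFunctor (ModuleCat.{u} A) 0).mapIso e'.symm ≪≫
      (e.toModuleIso : (DerivedCategory.homologyFunctor (ModuleCat.{u} A) 0).obj X ≅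
        ModuleCat.of A M)
  exact ⟨e' ≪≫ (DerivedCategory.singleFunctor (ModuleCat.{u} A) 0).mapIso e2⟩

end Single

section Main

theorem main_S8945 (A : Type u) [CommRing A] [IsLocalRing A] [IsNoetherianRing A] (ω : Dual.D A)
    (hω : Dual.IsDualizing A ω) (hn : Dual.IsNormalized A ω) (I : Ideal A)
    (hIl : IsFiniteLength A I) (E : Type u) [AddCommGroup E] [Module A E]
    (e : IsLocalRing.ResidueField A →ₗ[A] E) (he : InjHull.IsInjectiveHull e)
    (R : Dual.D A ⥤ Dual.D (A ⧸ I)) (adj : DRing.restrictD (Ideal.Quotient.mk I) ⊣ R) :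
    ∃ (u : (DRing.restrictD (Ideal.Quotient.mk I)).obj (R.obj ω) ⟶ ω)
      (v : ω ⟶ Dual.inD A (I →ₗ[A] E))
      (w : Dual.inD A (I →ₗ[A] E) ⟶
        ((DRing.restrictD (Ideal.Quotient.mk I)).obj (R.obj ω))⟦(1 : ℤ)⟧),
      Triangle.mk u v w ∈ distTriang (Dual.D A) := by
  obtain ⟨d⟩ := DualFun.nonempty_data hω
  haveI := d.kinj
  have hS := sesCx_shortExact I d.I d.inj
  have hT := DerivedCategory.triangleOfSES_distinguished hS
  -- the first vertex
  let e1 : R ≅ Helper5.Shriek.RCoext (Ideal.Quotient.mk I) :=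
    adj.rightAdjointUniq (Helper5.Shriek.rAdj (Ideal.Quotient.mk I))
  let e₁ : (DRing.restrictD (Ideal.Quotient.mk I)).obj (R.obj ω) ≅
      Q.obj ((sesCx I d.I).X₁) :=
    (DRing.restrictD (Ideal.Quotient.mk I)).mapIso
      (e1.app ω ≪≫ (Helper5.Shriek.RCoext (Ideal.Quotient.mk I)).mapIso d.e.symm ≪≫
        RelDual.rcoextIso (Ideal.Quotient.mk I) d.I) ≪≫
    (ModuleCat.restrictScalars.{u} (Ideal.Quotient.mk I)).mapDerivedCategoryFactors.app _
  -- the third vertex
  obtain ⟨hvan, ⟨ε⟩⟩ := DualFL.main_S1749 A ω hω hn E e he I hIl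
  have h3 : Nonempty (Q.obj ((sesCx I d.I).X₃) ≅ Dual.inD A (I →ₗ[A] E)) := by
    apply nonempty_iso_inD
    · intro i hi
      exact @Equiv.subsingleton _ _ (DualFun.extIso d (ModuleCat.of A I) i).symm.toEquiv
        (hvan i hi)
    · exact (DualFun.extIso d (ModuleCat.of A I) 0).symm ≪≫ₗ
        Linear.homCongr A (Iso.refl _) ((shiftFunctorZero (Dual.D A) ℤ).app ω) ≪≫ₗ ε
  obtain ⟨e₃⟩ := h3
  let u := e₁.hom ≫ Q.map (sesCx I d.I).f ≫ d.e.hom
  let v := d.e.inv ≫ Q.map (sesCx I d.I).g ≫ e₃.hom
  let w := e₃.inv ≫ DerivedCategory.triangleOfSESδ hS ≫ e₁.inv⟦(1 : ℤ)⟧'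
  refine ⟨u, v, w, ?_⟩
  refine isomorphic_distinguished _ hT _ (Triangle.isoMk _ _ e₁ d.e.symm e₃.symm ?_ ?_ ?_)
  · show u ≫ d.e.inv = e₁.hom ≫ Q.map (sesCx I d.I).f
    simp only [u, Category.assoc, Iso.hom_inv_id, Category.comp_id]
  · show v ≫ e₃.inv = d.e.inv ≫ Q.map (sesCx I d.I).g
    simp only [v, Category.assoc, Iso.hom_inv_id, Category.comp_id]
  · show w ≫ e₁.hom⟦(1 : ℤ)⟧' = e₃.inv ≫ DerivedCategory.triangleOfSESδ hS
    simp only [w, Category.assoc, ← Functor.map_comp, Iso.inv_hom_id,
      CategoryTheory.Functor.map_id, Category.comp_id]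

end Main

end Groth.Agent.Helper3.TriFL
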