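import Mathlib
import Groth.Prelude.Def_Wider
import Groth.Prelude.Def_DDual2
import Groth.Agent.Lib.Helper3.FinEx2
import Groth.Agent.Lib.Helper3.FinAdj5
import Groth.Agent.Lib.Helper3.Uniq

/-!
# The triangle `RHom_A(A/f, ω) → ω → ω` for a nonzerodivisor `f`
-/

set_option autoImplicit false
universe u
open CategoryTheory CategoryTheory.Limits DerivedCategory Pretriangulated Triangulated

attribute [local instance] HasDerivedCategory.standard

namespace Groth.Agent.Helper3.TriQuot

open Groth.Agent.Helper3.FinAdj Groth.Agent.Helper3.FinEx Groth.Agent.Helper3.DualFun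
  Groth.Agent.Helper3.DualCx

section Cx

variable {A B : Type u} [CommRing A] [CommRing B] [Algebra A B]

/-- evaluation at `1`: `Hom_A(B, I^•) → I^•` as a map of complexes of `A`-modules -/
noncomputable def evOne (I : DRing.Cx A) :
    (resC (algebraMap A B)).obj (coCx (B := B) I) ⟶ I where
  f q := (ModuleCat.restrictCoextendScalarsAdj.{u, u, u} (algebraMap A B)).counit.app (I.X q)
  comm' i j _ :=
    ((ModuleCat.restrictCoextendScalarsAdj.{u, u, u} (algebraMap A B)).counit.naturality
      (I.d i j)).symm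

lemma evOne_f_apply (I : DRing.Cx A) (q : ℤ)
    (g : ((resC (algebraMap A B)).obj (coCx (B := B) I)).X q) :
    ((evOne (B := B) I).f q).hom g =
      (show (ModuleCat.restrictScalars (algebraMap A B)).obj (ModuleCat.of B B) →ₗ[A] I.X q
        from g) (1 : B) := rfl

end Cx


section SES

variable {A : Type u} [CommRing A] (f : A)

/-- the quotient ring `A/(f)` -/
abbrev Bq : Type u := A ⧸ Ideal.span ({f} : Set A)

/-- `A/(f)` as an `A`-module by restriction of scalars -/
noncomputable abbrev resB : ModuleCat.{u} A :=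
  (ModuleCat.restrictScalars (algebraMap A (Bq f))).obj (ModuleCat.of (Bq f) (Bq f))

/-- an element of `A/(f)` viewed in the restricted module -/
def toResB (b : Bq f) : resB f := b

lemma smul_toResB (a : A) (b : Bq f) :
    a • toResB f b = toResB f (algebraMap A (Bq f) a * b) := rfl

lemma evOne_apply' (I : DRing.Cx A) (q : ℤ)
    (g : ((resC (algebraMap A (Bq f))).obj (coCx (B := Bq f) I)).X q) :
    ((evOne (B := Bq f) I).f q).hom g =
      (show resB f →ₗ[A] I.X q from g) (toResB f 1) := rfl

/-- the short complex `Hom_A(A/f, I^•) → I^• → I^•` -/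
noncomputable abbrev sesCx (I : DRing.Cx A) : ShortComplex (DRing.Cx A) :=
  ShortComplex.mk (evOne (B := Bq f) I) (f • 𝟙 I) (by
    ext q : 1
    apply ModuleCat.hom_ext
    apply LinearMap.ext
    intro g
    show f • ((evOne (B := Bq f) I).f q).hom g = 0
    rw [evOne_apply', ← map_smul, smul_toResB]
    have h0 : algebraMap A (Bq f) f * (1 : Bq f) = 0 := by
      rw [mul_one]
      exact Ideal.Quotient.eq_zero_iff_mem.2 (Ideal.subset_span rfl)
    rw [h0]
    exact map_zero _)

lemma sesCx_shortExact (hf : f ∈ nonZeroDivisors A) (I : DRing.Cx A)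
    (hI : ∀ q : ℤ, Injective (I.X q)) : (sesCx f I).ShortExact := by
  apply HomologicalComplex.shortExact_of_degreewise_shortExact
  intro q
  haveI := hI q
  haveI : Module.Injective A (I.X q) := Module.injective_module_of_injective_object A (I.X q)
  refine { exact := (ShortComplex.moduleCat_exact_iff _).2 ?_,
           mono_f := (ModuleCat.mono_iff_injective _).2 ?_,
           epi_g := (ModuleCat.epi_iff_surjective _).2 ?_ }
  · -- exactness in the middle
    intro (x : I.X q) (hx : f • x = 0)
    let g₀ : (A ⧸ Ideal.span ({f} : Set A)) →ₗ[A] I.X q :=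
      Submodule.liftQ (Ideal.span ({f} : Set A)) (LinearMap.toSpanSingleton A (I.X q) x) (by
        intro a ha
        obtain ⟨c, rfl⟩ := Ideal.mem_span_singleton'.1 ha
        rw [LinearMap.mem_ker, LinearMap.toSpanSingleton_apply, mul_smul, hx, smul_zero])
    let g : resB f →ₗ[A] I.X q :=
      { toFun := fun b => g₀ b
        map_add' := fun b b' => g₀.map_add b b'
        map_smul' := fun a b => by
          show g₀ (algebraMap A (Bq f) a * (show Bq f from b)) = a • g₀ (show Bq f from b)
          rw [← g₀.map_smul, Algebra.smul_def] }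
    refine ⟨(show ((resC (algebraMap A (Bq f))).obj (coCx (B := Bq f) I)).X q from g), ?_⟩
    show g (toResB f 1) = x
    show g₀ (Submodule.Quotient.mk (1 : A)) = x
    rw [Submodule.liftQ_apply, LinearMap.toSpanSingleton_apply, one_smul]
  · -- injectivity of evaluation at `1`
    intro g₁ g₂ h
    have h' : (show resB f →ₗ[A] I.X q from g₁) (toResB f 1) =
        (show resB f →ₗ[A] I.X q from g₂) (toResB f 1) := h
    apply LinearMap.ext
    intro b
    obtain ⟨a, rfl⟩ := Ideal.Quotient.mk_surjective (I := Ideal.span ({f} : Set A)) b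
    have hb : toResB f (Ideal.Quotient.mk (Ideal.span ({f} : Set A)) a) =
        a • toResB f 1 := by
      rw [smul_toResB, mul_one]
      rfl
    show (show resB f →ₗ[A] I.X q from g₁) (toResB f (Ideal.Quotient.mk _ a)) =
      (show resB f →ₗ[A] I.X q from g₂) (toResB f (Ideal.Quotient.mk _ a))
    rw [hb, map_smul, map_smul, h']
  · -- surjectivity of multiplication by `f`
    intro (x : I.X q)
    have hinj : Function.Injective (LinearMap.lsmul A A f) := by
      intro a b hab
      have h1 : f * a = f * b := hab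
      have h2 : (a - b) * f = 0 := by rw [sub_mul, mul_comm a, mul_comm b, h1, sub_self]
      exact sub_eq_zero.1 (hf.2 _ h2)
    obtain ⟨h, hh⟩ := Module.Injective.extension_property A (I.X q) A A (LinearMap.lsmul A A f)
      hinj (LinearMap.toSpanSingleton A (I.X q) x)
    refine ⟨h 1, ?_⟩
    have h1 := LinearMap.congr_fun hh 1
    rw [LinearMap.comp_apply, LinearMap.lsmul_apply, LinearMap.toSpanSingleton_apply, one_smul]
      at h1
    show f • h 1 = x
    rw [← h1, ← map_smul]

end SES


section Main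

variable {A : Type u} [CommRing A] [IsLocalRing A] [IsNoetherianRing A] (f : A)

open Groth.Agent.Helper3.Uniq in
/-- over `A/(f)` (local), the abstract `R(ω)` is the explicit complex `Hom_A(A/f, I^•)` -/
theorem nonempty_iso_R (hf : f ∈ IsLocalRing.maximalIdeal A) {ω : Dual.D A}
    (hω : Dual.IsDualizing A ω) (d : Data A ω) {R : Dual.D A ⥤ Dual.D (Bq f)}
    (adj : DRing.restrictD (algebraMap A (Bq f)) ⊣ R) :
    Nonempty (R.obj ω ≅ Q.obj (coCx (B := Bq f) d.I)) := by
  have hne : Ideal.span ({f} : Set A) ≠ ⊤ := by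
    intro h
    have hle : Ideal.span ({f} : Set A) ≤ IsLocalRing.maximalIdeal A := by
      rw [Ideal.span_le, Set.singleton_subset_iff]; exact hf
    rw [h, top_le_iff] at hle
    exact (IsLocalRing.maximalIdeal.isMaximal A).ne_top hle
  haveI : Nontrivial (Bq f) := Ideal.Quotient.nontrivial_iff.mpr hne
  haveI : IsLocalRing (Bq f) :=
    IsLocalRing.of_surjective' (Ideal.Quotient.mk _) Ideal.Quotient.mk_surjective
  haveI : Module.Finite A (Bq f) :=
    Module.Finite.of_surjective (Algebra.linearMap A (Bq f)) Ideal.Quotient.mk_surjective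
  let n : Ideal (Bq f) := IsLocalRing.maximalIdeal (Bq f)
  haveI : (n.comap (algebraMap A (Bq f))).IsMaximal :=
    Ideal.isMaximal_comap_of_isIntegral_of_isMaximal n
  obtain ⟨dd, hvan, ⟨ε⟩⟩ := main_S0364 A ω hω (n.comap (algebraMap A (Bq f)))
  have hK := residue_K (extAdj (B := Bq f) d) n dd hvan ε
  have hR := residue_R adj ω n dd hvan ε
  have hωB : Dual.IsDualizing (Bq f) (R.obj ω) := main_S1772 A (Bq f) R adj ω hω
  have hK₀ : Dual.IsDualizing (Bq f) (Q.obj (coCx (B := Bq f) d.I)) :=
    isDualizing_K (extAdj (B := Bq f) d) hω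
  exact iso_of_residue (R.obj ω) hωB (Q.obj (coCx (B := Bq f) d.I)) dd hR.1 hR.2
    (fun K hK i => finite_hom hK₀ K hK i) hK.1 hK.2

theorem main_S8941 (A : Type u) [CommRing A] [IsLocalRing A] [IsNoetherianRing A] (ω : Dual.D A)
    (hω : Dual.IsDualizing A ω) (f : A) (hf : f ∈ IsLocalRing.maximalIdeal A)
    (hf' : f ∈ nonZeroDivisors A) (R : Dual.D A ⥤ Dual.D (A ⧸ Ideal.span {f}))
    (adj : DRing.restrictD (Ideal.Quotient.mk (Ideal.span {f})) ⊣ R) :
    ∃ (u : (DRing.restrictD (Ideal.Quotient.mk (Ideal.span {f}))).obj (R.obj ω) ⟶ ω)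
      (w : ω ⟶ ((DRing.restrictD (Ideal.Quotient.mk (Ideal.span {f}))).obj (R.obj ω))⟦(1 : ℤ)⟧),
      Triangle.mk u (f • 𝟙 ω) w ∈ distTriang (Dual.D A) := by
  obtain ⟨d⟩ := nonempty_data hω
  obtain ⟨e₀⟩ := nonempty_iso_R f hf hω d (R := R) adj
  have hS := sesCx_shortExact f hf' d.I d.inj
  have hT := DerivedCategory.triangleOfSES_distinguished hS
  -- the first vertex
  let e₁ : (DRing.restrictD (Ideal.Quotient.mk (Ideal.span {f}))).obj (R.obj ω) ≅
      Q.obj ((sesCx f d.I).X₁) :=
    (DRing.restrictD (algebraMap A (Bq f))).mapIso e₀ ≪≫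
      (resM (algebraMap A (Bq f))).mapDerivedCategoryFactors.app (coCx (B := Bq f) d.I)
  let u := e₁.hom ≫ Q.map (sesCx f d.I).f ≫ d.e.hom
  let w := d.e.inv ≫ DerivedCategory.triangleOfSESδ hS ≫ e₁.inv⟦(1 : ℤ)⟧'
  refine ⟨u, w, ?_⟩
  refine isomorphic_distinguished _ hT _ (Triangle.isoMk _ _ e₁ d.e.symm d.e.symm ?_ ?_ ?_)
  · show u ≫ d.e.inv = e₁.hom ≫ Q.map (sesCx f d.I).f
    simp only [u, Category.assoc, Iso.hom_inv_id, Category.comp_id]
  · show (f • 𝟙 ω) ≫ d.e.inv = d.e.inv ≫ Q.map (f • 𝟙 d.I)
    rw [Functor.map_smul, CategoryTheory.Functor.map_id, Linear.smul_comp, Linear.comp_smul,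
      Category.id_comp, Category.comp_id]
  · show w ≫ e₁.hom⟦(1 : ℤ)⟧' = d.e.inv ≫ DerivedCategory.triangleOfSESδ hS
    simp only [w, Category.assoc, ← Functor.map_comp, Iso.inv_hom_id,
      CategoryTheory.Functor.map_id, Category.comp_id]

end Main

end Groth.Agent.Helper3.TriQuot
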