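import Mathlib.CategoryTheory.Triangulated.Subcategory
import Mathlib.CategoryTheory.Localization.Triangulated

/-! Small helper lemmas on (pre)triangulated categories. -/

namespace Groth.Agent.Helper3

open CategoryTheory Limits Pretriangulated

universe u v

section
variable {E : Type*} [Category E]

/-- A retract of a zero object is a zero object (no zero morphisms needed). -/
theorem isZero_of_retract {A B : E} (i : A ⟶ B) (r : B ⟶ A) (h : i ≫ r = 𝟙 A)
    (hB : IsZero B) : IsZero A := by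
  refine ⟨fun W => ⟨⟨⟨i ≫ hB.to_ W⟩, fun f => ?_⟩⟩, fun W => ⟨⟨⟨hB.from_ W ≫ r⟩, fun f => ?_⟩⟩⟩
  · rw [← Category.id_comp f, ← h, Category.assoc]
    congr 1
    exact hB.eq_of_src _ _
  · rw [← Category.comp_id f, ← h, ← Category.assoc]
    congr 1
    exact hB.eq_of_tgt _ _

end

section
variable {C D : Type*} [Category C] [Category D] [HasZeroMorphisms C] [HasZeroMorphisms D]
  {F : C ⥤ D} {G : D ⥤ C} (adj : F ⊣ G)

include adj in
theorem adj_hom_eq_zero [G.PreservesZeroMorphisms] {A : C} {Z : D}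
    (h : ∀ w : F.obj A ⟶ Z, w = 0) (v : A ⟶ G.obj Z) : v = 0 := by
  have h1 : v = adj.homEquiv A Z ((adj.homEquiv A Z).symm v) := by simp
  rw [h1, h ((adj.homEquiv A Z).symm v), Adjunction.homEquiv_apply, G.map_zero, comp_zero]

include adj in
theorem adj_hom_eq_zero' [F.PreservesZeroMorphisms] {A : C} {Z : D}
    (h : ∀ w : A ⟶ G.obj Z, w = 0) (v : F.obj A ⟶ Z) : v = 0 := by
  have h1 : v = (adj.homEquiv A Z).symm (adj.homEquiv A Z v) := by simp
  rw [h1, h (adj.homEquiv A Z v), Adjunction.homEquiv_symm_apply, F.map_zero, zero_comp]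

include adj in
theorem adj_hom_eq_zero_of_comp [G.PreservesZeroMorphisms] {A : C} {X Y : D} (f : X ⟶ Y)
    (hinj : ∀ u : F.obj A ⟶ X, u ≫ f = 0 → u = 0)
    (t : A ⟶ G.obj X) (ht : t ≫ G.map f = 0) : t = 0 := by
  have h1 : t = adj.homEquiv A X ((adj.homEquiv A X).symm t) := by simp
  have h2 : (adj.homEquiv A X).symm t ≫ f = 0 := by
    apply (adj.homEquiv A Y).injective
    rw [Adjunction.homEquiv_naturality_right, ← h1, ht, Adjunction.homEquiv_apply, G.map_zero,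
      comp_zero]
  rw [h1, hinj _ h2, Adjunction.homEquiv_apply, G.map_zero, comp_zero]
end

variable {C : Type u} [Category.{v} C] [Preadditive C] [HasZeroObject C] [HasShift C ℤ]
  [∀ n : ℤ, (shiftFunctor C n).Additive] [Pretriangulated C]

omit [HasZeroObject C] [Pretriangulated C] in
/-- If `Hom(A⟦1⟧, Z) = 0` then `Hom(A, Z⟦-1⟧) = 0`. -/
theorem hom_shift_neg_eq_zero {A Z : C}
    (h : ∀ w : (shiftFunctor C (1 : ℤ)).obj A ⟶ Z, w = 0)
    (v : A ⟶ (shiftFunctor C (-1 : ℤ)).obj Z) : v = 0 :=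
  adj_hom_eq_zero (show shiftFunctor C (1 : ℤ) ⊣ shiftFunctor C (-1 : ℤ) from
    (shiftEquiv C (1 : ℤ)).toAdjunction) h v

omit [HasZeroObject C] [Pretriangulated C] in
/-- If `Hom(A, Z⟦-1⟧) = 0` then `Hom(A⟦1⟧, Z) = 0`. -/
theorem hom_shift_one_eq_zero' {A Z : C}
    (h : ∀ w : A ⟶ (shiftFunctor C (-1 : ℤ)).obj Z, w = 0)
    (v : (shiftFunctor C (1 : ℤ)).obj A ⟶ Z) : v = 0 :=
  adj_hom_eq_zero' (show shiftFunctor C (1 : ℤ) ⊣ shiftFunctor C (-1 : ℤ) from
    (shiftEquiv C (1 : ℤ)).toAdjunction) h v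

omit [HasZeroObject C] [Pretriangulated C] in
theorem hom_shift_one_eq_zero {A X Y : C} (f : X ⟶ Y)
    (hinj : ∀ u : (shiftFunctor C (-1 : ℤ)).obj A ⟶ X, u ≫ f = 0 → u = 0)
    (t : A ⟶ (shiftFunctor C (1 : ℤ)).obj X) (ht : t ≫ (shiftFunctor C (1 : ℤ)).map f = 0) :
    t = 0 :=
  adj_hom_eq_zero_of_comp (show shiftFunctor C (-1 : ℤ) ⊣ shiftFunctor C (1 : ℤ) from
    (shiftEquiv C (1 : ℤ)).symm.toAdjunction) f hinj t ht

/-- The triangle `X --0--> Y --inl--> Y ⊞ X⟦1⟧ --snd--> X⟦1⟧` is distinguished. -/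
theorem zero_inl_snd_distinguished (X Y : C) :
    Triangle.mk (0 : X ⟶ Y) (biprod.inl : Y ⟶ Y ⊞ (shiftFunctor C (1 : ℤ)).obj X) biprod.snd
      ∈ distTriang C := by
  rw [rotate_distinguished_triangle]
  have := binaryBiproductTriangle_distinguished Y ((shiftFunctor C (1 : ℤ)).obj X)
  refine isomorphic_distinguished _ this _ (Triangle.isoMk _ _ (Iso.refl _) (Iso.refl _)
    (Iso.refl _) ?_ ?_ ?_)
  · exact (Category.comp_id _).trans (Category.id_comp _).symm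
  · exact (Category.comp_id _).trans (Category.id_comp _).symm
  · change (-(shiftFunctor C (1 : ℤ)).map (0 : X ⟶ Y)) ≫ (shiftFunctor C (1 : ℤ)).map (𝟙 Y) =
      𝟙 _ ≫ 0
    rw [Functor.map_zero, neg_zero, zero_comp, comp_zero]

/-- The cone of a zero morphism `0 : X ⟶ Y` is `Y ⊞ X⟦1⟧`. -/
theorem nonempty_iso_biprod_of_distinguished_zero {X Y Z : C} (g : Y ⟶ Z)
    (h : Z ⟶ (shiftFunctor C (1 : ℤ)).obj X)
    (hT : Triangle.mk (0 : X ⟶ Y) g h ∈ distTriang C) :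
    Nonempty (Y ⊞ (shiftFunctor C (1 : ℤ)).obj X ≅ Z) := by
  obtain ⟨e, -, -⟩ := exists_iso_of_arrow_iso _ _ (zero_inl_snd_distinguished X Y) hT
    (Iso.refl _)
  exact ⟨Triangle.π₃.mapIso e⟩

end Groth.Agent.Helper3
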