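import Mathlib
import Groth.Agent.Lib.Helper3.CoskHtpy

/-! Trivial Kan fibrations: homotopy lifting from `Z ⊗ ∂Δ[1]`. -/

open CategoryTheory Simplicial MonoidalCategory CartesianMonoidalCategory Opposite

namespace Groth.Agent.Helper3.TrivKanHtpy

universe u

open SSet Groth.Agent.Helper3.CoskLift

/-- The subcomplex `Z × ∂Δ[1]` of `Z × Δ[1]`. -/
abbrev bdry (Z : SSet.{u}) : (Z ⊗ Δ[1]).Subcomplex := (⊤ : Z.Subcomplex).prod (boundary 1)

/-- a non-surjective simplex of `Δ[1]` is constant -/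
lemma const_of_mem_boundary {m : SimplexCategoryᵒᵖ} (s : (Δ[1] : SSet.{u}).obj m)
    (hs : s ∈ (boundary.{u} 1).obj m) (i j : Fin (m.unop.len + 1)) :
    stdSimplex.asOrderHom s i = stdSimplex.asOrderHom s j := by
  by_contra hne
  apply hs
  intro y
  have h2 : ∀ a b : Fin 2, a ≠ b → ∀ y : Fin 2, y = a ∨ y = b := by decide
  rcases h2 _ _ hne y with h | h
  · exact ⟨i, h.symm⟩
  · exact ⟨j, h.symm⟩

lemma isZeroSimplex_map_iff {m m' : SimplexCategoryᵒᵖ} (θ : m ⟶ m') (s : (Δ[1] : SSet.{u}).obj m)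
    (hs : s ∈ (boundary.{u} 1).obj m) :
    IsZeroSimplex ((Δ[1] : SSet.{u}).map θ s) ↔ IsZeroSimplex s := by
  constructor
  · intro h p
    have := h 0
    rw [const_of_mem_boundary s hs p (θ.unop.toOrderHom 0)]
    exact this
  · exact isZeroSimplex_map θ s

open Classical in
/-- The map `Z × ∂Δ[1] ⟶ X` which is `a` on `Z × {0}` and `b` on `Z × {1}`. -/
noncomputable def glue {Z X : SSet.{u}} (a b : Z ⟶ X) : ((bdry Z : (Z ⊗ Δ[1]).Subcomplex) : SSet.{u}) ⟶ X where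
  app m := ↾(fun zs : (bdry Z).obj m =>
    if IsZeroSimplex (zs.1 : (Z ⊗ Δ[1]).obj m).2 then a.app m (zs.1 : (Z ⊗ Δ[1]).obj m).1
    else b.app m (zs.1 : (Z ⊗ Δ[1]).obj m).1)
  naturality m m' θ := by
    ext ⟨⟨z, s⟩, hzs⟩
    have hs : s ∈ (boundary.{u} 1).obj m := hzs.2
    show (if IsZeroSimplex ((Δ[1] : SSet.{u}).map θ s) then a.app m' (Z.map θ z)
        else b.app m' (Z.map θ z)) =
      X.map θ (if IsZeroSimplex s then a.app m z else b.app m z)
    have na := congrArg (fun q => q z) (a.naturality θ)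
    have nb := congrArg (fun q => q z) (b.naturality θ)
    simp only [types_comp_apply] at na nb
    by_cases h : IsZeroSimplex s
    · rw [if_pos h, if_pos ((isZeroSimplex_map_iff θ s hs).mpr h)]
      exact na
    · rw [if_neg h, if_neg (fun h' => h ((isZeroSimplex_map_iff θ s hs).mp h'))]
      exact nb

open Classical in
/-- Two maps into the source of a trivial Kan fibration with the same image are homotopic. -/
theorem nonempty_homotopy {Z X Y : SSet.{u}} (f : X ⟶ Y) (hf : SSet.modelCategoryQuillen.I.rlp f)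
    (a b : Z ⟶ X) (hab : a ≫ f = b ≫ f) : Nonempty (SSet.Homotopy a b) := by
  rw [← SSet.rlp_monomorphisms] at hf
  have hmono : MorphismProperty.monomorphisms SSet.{u} (bdry Z).ι :=
    MorphismProperty.monomorphisms.infer_property _
  have hl : HasLiftingProperty (bdry Z).ι f := hf _ hmono
  have w : glue a b ≫ f = (bdry Z).ι ≫ (fst Z Δ[1] ≫ a ≫ f) := by
    ext m ⟨⟨z, s⟩, hzs⟩
    show f.app m (if IsZeroSimplex s then a.app m z else b.app m z) = f.app m (a.app m z)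
    by_cases h : IsZeroSimplex s
    · rw [if_pos h]
    · rw [if_neg h]
      have := congrArg (fun q => q.app m z) hab
      exact this.symm
  let H : Z ⊗ Δ[1] ⟶ X := (CommSq.mk w).lift
  have hH : (bdry Z).ι ≫ H = glue a b := (CommSq.mk w).fac_left
  have r0 : Subcomplex.range (ι₀ : Z ⟶ Z ⊗ Δ[1]) ≤ bdry Z := by
    rintro m _ ⟨z, rfl⟩
    refine ⟨trivial, ?_⟩
    intro hsurj
    obtain ⟨p, hp⟩ := hsurj 1
    have : stdSimplex.asOrderHom ((ι₀.app m z : (Z ⊗ Δ[1]).obj m).2) p = 0 :=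
      isZeroSimplex_ι₀ z p
    rw [this] at hp
    exact zero_ne_one hp
  have r1 : Subcomplex.range (ι₁ : Z ⟶ Z ⊗ Δ[1]) ≤ bdry Z := by
    rintro m _ ⟨z, rfl⟩
    refine ⟨trivial, ?_⟩
    intro hsurj
    obtain ⟨p, hp⟩ := hsurj 0
    have : stdSimplex.asOrderHom ((ι₁.app m z : (Z ⊗ Δ[1]).obj m).2) p = 1 := rfl
    rw [this] at hp
    exact one_ne_zero hp
  have h0 : ι₀ ≫ H = a := by
    have e : (ι₀ : Z ⟶ Z ⊗ Δ[1]) = Subcomplex.lift ι₀ r0 ≫ (bdry Z).ι := rfl
    rw [e, Category.assoc, hH]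
    ext m z
    show (if IsZeroSimplex ((ι₀.app m z : (Z ⊗ Δ[1]).obj m).2) then a.app m z else b.app m z) =
      a.app m z
    exact if_pos (isZeroSimplex_ι₀ z)
  have h1 : ι₁ ≫ H = b := by
    have e : (ι₁ : Z ⟶ Z ⊗ Δ[1]) = Subcomplex.lift ι₁ r1 ≫ (bdry Z).ι := rfl
    rw [e, Category.assoc, hH]
    ext m z
    show (if IsZeroSimplex ((ι₁.app m z : (Z ⊗ Δ[1]).obj m).2) then a.app m z else b.app m z) =
      b.app m z
    exact if_neg (not_isZeroSimplex_ι₁ z)
  refine ⟨{ h := H, h₀ := h0, h₁ := h1, rel := ?_ }⟩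
  ext k ⟨⟨x, hx⟩, _⟩
  exact hx.elim

/-- A trivial Kan fibration has a section. -/
theorem exists_section {X Y : SSet.{u}} (f : X ⟶ Y) (hf : SSet.modelCategoryQuillen.I.rlp f) :
    ∃ g : Y ⟶ X, g ≫ f = 𝟙 Y := by
  rw [← SSet.rlp_monomorphisms] at hf
  have hmono : MorphismProperty.monomorphisms SSet.{u} (⊥ : Y.Subcomplex).ι :=
    MorphismProperty.monomorphisms.infer_property _
  have hl : HasLiftingProperty (⊥ : Y.Subcomplex).ι f := hf _ hmono
  have w : (Subcomplex.isInitialBot.to X : ((⊥ : Y.Subcomplex) : SSet.{u}) ⟶ X) ≫ f =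
      (⊥ : Y.Subcomplex).ι ≫ 𝟙 Y := Subcomplex.isInitialBot.hom_ext _ _
  exact ⟨(CommSq.mk w).lift, (CommSq.mk w).fac_right⟩

end Groth.Agent.Helper3.TrivKanHtpy
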