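import Mathlib
import Groth.Prelude.Def_DRing2
import Groth.Prelude.Def_DDual2
import Groth.Agent.Lib.Helper5.KProj.LBC
import Groth.Agent.Lib.Helper5.DRing.TruncTri
import Groth.Agent.Lib.Helper5.TorAmp.FlatAcyc
import Groth.Agent.Lib.Helper2.LeftInv
import Groth.Agent.Lib.Helper3.BCDer

/-!
# Splitting off a truncation after localizing (helper3)

If `K` is pseudo-coherent over `R` and `H^i(K ⊗^L κ(p)) = 0`, then after inverting some `f ∉ p`
we have `K_f ≅ τ_{≥ i+1} K_f ⊕ τ_{≤ i-1} K_f` with `τ_{≥ i+1} K_f` perfect.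
-/

set_option autoImplicit false
universe u
open CategoryTheory CategoryTheory.Limits Pretriangulated Triangulated DerivedCategory TensorProduct

attribute [local instance] HasDerivedCategory.standard

namespace Groth.Agent.Helper3.TruncSplit

/-! ### Abstract biproduct bookkeeping -/

section Biprod

variable {C : Type*} [Category C] [Preadditive C]

theorem split_aux {X L L' G : C} (ι : L ⟶ X) (ι' : L' ⟶ X) (π : X ⟶ G)
    (c : L ⟶ L') [IsIso c] (hc : c ≫ ι' = ι) [HasBinaryBiproduct L' G] (e' : X ≅ L' ⊞ G)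
    (he1 : ι' ≫ e'.hom = biprod.inl) (he2 : π = e'.hom ≫ biprod.snd) [HasBinaryBiproduct G L] :
    ∃ e : X ≅ G ⊞ L, e.hom ≫ biprod.fst = π ∧ ι ≫ e.hom = biprod.inr := by
  have hA : e'.inv ≫ π = biprod.snd := by rw [he2, Iso.inv_hom_id_assoc]
  refine ⟨⟨biprod.lift π (e'.hom ≫ biprod.fst ≫ inv c),
    biprod.desc (biprod.inr ≫ e'.inv) (c ≫ biprod.inl ≫ e'.inv), ?_, ?_⟩, ?_, ?_⟩
  · have h1 : 𝟙 X = e'.hom ≫ (biprod.fst ≫ biprod.inl + biprod.snd ≫ biprod.inr) ≫ e'.inv := by
      rw [biprod.total, Category.id_comp, e'.hom_inv_id]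
    rw [h1, biprod.lift_desc, he2]
    simp only [Category.assoc, Preadditive.comp_add, Preadditive.add_comp,
      IsIso.inv_hom_id_assoc]
    rw [add_comm]
  · apply biprod.hom_ext' <;> apply biprod.hom_ext <;> simp [hA]
  · exact biprod.lift_fst _ _
  · apply biprod.hom_ext
    · rw [Category.assoc, biprod.lift_fst, biprod.inr_fst, ← hc, Category.assoc, he2,
        reassoc_of% he1, biprod.inl_snd, comp_zero]
    · rw [Category.assoc, biprod.lift_snd, biprod.inr_snd, ← hc, Category.assoc,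
        reassoc_of% he1, biprod.inl_fst_assoc, IsIso.hom_inv_id]

end Biprod

/-! ### t-structure lemmas -/

section TStr

variable {C : Type*} [Category C] [Preadditive C] [HasZeroObject C] [HasShift C ℤ]
  [∀ n : ℤ, (shiftFunctor C n).Additive] [Pretriangulated C] (t : TStructure C)

/-- `τ<i X → τ<(i+1) X` is an isomorphism when `τ<(i+1) X` is `≤ i-1` -/
theorem isIso_natTransTruncLT (X : C) (i : ℤ)
    (h : t.IsLE ((t.truncLT (i + 1)).obj X) (i - 1)) :
    IsIso ((t.natTransTruncLTOfLE i (i + 1) (by lia)).app X) := by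
  let d : (t.truncLT (i + 1)).obj X ⟶ (t.truncLT i).obj X :=
    t.liftTruncLT ((t.truncLTι (i + 1)).app X) (i - 1) i (by lia)
  have hd : d ≫ (t.truncLTι i).app X = (t.truncLTι (i + 1)).app X := t.liftTruncLT_ι _ _ _ _
  refine ⟨⟨d, ?_, ?_⟩⟩
  · apply t.to_truncLT_obj_ext
    rw [Category.assoc, hd, t.natTransTruncLTOfLE_ι_app, Category.id_comp]
  · apply t.to_truncLT_obj_ext
    rw [Category.assoc, t.natTransTruncLTOfLE_ι_app, hd, Category.id_comp]

/-- a section of `X → τ≥(i+1) X` splits `X`, provided `τ<i X ≅ τ<(i+1) X` -/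
theorem split_of_section (X : C) (i : ℤ)
    (σ : (t.truncGE (i + 1)).obj X ⟶ X) (hσ : σ ≫ (t.truncGEπ (i + 1)).app X = 𝟙 _)
    (hc : IsIso ((t.natTransTruncLTOfLE i (i + 1) (by lia)).app X))
    [HasBinaryBiproduct ((t.truncGE (i + 1)).obj X) ((t.truncLT i).obj X)] :
    ∃ e : X ≅ (t.truncGE (i + 1)).obj X ⊞ (t.truncLT i).obj X,
      e.hom ≫ biprod.fst = (t.truncGEπ (i + 1)).app X ∧
      (t.truncLTι i).app X ≫ e.hom = biprod.inr := by
  have hδ : (t.truncGEδLT (i + 1)).app X = 0 := by
    have h1 := t.truncGEπ_comp_truncGEδLT_app (i + 1) X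
    calc (t.truncGEδLT (i + 1)).app X
        = (σ ≫ (t.truncGEπ (i + 1)).app X) ≫ (t.truncGEδLT (i + 1)).app X := by
          rw [hσ, Category.id_comp]
      _ = 0 := by rw [Category.assoc, h1, comp_zero]
  have key : ∃ e' : X ≅ (t.truncLT (i + 1)).obj X ⊞ (t.truncGE (i + 1)).obj X,
      (t.truncLTι (i + 1)).app X ≫ e'.hom = biprod.inl ∧
      (t.truncGEπ (i + 1)).app X = e'.hom ≫ biprod.snd :=
    exists_iso_binaryBiproduct_of_distTriang _ (t.triangleLTGE_distinguished (i + 1) X) hδ
  obtain ⟨e', he1, he2⟩ := key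
  haveI := hc
  exact split_aux ((t.truncLTι i).app X) ((t.truncLTι (i + 1)).app X)
    ((t.truncGEπ (i + 1)).app X) _
    (t.natTransTruncLTOfLE_ι_app i (i + 1) _ X) e' he1 he2

end TStr

/-! ### In the derived category -/

section Der

variable {T : Type u} [CommRing T]

theorem isLE_truncLT_of_isZero (X : Dual.D T) (i : ℤ)
    (h : IsZero ((homologyFunctor (ModuleCat.{u} T) i).obj X)) :
    (TStructure.t : TStructure (Dual.D T)).IsLE ((TStructure.t.truncLT (i + 1)).obj X) (i - 1) := by
  show ((TStructure.t.truncLT (i + 1)).obj X).IsLE (i - 1)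
  rw [DerivedCategory.isLE_iff]
  intro k hk
  by_cases hki : k = i
  · subst hki
    have hT := (TStructure.t : TStructure (Dual.D T)).triangleLTGE_distinguished (k + 1) X
    have ex := HomologySequence.exact₁ _ hT (k - 1) k (by lia)
    refine ex.isZero_of_both_isZero ?_ ?_
    · exact isZero_of_isGE ((TStructure.t.truncGE (k + 1)).obj X) (k + 1) (k - 1) (by lia)
    · exact h
  · exact isZero_of_isLE ((TStructure.t.truncLT (i + 1)).obj X) i k (by lia)

end Der

/-! ### Chain level: an idempotent endomorphism and a section of `E → τ≥(i+1) E` -/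

section Chain

variable {A : Type*} [Category A] [Abelian A]

/-- the data allowing to split off the canonical truncation `τ≥(i+1)` at chain level -/
structure SplitData (E : CochainComplex A ℤ) (i : ℤ) where
  pr : E.X (i + 1) ⟶ E.X (i + 1)
  g : E.X (i + 1) ⟶ E.X i
  idem : pr ≫ pr = pr
  d_pr : E.d i (i + 1) ≫ pr = 0
  pr_d : pr ≫ E.d (i + 1) (i + 1 + 1) = E.d (i + 1) (i + 1 + 1)
  one_sub : 𝟙 _ - pr = g ≫ E.d i (i + 1)

theorem splitData_of (E : CochainComplex A ℤ) (i : ℤ) {Cq : A}
    (Qm : E.X i ⟶ Cq) (m : Cq ⟶ E.X (i + 1)) (lam : E.X (i + 1) ⟶ Cq) (hepi : Epi Qm)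
    (hproj : Projective (E.X (i + 1)))
    (hQm : Qm ≫ m = E.d i (i + 1)) (hml : m ≫ lam = 𝟙 _) : Nonempty (SplitData E i) := by
  haveI := hepi
  haveI := hproj
  have hg : Projective.factorThru lam Qm ≫ Qm = lam := Projective.factorThru_comp _ _
  have hmd : m ≫ E.d (i + 1) (i + 1 + 1) = 0 := by
    rw [← cancel_epi Qm, ← Category.assoc, hQm, E.d_comp_d, comp_zero]
  have h : (lam ≫ m) ≫ (lam ≫ m) = lam ≫ m := by rw [Category.assoc, reassoc_of% hml]
  refine ⟨{ pr := 𝟙 _ - lam ≫ m, g := Projective.factorThru lam Qm, idem := ?_, d_pr := ?_,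
            pr_d := ?_, one_sub := ?_ }⟩
  · simp only [Preadditive.sub_comp, Preadditive.comp_sub, Category.id_comp, Category.comp_id, h,
      sub_self, sub_zero]
  · rw [Preadditive.comp_sub, Category.comp_id, ← hQm, Category.assoc, reassoc_of% hml, sub_self]
  · rw [Preadditive.sub_comp, Category.id_comp, Category.assoc, hmd, comp_zero, sub_zero]
  · rw [sub_sub_cancel, ← hQm, ← Category.assoc, hg]

namespace SplitData

variable {E : CochainComplex A ℤ} {i : ℤ} (D : SplitData E i)

/-- the components of the idempotent -/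
noncomputable def epsF (k : ℤ) : E.X k ⟶ E.X k :=
  if hk : k = i + 1 then (E.XIsoOfEq hk).hom ≫ D.pr ≫ (E.XIsoOfEq hk).inv
  else if k ≤ i then 0 else 𝟙 _

lemma epsF_mid : D.epsF (i + 1) = D.pr := by
  simp [epsF]

lemma epsF_le (k : ℤ) (hk : k ≤ i) : D.epsF k = 0 := by
  simp only [epsF, dif_neg (show ¬ k = i + 1 by lia), if_pos hk]

lemma epsF_gt (k : ℤ) (hk : i + 1 < k) : D.epsF k = 𝟙 _ := by
  simp only [epsF, dif_neg (show ¬ k = i + 1 by lia), if_neg (show ¬ k ≤ i by lia)]

lemma epsF_comm (k : ℤ) : D.epsF k ≫ E.d k (k + 1) = E.d k (k + 1) ≫ D.epsF (k + 1) := by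
  rcases lt_trichotomy k i with h | h | h
  · rw [D.epsF_le k (by lia), D.epsF_le (k + 1) (by lia), zero_comp, comp_zero]
  · subst h
    rw [D.epsF_le k le_rfl, D.epsF_mid, D.d_pr, zero_comp]
  · rcases eq_or_lt_of_le (show i + 1 ≤ k by lia) with h' | h'
    · subst h'
      rw [D.epsF_mid, D.pr_d, D.epsF_gt (i + 1 + 1) (by lia), Category.comp_id]
    · rw [D.epsF_gt k h', D.epsF_gt (k + 1) (by lia), Category.id_comp, Category.comp_id]

/-- the idempotent endomorphism of `E` projecting onto `τ≥(i+1)` -/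
noncomputable def eps : E ⟶ E where
  f := D.epsF
  comm' a b hab := by
    obtain rfl : a + 1 = b := hab
    exact D.epsF_comm a

lemma eps_idem : D.eps ≫ D.eps = D.eps := by
  ext k
  show D.epsF k ≫ D.epsF k = D.epsF k
  rcases lt_trichotomy k (i + 1) with h | h | h
  · rw [D.epsF_le k (by lia), comp_zero]
  · subst h; rw [D.epsF_mid, D.idem]
  · rw [D.epsF_gt k h, Category.comp_id]

lemma eps_comp_π : D.eps ≫ E.πTruncGE (i + 1) = E.πTruncGE (i + 1) := by
  ext k
  show D.epsF k ≫ (E.πTruncGE (i + 1)).f k = (E.πTruncGE (i + 1)).f k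
  rcases lt_trichotomy k (i + 1) with h | h | h
  · exact ((E.truncGE (i + 1)).isZero_of_isStrictlyGE (i + 1) k h).eq_of_tgt _ _
  · subst h
    rw [D.epsF_mid]
    have h1 : (𝟙 _ - D.pr) ≫ (E.πTruncGE (i + 1)).f (i + 1) = 0 := by
      have h0 : (E.πTruncGE (i + 1)).f i = 0 :=
        ((E.truncGE (i + 1)).isZero_of_isStrictlyGE (i + 1) i (by lia)).eq_of_tgt _ _
      rw [D.one_sub, Category.assoc, ← (E.πTruncGE (i + 1)).comm i (i + 1), h0, zero_comp,
        comp_zero]
    rw [Preadditive.sub_comp, Category.id_comp, sub_eq_zero] at h1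
    exact h1.symm
  · rw [D.epsF_gt k h, Category.id_comp]

include D in
theorem exists_section : ∃ s : E.truncGE (i + 1) ⟶ E, s ≫ E.πTruncGE (i + 1) = 𝟙 _ := by
  haveI : Epi (E.πTruncGE (i + 1)) := by dsimp [CochainComplex.πTruncGE]; infer_instance
  obtain ⟨B, j, r, hjr, hrj⟩ := IsIdempotentComplete.idempotents_split E D.eps D.eps_idem
  have hj : j ≫ D.eps = j := by rw [← hrj, ← Category.assoc, hjr, Category.id_comp]
  haveI : B.IsStrictlyGE (i + 1) := by
    rw [CochainComplex.isStrictlyGE_iff]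
    intro k hk
    rw [IsZero.iff_id_eq_zero]
    have h1 : j.f k = 0 := by
      have h0 : j.f k ≫ D.epsF k = j.f k := congrArg (fun φ => φ.f k) hj
      rw [← h0, D.epsF_le k (by lia), comp_zero]
    have h2 : j.f k ≫ r.f k = 𝟙 (B.X k) := congrArg (fun φ => φ.f k) hjr
    rw [← h2, h1, zero_comp]
  refine ⟨CochainComplex.truncGEMap r (i + 1) ≫ inv (B.πTruncGE (i + 1)) ≫ j, ?_⟩
  rw [← cancel_epi (E.πTruncGE (i + 1))]
  rw [Category.assoc, Category.assoc, CochainComplex.πTruncGE_naturality_assoc,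
    IsIso.hom_inv_id_assoc, ← Category.assoc, hrj, D.eps_comp_π, Category.comp_id]

end SplitData

end Chain

/-! ### Terms of the truncation as retracts -/

section Terms

variable {T : Type u} [CommRing T] (E : CochainComplex (ModuleCat.{u} T) ℤ) (n : ℤ)
  (s : E.truncGE n ⟶ E) (hs : s ≫ E.πTruncGE n = 𝟙 _)

include hs in
theorem finite_projective_truncGE (k : ℤ) [Module.Finite T (E.X k)]
    [Module.Projective T (E.X k)] :
    Module.Finite T ((E.truncGE n).X k) ∧ Module.Projective T ((E.truncGE n).X k) := by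
  have h1 : s.f k ≫ (E.πTruncGE n).f k = 𝟙 _ := congrArg (fun φ => φ.f k) hs
  have h2 : ((E.πTruncGE n).f k).hom ∘ₗ (s.f k).hom = LinearMap.id := by
    rw [← ModuleCat.hom_comp, h1, ModuleCat.hom_id]
  constructor
  · apply Module.Finite.of_surjective ((E.πTruncGE n).f k).hom
    intro x
    exact ⟨(s.f k).hom x, LinearMap.congr_fun h2 x⟩
  · exact Module.Projective.of_split (s.f k).hom ((E.πTruncGE n).f k).hom h2

include hs in
theorem isZero_truncGE_of_isZero (k : ℤ) (hz : IsZero (E.X k)) :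
    IsZero ((E.truncGE n).X k) := by
  rw [IsZero.iff_id_eq_zero]
  have h1 : s.f k ≫ (E.πTruncGE n).f k = 𝟙 _ := congrArg (fun φ => φ.f k) hs
  rw [← h1, hz.eq_of_tgt (s.f k) 0, zero_comp]

end Terms

/-! ### The derived statement -/

section DerivedMain

variable {T : Type u} [CommRing T]

theorem derived_main (E : DRing.Cx T) (i b : ℤ)
    (s : E.truncGE (i + 1) ⟶ E) (hs : s ≫ E.πTruncGE (i + 1) = 𝟙 _) (hex : E.ExactAt i)
    (hfp : ∀ k, Module.Finite T (E.X k) ∧ Module.Projective T (E.X k))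
    (hb : ∀ k, b < k → IsZero (E.X k))
    (Kf : Dual.D T) (θ : Kf ≅ DRing.toD E) :
    DRing.IsPerfect T ((TStructure.t.truncGE (i + 1)).obj Kf) ∧
    (∃ b : ℤ, DRing.HasTorAmplitudeIn T (i + 1) b ((TStructure.t.truncGE (i + 1)).obj Kf)) ∧
    ∀ [HasBinaryBiproduct ((TStructure.t.truncGE (i + 1)).obj Kf)
        ((TStructure.t.truncLT i).obj Kf)],
      ∃ e : Kf ≅ (TStructure.t.truncGE (i + 1)).obj Kf ⊞ (TStructure.t.truncLT i).obj Kf,
        e.hom ≫ biprod.fst = (TStructure.t.truncGEπ (i + 1)).app Kf ∧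
        (TStructure.t.truncLTι i).app Kf ≫ e.hom = biprod.inr := by
  obtain ⟨e₁, e₃, h₁, h₃⟩ := Groth.Agent.Helper5.TruncTri.exists_truncIso E i (i + 1) rfl
  have eB : DRing.toD (E.truncGE (i + 1)) ≅ (TStructure.t.truncGE (i + 1)).obj Kf :=
    e₃.symm ≪≫ (TStructure.t.truncGE (i + 1)).mapIso θ.symm
  have hvan : DRing.VanishesOutside (E.truncGE (i + 1)) (i + 1) b := by
    rintro k (hk | hk)
    · exact (E.truncGE (i + 1)).isZero_of_isStrictlyGE (i + 1) k hk
    · exact isZero_truncGE_of_isZero E (i + 1) s hs k (hb k hk)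
  have hterm : ∀ k, Module.Finite T ((E.truncGE (i + 1)).X k) ∧
      Module.Projective T ((E.truncGE (i + 1)).X k) := fun k => by
    haveI := (hfp k).1
    haveI := (hfp k).2
    exact finite_projective_truncGE E (i + 1) s hs k
  refine ⟨⟨E.truncGE (i + 1), i + 1, b, hvan, hterm, ⟨eB⟩⟩,
    ⟨b, E.truncGE (i + 1), hvan, fun k => ?_, ⟨eB⟩⟩, ?_⟩
  · haveI := (hterm k).2
    infer_instance
  · intro inst
    have hσX : e₃.hom ≫ Q.map s ≫ (TStructure.t.truncGEπ (i + 1)).app (DRing.toD E) = 𝟙 _ := by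
      have h4 : (TStructure.t.truncGEπ (i + 1)).app (DRing.toD E) =
          Q.map (E.πTruncGE (i + 1)) ≫ e₃.inv := by
        rw [← h₃, Category.assoc, e₃.hom_inv_id, Category.comp_id]
      rw [h4, ← Q.map_comp_assoc, hs, Q.map_id, Category.id_comp, e₃.hom_inv_id]
    have hσ : ((TStructure.t.truncGE (i + 1)).map θ.hom ≫ (e₃.hom ≫ Q.map s) ≫ θ.inv) ≫
        (TStructure.t.truncGEπ (i + 1)).app Kf = 𝟙 _ := by
      have nat := (TStructure.t : TStructure (Dual.D T)).truncGEπ_naturality (i + 1) θ.inv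
      simp only [Category.assoc]
      rw [← nat, reassoc_of% hσX, ← CategoryTheory.Functor.map_comp,
        θ.hom_inv_id, CategoryTheory.Functor.map_id]
    have hH : IsZero ((homologyFunctor (ModuleCat.{u} T) i).obj Kf) := by
      have h5 : IsZero (E.homology i) := hex.isZero_homology
      exact (h5.of_iso ((homologyFunctorFactors (ModuleCat.{u} T) i).app E)).of_iso
        ((homologyFunctor _ i).mapIso θ)
    have hLE := isLE_truncLT_of_isZero Kf i hH
    exact split_of_section TStructure.t Kf i _ hσ (isIso_natTransTruncLT TStructure.t Kf i hLE)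

end DerivedMain

/-! ### Module level: the cokernel of `P^{i-1} → P^i` -/

section Local

open Groth.Agent.Helper5.FlatBC Groth.Agent.Helper3.BCDer Groth.Agent.Helper3.BCAbs
  Groth.Agent.Lib.Helper5.KProj Groth.Agent.Helper5.FlatAcyc

variable {R : Type u} [CommRing R] (P : DRing.Cx R) (i : ℤ)

/-- the cokernel of `P^{i-1} → P^i` -/
noncomputable abbrev Ck : ModuleCat.{u} R :=
  ModuleCat.of R (P.X i ⧸ LinearMap.range (P.d (i - 1) i).hom)

/-- the projection `P^i → coker` -/
noncomputable abbrev qk : P.X i ⟶ Ck P i :=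
  ModuleCat.ofHom (LinearMap.range (P.d (i - 1) i).hom).mkQ

lemma range_le_ker :
    LinearMap.range (P.d (i - 1) i).hom ≤ LinearMap.ker (P.d i (i + 1)).hom := by
  rintro _ ⟨y, rfl⟩
  rw [LinearMap.mem_ker]
  exact congrArg (fun φ => φ.hom y) (P.d_comp_d (i - 1) i (i + 1))

/-- the induced map `coker → P^{i+1}` -/
noncomputable abbrev dbar : Ck P i ⟶ P.X (i + 1) :=
  ModuleCat.ofHom ((LinearMap.range (P.d (i - 1) i).hom).liftQ (P.d i (i + 1)).hom
    (range_le_ker P i))

lemma d_qk : P.d (i - 1) i ≫ qk P i = 0 := by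
  apply ModuleCat.hom_ext
  apply LinearMap.ext
  intro x
  exact (Submodule.Quotient.mk_eq_zero _).2 ⟨x, rfl⟩

lemma qk_dbar : qk P i ≫ dbar P i = P.d i (i + 1) := by
  apply ModuleCat.hom_ext
  apply LinearMap.ext
  intro x
  rfl

instance epi_qk : Epi (qk P i) :=
  (ModuleCat.epi_iff_surjective _).2 (Submodule.mkQ_surjective _)

theorem injective_map_dbar {S : Type u} [CommRing S] (F : ModuleCat.{u} R ⥤ ModuleCat.{u} S)
    [F.PreservesZeroMorphisms] [F.PreservesEpimorphisms]
    (hex : Function.Exact (F.map (P.d (i - 1) i)).hom (F.map (P.d i (i + 1))).hom) :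
    Function.Injective (F.map (dbar P i)).hom := by
  rw [injective_iff_map_eq_zero]
  intro x hx
  obtain ⟨y, rfl⟩ := (ModuleCat.epi_iff_surjective (F.map (qk P i))).1 inferInstance x
  have h0 : F.map (qk P i) ≫ F.map (dbar P i) = F.map (P.d i (i + 1)) := by
    rw [← F.map_comp, qk_dbar]
  have h1 : (F.map (P.d i (i + 1))).hom y = 0 :=
    (congrArg (fun φ => φ.hom y) h0).symm.trans hx
  obtain ⟨z, rfl⟩ := (hex y).1 h1
  have h2 : F.map (P.d (i - 1) i) ≫ F.map (qk P i) = 0 := by
    rw [← F.map_comp, d_qk, F.map_zero]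
  exact congrArg (fun φ => φ.hom z) h2

theorem eqv_nat (R' : Type u) [CommRing R'] [Algebra R R'] {M N : ModuleCat.{u} R} (g : M ⟶ N)
    (x : R' ⊗[R] M) :
    ((Ef (R := R) R').map g).hom (eqv R' M x) = eqv R' N (g.hom.lTensor R' x) := by
  induction x using TensorProduct.induction_on with
  | zero =>
    rw [map_zero, map_zero, map_zero]
    exact map_zero ((Ef (R := R) R').map g).hom
  | tmul s m => rfl
  | add a b ha hb =>
    rw [map_add, map_add, map_add, ← ha, ← hb]
    exact map_add ((Ef (R := R) R').map g).hom _ _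

theorem injective_lTensor_of_injective_map (R' : Type u) [CommRing R'] [Algebra R R']
    {M N : ModuleCat.{u} R} (g : M ⟶ N)
    (h : Function.Injective ((Ef (R := R) R').map g).hom) :
    Function.Injective (g.hom.lTensor R') := by
  intro x y hxy
  apply (eqv R' M).injective
  apply h
  rw [eqv_nat, eqv_nat, hxy]

theorem exactAt_fibre (p : Ideal R) [p.IsPrime]
    [DRing.HasLBaseChange (algebraMap R p.ResidueField)] (K : DRing.Cx R) (b : ℤ)
    (hb : DRing.VanishesAbove P b) (hff : DRing.TermwiseFiniteFree P)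
    (e₀ : DRing.toD P ≅ DRing.toD K)
    (hi : Subsingleton (Dual.HD p.ResidueField
      ((DRing.LBaseChange (algebraMap R p.ResidueField)).obj (DRing.toD K)) i)) :
    ((bcCx (algebraMap R p.ResidueField)).obj P).ExactAt i := by
  haveI : P.IsKProjective := Groth.Agent.Helper5.DRingCone.kproj_of_proj P b hb
    (fun k => by haveI := (hff k).2; infer_instance)
  have iso : (DRing.LBaseChange (algebraMap R p.ResidueField)).obj (DRing.toD K) ≅
      DRing.toD ((bcCx (algebraMap R p.ResidueField)).obj P) :=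
    (DRing.LBaseChange (algebraMap R p.ResidueField)).mapIso e₀.symm ≪≫
      lbcIso (algebraMap R p.ResidueField) P
  haveI := hi
  have hz : IsZero ((homologyFunctor (ModuleCat.{u} p.ResidueField) i).obj
      ((DRing.LBaseChange (algebraMap R p.ResidueField)).obj (DRing.toD K))) :=
    ModuleCat.isZero_of_subsingleton _
  rw [HomologicalComplex.exactAt_iff_isZero_homology]
  exact (hz.of_iso ((homologyFunctor _ i).mapIso iso.symm)).of_iso
    ((homologyFunctorFactors _ i).app _).symm

theorem exactAt_of {T : Type u} [CommRing T] (E : DRing.Cx T) {Cq : ModuleCat.{u} T}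
    (Qm : E.X i ⟶ Cq) (m : Cq ⟶ E.X (i + 1)) (lam : E.X (i + 1) ⟶ Cq)
    (hQm : Qm ≫ m = E.d i (i + 1)) (hml : m ≫ lam = 𝟙 _)
    (hker : ∀ y, Qm.hom y = 0 → ∃ z, (E.d (i - 1) i).hom z = y) : E.ExactAt i := by
  apply exactAt_of_exact E (i - 1) i (i + 1) (by lia) rfl
  intro y
  constructor
  · intro hy
    have h1 : m.hom (Qm.hom y) = 0 := (congrArg (fun φ => φ.hom y) hQm).trans hy
    have h3 : lam.hom (m.hom (Qm.hom y)) = Qm.hom y :=
      congrArg (fun φ => φ.hom (Qm.hom y)) hml
    have h2 : Qm.hom y = 0 := by rw [← h3, h1, map_zero]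
    exact hker y h2
  · rintro ⟨z, rfl⟩
    exact congrArg (fun φ => φ.hom z) (E.d_comp_d (i - 1) i (i + 1))

variable (T : Type u) [CommRing T] [Algebra R T] [Module.Flat R T]

theorem ker_map_qk (y : ((Ec T).obj P).X i)
    (hy : ((Ef (R := R) T).map (qk P i)).hom y = 0) :
    ∃ z, (((Ec T).obj P).d (i - 1) i).hom z = y := by
  let S : ShortComplex (ModuleCat.{u} R) := ShortComplex.mk (P.d (i - 1) i) (qk P i) (d_qk P i)
  have hS : S.Exact := by
    rw [ShortComplex.moduleCat_exact_iff]
    intro x hx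
    have : x ∈ LinearMap.range (P.d (i - 1) i).hom := (Submodule.Quotient.mk_eq_zero _).1 hx
    exact this
  have hS' := hS.map (Ef (R := R) T)
  rw [ShortComplex.moduleCat_exact_iff] at hS'
  exact hS' y hy

theorem local_split (hff : DRing.TermwiseFiniteFree P) (f : R) (c : T)
    (hc : c * algebraMap R T f = 1) (w : P.X (i + 1) ⟶ Ck P i)
    (hw : dbar P i ≫ w = f • 𝟙 _) :
    Nonempty (SplitData ((Ec T).obj P) i) ∧ ((Ec T).obj P).ExactAt i := by
  have hml : (Ef (R := R) T).map (dbar P i) ≫ (c • (Ef (R := R) T).map w) = 𝟙 _ := by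
    rw [Linear.comp_smul, ← (Ef (R := R) T).map_comp, hw, semiLinear_Ef T f (𝟙 _), smul_smul, hc,
      one_smul, (Ef (R := R) T).map_id]
  have hQm : (Ef (R := R) T).map (qk P i) ≫ (Ef (R := R) T).map (dbar P i) =
      ((Ec T).obj P).d i (i + 1) := by
    rw [← (Ef (R := R) T).map_comp, qk_dbar]
    rfl
  haveI : (Ef (R := R) T).PreservesEpimorphisms :=
    Functor.preservesEpimorphisms_of_adjunction (ModuleCat.extendRestrictScalarsAdj _)
  have hepi : Epi ((Ef (R := R) T).map (qk P i)) := (Ef (R := R) T).map_epi _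
  have hproj : Projective (((Ec T).obj P).X (i + 1)) := by
    haveI := (hff (i + 1)).1
    haveI := (hff (i + 1)).2
    have h := Ef_ff T (P.X (i + 1))
    haveI := h.1
    haveI := h.2
    have hp : Module.Projective T ((Ef (R := R) T).obj (P.X (i + 1))) := inferInstance
    exact (IsProjective.iff_projective _).1 hp
  exact ⟨splitData_of ((Ec T).obj P) i ((Ef (R := R) T).map (qk P i))
      ((Ef (R := R) T).map (dbar P i)) (c • (Ef (R := R) T).map w) hepi hproj hQm hml,
    exactAt_of i ((Ec T).obj P) ((Ef (R := R) T).map (qk P i))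
      ((Ef (R := R) T).map (dbar P i)) (c • (Ef (R := R) T).map w) hQm hml
      (ker_map_qk P i T)⟩

end Local

/-! ### The main theorem -/

section Main

open Groth.Agent.Helper5.FlatBC Groth.Agent.Helper3.BCDer Groth.Agent.Helper3.BCAbs
  Groth.Agent.Lib.Helper5.KProj Groth.Agent.Helper5.FlatAcyc Groth.Agent.Helper2.LeftInv

theorem main (R : Type u) [CommRing R]
    (p : Ideal R) [p.IsPrime] [DRing.HasLBaseChange (algebraMap R p.ResidueField)] (i : ℤ)
    (K : DRing.Cx R)
    (hK : DRing.IsPseudoCoherent' R (DRing.toD K))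
    (hi : Subsingleton (Dual.HD p.ResidueField
      ((DRing.LBaseChange (algebraMap R p.ResidueField)).obj (DRing.toD K)) i)) :
    ∃ f : R, f ∉ p ∧
      let Kf := DRing.toD (((ModuleCat.extendScalars (algebraMap R (Localization.Away f))).mapHomologicalComplex
        (ComplexShape.up ℤ)).obj K)
      let t := (DerivedCategory.TStructure.t : Triangulated.TStructure (Dual.D (Localization.Away f)))
      let Kge := (t.truncGE (i + 1)).obj Kf
      let Klt := (t.truncLT i).obj Kf
      DRing.IsPerfect (Localization.Away f) Kge ∧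
        (∃ b : ℤ, DRing.HasTorAmplitudeIn (Localization.Away f) (i + 1) b Kge) ∧
        ∀ [HasBinaryBiproduct Kge Klt], ∃ e : Kf ≅ Kge ⊞ Klt,
          e.hom ≫ biprod.fst = (t.truncGEπ (i + 1)).app Kf ∧
            (t.truncLTι i).app Kf ≫ e.hom = biprod.inr := by
  obtain ⟨P, b, hb, hff, ⟨e₀⟩⟩ := hK
  have hex := exactAt_fibre P i p K b hb hff e₀ hi
  have hexf : Function.Exact
      ((ModuleCat.extendScalars (algebraMap R p.ResidueField)).map (P.d (i - 1) i)).hom
      ((ModuleCat.extendScalars (algebraMap R p.ResidueField)).map (P.d i (i + 1))).hom :=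
    exact_of_exactAt ((bcCx (algebraMap R p.ResidueField)).obj P) (i - 1) i (i + 1) (by lia) rfl hex
  have hinjF := injective_map_dbar P i (Ef (R := R) p.ResidueField) hexf
  have hinj := injective_lTensor_of_injective_map p.ResidueField (dbar P i) hinjF
  haveI : Module.Finite R (P.X i) := (hff i).1
  haveI : Module.Free R (P.X (i + 1)) := (hff (i + 1)).2
  haveI : Module.Finite R (Ck P i) := Module.Finite.quotient R _
  obtain ⟨f, hfS, w', hw'⟩ := LIS_of_injective_lTensor p hinj
  refine ⟨f, hfS, ?_⟩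
  haveI hflat : Module.Flat R (Localization.Away f) :=
    IsLocalization.flat (Localization.Away f) (Submonoid.powers f)
  have hc : (IsLocalization.Away.invSelf f : Localization.Away f) *
      algebraMap R (Localization.Away f) f = 1 := by
    rw [mul_comm]; exact IsLocalization.Away.mul_invSelf f
  have hw : dbar P i ≫ ModuleCat.ofHom w' = f • 𝟙 _ := by
    apply ModuleCat.hom_ext
    rw [ModuleCat.hom_comp, ModuleCat.hom_ofHom, hw', ModuleCat.hom_smul, ModuleCat.hom_id]
  obtain ⟨⟨D⟩, hexT⟩ := local_split P i (Localization.Away f) hff f _ hc (ModuleCat.ofHom w') hw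
  obtain ⟨s, hs⟩ := D.exists_section
  have hfp : ∀ k, Module.Finite (Localization.Away f) (((Ec (Localization.Away f)).obj P).X k) ∧
      Module.Projective (Localization.Away f) (((Ec (Localization.Away f)).obj P).X k) := by
    intro k
    haveI := (hff k).1
    haveI := (hff k).2
    have h := Ef_ff (Localization.Away f) (P.X k)
    haveI := h.2
    have hp : Module.Projective (Localization.Away f)
        ((Ef (R := R) (Localization.Away f)).obj (P.X k)) := inferInstance
    exact ⟨h.1, hp⟩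
  have hbT : ∀ k, b < k → IsZero (((Ec (Localization.Away f)).obj P).X k) := fun k hk =>
    (Ef (R := R) (Localization.Away f)).map_isZero (hb k hk)
  let θ : DRing.toD ((Ec (Localization.Away f)).obj K) ≅
      DRing.toD ((Ec (Localization.Away f)).obj P) :=
    ((Ef (R := R) (Localization.Away f)).mapDerivedCategoryFactors.app K).symm ≪≫
      (G (A := R) (Localization.Away f)).mapIso e₀.symm ≪≫
      (Ef (R := R) (Localization.Away f)).mapDerivedCategoryFactors.app P
  exact derived_main ((Ec (Localization.Away f)).obj P) i b s hs hexT hfp hbT _ θ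

end Main

end Groth.Agent.Helper3.TruncSplit
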