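import Mathlib
import Groth.Prelude.Def_TwC
import Groth.Agent.S0084

/-!
# Closed quasi-compact subschemes of twisted constant schemes are finite (helper3)
-/

set_option autoImplicit false
set_option linter.style.haveILetI false
universe u

namespace Groth.Agent.Helper3.TwConstFin
open CategoryTheory CategoryTheory.Limits AlgebraicGeometry

/-- An open covered by finitely many pairwise disjoint affine opens is affine. -/
theorem isAffineOpen_of_finite_disjoint_cover {Y : Scheme.{u}} (V : Y.Opens) {κ : Type u} [Finite κ]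
    (A : κ → Y.Opens) (hA : ∀ k, IsAffineOpen (A k)) (hle : ∀ k, A k ≤ V) (hcov : V ≤ ⨆ k, A k)
    (hdisj : ∀ k l, k ≠ l → Disjoint (A k) (A l)) : IsAffineOpen V := by
  let f : ∀ k, (A k).toScheme ⟶ V.toScheme := fun k => Y.homOfLE (hle k)
  have hf : ∀ k, (f k).opensRange = V.ι ⁻¹ᵁ (A k) := fun k => Scheme.opensRange_homOfLE (hle k)
  have hcov' : ⨆ k, (f k).opensRange = ⊤ := by
    rw [eq_top_iff]
    rintro ⟨y, hy⟩ -
    obtain ⟨k, hk⟩ := TopologicalSpace.Opens.mem_iSup.1 (hcov hy)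
    refine TopologicalSpace.Opens.mem_iSup.2 ⟨k, ?_⟩
    rw [hf k]
    exact hk
  have hdisj' : Pairwise (Function.onFun Disjoint (fun k => (f k).opensRange)) := by
    intro k l hkl
    show Disjoint (f k).opensRange (f l).opensRange
    rw [hf k, hf l, disjoint_iff, eq_bot_iff]
    rintro y ⟨h1, h2⟩
    have := (hdisj k l hkl).le_bot (show V.ι y ∈ A k ⊓ A l from ⟨h1, h2⟩)
    simp at this
  obtain ⟨hc⟩ := nonempty_isColimit_cofanMk_of f hcov' hdisj'
  haveI : ∀ k, IsAffine ((A k).toScheme) := hA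
  let e : V.toScheme ≅ ∐ (fun k => (A k).toScheme) :=
    hc.coconePointUniqueUpToIso (colimit.isColimit _)
  exact IsAffine.of_isIso e.hom

/-- A closed subscheme of a disjoint union of copies of `U` which is quasi-compact over `U` is finite
over `U`. -/
theorem isFinite_sigma_aux {U Y : Scheme.{u}} (I : Type u) (c : Y ⟶ ∐ (fun _ : I => U))
    [IsClosedImmersion c] (d : (∐ fun _ : I => U) ⟶ U)
    (hιd : ∀ i, Sigma.ι (fun _ : I => U) i ≫ d = 𝟙 U) [LocallyOfFiniteType d]
    [QuasiCompact (c ≫ d)] : IsFinite (c ≫ d) := by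
  have hfp : ∀ i, pullback.fst c (Sigma.ι (fun _ : I => U) i) ≫ (c ≫ d) =
      pullback.snd c (Sigma.ι (fun _ : I => U) i) := by
    intro i
    rw [← Category.assoc, pullback.condition, Category.assoc, hιd, Category.comp_id]
  -- affineness
  have haff : IsAffineHom (c ≫ d) := by
    refine ⟨fun N hN => ?_⟩
    let A : I → Y.Opens := fun i => (pullback.fst c (Sigma.ι (fun _ : I => U) i)) ''ᵁ
      ((pullback.snd c (Sigma.ι (fun _ : I => U) i)) ⁻¹ᵁ N)
    have hAaff : ∀ i, IsAffineOpen (A i) := fun i =>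
      (hN.preimage (pullback.snd c (Sigma.ι (fun _ : I => U) i))).image_of_isOpenImmersion _
    have hAle : ∀ i, A i ≤ (c ≫ d) ⁻¹ᵁ N := by
      rintro i y ⟨t, ht, rfl⟩
      show (c ≫ d) (pullback.fst c (Sigma.ι (fun _ : I => U) i) t) ∈ N
      rw [← Scheme.Hom.comp_apply, hfp i]
      exact ht
    have hcov : ((c ≫ d) ⁻¹ᵁ N : Set Y) ⊆ ⋃ i, (A i : Set Y) := by
      intro y hy
      obtain ⟨⟨i, x⟩, hx⟩ := (sigmaMk (fun _ : I => U)).surjective (c y)
      rw [sigmaMk_mk] at hx
      obtain ⟨t, ht1, ht2⟩ := Scheme.Pullback.exists_preimage_pullback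
        (f := c) (g := Sigma.ι (fun _ : I => U) i) y x hx.symm
      refine Set.mem_iUnion.2 ⟨i, t, ?_, ht1⟩
      show pullback.snd c (Sigma.ι (fun _ : I => U) i) t ∈ N
      rw [← hfp i, Scheme.Hom.comp_apply, ht1]
      exact hy
    have hAc : ∀ i y, y ∈ A i → c y ∈ (Sigma.ι (fun _ : I => U) i).opensRange := by
      rintro i y ⟨t, -, rfl⟩
      refine ⟨pullback.snd c (Sigma.ι (fun _ : I => U) i) t, ?_⟩
      show (Sigma.ι (fun _ : I => U) i) (pullback.snd c (Sigma.ι (fun _ : I => U) i) t) =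
        c (pullback.fst c (Sigma.ι (fun _ : I => U) i) t)
      rw [← Scheme.Hom.comp_apply, ← Scheme.Hom.comp_apply, pullback.condition]
    have hdisj : ∀ i j, i ≠ j → Disjoint (A i) (A j) := by
      intro i j hij
      rw [disjoint_iff, eq_bot_iff]
      rintro y ⟨hi, hj⟩
      have := (disjoint_opensRange_sigmaι (fun _ : I => U) i j hij).le_bot
        ⟨hAc i y hi, hAc j y hj⟩
      simp at this
    have hcomp : IsCompact ((c ≫ d) ⁻¹ᵁ N : Set Y) :=
      QuasiCompact.isCompact_preimage (f := c ≫ d) _ N.isOpen hN.isCompact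
    obtain ⟨t, ht⟩ := hcomp.elim_finite_subcover (fun i => (A i : Set Y)) (fun i => (A i).isOpen) hcov
    refine isAffineOpen_of_finite_disjoint_cover ((c ≫ d) ⁻¹ᵁ N) (κ := {i // i ∈ t})
      (fun k => A k.1) (fun k => hAaff k.1) (fun k => hAle k.1) ?_ ?_
    · intro y hy
      have := ht hy
      simp only [Set.mem_iUnion] at this
      obtain ⟨i, hi, hyi⟩ := this
      exact TopologicalSpace.Opens.mem_iSup.2 ⟨⟨i, hi⟩, hyi⟩
    · intro k l hkl
      exact hdisj k.1 l.1 (fun h => hkl (Subtype.ext h))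
  -- universally closed, by the valuative criterion
  have huc : UniversallyClosed (c ≫ d) := by
    apply UniversallyClosed.of_valuativeCriterion
    intro Sq
    have hEx : ValuativeCriterion.Existence c := by
      have h : (ValuativeCriterion.Existence ⊓ @QuasiCompact : MorphismProperty Scheme) c := by
        rw [← UniversallyClosed.eq_valuativeCriterion]
        infer_instance
      exact h.1
    let x₀ : ↥(Spec (CommRingCat.of Sq.K)) := (default : PrimeSpectrum Sq.K)
    obtain ⟨⟨i, x⟩, hx⟩ := (sigmaMk (fun _ : I => U)).surjective ((Sq.i₁ ≫ c) x₀)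
    rw [sigmaMk_mk] at hx
    have hrange : Set.range (Sq.i₁ ≫ c) ⊆ Set.range (Sigma.ι (fun _ : I => U) i) := by
      rintro _ ⟨y, rfl⟩
      have : y = x₀ := Subsingleton.elim (α := PrimeSpectrum Sq.K) y x₀
      rw [this, ← hx]
      exact ⟨x, rfl⟩
    let k := IsOpenImmersion.lift (Sigma.ι (fun _ : I => U) i) (Sq.i₁ ≫ c) hrange
    have hk : k ≫ Sigma.ι (fun _ : I => U) i = Sq.i₁ ≫ c := IsOpenImmersion.lift_fac _ _ _
    have hk2 : k = Spec.map (CommRingCat.ofHom (algebraMap Sq.R Sq.K)) ≫ Sq.i₂ := by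
      have hw := Sq.commSq.w
      calc k = k ≫ Sigma.ι (fun _ : I => U) i ≫ d := by rw [hιd, Category.comp_id]
        _ = Sq.i₁ ≫ c ≫ d := by rw [← Category.assoc, hk, Category.assoc]
        _ = _ := hw
    let Sq' : ValuativeCommSq c :=
      ⟨Sq.R, Sq.K, Sq.i₁, Sq.i₂ ≫ Sigma.ι (fun _ : I => U) i,
        ⟨by rw [← hk, hk2, Category.assoc]⟩⟩
    obtain ⟨⟨l⟩⟩ := hEx Sq'
    refine ⟨⟨⟨l.l, l.fac_left, ?_⟩⟩⟩
    have h2 := l.fac_right
    rw [← Category.assoc, h2, Category.assoc, hιd, Category.comp_id]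
  have hint : IsIntegralHom (c ≫ d) :=
    IsIntegralHom.iff_universallyClosed_and_isAffineHom.2 ⟨huc, haff⟩
  exact (IsFinite.iff_isIntegralHom_and_locallyOfFiniteType (c ≫ d)).2 ⟨hint, inferInstance⟩

section Fin

variable {S Z : Scheme.{u}} (h : Z ⟶ S)

lemma fin_iff_comp {T T' : Scheme.{u}} (t : T ⟶ S) (a : T' ⟶ T) :
    IsFinite (pullback.snd (pullback.snd h t) a) ↔ IsFinite (pullback.snd h (a ≫ t)) := by
  rw [← pullbackLeftPullbackSndIso_hom_snd h t a]
  exact MorphismProperty.cancel_left_of_respectsIso @IsFinite _ _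

lemma fin_comp {T T' : Scheme.{u}} (t : T ⟶ S) (a : T' ⟶ T) (ht : IsFinite (pullback.snd h t)) :
    IsFinite (pullback.snd h (a ≫ t)) :=
  (fin_iff_comp h t a).1 inferInstance

lemma fin_descend {T T' : Scheme.{u}} (t : T ⟶ S) (a : T' ⟶ T) [Surjective a] [Flat a]
    [QuasiCompact a] (ht : IsFinite (pullback.snd h (a ≫ t))) : IsFinite (pullback.snd h t) := by
  haveI := Groth.Agent.S0084.result.{u}
  exact MorphismProperty.of_pullback_snd_of_descendsAlong (P := @IsFinite)
    (Q := (@Surjective ⊓ @Flat ⊓ @QuasiCompact : MorphismProperty Scheme.{u}))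
    (f := pullback.snd h t) (g := a)
    ⟨⟨inferInstance, inferInstance⟩, inferInstance⟩ ((fin_iff_comp h t a).2 ht)

lemma fin_of_cover {T : Scheme.{u}} (t : T ⟶ S)
    (H : ∀ x : T, ∃ (N : Scheme.{u}) (j : N ⟶ T), IsOpenImmersion j ∧ x ∈ Set.range j ∧
      IsFinite (pullback.snd h (j ≫ t))) : IsFinite (pullback.snd h t) := by
  choose N j hj hx hfin using H
  let 𝒰 : T.OpenCover := Scheme.Cover.mkOfCovers T N j (fun x => ⟨x, hx x⟩) hj
  rw [IsZariskiLocalAtTarget.iff_of_openCover (P := @IsFinite) 𝒰]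
  intro x
  show IsFinite (pullback.snd (pullback.snd h t) (j x))
  exact (fin_iff_comp h t (j x)).2 (hfin x)

end Fin

/-- The constant case. -/
theorem fin_const {S : Scheme.{u}} (R : Over S) {Z : Scheme.{u}} (z : Z ⟶ R.left)
    [IsClosedImmersion z] [QuasiCompact (z ≫ R.hom)] {U : Scheme.{u}} (t : U ⟶ S) (I : Type u)
    (e : Red.bc t R ≅ TwC.const U I) :
    IsFinite (pullback.snd (z ≫ R.hom) t) := by
  have hcond : (pullback.fst (z ≫ R.hom) t ≫ z) ≫ R.hom = pullback.snd (z ≫ R.hom) t ≫ t := by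
    rw [Category.assoc]
    exact pullback.condition
  let c₀ : pullback (z ≫ R.hom) t ⟶ pullback R.hom t :=
    pullback.lift (pullback.fst (z ≫ R.hom) t ≫ z) (pullback.snd (z ≫ R.hom) t) hcond
  have hc₀1 : c₀ ≫ pullback.fst R.hom t = pullback.fst (z ≫ R.hom) t ≫ z :=
    pullback.lift_fst _ _ _
  have hc₀2 : c₀ ≫ pullback.snd R.hom t = pullback.snd (z ≫ R.hom) t := pullback.lift_snd _ _ _
  have sq : IsPullback c₀ (pullback.fst (z ≫ R.hom) t) (pullback.fst R.hom t) z := by
    refine IsPullback.of_right ?_ hc₀1 (IsPullback.of_hasPullback R.hom t).flip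
    rw [hc₀2]
    exact (IsPullback.of_hasPullback (z ≫ R.hom) t).flip
  haveI : IsClosedImmersion c₀ :=
    MorphismProperty.of_isPullback (P := @IsClosedImmersion) sq.flip inferInstance
  let c : pullback (z ≫ R.hom) t ⟶ ∐ (fun _ : I => U) := c₀ ≫ e.hom.left
  have hcd : c ≫ Sigma.desc (fun _ : I => 𝟙 U) = pullback.snd (z ≫ R.hom) t := by
    have hw : e.hom.left ≫ Sigma.desc (fun _ : I => 𝟙 U) = pullback.snd R.hom t := Over.w e.hom
    show (c₀ ≫ e.hom.left) ≫ Sigma.desc (fun _ : I => 𝟙 U) = _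
    rw [Category.assoc, hw, hc₀2]
  haveI : IsClosedImmersion c := inferInstanceAs (IsClosedImmersion (c₀ ≫ e.hom.left))
  haveI : QuasiCompact (c ≫ Sigma.desc (fun _ : I => 𝟙 U)) := by
    rw [hcd]
    infer_instance
  haveI : LocallyOfFiniteType (Sigma.desc (fun _ : I => 𝟙 U)) :=
    IsZariskiLocalAtSource.sigmaDesc (P := @LocallyOfFiniteType) (fun _ => inferInstance)
  rw [← hcd]
  exact isFinite_sigma_aux I c (Sigma.desc (fun _ : I => 𝟙 U)) (fun i => by simp)

theorem main {S : Scheme.{u}} (R : Over S) (hR : TwC.IsTwConst TwC.Topology.fpqc R)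
    {Z : Scheme.{u}} (z : Z ⟶ R.left) [IsClosedImmersion z] [QuasiCompact (z ≫ R.hom)] :
    IsFinite (z ≫ R.hom) := by
  obtain ⟨S', g, hflat, hsurj, hcov, hloc⟩ := hR
  haveI := hflat
  have h1 : IsFinite (pullback.snd (z ≫ R.hom) (𝟙 S)) := by
    apply fin_of_cover
    intro x
    obtain ⟨V, hV, hxV, -⟩ := exists_isAffineOpen_mem_and_subset (x := x) (U := ⊤) trivial
    refine ⟨V.toScheme, V.ι, inferInstance, by rw [Scheme.Opens.range_ι]; exact hxV, ?_⟩
    rw [Category.comp_id]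
    obtain ⟨W, hWc, hWV⟩ := hcov V hV
    haveI : IsAffine V.toScheme := hV
    haveI : CompactSpace W.toScheme := isCompact_iff_compactSpace.mp hWc
    have hrange : Set.range (W.ι ≫ g) ⊆ Set.range V.ι := by
      rw [Scheme.Opens.range_ι]
      rintro _ ⟨w, rfl⟩
      rw [← hWV]
      exact ⟨w.1, w.2, rfl⟩
    let a : W.toScheme ⟶ V.toScheme := IsOpenImmersion.lift V.ι (W.ι ≫ g) hrange
    have ha : a ≫ V.ι = W.ι ≫ g := IsOpenImmersion.lift_fac _ _ _
    haveI : Flat a := by
      have hfl : Flat (a ≫ V.ι) := by rw [ha]; infer_instance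
      exact MorphismProperty.of_postcomp (W := @Flat)
        (W' := MorphismProperty.monomorphisms Scheme.{u}) a V.ι
        (MorphismProperty.monomorphisms.infer_property V.ι) hfl
    haveI : Surjective a := ⟨fun v => by
      have hv : (v.1 : S) ∈ (V : Set S) := v.2
      rw [← hWV] at hv
      obtain ⟨w, hw, hwv⟩ := hv
      refine ⟨⟨w, hw⟩, ?_⟩
      apply V.ι.isOpenEmbedding.injective
      rw [← Scheme.Hom.comp_apply, ha]
      exact hwv⟩
    haveI : QuasiCompact a := (quasiCompact_iff_compactSpace a).mpr inferInstance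
    apply fin_descend (z ≫ R.hom) V.ι a
    rw [ha]
    apply fin_of_cover
    intro w
    obtain ⟨U, hwU, I, ⟨e⟩⟩ := hloc w.1
    refine ⟨(U ⊓ W).toScheme, S'.homOfLE inf_le_right, inferInstance, ?_, ?_⟩
    · have : w ∈ (S'.homOfLE (inf_le_right : U ⊓ W ≤ W)).opensRange := by
        rw [Scheme.opensRange_homOfLE]
        exact ⟨hwU, w.2⟩
      exact this
    · have hcomp : S'.homOfLE (inf_le_right : U ⊓ W ≤ W) ≫ W.ι ≫ g =
          S'.homOfLE (inf_le_left : U ⊓ W ≤ U) ≫ U.ι ≫ g := by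
        rw [← Category.assoc, ← Category.assoc, Scheme.homOfLE_ι, Scheme.homOfLE_ι]
      rw [hcomp]
      exact fin_comp _ _ _ (fin_const R z (U.ι ≫ g) I e)
  have h2 : pullback.fst (z ≫ R.hom) (𝟙 S) ≫ (z ≫ R.hom) = pullback.snd (z ≫ R.hom) (𝟙 S) := by
    rw [pullback.condition, Category.comp_id]
  rw [← MorphismProperty.cancel_left_of_respectsIso @IsFinite (pullback.fst (z ≫ R.hom) (𝟙 S)), h2]
  exact h1

end Groth.Agent.Helper3.TwConstFin
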