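import Mathlib
import Groth.Prelude.Def_TwC
import Groth.Agent.S0084
import Groth.Agent.S0087
import Groth.Agent.Lib.Helper3.TwConstFin
import Groth.Agent.Lib.Helper4.ConnHartogs1

/-!
# Open and closed subschemes of quasi-isotrivial twisted constant schemes (helper3)
-/

set_option autoImplicit false
set_option linter.style.haveILetI false
universe u

namespace Groth.Agent.Helper3.TwConstFin2
open CategoryTheory CategoryTheory.Limits AlgebraicGeometry
open Groth.Agent.Helper3.TwConstFin

/-! ### Generic local/descent lemmas for a property of the base change `pullback.snd h t` -/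

section Gen

variable (P' : MorphismProperty Scheme.{u}) [P'.RespectsIso]
variable {S Z : Scheme.{u}} (h : Z ⟶ S)

lemma prop_iff_comp {T T' : Scheme.{u}} (t : T ⟶ S) (a : T' ⟶ T) :
    P' (pullback.snd (pullback.snd h t) a) ↔ P' (pullback.snd h (a ≫ t)) := by
  rw [← pullbackLeftPullbackSndIso_hom_snd h t a]
  exact P'.cancel_left_of_respectsIso _ _

lemma prop_comp [P'.IsStableUnderBaseChange] {T T' : Scheme.{u}} (t : T ⟶ S) (a : T' ⟶ T)
    (ht : P' (pullback.snd h t)) : P' (pullback.snd h (a ≫ t)) :=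
  (prop_iff_comp P' h t a).1 (P'.pullback_snd _ _ ht)

lemma prop_descend (Q : MorphismProperty Scheme.{u}) [P'.DescendsAlong Q] {T T' : Scheme.{u}}
    (t : T ⟶ S) (a : T' ⟶ T) (hQ : Q a) (ht : P' (pullback.snd h (a ≫ t))) :
    P' (pullback.snd h t) :=
  MorphismProperty.of_pullback_snd_of_descendsAlong (P := P') (Q := Q)
    (f := pullback.snd h t) (g := a) hQ ((prop_iff_comp P' h t a).2 ht)

lemma prop_of_cover [IsZariskiLocalAtTarget P'] {T : Scheme.{u}} (t : T ⟶ S)
    (H : ∀ x : T, ∃ (N : Scheme.{u}) (j : N ⟶ T), IsOpenImmersion j ∧ x ∈ Set.range j ∧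
      P' (pullback.snd h (j ≫ t))) : P' (pullback.snd h t) := by
  choose N j hj hx hfin using H
  let 𝒰 : T.OpenCover := Scheme.Cover.mkOfCovers T N j (fun x => ⟨x, hx x⟩) hj
  rw [IsZariskiLocalAtTarget.iff_of_openCover (P := P') 𝒰]
  intro x
  show P' (pullback.snd (pullback.snd h t) (j x))
  exact (prop_iff_comp P' h t (j x)).2 (hfin x)

lemma prop_of_id (hh : P' (pullback.snd h (𝟙 S))) : P' h := by
  have h2 : pullback.fst h (𝟙 S) ≫ h = pullback.snd h (𝟙 S) := by
    rw [pullback.condition, Category.comp_id]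
  rw [← P'.cancel_left_of_respectsIso (pullback.fst h (𝟙 S)), h2]
  exact hh

/-- A property which is Zariski local on the target and descends along fppf coverings can be
checked fppf locally. -/
theorem prop_of_fppf_local [IsZariskiLocalAtTarget P'] [P'.IsStableUnderBaseChange]
    [P'.DescendsAlong (@Surjective ⊓ @Flat ⊓ @LocallyOfFinitePresentation :
      MorphismProperty Scheme.{u})]
    (H : ∀ s : S, ∃ (S' : Scheme.{u}) (f : S' ⟶ S), Flat f ∧ LocallyOfFinitePresentation f ∧
      s ∈ Set.range f ∧ P' (pullback.snd h f)) : P' h := by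
  apply prop_of_id
  apply prop_of_cover
  intro s
  obtain ⟨S', f, hfl, hfp, hs, hP⟩ := H s
  haveI := hfl
  haveI := hfp
  let V : S.Opens := ⟨Set.range f, f.isOpenMap.isOpen_range⟩
  have hrange : Set.range f ⊆ Set.range V.ι := by
    rw [Scheme.Opens.range_ι]
    exact subset_rfl
  let a : S' ⟶ V.toScheme := IsOpenImmersion.lift V.ι f hrange
  have ha : a ≫ V.ι = f := IsOpenImmersion.lift_fac _ _ _
  have hafl : Flat a := by
    have hfl' : Flat (a ≫ V.ι) := by rw [ha]; infer_instance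
    exact MorphismProperty.of_postcomp (W := @Flat)
      (W' := MorphismProperty.monomorphisms Scheme.{u}) a V.ι
      (MorphismProperty.monomorphisms.infer_property V.ι) hfl'
  have hafp : LocallyOfFinitePresentation a := by
    have hfp' : LocallyOfFinitePresentation (a ≫ V.ι) := by rw [ha]; infer_instance
    exact MorphismProperty.of_postcomp (W := @LocallyOfFinitePresentation)
      (W' := MorphismProperty.monomorphisms Scheme.{u}) a V.ι
      (MorphismProperty.monomorphisms.infer_property V.ι) hfp'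
  have hasurj : Surjective a := ⟨fun v => by
    obtain ⟨x, hx⟩ : (v.1 : S) ∈ Set.range f := v.2
    refine ⟨x, ?_⟩
    apply V.ι.isOpenEmbedding.injective
    rw [← Scheme.Hom.comp_apply, ha]
    exact hx⟩
  refine ⟨V.toScheme, V.ι, inferInstance, ?_, ?_⟩
  · rw [Scheme.Opens.range_ι]
    exact hs
  · rw [Category.comp_id]
    apply prop_descend P' h (@Surjective ⊓ @Flat ⊓ @LocallyOfFinitePresentation) V.ι a
      ⟨⟨hasurj, hafl⟩, hafp⟩
    rw [ha]
    exact hP

end Gen

/-! ### Base change of constant schemes -/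

/-- The base change of a constant scheme is constant, with the same index set. -/
theorem const_bc {S' N : Scheme.{u}} (ν : N ⟶ S') (I : Type u) :
    Nonempty (Red.bc ν (TwC.const S' I) ≅ TwC.const N I) := by
  let d : (∐ fun _ : I => S') ⟶ S' := Sigma.desc (fun _ : I => 𝟙 S')
  have hιd : ∀ i, Sigma.ι (fun _ : I => S') i ≫ d = 𝟙 S' := fun i => by simp [d]
  have hcond : ∀ i, (ν ≫ Sigma.ι (fun _ : I => S') i) ≫ d = 𝟙 N ≫ ν := by
    intro i
    rw [Category.assoc, hιd, Category.comp_id, Category.id_comp]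
  let fN : ∀ _ : I, N ⟶ pullback d ν := fun i =>
    pullback.lift (ν ≫ Sigma.ι (fun _ : I => S') i) (𝟙 N) (hcond i)
  have hfN1 : ∀ i, fN i ≫ pullback.fst d ν = ν ≫ Sigma.ι (fun _ : I => S') i :=
    fun i => pullback.lift_fst _ _ _
  have hfN2 : ∀ i, fN i ≫ pullback.snd d ν = 𝟙 N := fun i => pullback.lift_snd _ _ _
  have sq : ∀ i, IsPullback (fN i) ν (pullback.fst d ν) (Sigma.ι (fun _ : I => S') i) := by
    intro i
    refine IsPullback.of_right ?_ (hfN1 i) (IsPullback.of_hasPullback d ν).flip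
    rw [hfN2 i, hιd i]
    exact IsPullback.id_horiz ν
  haveI : ∀ i, IsOpenImmersion (fN i) := fun i =>
    MorphismProperty.of_isPullback (P := @IsOpenImmersion) (sq i).flip inferInstance
  have hcov : ⨆ i, (fN i).opensRange = ⊤ := by
    rw [eq_top_iff]
    rintro t -
    obtain ⟨⟨i, x⟩, hx⟩ := (sigmaMk (fun _ : I => S')).surjective (pullback.fst d ν t)
    rw [sigmaMk_mk] at hx
    obtain ⟨w, hw1, -⟩ := Scheme.Pullback.exists_preimage_pullback
      (f := pullback.fst d ν) (g := Sigma.ι (fun _ : I => S') i) t x hx.symm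
    refine TopologicalSpace.Opens.mem_iSup.2 ⟨i, (sq i).isoPullback.inv w, ?_⟩
    rw [← Scheme.Hom.comp_apply, (sq i).isoPullback_inv_fst]
    exact hw1
  have hdisj : Pairwise (Function.onFun Disjoint (fun i => (fN i).opensRange)) := by
    intro i j hij
    show Disjoint (fN i).opensRange (fN j).opensRange
    rw [disjoint_iff, eq_bot_iff]
    rintro t ⟨⟨n, hn⟩, ⟨m, hm⟩⟩
    have h1 : pullback.fst d ν t ∈ (Sigma.ι (fun _ : I => S') i).opensRange := by
      refine ⟨ν n, ?_⟩
      rw [← hn, ← Scheme.Hom.comp_apply, ← Scheme.Hom.comp_apply, hfN1]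
    have h2 : pullback.fst d ν t ∈ (Sigma.ι (fun _ : I => S') j).opensRange := by
      refine ⟨ν m, ?_⟩
      rw [← hm, ← Scheme.Hom.comp_apply, ← Scheme.Hom.comp_apply, hfN1]
    have := (disjoint_opensRange_sigmaι (fun _ : I => S') i j hij).le_bot ⟨h1, h2⟩
    simp at this
  obtain ⟨hc⟩ := nonempty_isColimit_cofanMk_of fN hcov hdisj
  let θ : pullback d ν ≅ ∐ (fun _ : I => N) :=
    hc.coconePointUniqueUpToIso (colimit.isColimit _)
  have hθ : θ.hom ≫ Sigma.desc (fun _ : I => 𝟙 N) = pullback.snd d ν := by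
    refine Cofan.IsColimit.hom_ext hc _ _ (fun i => ?_)
    show fN i ≫ θ.hom ≫ Sigma.desc (fun _ : I => 𝟙 N) = fN i ≫ pullback.snd d ν
    have h1 : fN i ≫ θ.hom = Sigma.ι (fun _ : I => N) i :=
      hc.comp_coconePointUniqueUpToIso_hom (colimit.isColimit _) ⟨i⟩
    rw [← Category.assoc, h1, hfN2 i]
    simp
  exact ⟨Over.isoMk θ hθ⟩

/-- Trivialisations restrict along arbitrary base change. -/
theorem const_bc' {S S' N : Scheme.{u}} (P : Over S) (f : S' ⟶ S) (ν : N ⟶ S') (I : Type u)
    (e : Red.bc f P ≅ TwC.const S' I) : Nonempty (Red.bc (ν ≫ f) P ≅ TwC.const N I) := by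
  obtain ⟨θ⟩ := const_bc ν I
  exact ⟨(Over.pullbackComp ν f).app P ≪≫ (Over.pullback ν).mapIso e ≪≫ θ⟩

/-! ### The map to the coproduct -/

theorem exists_sigma_map {S : Scheme.{u}} (R : Over S) {Z : Scheme.{u}} (z : Z ⟶ R.left)
    {U : Scheme.{u}} (t : U ⟶ S) (I : Type u) (e : Red.bc t R ≅ TwC.const U I) :
    ∃ c : pullback (z ≫ R.hom) t ⟶ ∐ (fun _ : I => U),
      c ≫ Sigma.desc (fun _ : I => 𝟙 U) = pullback.snd (z ≫ R.hom) t ∧
      (IsClosedImmersion z → IsClosedImmersion c) ∧ (IsOpenImmersion z → IsOpenImmersion c) ∧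
      (IsImmersion z → IsImmersion c) := by
  have hcond : (pullback.fst (z ≫ R.hom) t ≫ z) ≫ R.hom = pullback.snd (z ≫ R.hom) t ≫ t := by
    rw [Category.assoc]
    exact pullback.condition
  let c₀ : pullback (z ≫ R.hom) t ⟶ pullback R.hom t :=
    pullback.lift (pullback.fst (z ≫ R.hom) t ≫ z) (pullback.snd (z ≫ R.hom) t) hcond
  have hc₀1 : c₀ ≫ pullback.fst R.hom t = pullback.fst (z ≫ R.hom) t ≫ z :=
    pullback.lift_fst _ _ _
  have hc₀2 : c₀ ≫ pullback.snd R.hom t = pullback.snd (z ≫ R.hom) t := pullback.lift_snd _ _ _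
  have sq : IsPullback c₀ (pullback.fst (z ≫ R.hom) t) (pullback.fst R.hom t) z := by
    refine IsPullback.of_right ?_ hc₀1 (IsPullback.of_hasPullback R.hom t).flip
    rw [hc₀2]
    exact (IsPullback.of_hasPullback (z ≫ R.hom) t).flip
  have hw : e.hom.left ≫ Sigma.desc (fun _ : I => 𝟙 U) = pullback.snd R.hom t := Over.w e.hom
  refine ⟨c₀ ≫ e.hom.left, ?_, ?_, ?_, ?_⟩
  · rw [Category.assoc, hw, hc₀2]
  · intro hz
    haveI : IsClosedImmersion c₀ :=
      MorphismProperty.of_isPullback (P := @IsClosedImmersion) sq.flip hz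
    infer_instance
  · intro hz
    haveI : IsOpenImmersion c₀ :=
      MorphismProperty.of_isPullback (P := @IsOpenImmersion) sq.flip hz
    infer_instance
  · intro hz
    haveI : IsImmersion c₀ :=
      MorphismProperty.of_isPullback (P := @IsImmersion) sq.flip hz
    infer_instance

/-! ### Finiteness of fibres under base change -/

theorem finite_fiber_bc {Z S S' : Scheme.{u}} (h : Z ⟶ S) [LocallyQuasiFinite h] (f : S' ⟶ S)
    (s' : S') (hfin : (h ⁻¹' {f s'}).Finite) : ((pullback.snd h f) ⁻¹' {s'}).Finite := by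
  haveI : Finite (h.fiber (f s')) := by
    haveI := hfin.to_subtype
    exact Finite.of_equiv _ (h.fiberHomeo (f s')).toEquiv.symm
  haveI : CompactSpace (h.fiber (f s')) := Finite.compactSpace
  haveI : QuasiCompact (h.fiberToSpecResidueField (f s')) :=
    (quasiCompact_iff_compactSpace _).mpr inferInstance
  haveI : LocallyQuasiFinite (h.fiberToSpecResidueField (f s')) :=
    inferInstanceAs (LocallyQuasiFinite (pullback.snd h (S.fromSpecResidueField (f s'))))
  have hfinf : IsFinite (h.fiberToSpecResidueField (f s')) := IsFinite.of_locallyQuasiFinite _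
  have sq := isPullback_fiberToSpecResidueField_of_isPullback (IsPullback.of_hasPullback h f) s'
  haveI : IsFinite ((pullback.snd h f).fiberToSpecResidueField s') :=
    MorphismProperty.of_isPullback (P := @IsFinite) sq hfinf
  haveI : Finite ↥(Spec (S'.residueField s')) :=
    inferInstanceAs (Finite (PrimeSpectrum (S'.residueField s')))
  have h1 := Scheme.Hom.finite_preimage ((pullback.snd h f).fiberToSpecResidueField s')
    (Set.finite_univ)
  rw [Set.preimage_univ] at h1
  haveI : Finite ((pullback.snd h f).fiber s') := Set.finite_univ_iff.mp h1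
  rw [← Scheme.Hom.range_fiberι]
  exact Set.finite_range _

/-! ### The connected case -/

theorem isFinite_sigma_of_connected {N Y : Scheme.{u}} [PreconnectedSpace N] (I : Type u)
    (c : Y ⟶ ∐ (fun _ : I => N)) [IsClosedImmersion c] [IsOpenImmersion c]
    (n : N) (hn : ((c ≫ Sigma.desc (fun _ : I => 𝟙 N)) ⁻¹' {n}).Finite) :
    IsFinite (c ≫ Sigma.desc (fun _ : I => 𝟙 N)) := by
  have hιd : ∀ i, Sigma.ι (fun _ : I => N) i ≫ Sigma.desc (fun _ : I => 𝟙 N) = 𝟙 N :=
    fun i => by simp
  have hdι : ∀ i (x : N), (Sigma.desc (fun _ : I => 𝟙 N)) (Sigma.ι (fun _ : I => N) i x) = x := by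
    intro i x
    rw [← Scheme.Hom.comp_apply, hιd]
    rfl
  let T : I → Set N := fun i => (Sigma.ι (fun _ : I => N) i) ⁻¹' (Set.range c)
  have hT : ∀ i, IsClopen (T i) := fun i =>
    ⟨c.isClosedEmbedding.isClosed_range.preimage (Sigma.ι (fun _ : I => N) i).continuous,
      c.isOpenEmbedding.isOpen_range.preimage (Sigma.ι (fun _ : I => N) i).continuous⟩
  have hT' : ∀ i, (T i).Nonempty → T i = Set.univ := by
    intro i hne
    rcases isClopen_iff.1 (hT i) with h | h
    · rw [h] at hne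
      exact absurd hne Set.not_nonempty_empty
    · exact h
  let I₁ : Set I := {i | T i = Set.univ}
  -- `I₁` is finite
  have hI₁ : I₁.Finite := by
    have hex : ∀ i : I₁, ∃ y : Y, c y = Sigma.ι (fun _ : I => N) i.1 n := by
      intro i
      have : n ∈ T i.1 := by rw [i.2]; trivial
      exact this
    choose y hy using hex
    haveI := hn.to_subtype
    have hmem : ∀ i : I₁, y i ∈ (c ≫ Sigma.desc (fun _ : I => 𝟙 N)) ⁻¹' {n} := by
      intro i
      show (c ≫ Sigma.desc (fun _ : I => 𝟙 N)) (y i) = n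
      rw [Scheme.Hom.comp_apply, hy i, hdι]
    have hinj : Function.Injective (fun i : I₁ =>
        (⟨y i, hmem i⟩ : ↥((c ≫ Sigma.desc (fun _ : I => 𝟙 N)) ⁻¹' {n}))) := by
      intro i j hij
      have h1 : y i = y j := congrArg Subtype.val hij
      have h2 : Sigma.ι (fun _ : I => N) i.1 n = Sigma.ι (fun _ : I => N) j.1 n := by
        rw [← hy i, ← hy j, h1]
      have h3 := (sigmaι_eq_iff (fun _ : I => N) i.1 j.1 n n).1 h2
      exact Subtype.ext (congrArg Sigma.fst h3)
    haveI := Finite.of_injective _ hinj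
    exact Set.toFinite I₁
  -- every point of the image lies in a component of `I₁`
  have hrange : ∀ y : Y, ∃ i ∈ I₁, ∃ x : N, Sigma.ι (fun _ : I => N) i x = c y := by
    intro y
    obtain ⟨⟨i, x⟩, hx⟩ := (sigmaMk (fun _ : I => N)).surjective (c y)
    rw [sigmaMk_mk] at hx
    exact ⟨i, hT' i ⟨x, y, hx.symm⟩, x, hx⟩
  haveI : QuasiCompact (c ≫ Sigma.desc (fun _ : I => 𝟙 N)) := by
    refine ⟨fun K _ hKc => ?_⟩
    have hEq : (c ≫ Sigma.desc (fun _ : I => 𝟙 N)) ⁻¹' K =
        c ⁻¹' (⋃ i ∈ I₁, (Sigma.ι (fun _ : I => N) i) '' K) := by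
      ext y
      simp only [Set.mem_preimage, Set.mem_iUnion, Set.mem_image]
      constructor
      · intro hy
        obtain ⟨i, hi, x, hx⟩ := hrange y
        refine ⟨i, hi, x, ?_, hx⟩
        have : (c ≫ Sigma.desc (fun _ : I => 𝟙 N)) y = x := by
          rw [Scheme.Hom.comp_apply, ← hx, hdι]
        rw [← this]
        exact hy
      · rintro ⟨i, -, x, hxK, hx⟩
        have : (c ≫ Sigma.desc (fun _ : I => 𝟙 N)) y = x := by
          rw [Scheme.Hom.comp_apply, ← hx, hdι]
        rw [this]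
        exact hxK
    rw [hEq]
    apply c.isClosedEmbedding.isCompact_preimage
    exact hI₁.isCompact_biUnion (fun i _ => hKc.image (Sigma.ι (fun _ : I => N) i).continuous)
  haveI : LocallyOfFiniteType (Sigma.desc (fun _ : I => 𝟙 N)) :=
    IsZariskiLocalAtSource.sigmaDesc (P := @LocallyOfFiniteType) (fun _ => inferInstance)
  exact isFinite_sigma_aux I c (Sigma.desc (fun _ : I => 𝟙 N)) hιd

/-! ### Main theorem -/

theorem main {S : Scheme.{u}} [IsLocallyNoetherian S] [ConnectedSpace S]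
    (P : Over S) (hP : TwC.IsTwConst TwC.Topology.etale P)
    {Z : Scheme.{u}} (z : Z ⟶ P.left) [IsOpenImmersion z] [IsClosedImmersion z]
    (hs : ∃ s : S, Set.Finite ((z ≫ P.hom) ⁻¹' {s})) :
    IsFinite (z ≫ P.hom) := by
  have hP' : ∀ s : S, ∃ (S' : Scheme.{u}) (f : S' ⟶ S), Etale f ∧ s ∈ Set.range f ∧
      ∃ I : Type u, Nonempty (Red.bc f P ≅ TwC.const S' I) := hP
  -- `h` is locally quasi-finite
  have hLQF : (@LocallyQuasiFinite ⊓ @LocallyOfFiniteType : MorphismProperty Scheme.{u})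
      (z ≫ P.hom) := by
    haveI := Groth.Agent.S0087.result.{u}
    apply prop_of_fppf_local
    intro s
    obtain ⟨S', f, hfet, hsf, I, ⟨e⟩⟩ := hP' s
    haveI := hfet
    refine ⟨S', f, inferInstance, inferInstance, hsf, ?_⟩
    obtain ⟨c, hc, -, -, hcimm⟩ := exists_sigma_map P z f I e
    haveI : IsImmersion c := hcimm inferInstance
    haveI : LocallyQuasiFinite (Sigma.desc (fun _ : I => 𝟙 S')) :=
      IsZariskiLocalAtSource.sigmaDesc (P := @LocallyQuasiFinite) (fun _ => inferInstance)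
    haveI : LocallyOfFiniteType (Sigma.desc (fun _ : I => 𝟙 S')) :=
      IsZariskiLocalAtSource.sigmaDesc (P := @LocallyOfFiniteType) (fun _ => inferInstance)
    rw [← hc]
    exact ⟨inferInstance, inferInstance⟩
  haveI : LocallyQuasiFinite (z ≫ P.hom) := hLQF.1
  -- chart analysis
  have key : ∀ s : S, ∃ (N : Scheme.{u}) (fN : N ⟶ S), Etale fN ∧ s ∈ Set.range fN ∧
      ((∃ n : N, ((z ≫ P.hom) ⁻¹' {fN n}).Finite) → IsFinite (pullback.snd (z ≫ P.hom) fN)) := by
    intro s
    obtain ⟨S', f, hfet, ⟨s', hs'⟩, I, ⟨e⟩⟩ := hP' s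
    haveI := hfet
    haveI : IsLocallyNoetherian S' := LocallyOfFiniteType.isLocallyNoetherian f
    let N : S'.Opens := ⟨connectedComponent s', isOpen_connectedComponent⟩
    obtain ⟨eN⟩ := const_bc' P f N.ι I e
    haveI : PreconnectedSpace N.toScheme :=
      Subtype.preconnectedSpace (isConnected_connectedComponent (x := s')).isPreconnected
    refine ⟨N.toScheme, N.ι ≫ f, inferInstance, ⟨⟨s', mem_connectedComponent⟩, ?_⟩, ?_⟩
    · rw [Scheme.Hom.comp_apply]
      exact hs'
    · rintro ⟨n, hn⟩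
      obtain ⟨c, hc, hccl, hcop, -⟩ := exists_sigma_map P z (N.ι ≫ f) I eN
      haveI : IsClosedImmersion c := hccl inferInstance
      haveI : IsOpenImmersion c := hcop inferInstance
      have hfib := finite_fiber_bc (z ≫ P.hom) (N.ι ≫ f) n hn
      rw [← hc] at hfib ⊢
      exact isFinite_sigma_of_connected I c n hfib
  -- finiteness over a chart gives finite fibres over its image
  have fibres : ∀ {N : Scheme.{u}} (fN : N ⟶ S), IsFinite (pullback.snd (z ≫ P.hom) fN) →
      ∀ n : N, ((z ≫ P.hom) ⁻¹' {fN n}).Finite := by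
    intro N fN hfin n
    haveI := hfin
    have h1 := (pullback.snd (z ≫ P.hom) fN).finite_preimage_singleton n
    refine (h1.image (pullback.fst (z ≫ P.hom) fN)).subset ?_
    intro z₁ hz₁
    obtain ⟨w, hw1, hw2⟩ := Scheme.Pullback.exists_preimage_pullback
      (f := z ≫ P.hom) (g := fN) z₁ n hz₁
    exact ⟨w, hw2, hw1⟩
  -- the locus of finite fibres is open and closed
  let F : Set S := {s | ((z ≫ P.hom) ⁻¹' {s}).Finite}
  have hchart : ∀ s : S, ∃ V : Set S, IsOpen V ∧ s ∈ V ∧ ((V ∩ F).Nonempty → V ⊆ F) := by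
    intro s
    obtain ⟨N, fN, hfet, hsN, hstar⟩ := key s
    haveI := hfet
    refine ⟨Set.range fN, fN.isOpenMap.isOpen_range, hsN, ?_⟩
    rintro ⟨_, ⟨n, rfl⟩, hnF⟩ _ ⟨m, rfl⟩
    exact fibres fN (hstar ⟨n, hnF⟩) m
  have hFclopen : IsClopen F := by
    constructor
    · rw [← isOpen_compl_iff, isOpen_iff_forall_mem_open]
      intro s hsF
      obtain ⟨V, hVo, hsV, hV⟩ := hchart s
      refine ⟨V, ?_, hVo, hsV⟩
      intro v hvV hvF
      exact hsF (hV ⟨v, hvV, hvF⟩ hsV)
    · rw [isOpen_iff_forall_mem_open]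
      intro s hsF
      obtain ⟨V, hVo, hsV, hV⟩ := hchart s
      exact ⟨V, hV ⟨s, hsV, hsF⟩, hVo, hsV⟩
  have hFuniv : F = Set.univ := hFclopen.eq_univ hs
  -- conclude
  haveI := Groth.Agent.S0084.result.{u}
  apply prop_of_fppf_local @IsFinite
  intro s
  obtain ⟨N, fN, hfet, hsN, hstar⟩ := key s
  haveI := hfet
  obtain ⟨n, hn⟩ := hsN
  refine ⟨N, fN, inferInstance, inferInstance, ⟨n, hn⟩, hstar ⟨n, ?_⟩⟩
  have : fN n ∈ F := by rw [hFuniv]; trivial
  exact this

end Groth.Agent.Helper3.TwConstFin2
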