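import Mathlib
import Groth.Prelude.Def_TwC
import Groth.Prelude.Def_CAlg2
import Groth.Agent.S0084
import Groth.Agent.S0087
import Groth.Agent.Lib.Helper3.TwConstFin
import Groth.Agent.Lib.Helper3.TwConstFin2
import Groth.Agent.Lib.Helper4.ConnHartogs1
import Groth.Agent.Lib.Helper4.UniComp2

/-!
# Connected components of quasi-isotrivial twisted constant schemes over a geometrically
unibranch locally Noetherian base are finite (helper3)

* maximal points of a locally Noetherian scheme whose local rings have at most one minimal prime: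
  the closure of a maximal point is open, and is the connected component of each of its points;
* a quasi-isotrivial twisted constant scheme is étale and locally quasi-finite over the base;
* `main'`: the variant of `TwConstFin2.main` over a possibly disconnected base;
* `main_S5268`.
-/

set_option autoImplicit false
set_option linter.style.haveILetI false
set_option linter.unusedVariables false
universe u

namespace Groth.Agent.Helper3.TwConstFin3
open CategoryTheory CategoryTheory.Limits AlgebraicGeometry TopologicalSpace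
open Groth.Agent.Helper3.TwConstFin Groth.Agent.Helper3.TwConstFin2

/-! ### Maximal points -/

section Top

variable {X : Scheme.{u}}

/-- A point with no proper generization. -/
def IsMaxPt (ξ : X) : Prop := ∀ ξ' : X, ξ' ⤳ ξ → ξ' = ξ

lemma mem_range_fromSpecStalk {y ζ : X} (h : ζ ⤳ y) : ζ ∈ Set.range (X.fromSpecStalk y) := by
  rw [Scheme.range_fromSpecStalk]
  exact h

lemma fromSpecStalk_specializes (y : X) (P : Spec (X.presheaf.stalk y)) :
    X.fromSpecStalk y P ⤳ y := by
  have h : X.fromSpecStalk y P ∈ Set.range (X.fromSpecStalk y) := ⟨P, rfl⟩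
  rw [Scheme.range_fromSpecStalk] at h
  exact h

lemma exists_maxPt (y : X) : ∃ ξ : X, ξ ⤳ y ∧ IsMaxPt ξ := by
  obtain ⟨p, hp, -⟩ := Ideal.exists_minimalPrimes_le (I := (⊥ : Ideal (X.presheaf.stalk y)))
    (J := IsLocalRing.maximalIdeal (X.presheaf.stalk y)) bot_le
  have hp1 : p.IsPrime := hp.1.1
  let P : PrimeSpectrum (X.presheaf.stalk y) := ⟨p, hp1⟩
  refine ⟨X.fromSpecStalk y P, fromSpecStalk_specializes y P, ?_⟩
  intro ξ' hξ'
  obtain ⟨Q, rfl⟩ := mem_range_fromSpecStalk (hξ'.trans (fromSpecStalk_specializes y P))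
  have h2 : Q ⤳ P := ((X.fromSpecStalk y).isEmbedding.isInducing.specializes_iff).1 hξ'
  have h3 : PrimeSpectrum.asIdeal Q ≤ p :=
    (PrimeSpectrum.le_iff_specializes (R := X.presheaf.stalk y) Q P).2 h2
  have h4 : p ≤ PrimeSpectrum.asIdeal Q := hp.2 ⟨PrimeSpectrum.isPrime Q, bot_le⟩ h3
  have h5 : Q = P := PrimeSpectrum.ext (le_antisymm h3 h4)
  rw [h5]

lemma maxPt_unique (y : X) (hy : (minimalPrimes (X.presheaf.stalk y)).encard ≤ 1) {ξ₁ ξ₂ : X}
    (h₁ : ξ₁ ⤳ y) (m₁ : IsMaxPt ξ₁) (h₂ : ξ₂ ⤳ y) (m₂ : IsMaxPt ξ₂) : ξ₁ = ξ₂ := by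
  obtain ⟨P₁, rfl⟩ := mem_range_fromSpecStalk h₁
  obtain ⟨P₂, rfl⟩ := mem_range_fromSpecStalk h₂
  have key : ∀ P : PrimeSpectrum (X.presheaf.stalk y), IsMaxPt (X.fromSpecStalk y P) →
      P.asIdeal ∈ minimalPrimes (X.presheaf.stalk y) := by
    intro P hP
    refine ⟨⟨P.isPrime, bot_le⟩, ?_⟩
    intro q hq hqP
    let Q : PrimeSpectrum (X.presheaf.stalk y) := ⟨q, hq.1⟩
    have hQP : Q ≤ P := hqP
    have h1 : Q ⤳ P := (PrimeSpectrum.le_iff_specializes Q P).1 hQP
    have h2 : X.fromSpecStalk y Q ⤳ X.fromSpecStalk y P := h1.map (X.fromSpecStalk y).continuous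
    have h3 := hP _ h2
    have h4 : Q = P := (X.fromSpecStalk y).isEmbedding.injective h3
    have h5 : P ≤ Q := h4 ▸ le_rfl
    exact h5
  have e := (Set.encard_le_one_iff.1 hy) _ _ (key P₁ m₁) (key P₂ m₂)
  have h : P₁ = P₂ := PrimeSpectrum.ext e
  rw [h]

theorem isOpen_closure_maxPt [IsLocallyNoetherian X]
    (hX : ∀ x : X, (minimalPrimes (X.presheaf.stalk x)).encard ≤ 1) (ξ : X) (hξ : IsMaxPt ξ) :
    IsOpen (closure ({ξ} : Set X)) := by
  rw [isOpen_iff_forall_mem_open]
  intro y hy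
  have hξy : ξ ⤳ y := specializes_iff_mem_closure.2 hy
  obtain ⟨V, hV, hyV, -⟩ := exists_isAffineOpen_mem_and_subset (x := y) (U := ⊤) trivial
  haveI : IsNoetherianRing Γ(X, V) := IsLocallyNoetherian.component_noetherian ⟨V, hV⟩
  have hfin : (minimalPrimes Γ(X, V)).Finite := minimalPrimes.finite_of_isNoetherianRing _
  let M : Set (PrimeSpectrum Γ(X, V)) := PrimeSpectrum.asIdeal ⁻¹' minimalPrimes Γ(X, V)
  have hM : M.Finite := hfin.preimage (fun a _ b _ h => PrimeSpectrum.ext h)
  let G : Set X := hV.fromSpec '' M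
  have hG : G.Finite := hM.image _
  let G' : Set X := {ζ ∈ G | ¬ ζ ⤳ y}
  have hG' : G'.Finite := hG.subset (Set.sep_subset _ _)
  let B : Set X := ⋃ ζ ∈ G', closure ({ζ} : Set X)
  have hB : IsClosed B := hG'.isClosed_biUnion (fun _ _ => isClosed_closure)
  refine ⟨(V : Set X) \ B, ?_, V.isOpen.sdiff hB, ⟨hyV, ?_⟩⟩
  · rintro w ⟨hwV, hwB⟩
    obtain ⟨q, rfl⟩ : w ∈ Set.range hV.fromSpec := by
      rw [hV.range_fromSpec]
      exact hwV
    obtain ⟨p, hp, hpq⟩ := Ideal.exists_minimalPrimes_le (I := (⊥ : Ideal Γ(X, V)))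
      (J := q.asIdeal) bot_le
    have hp1 : p.IsPrime := hp.1.1
    let P : PrimeSpectrum Γ(X, V) := ⟨p, hp1⟩
    have hPM : P ∈ M := hp
    have hPq' : P ≤ q := hpq
    have hPq : P ⤳ q := (PrimeSpectrum.le_iff_specializes P q).1 hPq'
    have hζw : hV.fromSpec P ⤳ hV.fromSpec q := hPq.map hV.fromSpec.continuous
    have hζy : hV.fromSpec P ⤳ y := by
      by_contra hcon
      apply hwB
      rw [Set.mem_iUnion₂]
      exact ⟨hV.fromSpec P, ⟨⟨P, hPM, rfl⟩, hcon⟩, specializes_iff_mem_closure.1 hζw⟩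
    have hζmax : IsMaxPt (hV.fromSpec P) := by
      intro ζ' hζ'
      have hPV : hV.fromSpec P ∈ (V : Set X) := by
        rw [← hV.range_fromSpec]
        exact ⟨P, rfl⟩
      have hζ'V : ζ' ∈ (V : Set X) := hζ'.mem_open V.isOpen hPV
      obtain ⟨P', rfl⟩ : ζ' ∈ Set.range hV.fromSpec := by
        rw [hV.range_fromSpec]
        exact hζ'V
      have h1 : P' ⤳ P := (hV.fromSpec.isOpenEmbedding.isInducing.specializes_iff).1 hζ'
      have h2 : PrimeSpectrum.asIdeal P' ≤ p :=
        (PrimeSpectrum.le_iff_specializes (R := Γ(X, V)) P' P).2 h1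
      have h3 : p ≤ PrimeSpectrum.asIdeal P' := hp.2 ⟨PrimeSpectrum.isPrime P', bot_le⟩ h2
      have h4 : P' = P := PrimeSpectrum.ext (le_antisymm h2 h3)
      rw [h4]
    have hεq : hV.fromSpec P = ξ := maxPt_unique y (hX y) hζy hζmax hξy hξ
    rw [← hεq]
    exact specializes_iff_mem_closure.1 hζw
  · rw [Set.mem_iUnion₂]
    rintro ⟨ζ, ⟨_, hζy⟩, hy'⟩
    exact hζy (specializes_iff_mem_closure.2 hy')

theorem connectedComponent_eq_closure [IsLocallyNoetherian X]
    (hX : ∀ x : X, (minimalPrimes (X.presheaf.stalk x)).encard ≤ 1) (x : X) :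
    ∃ ξ : X, IsMaxPt ξ ∧ ξ ⤳ x ∧ connectedComponent x = closure ({ξ} : Set X) := by
  obtain ⟨ξ, hξx, hξ⟩ := exists_maxPt x
  refine ⟨ξ, hξ, hξx, ?_⟩
  have hx : x ∈ closure ({ξ} : Set X) := specializes_iff_mem_closure.1 hξx
  apply Set.Subset.antisymm
  · exact IsClopen.connectedComponent_subset ⟨isClosed_closure, isOpen_closure_maxPt hX ξ hξ⟩ hx
  · exact (isIrreducible_singleton.closure.isConnected.isPreconnected).subset_connectedComponent hx

/-- In a fibre of a locally quasi-finite morphism there are no proper specializations. -/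
lemma eq_of_specializes_of_fiber {X Y : Scheme.{u}} (f : X ⟶ Y) [LocallyQuasiFinite f] {a b : X}
    (h : a ⤳ b) (hab : f a = f b) : a = b := by
  have hd := f.isDiscrete_preimage_singleton (f b)
  haveI : DiscreteTopology (f ⁻¹' {f b}) := hd.to_subtype
  let a' : f ⁻¹' {f b} := ⟨a, hab⟩
  let b' : f ⁻¹' {f b} := ⟨b, rfl⟩
  have h' : a' ⤳ b' := (Topology.IsInducing.subtypeVal.specializes_iff).1 h
  exact congrArg Subtype.val h'.eq

end Top

/-! ### Properties of quasi-isotrivial twisted constant schemes -/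

theorem etale_of_twConst {S : Scheme.{u}} (P : Over S)
    (hP : TwC.IsTwConst TwC.Topology.etale P) : Etale P.hom := by
  have hP' : ∀ s : S, ∃ (S' : Scheme.{u}) (f : S' ⟶ S), Etale f ∧ s ∈ Set.range f ∧
      ∃ I : Type u, Nonempty (Red.bc f P ≅ TwC.const S' I) := hP
  apply prop_of_fppf_local @Etale
  intro s
  obtain ⟨S', f, hfet, hsf, I, ⟨e⟩⟩ := hP' s
  haveI := hfet
  refine ⟨S', f, inferInstance, inferInstance, hsf, ?_⟩
  have hw : e.hom.left ≫ Sigma.desc (fun _ : I => 𝟙 S') = pullback.snd P.hom f := Over.w e.hom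
  haveI : Etale (Sigma.desc (fun _ : I => 𝟙 S')) :=
    IsZariskiLocalAtSource.sigmaDesc (P := @Etale) (fun _ => inferInstance)
  haveI : IsIso e.hom.left := inferInstanceAs (IsIso ((Over.forget S').map e.hom))
  rw [← hw]
  infer_instance

theorem lqf_of_twConst {S : Scheme.{u}} (P : Over S)
    (hP : TwC.IsTwConst TwC.Topology.etale P) : LocallyQuasiFinite P.hom := by
  have hP' : ∀ s : S, ∃ (S' : Scheme.{u}) (f : S' ⟶ S), Etale f ∧ s ∈ Set.range f ∧
      ∃ I : Type u, Nonempty (Red.bc f P ≅ TwC.const S' I) := hP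
  have hLQF : (@LocallyQuasiFinite ⊓ @LocallyOfFiniteType : MorphismProperty Scheme.{u})
      P.hom := by
    haveI := Groth.Agent.S0087.result.{u}
    apply prop_of_fppf_local
    intro s
    obtain ⟨S', f, hfet, hsf, I, ⟨e⟩⟩ := hP' s
    haveI := hfet
    refine ⟨S', f, inferInstance, inferInstance, hsf, ?_⟩
    have hw : e.hom.left ≫ Sigma.desc (fun _ : I => 𝟙 S') = pullback.snd P.hom f := Over.w e.hom
    haveI : LocallyQuasiFinite (Sigma.desc (fun _ : I => 𝟙 S')) :=
      IsZariskiLocalAtSource.sigmaDesc (P := @LocallyQuasiFinite) (fun _ => inferInstance)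
    haveI : LocallyOfFiniteType (Sigma.desc (fun _ : I => 𝟙 S')) :=
      IsZariskiLocalAtSource.sigmaDesc (P := @LocallyOfFiniteType) (fun _ => inferInstance)
    haveI : IsIso e.hom.left := inferInstanceAs (IsIso ((Over.forget S').map e.hom))
    rw [← hw]
    exact ⟨inferInstance, inferInstance⟩
  exact hLQF.1

/-! ### The finiteness theorem over a possibly disconnected base -/

theorem main' {S : Scheme.{u}} [IsLocallyNoetherian S]
    (P : Over S) (hP : TwC.IsTwConst TwC.Topology.etale P)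
    {Z : Scheme.{u}} (z : Z ⟶ P.left) [IsOpenImmersion z] [IsClosedImmersion z]
    (hs : ∀ s : S, ∃ s₀ : S, s₀ ∈ connectedComponent s ∧
      Set.Finite ((z ≫ P.hom) ⁻¹' {s₀})) :
    IsFinite (z ≫ P.hom) := by
  have hP' : ∀ s : S, ∃ (S' : Scheme.{u}) (f : S' ⟶ S), Etale f ∧ s ∈ Set.range f ∧
      ∃ I : Type u, Nonempty (Red.bc f P ≅ TwC.const S' I) := hP
  -- `h` is locally quasi-finite
  have hLQF : (@LocallyQuasiFinite ⊓ @LocallyOfFiniteType : MorphismProperty Scheme.{u})
      (z ≫ P.hom) := by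
    haveI := Groth.Agent.S0087.result.{u}
    apply prop_of_fppf_local
    intro s
    obtain ⟨S', f, hfet, hsf, I, ⟨e⟩⟩ := hP' s
    haveI := hfet
    refine ⟨S', f, inferInstance, inferInstance, hsf, ?_⟩
    obtain ⟨c, hc, -, -, hcimm⟩ := exists_sigma_map P z f I e
    haveI : IsImmersion c := hcimm inferInstance
    haveI : LocallyQuasiFinite (Sigma.desc (fun _ : I => 𝟙 S')) :=
      IsZariskiLocalAtSource.sigmaDesc (P := @LocallyQuasiFinite) (fun _ => inferInstance)
    haveI : LocallyOfFiniteType (Sigma.desc (fun _ : I => 𝟙 S')) :=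
      IsZariskiLocalAtSource.sigmaDesc (P := @LocallyOfFiniteType) (fun _ => inferInstance)
    rw [← hc]
    exact ⟨inferInstance, inferInstance⟩
  haveI : LocallyQuasiFinite (z ≫ P.hom) := hLQF.1
  -- chart analysis
  have key : ∀ s : S, ∃ (N : Scheme.{u}) (fN : N ⟶ S), Etale fN ∧ s ∈ Set.range fN ∧
      ((∃ n : N, ((z ≫ P.hom) ⁻¹' {fN n}).Finite) → IsFinite (pullback.snd (z ≫ P.hom) fN)) := by
    intro s
    obtain ⟨S', f, hfet, ⟨s', hs'⟩, I, ⟨e⟩⟩ := hP' s
    haveI := hfet
    haveI : IsLocallyNoetherian S' := LocallyOfFiniteType.isLocallyNoetherian f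
    let N : S'.Opens := ⟨connectedComponent s', isOpen_connectedComponent⟩
    obtain ⟨eN⟩ := const_bc' P f N.ι I e
    haveI : PreconnectedSpace N.toScheme :=
      Subtype.preconnectedSpace (isConnected_connectedComponent (x := s')).isPreconnected
    refine ⟨N.toScheme, N.ι ≫ f, inferInstance, ⟨⟨s', mem_connectedComponent⟩, ?_⟩, ?_⟩
    · rw [Scheme.Hom.comp_apply]
      exact hs'
    · rintro ⟨n, hn⟩
      obtain ⟨c, hc, hccl, hcop, -⟩ := exists_sigma_map P z (N.ι ≫ f) I eN
      haveI : IsClosedImmersion c := hccl inferInstance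
      haveI : IsOpenImmersion c := hcop inferInstance
      have hfib := finite_fiber_bc (z ≫ P.hom) (N.ι ≫ f) n hn
      rw [← hc] at hfib ⊢
      exact isFinite_sigma_of_connected I c n hfib
  -- finiteness over a chart gives finite fibres over its image
  have fibres : ∀ {N : Scheme.{u}} (fN : N ⟶ S), IsFinite (pullback.snd (z ≫ P.hom) fN) →
      ∀ n : N, ((z ≫ P.hom) ⁻¹' {fN n}).Finite := by
    intro N fN hfin n
    haveI := hfin
    have h1 := (pullback.snd (z ≫ P.hom) fN).finite_preimage_singleton n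
    refine (h1.image (pullback.fst (z ≫ P.hom) fN)).subset ?_
    intro z₁ hz₁
    obtain ⟨w, hw1, hw2⟩ := Scheme.Pullback.exists_preimage_pullback
      (f := z ≫ P.hom) (g := fN) z₁ n hz₁
    exact ⟨w, hw2, hw1⟩
  -- the locus of finite fibres is open and closed
  let F : Set S := {s | ((z ≫ P.hom) ⁻¹' {s}).Finite}
  have hchart : ∀ s : S, ∃ V : Set S, IsOpen V ∧ s ∈ V ∧ ((V ∩ F).Nonempty → V ⊆ F) := by
    intro s
    obtain ⟨N, fN, hfet, hsN, hstar⟩ := key s
    haveI := hfet
    refine ⟨Set.range fN, fN.isOpenMap.isOpen_range, hsN, ?_⟩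
    rintro ⟨_, ⟨n, rfl⟩, hnF⟩ _ ⟨m, rfl⟩
    exact fibres fN (hstar ⟨n, hnF⟩) m
  have hFclopen : IsClopen F := by
    constructor
    · rw [← isOpen_compl_iff, isOpen_iff_forall_mem_open]
      intro s hsF
      obtain ⟨V, hVo, hsV, hV⟩ := hchart s
      refine ⟨V, ?_, hVo, hsV⟩
      intro v hvV hvF
      exact hsF (hV ⟨v, hvV, hvF⟩ hsV)
    · rw [isOpen_iff_forall_mem_open]
      intro s hsF
      obtain ⟨V, hVo, hsV, hV⟩ := hchart s
      exact ⟨V, hV ⟨s, hsV, hsF⟩, hVo, hsV⟩
  have hFuniv : F = Set.univ := by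
    rw [Set.eq_univ_iff_forall]
    intro s
    obtain ⟨s₀, hs₀, hfin⟩ := hs s
    have h1 : connectedComponent s₀ ⊆ F := hFclopen.connectedComponent_subset hfin
    have h2 : s ∈ connectedComponent s₀ := by
      rw [← connectedComponent_eq hs₀]
      exact mem_connectedComponent
    exact h1 h2
  -- conclude
  haveI := Groth.Agent.S0084.result.{u}
  apply prop_of_fppf_local @IsFinite
  intro s
  obtain ⟨N, fN, hfet, hsN, hstar⟩ := key s
  haveI := hfet
  obtain ⟨n, hn⟩ := hsN
  refine ⟨N, fN, inferInstance, inferInstance, ⟨n, hn⟩, hstar ⟨n, ?_⟩⟩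
  have : fN n ∈ F := by rw [hFuniv]; trivial
  exact this

/-! ### S5268 -/

theorem main_S5268 {S : Scheme.{u}} [IsLocallyNoetherian S]
    (hS : ∀ s : S, CAlg2.IsGeomUnibranch (S.presheaf.stalk s))
    (P : Over S) (hP : TwC.IsTwConst TwC.Topology.etale P) (x : P.left) :
    ∃ U : P.left.Opens, (U : Set P.left) = connectedComponent x ∧ IsFinite (U.ι ≫ P.hom) := by
  haveI hét : Etale P.hom := etale_of_twConst P hP
  haveI hlqf : LocallyQuasiFinite P.hom := lqf_of_twConst P hP
  haveI : IsLocallyNoetherian P.left := LocallyOfFiniteType.isLocallyNoetherian P.hom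
  have hX : ∀ y : P.left, (minimalPrimes (P.left.presheaf.stalk y)).encard ≤ 1 := fun y =>
    Groth.Agent.Lib.Helper4.UniComp2.encard_minimalPrimes_stalk_le_one_of_smooth P.hom y
      (by rw [Scheme.Hom.smoothLocus_eq_top]; trivial) (hS _)
  obtain ⟨ξ, hξ, hξx, hC⟩ := connectedComponent_eq_closure hX x
  have hopen : IsOpen (connectedComponent x) := by
    rw [hC]
    exact isOpen_closure_maxPt hX ξ hξ
  let U : P.left.Opens := ⟨connectedComponent x, hopen⟩
  refine ⟨U, rfl, ?_⟩
  haveI : IsClosedImmersion U.ι :=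
    IsClosedImmersion.of_isPreimmersion _ (by
      rw [Scheme.Opens.range_ι]
      exact isClosed_connectedComponent)
  have hξC : ξ ∈ connectedComponent x := by
    rw [hC]
    exact subset_closure rfl
  apply main' P hP U.ι
  intro s
  by_cases hs : ∃ y : P.left, y ∈ connectedComponent x ∧ P.hom y = s
  · obtain ⟨y, hyC, rfl⟩ := hs
    refine ⟨P.hom ξ, ?_, ?_⟩
    · have hconn : _root_.IsPreconnected (P.hom '' connectedComponent x) :=
        isPreconnected_connectedComponent.image _ P.hom.continuous.continuousOn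
      exact hconn.subset_connectedComponent ⟨y, hyC, rfl⟩ ⟨ξ, hξC, rfl⟩
    · have hsub : (U.ι ≫ P.hom) ⁻¹' {P.hom ξ} ⊆ {(⟨ξ, hξC⟩ : U)} := by
        intro w hw
        have hwC : w.1 ∈ closure ({ξ} : Set P.left) := by
          rw [← hC]
          exact w.2
        have hw1 : ξ ⤳ w.1 := specializes_iff_mem_closure.2 hwC
        have hw2 : P.hom w.1 = P.hom ξ := hw
        have h3 := eq_of_specializes_of_fiber P.hom hw1 hw2.symm
        exact Subtype.ext h3.symm
      exact (Set.finite_singleton _).subset hsub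
  · refine ⟨s, mem_connectedComponent, ?_⟩
    have hemp : (U.ι ≫ P.hom) ⁻¹' {s} = ∅ := by
      rw [Set.eq_empty_iff_forall_notMem]
      intro w hw
      exact hs ⟨w.1, w.2, hw⟩
    rw [hemp]
    exact Set.finite_empty

end Groth.Agent.Helper3.TwConstFin3
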