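import Mathlib
import Groth.Prelude.Def_TwC
import Groth.Agent.Lib.Helper3.TwConstFin

/-!
# Isotrivial twisted constant groups are unions of finite clopen pieces

For an isotrivial twisted constant `S`-group `R` (trivialised over the clopen pieces of one finite
étale surjective `S' ⟶ S`), every point of `R` lies in the image of one copy `U ⟶ R` of a clopen
piece `U ⊆ S'`; this image is open and closed in `R` and quasi-compact over `S`, hence finite over
`S` by `TwConstFin.main`.
-/

set_option autoImplicit false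
set_option linter.style.haveILetI false
set_option linter.unusedVariables false

universe u

open CategoryTheory CategoryTheory.Limits AlgebraicGeometry MonoidalCategory
  CartesianMonoidalCategory MonObj

namespace Groth.Agent.Helper3.TwConstIso

/-- The range of a coproduct inclusion of schemes is closed. -/
theorem isClosed_range_sigmaι {I : Type u} (g : I → Scheme.{u}) (i : I) :
    IsClosed (Set.range (Sigma.ι g i)) := by
  have h : Set.range (Sigma.ι g i) =
      (sigmaMk g) '' (Set.range (@Sigma.mk I (fun j => ↥(g j)) i)) := by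
    ext w
    constructor
    · rintro ⟨y, rfl⟩
      exact ⟨⟨i, y⟩, ⟨y, rfl⟩, sigmaMk_mk g i y⟩
    · rintro ⟨_, ⟨y, rfl⟩, rfl⟩
      exact ⟨y, (sigmaMk_mk g i y).symm⟩
  rw [h]
  exact (sigmaMk g).isClosedMap _ isClosed_range_sigmaMk

/-- An isotrivial twisted constant group is a twisted constant scheme for the fpqc topology. -/
theorem isTwConst_fpqc {S : Scheme.{u}} (R : Over S) [GrpObj R]
    (hR : TwC.IsTwConstGrp TwC.Topology.finiteEtale R) :
    TwC.IsTwConst TwC.Topology.fpqc R := by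
  obtain ⟨S', f, hfin, het, hsurj, hloc⟩ := hR
  haveI := hfin
  haveI := het
  haveI := hsurj
  refine ⟨S', f, inferInstance, inferInstance, ?_, ?_⟩
  · intro V hV
    refine ⟨f ⁻¹ᵁ V, f.isCompact_preimage hV.isCompact, ?_⟩
    exact Set.image_preimage_eq _ f.surjective
  · intro s'
    obtain ⟨U, hs', -, M, _, e, -⟩ := hloc s'
    exact ⟨U, hs', M, ⟨e⟩⟩

theorem main {S : Scheme.{u}} (R : Over S) [GrpObj R]
    (hR : TwC.IsTwConstGrp TwC.Topology.finiteEtale R) (x : R.left) :
    ∃ U : R.left.Opens, x ∈ U ∧ IsClosed (U : Set R.left) ∧ IsFinite (U.ι ≫ R.hom) := by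
  have hfpqc := isTwConst_fpqc R hR
  obtain ⟨S', f, hfin, het, hsurj, hloc⟩ := hR
  haveI := hfin
  haveI := het
  haveI := hsurj
  obtain ⟨s', hs'⟩ := f.surjective (R.hom x)
  obtain ⟨U, hs'U, hUcl, M, _, e, -⟩ := hloc s'
  haveI : IsClosedImmersion U.ι :=
    IsClosedImmersion.of_isPreimmersion _ (by rw [Scheme.Opens.range_ι]; exact hUcl)
  let t : U.toScheme ⟶ S := U.ι ≫ f
  haveI : IsFinite t := inferInstanceAs (IsFinite (U.ι ≫ f))
  haveI : Etale t := inferInstanceAs (Etale (U.ι ≫ f))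
  have hxt : R.hom x = t ⟨s', hs'U⟩ := by
    rw [← hs']
    rfl
  obtain ⟨z, hz1, hz2⟩ := Scheme.Pullback.exists_preimage_pullback (f := R.hom) (g := t) x
    ⟨s', hs'U⟩ hxt
  let eh : pullback R.hom t ⟶ ∐ (fun _ : M => U.toScheme) := e.hom.left
  let ei : (∐ fun _ : M => U.toScheme) ⟶ pullback R.hom t := e.inv.left
  have hei : eh ≫ ei = 𝟙 _ := by
    show (e.hom ≫ e.inv).left = _
    rw [e.hom_inv_id]
    rfl
  have hie : ei ≫ eh = 𝟙 _ := by
    show (e.inv ≫ e.hom).left = _
    rw [e.inv_hom_id]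
    rfl
  haveI : IsIso ei := ⟨eh, hie, hei⟩
  have hw' : ei ≫ pullback.snd R.hom t = Sigma.desc (fun _ : M => 𝟙 U.toScheme) := Over.w e.inv
  obtain ⟨⟨m, u'⟩, hu'⟩ := (sigmaMk (fun _ : M => U.toScheme)).surjective (eh z)
  rw [sigmaMk_mk] at hu'
  let c : U.toScheme ⟶ R.left :=
    Sigma.ι (fun _ : M => U.toScheme) m ≫ ei ≫ pullback.fst R.hom t
  have hcx : c u' = x := by
    show (Sigma.ι (fun _ : M => U.toScheme) m ≫ ei ≫ pullback.fst R.hom t) u' = x
    rw [Scheme.Hom.comp_apply, hu', ← Scheme.Hom.comp_apply, ← Category.assoc, hei,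
      Category.id_comp, hz1]
  haveI : Etale c :=
    inferInstanceAs (Etale (Sigma.ι (fun _ : M => U.toScheme) m ≫ ei ≫ pullback.fst R.hom t))
  have hopen : IsOpen (Set.range c) := c.isOpenMap.isOpen_range
  have hclosed : IsClosed (Set.range c) := by
    have hr : Set.range c = (pullback.fst R.hom t) ''
        (ei '' Set.range (Sigma.ι (fun _ : M => U.toScheme) m)) := by
      ext w
      constructor
      · rintro ⟨y, rfl⟩
        exact ⟨ei (Sigma.ι (fun _ : M => U.toScheme) m y), ⟨_, ⟨y, rfl⟩, rfl⟩, rfl⟩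
      · rintro ⟨_, ⟨_, ⟨y, rfl⟩, rfl⟩, rfl⟩
        exact ⟨y, rfl⟩
    rw [hr]
    exact (pullback.fst R.hom t).isClosedMap _
      (ei.isClosedMap _ (isClosed_range_sigmaι _ m))
  let U₀ : R.left.Opens := ⟨Set.range c, hopen⟩
  refine ⟨U₀, ⟨u', hcx⟩, hclosed, ?_⟩
  haveI : IsClosedImmersion U₀.ι :=
    IsClosedImmersion.of_isPreimmersion _ (by rw [Scheme.Opens.range_ι]; exact hclosed)
  have hrange : Set.range c ⊆ Set.range U₀.ι := by
    rw [Scheme.Opens.range_ι]
    exact subset_rfl
  let c' : U.toScheme ⟶ U₀.toScheme := IsOpenImmersion.lift U₀.ι c hrange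
  have hc' : c' ≫ U₀.ι = c := IsOpenImmersion.lift_fac _ _ _
  have hcR : c ≫ R.hom = t := by
    show (Sigma.ι (fun _ : M => U.toScheme) m ≫ ei ≫ pullback.fst R.hom t) ≫ R.hom = t
    rw [Category.assoc, Category.assoc, pullback.condition, ← Category.assoc ei, hw',
      ← Category.assoc, Sigma.ι_desc, Category.id_comp]
  have hc'surj : Function.Surjective c' := by
    intro y
    obtain ⟨u, hu⟩ : (U₀.ι y) ∈ Set.range c := y.2
    refine ⟨u, ?_⟩
    apply U₀.ι.isOpenEmbedding.injective
    rw [← Scheme.Hom.comp_apply, hc']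
    exact hu
  haveI : QuasiCompact (U₀.ι ≫ R.hom) := by
    constructor
    intro V hVo hVc
    have ht : IsCompact (t ⁻¹' V) := QuasiCompact.isCompact_preimage (f := t) V hVo hVc
    have heq : (U₀.ι ≫ R.hom) ⁻¹' V = c' '' (t ⁻¹' V) := by
      ext y
      constructor
      · intro hy
        obtain ⟨u, rfl⟩ := hc'surj y
        refine ⟨u, ?_, rfl⟩
        show t u ∈ V
        have h1 : t u = (U₀.ι ≫ R.hom) (c' u) := by
          rw [← Scheme.Hom.comp_apply, ← Category.assoc, hc', hcR]
        rw [h1]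
        exact hy
      · rintro ⟨u, hu, rfl⟩
        show (U₀.ι ≫ R.hom) (c' u) ∈ V
        rw [← Scheme.Hom.comp_apply, ← Category.assoc, hc', hcR]
        exact hu
    rw [heq]
    exact ht.image c'.continuous
  exact Groth.Agent.Helper3.TwConstFin.main R hfpqc U₀.ι

end Groth.Agent.Helper3.TwConstIso
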