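import Mathlib
import Groth.Prelude.Def_WeakSerre
import Groth.Agent.Lib.Helper3.TwoTop6
import Groth.Agent.Lib.Helper3.TwoTop7

/-!
# The inverse image of a weak Serre subcategory under a fully faithful left exact functor
-/

set_option autoImplicit false
universe v v' u u'
open CategoryTheory Limits

namespace Groth.Agent.Helper3.TwoTop14

variable {𝒜 : Type u} [Category.{v} 𝒜] [Abelian 𝒜] [EnoughInjectives 𝒜]
  {ℬ : Type u'} [Category.{v'} ℬ] [Abelian ℬ]
  (G : 𝒜 ⥤ ℬ) [G.Full] [G.Faithful] [G.Additive] [PreservesFiniteLimits G]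

/-- if `Pr` is a weak Serre subcategory contained in the essential image of the fully faithful left
exact functor `G` and `R¹G` vanishes on the inverse image, then the inverse image is weak Serre -/
theorem isWeakSerre_inverseImage (Pr : ObjectProperty ℬ) [WSerre.IsWeakSerre Pr]
    (hPr : ∀ Y, Pr Y → G.essImage Y)
    (hvan : ∀ M : 𝒜, Pr (G.obj M) → IsZero ((G.rightDerived 1).obj M)) :
    WSerre.IsWeakSerre (Pr.inverseImage G) := by
  haveI : (Pr.inverseImage G).ContainsZero := inferInstance
  haveI : (Pr.inverseImage G).IsClosedUnderKernels := ⟨by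
    rintro _ ⟨f, k, hk, hf⟩
    exact Pr.prop_of_isLimit_kernelFork (KernelFork.mapIsLimit _ hk G) hf.1 hf.2⟩
  haveI : (Pr.inverseImage G).IsClosedUnderCokernels := ⟨by
    rintro _ ⟨f, k, hk, hf⟩
    have hC' : Pr (cokernel (G.map f)) := Pr.prop_cokernel _ hf.1 hf.2
    have hk' : IsColimit (CokernelCofork.ofπ k.π k.condition) :=
      IsColimit.ofIsoColimit hk (Cofork.ext (Iso.refl _) (by simp))
    obtain ⟨_, ⟨e⟩⟩ := TwoTop7.cokernel_comparison G f k.π k.condition hk'
      (cokernel.π (G.map f)) (cokernel.condition _) (cokernelIsCokernel _) (hPr _ hC')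
    exact Pr.prop_of_iso e hC'⟩
  haveI : (Pr.inverseImage G).IsClosedUnderExtensions := ⟨by
    intro S hS h₁ h₃
    have hS' : (S.map G).ShortExact := TwoTop6.shortExact_map_of_isZero G S hS (hvan _ h₁)
    exact Pr.prop_X₂_of_shortExact hS' h₁ h₃⟩
  exact { }

end Groth.Agent.Helper3.TwoTop14
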