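import Mathlib
import Groth.Prelude.Def_SiteCmp
import Groth.Prelude.Def_CohSite
import Groth.Agent.Lib.Helper3.TwoTop1
import Groth.Agent.Lib.Helper3.TwoTop7
import Groth.Agent.Lib.Helper3.TwoTop9
import Groth.Agent.Lib.Helper5.Misc.ExtAdjAcyc

/-!
# Two topologies: comparison of cohomology for `ε`-acyclic sheaves
-/

set_option autoImplicit false
universe u
open CategoryTheory Limits Opposite Abelian

namespace Groth.Agent.Helper3.TwoTop15

variable {D : Type u} [SmallCategory D] {K K' : GrothendieckTopology D}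

theorem aT_bijective [Fact (K' ≤ K)] (hle : K' ≤ K) (F : Sheaf K AddCommGrpCat.{u})
    (hvan : ∀ i : ℕ, 0 < i →
      IsZero (((SiteCmp.epsSh hle AddCommGrpCat.{u}).rightDerived i).obj F)) (n : ℕ) (T : D) :
    Function.Bijective (TwoTop9.aT hle F n T) := by
  letI := HasDerivedCategory.standard (Sheaf K AddCommGrpCat.{u})
  letI := HasDerivedCategory.standard (Sheaf K' AddCommGrpCat.{u})
  have hΦ := Groth.Agent.Lib.Helper5.ExtAdjAcyc.Φ_bijective (TwoTop1.adj hle)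
    (CohCx.freeSheaf K' T) F hvan n
  haveI := TwoTop9.isIso_σ hle T
  constructor
  · intro e₁ e₂ h
    apply hΦ.1
    rw [TwoTop9.aT_apply, TwoTop9.aT_apply] at h
    rw [← TwoTop9.precomp_iso_injective (TwoTop9.σ K K' T) F n
      (Groth.Agent.Lib.Helper5.ExtAdjAcyc.Φ (TwoTop1.adj hle) (CohCx.freeSheaf K' T) F n e₁), h,
      TwoTop9.precomp_iso_injective]
  · intro ξ
    obtain ⟨e, he⟩ := hΦ.2 ((Ext.mk₀ (inv (TwoTop9.σ K K' T))).comp ξ (zero_add n))
    refine ⟨e, ?_⟩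
    rw [TwoTop9.aT_apply, he]
    exact TwoTop9.precomp_iso_injective' _ F n ξ

/-- for a `K'`-sheaf `F'` which is an `ε`-acyclic `K`-sheaf, `H^n_{K'}(T, F') ≃ H^n_K(T, ε⁻¹F')` -/
theorem nonempty_addEquiv (hle : K' ≤ K)
    [haveI := SiteCmp.idContinuous hle;
      ((𝟭 D).sheafPushforwardContinuous AddCommGrpCat.{u} K' K).IsRightAdjoint]
    (F' : Sheaf K' AddCommGrpCat.{u}) (hF' : Presheaf.IsSheaf K F'.obj)
    (hvan : ∀ i : ℕ, 0 < i →
      IsZero (((SiteCmp.epsSh hle AddCommGrpCat.{u}).rightDerived i).obj ⟨F'.obj, hF'⟩))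
    (n : ℕ) (T : D) :
    Nonempty (CohSite.HU F' n T ≃+
      CohSite.HU ((SiteCmp.epsShInv hle AddCommGrpCat.{u}).obj F') n T) := by
  haveI : Fact (K' ≤ K) := ⟨hle⟩
  let F₀ : Sheaf K AddCommGrpCat.{u} := ⟨F'.obj, hF'⟩
  let e₀ : (SiteCmp.epsSh hle AddCommGrpCat.{u}).obj F₀ ≅ F' :=
    (fullyFaithfulSheafToPresheaf K' AddCommGrpCat.{u}).preimageIso (Iso.refl _)
  let E1 : CohSite.HU F' n T ≃+
      CohSite.HU ((SiteCmp.epsSh hle AddCommGrpCat.{u}).obj F₀) n T :=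
    (((Sheaf.cohomologyPresheafFunctor.{u} K' n).mapIso e₀.symm).app (op T)).addCommGroupIsoToAddEquiv
  let E2 : CohSite.HU ((SiteCmp.epsSh hle AddCommGrpCat.{u}).obj F₀) n T ≃+ CohSite.HU F₀ n T :=
    AddEquiv.ofBijective (TwoTop9.aT hle F₀ n T) (aT_bijective hle F₀ hvan n T)
  haveI : IsIso ((SiteCmp.epsShAdj hle AddCommGrpCat.{u}).counit.app F₀) := inferInstance
  let i₃ : F₀ ≅ (SiteCmp.epsShInv hle AddCommGrpCat.{u}).obj F' :=
    (asIso ((SiteCmp.epsShAdj hle AddCommGrpCat.{u}).counit.app F₀)).symm ≪≫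
      (SiteCmp.epsShInv hle AddCommGrpCat.{u}).mapIso e₀
  let E3 : CohSite.HU F₀ n T ≃+
      CohSite.HU ((SiteCmp.epsShInv hle AddCommGrpCat.{u}).obj F') n T :=
    (((Sheaf.cohomologyPresheafFunctor.{u} K n).mapIso i₃).app (op T)).addCommGroupIsoToAddEquiv
  exact ⟨E1.trans (E2.trans E3)⟩

end Groth.Agent.Helper3.TwoTop15
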