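import Mathlib
import Groth.Prelude.Def_ModSite
import Groth.Prelude.Def_CohCx
import Groth.Agent.Lib.Helper3.ModLim1
import Groth.Agent.Lib.Helper3.QcSum1

/-!
# Modules of type A on a ringed site: site-theoretic tools (helper3)
-/
set_option autoImplicit false
universe u

open CategoryTheory Limits Opposite

namespace Groth.Agent.Helper3.TypeA

open Groth.Agent.Helper3.ModLim Groth.Agent.Helper3.QcSum

variable {C : Type u} [SmallCategory C] {J : GrothendieckTopology C}
  (O : Sheaf J CommRingCat.{u})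

/-- local lifting of a section along an epimorphism -/
lemma exists_local_lift_sec {M N : ModSite.Mod O} (e : M ⟶ N) [Epi e] {U : C}
    (a : ModSite.freeOn O U ⟶ N) :
    ∃ S ∈ J U, ∀ ⦃V : C⦄ (f : V ⟶ U), S f →
      ∃ t : ModSite.freeOn O V ⟶ M, t ≫ e = frMap O f ≫ a := by
  haveI := toSheaf_preservesFiniteColimits (ModSite.ringSh O)
  haveI : Epi ((tAb O).map e) := inferInstance
  have h1 : Sheaf.IsLocallySurjective ((tAb O).map e) :=
    (Sheaf.isLocallySurjective_iff_epi' AddCommGrpCat.{u} ((tAb O).map e)).2 inferInstance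
  refine ⟨Presheaf.imageSieve ((tAb O).map e).hom (sec O U N a),
    Presheaf.imageSieve_mem J ((tAb O).map e).hom _, ?_⟩
  rintro V f ⟨p, hp⟩
  refine ⟨(sec O V M).symm p, ?_⟩
  apply (sec O V _).injective
  rw [sec_comp, Equiv.apply_symm_apply, sec_map_comp]
  exact hp

/-- two sections which agree locally are equal -/
lemma eq_of_locally_eq (H : ModSite.Mod O) {U : C}
    (s s' : H.val.obj (op U)) (S : Sieve U) (hS : S ∈ J U)
    (h : ∀ ⦃V : C⦄ (f : V ⟶ U), S f → H.val.map f.op s = H.val.map f.op s') : s = s' := by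
  have h0 : s - s' = 0 := by
    apply eq_zero_of_locally_zero O H (s - s') S hS
    intro V f hf
    rw [map_sub, h f hf, sub_self]
  exact sub_eq_zero.mp h0

/-- a covering family induces an epimorphism of free modules -/
lemma epi_desc_frMap {T : Type*} (U : C) (W : T → C) (g : ∀ k, W k ⟶ U)
    (h : Sieve.ofArrows W g ∈ J U) [HasCoproduct (fun k => ModSite.freeOn O (W k))] :
    Epi (Sigma.desc (fun k => frMap O (g k)) : (∐ fun k => ModSite.freeOn O (W k)) ⟶
      ModSite.freeOn O U) := by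
  constructor
  intro F φ φ' hφ
  apply (sec O U F).injective
  apply eq_of_locally_eq O F _ _ _ h
  intro V f hf
  rw [Sieve.mem_ofArrows_iff] at hf
  obtain ⟨k, a, rfl⟩ := hf
  have hk : frMap O (g k) ≫ φ = frMap O (g k) ≫ φ' := by
    have := congrArg (fun t => Sigma.ι (fun k => ModSite.freeOn O (W k)) k ≫ t) hφ
    simpa using this
  have h1 := congrArg (sec O (W k) F) hk
  rw [sec_map_comp, sec_map_comp] at h1
  rw [op_comp, PresheafOfModules.map_comp_apply, PresheafOfModules.map_comp_apply, h1]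

section Refine

variable (B : Set C)
  (hB₁ : ∀ X : C, ∃ (κ : Type u) (Y : κ → C) (g : ∀ k, Y k ⟶ X),
    Sieve.ofArrows Y g ∈ J X ∧ ∀ k, Y k ∈ B)

include hB₁ in
/-- a covering sieve of a quasi-compact object can be refined by a finite covering family with
members in `B` and arrows in the sieve -/
lemma exists_finite_refinement (U : C) (hU : CohCx.IsQcObject (hSh J U)) (S : Sieve U)
    (hS : S ∈ J U) :
    ∃ (T : Type u) (_ : Fintype T) (W : T → C) (g : ∀ k, W k ⟶ U),
      (∀ k, W k ∈ B) ∧ (∀ k, S (g k)) ∧ Sieve.ofArrows W g ∈ J U := by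
  choose κ Y gY hcov hYB using hB₁
  let I : Type u := Σ (V : C) (_ : {f : V ⟶ U // S f}), κ V
  let R : I → Sieve U := fun idx =>
    Sieve.ofArrows (fun _ : Unit => Y idx.1 idx.2.2) (fun _ => gY idx.1 idx.2.2 ≫ idx.2.1.1)
  have hR : unionSieve R ∈ J U := by
    refine J.transitive hS _ ?_
    intro V f hf
    refine J.superset_covering ?_ (hcov V)
    intro V' h hh
    rw [Sieve.mem_ofArrows_iff] at hh
    obtain ⟨k, a, rfl⟩ := hh
    refine ⟨⟨V, ⟨f, hf⟩, k⟩, ?_⟩
    rw [Sieve.mem_ofArrows_iff]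
    exact ⟨(), a, by simp⟩
  obtain ⟨t, ht⟩ := exists_finset_of_isQcObject U hU R hR
  refine ⟨t, inferInstance, fun k => Y k.1.1 k.1.2.2, fun k => gY k.1.1 k.1.2.2 ≫ k.1.2.1.1,
    fun k => hYB _ _, fun k => S.downward_closed k.1.2.1.2 _, ?_⟩
  refine J.superset_covering ?_ ht
  rintro V f ⟨idx, hidx, hf⟩
  rw [Sieve.mem_ofArrows_iff] at hf
  obtain ⟨_, a, rfl⟩ := hf
  rw [Sieve.mem_ofArrows_iff]
  exact ⟨⟨idx, hidx⟩, a, rfl⟩

end Refine

end Groth.Agent.Helper3.TypeA
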