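import Mathlib
import Groth.Prelude.Def_ModSite
import Groth.Prelude.Def_CohCx
import Groth.Agent.Lib.Helper3.TypeA1

/-!
# Modules of type A on a ringed site: cokernels (helper3)
-/
set_option autoImplicit false
universe u

open CategoryTheory Limits Opposite

namespace Groth.Agent.Helper3.TypeA

open Groth.Agent.Helper3.ModLim Groth.Agent.Helper3.QcSum

section Abstract

universe v₁ u₁
variable {A : Type u₁} [Category.{v₁} A] [Abelian A]

lemma aux1 {P₁ P₀ R : A} (β : R ⟶ P₀) (ψ : P₁ ⟶ P₀) :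
    ψ ≫ cokernel.π (coprod.desc β ψ) = 0 := by
  calc ψ ≫ cokernel.π (coprod.desc β ψ)
      = (coprod.inr ≫ coprod.desc β ψ) ≫ cokernel.π (coprod.desc β ψ) := by rw [coprod.inr_desc]
    _ = 0 := by rw [Category.assoc, cokernel.condition, comp_zero]

lemma aux2 {P₁ P₀ R : A} (β : R ⟶ P₀) (ψ : P₁ ⟶ P₀) :
    β ≫ cokernel.π (coprod.desc β ψ) = 0 := by
  calc β ≫ cokernel.π (coprod.desc β ψ)
      = (coprod.inl ≫ coprod.desc β ψ) ≫ cokernel.π (coprod.desc β ψ) := by rw [coprod.inl_desc]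
    _ = 0 := by rw [Category.assoc, cokernel.condition, comp_zero]

/-- the cokernel of `α : F ⟶ coker ψ` in terms of a lift of `e ≫ α` for an epimorphism `e` -/
noncomputable def cokernelIsoOfLift {P₁ P₀ F R : A} (ψ : P₁ ⟶ P₀) (α : F ⟶ cokernel ψ)
    (e : R ⟶ F) [Epi e] (β : R ⟶ P₀) (h : β ≫ cokernel.π ψ = e ≫ α) :
    cokernel α ≅ cokernel (coprod.desc β ψ) := by
  let π' := cokernel.π (coprod.desc β ψ)
  let f1 : cokernel ψ ⟶ cokernel (coprod.desc β ψ) := cokernel.desc ψ π' (aux1 β ψ)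
  have hf1 : cokernel.π ψ ≫ f1 = π' := cokernel.π_desc _ _ _
  have w1 : α ≫ f1 = 0 := by
    rw [← cancel_epi e, comp_zero, ← Category.assoc, ← h, Category.assoc, hf1]
    exact aux2 β ψ
  have w2 : coprod.desc β ψ ≫ cokernel.π ψ ≫ cokernel.π α = 0 := by
    apply coprod.hom_ext
    · rw [coprod.inl_desc_assoc, comp_zero, ← Category.assoc, h, Category.assoc,
        cokernel.condition, comp_zero]
    · rw [coprod.inr_desc_assoc, comp_zero, cokernel.condition_assoc, zero_comp]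
  let hom : cokernel α ⟶ cokernel (coprod.desc β ψ) := cokernel.desc α f1 w1
  have hhom : cokernel.π α ≫ hom = f1 := cokernel.π_desc _ _ _
  let inv : cokernel (coprod.desc β ψ) ⟶ cokernel α :=
    cokernel.desc (coprod.desc β ψ) (cokernel.π ψ ≫ cokernel.π α) w2
  have hinv : π' ≫ inv = cokernel.π ψ ≫ cokernel.π α := cokernel.π_desc _ _ _
  refine ⟨hom, inv, ?_, ?_⟩
  · rw [← cancel_epi (cokernel.π α), ← cancel_epi (cokernel.π ψ), Category.comp_id,
      ← Category.assoc (cokernel.π α), hhom, ← Category.assoc (cokernel.π ψ), hf1, hinv]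
  · rw [← cancel_epi π', ← Category.assoc, hinv, Category.assoc, hhom, hf1, Category.comp_id]

variable {T K : Type*} (X : T ⊕ K → A) [HasCoproduct (fun t => X (.inl t))]
  [HasCoproduct (fun k => X (.inr k))]

/-- the coproduct of a family indexed by a sum type, as a binary coproduct of coproducts -/
noncomputable def sumCofan : Cofan X :=
  Cofan.mk ((∐ fun t => X (.inl t)) ⨿ (∐ fun k => X (.inr k))) (fun s => match s with
    | .inl t => Sigma.ι (fun t => X (.inl t)) t ≫ coprod.inl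
    | .inr k => Sigma.ι (fun k => X (.inr k)) k ≫ coprod.inr)

noncomputable def sumCofanIsColimit : IsColimit (sumCofan X) :=
  Cofan.IsColimit.mk _
    (fun s => coprod.desc (Sigma.desc fun t => s.inj (.inl t)) (Sigma.desc fun k => s.inj (.inr k)))
    (fun s i => by
      cases i with
      | inl t =>
        change (Sigma.ι (fun t => X (.inl t)) t ≫ coprod.inl) ≫ _ = _
        rw [Category.assoc, coprod.inl_desc, Sigma.ι_desc]
      | inr k =>
        change (Sigma.ι (fun k => X (.inr k)) k ≫ coprod.inr) ≫ _ = _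
        rw [Category.assoc, coprod.inr_desc, Sigma.ι_desc])
    (fun s m hm => by
      apply coprod.hom_ext
      · rw [coprod.inl_desc]
        apply Sigma.hom_ext
        intro t
        rw [Sigma.ι_desc, ← hm (.inl t)]
        exact (Category.assoc _ _ _).symm
      · rw [coprod.inr_desc]
        apply Sigma.hom_ext
        intro k
        rw [Sigma.ι_desc, ← hm (.inr k)]
        exact (Category.assoc _ _ _).symm)

end Abstract

variable {C : Type u} [SmallCategory C] {J : GrothendieckTopology C}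
  (O : Sheaf J CommRingCat.{u}) (B : Set C)

/-- modules of type A -/
def IsTypeA (F : ModSite.Mod O) : Prop :=
  ∃ (m' n' : ℕ) (V' : Fin m' → C) (U' : Fin n' → C)
    (ψ : (∐ fun j => ModSite.freeOn O (V' j)) ⟶ ∐ fun i => ModSite.freeOn O (U' i)),
    (∀ j, V' j ∈ B) ∧ (∀ i, U' i ∈ B) ∧ Nonempty (F ≅ cokernel ψ)

/-- a flexible criterion for being of type A -/
lemma isTypeA_of_cofan {ι κ : Type*} [Finite ι] [Finite κ] (U : ι → C) (V : κ → C)
    (hU : ∀ i, U i ∈ B) (hV : ∀ k, V k ∈ B)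
    (c₀ : Cofan (fun i => ModSite.freeOn O (U i))) (h₀ : IsColimit c₀)
    (c₁ : Cofan (fun k => ModSite.freeOn O (V k))) (h₁ : IsColimit c₁)
    (ψ : c₁.pt ⟶ c₀.pt) (F : ModSite.Mod O) (iF : F ≅ cokernel ψ) : IsTypeA O B F := by
  let e₀ : Fin (Nat.card ι) ≃ ι := (Finite.equivFin ι).symm
  let e₁ : Fin (Nat.card κ) ≃ κ := (Finite.equivFin κ).symm
  let i₀ : (∐ fun i => ModSite.freeOn O (U (e₀ i))) ≅ c₀.pt :=
    Sigma.reindex e₀ (fun i => ModSite.freeOn O (U i)) ≪≫
      IsColimit.coconePointUniqueUpToIso (coproductIsCoproduct _) h₀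
  let i₁ : (∐ fun k => ModSite.freeOn O (V (e₁ k))) ≅ c₁.pt :=
    Sigma.reindex e₁ (fun k => ModSite.freeOn O (V k)) ≪≫
      IsColimit.coconePointUniqueUpToIso (coproductIsCoproduct _) h₁
  refine ⟨_, _, fun k => V (e₁ k), fun i => U (e₀ i), i₁.hom ≫ ψ ≫ i₀.inv, fun _ => hV _,
    fun _ => hU _, ⟨iF ≪≫ (cokernel.mapIso (i₁.hom ≫ ψ ≫ i₀.inv) ψ i₁ i₀ ?_).symm⟩⟩
  rw [Category.assoc, Category.assoc, Iso.inv_hom_id, Category.comp_id]

section Coker

variable (hB₁ : ∀ X : C, ∃ (κ : Type u) (Y : κ → C) (g : ∀ k, Y k ⟶ X),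
    Sieve.ofArrows Y g ∈ J X ∧ ∀ k, Y k ∈ B)
  (hB₂ : ∀ U ∈ B, CohCx.IsQcObject ((presheafToSheaf J (Type u)).obj (yoneda.obj U)))

include hB₁ hB₂ in
/-- a morphism from a finite sum of free modules on members of `B` can be lifted along an
epimorphism after passing to a finite refinement -/
lemma exists_refined_lift {n : ℕ} (U : Fin n → C) (hU : ∀ i, U i ∈ B) {M N : ModSite.Mod O}
    (e : M ⟶ N) [Epi e] (a : (∐ fun i => ModSite.freeOn O (U i)) ⟶ N) :
    ∃ (T : Type u) (_ : Fintype T) (W : T → C) (_ : ∀ t, W t ∈ B)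
      (γ : (∐ fun t => ModSite.freeOn O (W t)) ⟶ ∐ fun i => ModSite.freeOn O (U i))
      (β : (∐ fun t => ModSite.freeOn O (W t)) ⟶ M), Epi γ ∧ β ≫ e = γ ≫ a := by
  have h1 : ∀ i, ∃ S ∈ J (U i), ∀ ⦃V : C⦄ (f : V ⟶ U i), S f →
      ∃ t : ModSite.freeOn O V ⟶ M,
        t ≫ e = frMap O f ≫ Sigma.ι (fun i => ModSite.freeOn O (U i)) i ≫ a :=
    fun i => exists_local_lift_sec O e (Sigma.ι (fun i => ModSite.freeOn O (U i)) i ≫ a)
  choose S hS hlift using h1
  have h2 : ∀ i, ∃ (T : Type u) (_ : Fintype T) (W : T → C) (g : ∀ k, W k ⟶ U i),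
      (∀ k, W k ∈ B) ∧ (∀ k, S i (g k)) ∧ Sieve.ofArrows W g ∈ J (U i) :=
    fun i => exists_finite_refinement B hB₁ (U i) (hB₂ _ (hU i)) (S i) (hS i)
  choose T hT W g hWB hgS hcov using h2
  haveI : ∀ i, Fintype (T i) := hT
  have h3 : ∀ (i : Fin n) (k : T i), ∃ t : ModSite.freeOn O (W i k) ⟶ M,
      t ≫ e = frMap O (g i k) ≫ Sigma.ι (fun i => ModSite.freeOn O (U i)) i ≫ a := fun i k => hlift i (g i k) (hgS i k)
  choose b hb using h3
  refine ⟨Σ i, T i, inferInstance, fun x => W x.1 x.2, fun x => hWB x.1 x.2,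
    Sigma.desc (fun x => frMap O (g x.1 x.2) ≫ Sigma.ι (fun i => ModSite.freeOn O (U i)) x.1),
    Sigma.desc (fun x => b x.1 x.2), ?_, ?_⟩
  · constructor
    intro F φ φ' hφ
    apply Sigma.hom_ext
    intro i
    haveI := epi_desc_frMap O (U i) (W i) (g i) (hcov i)
    rw [← cancel_epi (Sigma.desc (fun k => frMap O (g i k)) :
      (∐ fun k => ModSite.freeOn O (W i k)) ⟶ ModSite.freeOn O (U i))]
    apply Sigma.hom_ext
    intro k
    have h4 := congrArg (fun t => Sigma.ι (fun x : Σ i, T i => ModSite.freeOn O (W x.1 x.2)) ⟨i, k⟩ ≫ t) hφ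
    have h5 : (frMap O (g i k) ≫ Sigma.ι (fun i => ModSite.freeOn O (U i)) i) ≫ φ =
        (frMap O (g i k) ≫ Sigma.ι (fun i => ModSite.freeOn O (U i)) i) ≫ φ' :=
      ((Sigma.ι_desc_assoc _ _ _).symm.trans h4).trans (Sigma.ι_desc_assoc _ _ _)
    rw [Sigma.ι_desc_assoc, Sigma.ι_desc_assoc]
    exact ((Category.assoc _ _ _).symm.trans h5).trans (Category.assoc _ _ _)
  · apply Sigma.hom_ext
    intro x
    rw [Sigma.ι_desc_assoc, Sigma.ι_desc_assoc, hb, Category.assoc]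

include hB₁ hB₂ in
theorem isTypeA_cokernel {F G : ModSite.Mod O} (α : F ⟶ G) (hF : IsTypeA O B F)
    (hG : IsTypeA O B G) : IsTypeA O B (cokernel α) := by
  obtain ⟨m', n', V', U', ψF, hV', hU', ⟨iF⟩⟩ := hF
  obtain ⟨m, n, V, U, ψG, hV, hU, ⟨iG⟩⟩ := hG
  let pF : (∐ fun i => ModSite.freeOn O (U' i)) ⟶ F := cokernel.π ψF ≫ iF.inv
  obtain ⟨T, hT, W, hW, γ, β, hγ, hβ⟩ := exists_refined_lift O B hB₁ hB₂ U' hU'
    (cokernel.π ψG) (pF ≫ α ≫ iG.hom)
  haveI := hT
  haveI := hγ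
  haveI : Epi pF := epi_comp _ _
  have hβ' : β ≫ cokernel.π ψG = (γ ≫ pF) ≫ (α ≫ iG.hom) := by
    rw [hβ]
    simp only [pF, Category.assoc]
  let i1 : cokernel α ≅ cokernel (coprod.desc β ψG) :=
    cokernel.mapIso α (α ≫ iG.hom) (Iso.refl F) iG (by simp) ≪≫ cokernelIsoOfLift ψG (α ≫ iG.hom) (γ ≫ pF) β hβ'
  let X : T ⊕ Fin m → ModSite.Mod O := fun s => ModSite.freeOn O (Sum.elim W V s)
  exact isTypeA_of_cofan O B U (Sum.elim W V) hU
    (fun s => by cases s with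
      | inl t => exact hW t
      | inr j => exact hV j)
    _ (coproductIsCoproduct _) (sumCofan X) (sumCofanIsColimit X) (coprod.desc β ψG) _ i1

end Coker

end Groth.Agent.Helper3.TypeA
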