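import Mathlib

/-!
# Finitely generated / finitely presented objects relative to a class of generators (helper3)

Abstract framework in an abelian category: `Pc` is a class of objects ("finite free"),
stable under isomorphisms and binary coproducts, such that morphisms out of members of `Pc` can be
lifted along epimorphisms after passing to an epimorphic "refinement" in `Pc`.
-/
set_option autoImplicit false

open CategoryTheory Limits

namespace Groth.Agent.Helper3.TypeA.Abs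

universe v₁ u₁
variable {A : Type u₁} [Category.{v₁} A] [Abelian A] (Pc : A → Prop)

/-- quotient of a member of `Pc` -/
def FG (M : A) : Prop := ∃ (P : A) (_ : Pc P) (q : P ⟶ M), Epi q

/-- quotient of a member of `Pc` by a finitely generated subobject -/
def FP (M : A) : Prop := ∃ (P : A) (_ : Pc P) (q : P ⟶ M), Epi q ∧ FG Pc (kernel q)

/-- the hypotheses on the class `Pc` -/
structure Hyp : Prop where
  iso : ∀ {X Y : A}, (X ≅ Y) → Pc X → Pc Y
  biprod : ∀ {X Y : A}, Pc X → Pc Y → Pc (X ⊞ Y)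
  lift : ∀ {P M N : A}, Pc P → ∀ (e : M ⟶ N) [Epi e] (a : P ⟶ N),
    ∃ (P' : A) (_ : Pc P') (γ : P' ⟶ P) (β : P' ⟶ M), Epi γ ∧ β ≫ e = γ ≫ a

/-- the stronger lifting hypothesis: the refinement has a finitely generated kernel -/
def Lift3 : Prop := ∀ {P M N : A}, Pc P → ∀ (e : M ⟶ N) [Epi e] (a : P ⟶ N),
    ∃ (P' : A) (_ : Pc P') (γ : P' ⟶ P) (β : P' ⟶ M), Epi γ ∧ FG Pc (kernel γ) ∧ β ≫ e = γ ≫ a

variable {Pc}

lemma FG.of_epi {M N : A} (h : FG Pc M) (f : M ⟶ N) [Epi f] : FG Pc N := by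
  obtain ⟨P, hP, q, hq⟩ := h
  exact ⟨P, hP, q ≫ f, epi_comp _ _⟩

lemma FG.of_iso {M N : A} (h : FG Pc M) (e : M ≅ N) : FG Pc N := h.of_epi e.hom

lemma FG.of_eq {X Y : A} {f g : X ⟶ Y} (h : FG Pc (kernel f)) (e : f = g) : FG Pc (kernel g) := by
  subst e
  exact h

lemma FP.fg {M : A} (h : FP Pc M) : FG Pc M := by
  obtain ⟨P, hP, q, hq, _⟩ := h
  exact ⟨P, hP, q, hq⟩

/-- finitely generated objects are closed under extensions -/
lemma fg_ext (hyp : Hyp Pc) (S : ShortComplex A) (hS : S.ShortExact) (h1 : FG Pc S.X₁)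
    (h3 : FG Pc S.X₃) : FG Pc S.X₂ := by
  haveI := hS.mono_f
  haveI := hS.epi_g
  obtain ⟨P₃, hP₃, q₃, hq₃⟩ := h3
  obtain ⟨P₁, hP₁, q₁, hq₁⟩ := h1
  obtain ⟨P', hP', γ, β, hγ, hβ⟩ := hyp.lift hP₃ S.g q₃
  refine ⟨P' ⊞ P₁, hyp.biprod hP' hP₁, biprod.desc β (q₁ ≫ S.f), ?_⟩
  apply Preadditive.epi_of_cancel_zero
  intro R c hc
  have hc1 : β ≫ c = 0 := by
    have := congrArg (fun t => biprod.inl ≫ t) hc
    simpa using this
  have hc2 : S.f ≫ c = 0 := by
    have := congrArg (fun t => biprod.inr ≫ t) hc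
    simp only [biprod.inr_desc_assoc, Category.assoc, comp_zero] at this
    rw [← cancel_epi q₁, comp_zero]
    exact this
  have hc3 : S.g ≫ hS.exact.desc c hc2 = c := hS.exact.g_desc c hc2
  have hc4 : hS.exact.desc c hc2 = 0 := by
    rw [← cancel_epi q₃, ← cancel_epi γ, comp_zero, comp_zero, ← Category.assoc, ← hβ,
      Category.assoc, hc3, hc1]
  rw [← hc3, hc4, comp_zero]

section KernelComp

variable {X Y Z : A} (f : X ⟶ Y) (g : Y ⟶ Z)

/-- `ker f ⟶ ker (f ≫ g)` -/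
noncomputable def kerCompι : kernel f ⟶ kernel (f ≫ g) :=
  kernel.lift (f ≫ g) (kernel.ι f) (by rw [kernel.condition_assoc, zero_comp])

/-- `ker (f ≫ g) ⟶ ker g` -/
noncomputable def kerCompπ : kernel (f ≫ g) ⟶ kernel g :=
  kernel.lift g (kernel.ι (f ≫ g) ≫ f) (by rw [Category.assoc, kernel.condition])

@[reassoc (attr := simp)]
lemma kerCompι_ι : kerCompι f g ≫ kernel.ι (f ≫ g) = kernel.ι f := kernel.lift_ι _ _ _

@[reassoc (attr := simp)]
lemma kerCompπ_ι : kerCompπ f g ≫ kernel.ι g = kernel.ι (f ≫ g) ≫ f := kernel.lift_ι _ _ _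

lemma epi_kerCompπ [Epi f] : Epi (kerCompπ f g) := by
  rw [epi_iff_surjective_up_to_refinements]
  intro T z
  obtain ⟨T', π, hπ, x, hx⟩ := surjective_up_to_refinements_of_epi f (z ≫ kernel.ι g)
  refine ⟨T', π, hπ, kernel.lift (f ≫ g) x ?_, ?_⟩
  · rw [← Category.assoc, ← hx, Category.assoc, Category.assoc, kernel.condition, comp_zero,
      comp_zero]
  · rw [← cancel_mono (kernel.ι g), Category.assoc, Category.assoc, kerCompπ_ι,
      kernel.lift_ι_assoc, hx]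

/-- `0 ⟶ ker f ⟶ ker (f ≫ g) ⟶ ker g ⟶ 0` for `f` an epimorphism -/
lemma kerComp_shortExact [Epi f] :
    (ShortComplex.mk (kerCompι f g) (kerCompπ f g) (by
      rw [← cancel_mono (kernel.ι g), Category.assoc, kerCompπ_ι, kerCompι_ι_assoc,
        kernel.condition, zero_comp])).ShortExact := by
  haveI : Mono (kerCompι f g) := mono_of_mono_fac (kerCompι_ι f g)
  haveI := epi_kerCompπ f g
  refine ShortComplex.ShortExact.mk ?_
  rw [ShortComplex.exact_iff_exact_up_to_refinements]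
  intro T x hx
  dsimp at x hx ⊢
  have h1 : (x ≫ kernel.ι (f ≫ g)) ≫ f = 0 := by
    have := congrArg (fun t => t ≫ kernel.ι g) hx
    simpa using this
  refine ⟨T, 𝟙 T, inferInstance, kernel.lift f (x ≫ kernel.ι (f ≫ g)) h1, ?_⟩
  rw [Category.id_comp, ← cancel_mono (kernel.ι (f ≫ g)), Category.assoc, kerCompι_ι,
    kernel.lift_ι]

end KernelComp

/-- the kernel of a composite `f ≫ g` with `f` epi and `ker f`, `ker g` finitely generated -/
lemma fg_kernel_comp (hyp : Hyp Pc) {X Y Z : A} (f : X ⟶ Y) (g : Y ⟶ Z) [Epi f]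
    (hf : FG Pc (kernel f)) (hg : FG Pc (kernel g)) : FG Pc (kernel (f ≫ g)) :=
  fg_ext hyp _ (kerComp_shortExact f g) hf hg

section Snake

variable (S : ShortComplex A) (hS : S.ShortExact) {P' P₁ : A} (β : P' ⟶ S.X₂) (p₁ : P₁ ⟶ S.X₁)

/-- the combined map `P' ⊞ P₁ ⟶ X₂` -/
noncomputable def comb : P' ⊞ P₁ ⟶ S.X₂ := biprod.desc β (p₁ ≫ S.f)

include hS in
lemma epi_comb [Epi p₁] [Epi (β ≫ S.g)] : Epi (comb S β p₁) := by
  haveI := hS.mono_f
  haveI := hS.epi_g
  apply Preadditive.epi_of_cancel_zero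
  intro R c hc
  have hc1 : β ≫ c = 0 := by
    have := congrArg (fun t => biprod.inl ≫ t) hc
    simpa [comb] using this
  have hc2 : S.f ≫ c = 0 := by
    have := congrArg (fun t => biprod.inr ≫ t) hc
    simp only [comb, biprod.inr_desc_assoc, Category.assoc, comp_zero] at this
    rw [← cancel_epi p₁, comp_zero]
    exact this
  have hc3 : S.g ≫ hS.exact.desc c hc2 = c := hS.exact.g_desc c hc2
  have hc4 : hS.exact.desc c hc2 = 0 := by
    rw [← cancel_epi (β ≫ S.g), comp_zero, Category.assoc, hc3, hc1]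
  rw [← hc3, hc4, comp_zero]

/-- `ker p₁ ⟶ ker (comb)` -/
noncomputable def snakeι : kernel p₁ ⟶ kernel (comb S β p₁) :=
  kernel.lift _ (kernel.ι p₁ ≫ biprod.inr) (by
    simp only [comb, Category.assoc, biprod.inr_desc, kernel.condition_assoc, zero_comp])

/-- `ker (comb) ⟶ ker (β ≫ g)` -/
noncomputable def snakeπ : kernel (comb S β p₁) ⟶ kernel (β ≫ S.g) :=
  kernel.lift _ (kernel.ι (comb S β p₁) ≫ biprod.fst) (by
    have h1 : (biprod.fst : P' ⊞ P₁ ⟶ P') ≫ β ≫ S.g = comb S β p₁ ≫ S.g := by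
      apply biprod.hom_ext'
      · simp [comb]
      · simp [comb]
    rw [Category.assoc, h1, kernel.condition_assoc, zero_comp])

include hS in
lemma snake_shortExact [Epi p₁] :
    (ShortComplex.mk (snakeι S β p₁) (snakeπ S β p₁) (by
      rw [← cancel_mono (kernel.ι (β ≫ S.g))]
      simp [snakeι, snakeπ])).ShortExact := by
  haveI := hS.mono_f
  haveI := hS.epi_g
  haveI : Mono (snakeι S β p₁) := by
    have h : snakeι S β p₁ ≫ kernel.ι (comb S β p₁) ≫ biprod.snd = kernel.ι p₁ := by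
      simp [snakeι]
    exact mono_of_mono_fac h
  haveI : Epi (snakeπ S β p₁) := by
    rw [epi_iff_surjective_up_to_refinements]
    intro T z
    have hz : (z ≫ kernel.ι (β ≫ S.g) ≫ β) ≫ S.g = 0 := by
      rw [Category.assoc, Category.assoc, kernel.condition, comp_zero]
    obtain ⟨T', ρ, hρ, s, hs⟩ := surjective_up_to_refinements_of_epi p₁
      (hS.exact.lift (z ≫ kernel.ι (β ≫ S.g) ≫ β) hz)
    have hs' : s ≫ p₁ ≫ S.f = ρ ≫ z ≫ kernel.ι (β ≫ S.g) ≫ β := by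
      rw [← Category.assoc, ← hs, Category.assoc, hS.exact.lift_f]
    refine ⟨T', ρ, hρ, kernel.lift _ (biprod.lift (ρ ≫ z ≫ kernel.ι (β ≫ S.g)) (-s)) ?_, ?_⟩
    · rw [comb, biprod.lift_desc, Preadditive.neg_comp, hs']
      simp
    · rw [← cancel_mono (kernel.ι (β ≫ S.g))]
      simp [snakeπ]
  refine ShortComplex.ShortExact.mk ?_
  rw [ShortComplex.exact_iff_exact_up_to_refinements]
  intro T x hx
  dsimp at x hx ⊢
  let w := x ≫ kernel.ι (comb S β p₁)
  have hw1 : w ≫ biprod.fst = 0 := by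
    have := congrArg (fun t => t ≫ kernel.ι (β ≫ S.g)) hx
    simpa [snakeπ, w] using this
  have hw2 : w = (w ≫ biprod.snd) ≫ biprod.inr := by
    apply biprod.hom_ext
    · simp [hw1]
    · simp
  have hw3 : (w ≫ biprod.snd) ≫ p₁ = 0 := by
    have h0 : w ≫ comb S β p₁ = 0 := by
      simp [w]
    rw [hw2] at h0
    simp only [comb, Category.assoc, biprod.inr_desc] at h0
    rw [← cancel_mono S.f, zero_comp, Category.assoc, Category.assoc]
    exact h0
  refine ⟨T, 𝟙 T, inferInstance, kernel.lift p₁ (w ≫ biprod.snd) hw3, ?_⟩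
  rw [Category.id_comp, ← cancel_mono (kernel.ι (comb S β p₁))]
  simp only [snakeι, Category.assoc, kernel.lift_ι, kernel.lift_ι_assoc]
  exact hw2.trans (Category.assoc _ _ _)

end Snake

/-- finitely presented objects are closed under extensions -/
theorem fp_ext (hyp : Hyp Pc) (h3 : Lift3 Pc) (S : ShortComplex A) (hS : S.ShortExact)
    (hX₁ : FP Pc S.X₁) (hX₃ : FP Pc S.X₃) : FP Pc S.X₂ := by
  haveI := hS.mono_f
  haveI := hS.epi_g
  obtain ⟨P₃, hP₃, q₃, hq₃, hk₃⟩ := hX₃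
  obtain ⟨P₁, hP₁, p₁, hp₁, hk₁⟩ := hX₁
  obtain ⟨P', hP', γ, β, hγ, hkγ, hβ⟩ := h3 hP₃ S.g q₃
  haveI : Epi (γ ≫ q₃) := epi_comp _ _
  haveI : Epi (β ≫ S.g) := by rw [hβ]; infer_instance
  have hk : FG Pc (kernel (β ≫ S.g)) := (fg_kernel_comp hyp γ q₃ hkγ hk₃).of_eq hβ.symm
  refine ⟨P' ⊞ P₁, hyp.biprod hP' hP₁, comb S β p₁, epi_comb S hS β p₁, ?_⟩
  exact fg_ext hyp _ (snake_shortExact S hS β p₁) hk₁ hk

/-- the kernel of a morphism from a member of `Pc` to a finitely presented object is finitely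
generated, provided kernels of morphisms between members of `Pc` are -/
theorem fg_kernel_of_fp (hyp : Hyp Pc)
    (hker : ∀ {P P' : A}, Pc P → Pc P' → ∀ φ : P ⟶ P', FG Pc (kernel φ))
    {P' M : A} (hP' : Pc P') (hM : FP Pc M) (a : P' ⟶ M) : FG Pc (kernel a) := by
  obtain ⟨P₀, hP₀, p₀, hp₀, P₁, hP₁, r, hr⟩ := hM
  obtain ⟨P'', hP'', γ, β, hγ, hβ⟩ := hyp.lift hP' p₀ a
  -- `ker (γ ≫ a) ⟶ ker a` is an epimorphism
  haveI := epi_kerCompπ γ a
  refine FG.of_epi ?_ (kerCompπ γ a)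
  refine FG.of_eq ?_ hβ
  -- `ker (β ≫ p₀)` is a quotient of the kernel of `P'' ⊞ P₁ ⟶ P₀`
  let φ : P'' ⊞ P₁ ⟶ P₀ := biprod.desc β (-(r ≫ kernel.ι p₀))
  have hφ : FG Pc (kernel φ) := hker (hyp.biprod hP'' hP₁) hP₀ φ
  have h1 : (kernel.ι φ ≫ biprod.fst) ≫ β ≫ p₀ = 0 := by
    have h0 : kernel.ι φ ≫ φ = 0 := kernel.condition φ
    have h2 : (biprod.fst : P'' ⊞ P₁ ⟶ P'') ≫ β = φ + biprod.snd ≫ r ≫ kernel.ι p₀ := by
      apply biprod.hom_ext'
      · simp [φ]
      · simp [φ]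
    rw [Category.assoc, ← Category.assoc biprod.fst, h2, Preadditive.add_comp,
      Preadditive.comp_add, ← Category.assoc (kernel.ι φ), h0, zero_comp, zero_add]
    simp
  let t : kernel φ ⟶ kernel (β ≫ p₀) := kernel.lift _ (kernel.ι φ ≫ biprod.fst) h1
  haveI : Epi t := by
    rw [epi_iff_surjective_up_to_refinements]
    intro T z
    have hz : (z ≫ kernel.ι (β ≫ p₀) ≫ β) ≫ p₀ = 0 := by
      rw [Category.assoc, Category.assoc, kernel.condition, comp_zero]
    obtain ⟨T', ρ, hρ, s, hs⟩ := surjective_up_to_refinements_of_epi r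
      (kernel.lift p₀ (z ≫ kernel.ι (β ≫ p₀) ≫ β) hz)
    have hs' : s ≫ r ≫ kernel.ι p₀ = ρ ≫ z ≫ kernel.ι (β ≫ p₀) ≫ β := by
      rw [← Category.assoc, ← hs, Category.assoc, kernel.lift_ι]
    refine ⟨T', ρ, hρ, kernel.lift φ (biprod.lift (ρ ≫ z ≫ kernel.ι (β ≫ p₀)) s) ?_, ?_⟩
    · simp only [φ, biprod.lift_desc, Preadditive.comp_neg, hs']
      simp
    · rw [← cancel_mono (kernel.ι (β ≫ p₀))]
      simp [t]
  exact hφ.of_epi t

/-- finitely presented objects are closed under kernels, provided kernels of morphisms between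
members of `Pc` are finitely generated -/
theorem fp_kernel (hyp : Hyp Pc)
    (hker : ∀ {P P' : A}, Pc P → Pc P' → ∀ φ : P ⟶ P', FG Pc (kernel φ))
    {F G : A} (hF : FP Pc F) (hG : FP Pc G) (α : F ⟶ G) : FP Pc (kernel α) := by
  obtain ⟨P, hP, q, hq, hkq⟩ := hF
  have hK : FG Pc (kernel (q ≫ α)) := fg_kernel_of_fp hyp hker hP hG (q ≫ α)
  obtain ⟨P', hP', r', hr'⟩ := hK
  haveI := epi_kerCompπ q α
  refine ⟨P', hP', r' ≫ kerCompπ q α, epi_comp _ _, ?_⟩
  have e : (r' ≫ kerCompπ q α) ≫ kernel.ι α = (r' ≫ kernel.ι (q ≫ α)) ≫ q := by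
    simp
  have h1 : FG Pc (kernel ((r' ≫ kernel.ι (q ≫ α)) ≫ q)) :=
    fg_kernel_of_fp hyp hker hP' ⟨P, hP, q, hq, hkq⟩ _
  have h2 : FG Pc (kernel ((r' ≫ kerCompπ q α) ≫ kernel.ι α)) := h1.of_eq e.symm
  exact h2.of_iso (kernelCompMono (r' ≫ kerCompπ q α) (kernel.ι α))

/-- a cokernel of a morphism between members of `Pc` is finitely presented -/
lemma fp_cokernel {P₁ P₀ : A} (h₁ : Pc P₁) (h₀ : Pc P₀) (ψ : P₁ ⟶ P₀) : FP Pc (cokernel ψ) := by
  refine ⟨P₀, h₀, cokernel.π ψ, inferInstance, P₁, h₁, kernel.lift _ ψ (cokernel.condition ψ), ?_⟩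
  have hS : (ShortComplex.mk ψ (cokernel.π ψ) (cokernel.condition ψ)).Exact :=
    ShortComplex.exact_cokernel ψ
  rw [epi_iff_surjective_up_to_refinements]
  intro T z
  obtain ⟨T', π, hπ, x, hx⟩ := hS.exact_up_to_refinements (z ≫ kernel.ι (cokernel.π ψ)) (by
    dsimp
    rw [Category.assoc, kernel.condition, comp_zero])
  refine ⟨T', π, hπ, x, ?_⟩
  rw [← cancel_mono (kernel.ι (cokernel.π ψ)), Category.assoc, Category.assoc, kernel.lift_ι]
  exact hx

lemma FP.of_iso {M N : A} (h : FP Pc M) (e : M ≅ N) : FP Pc N := by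
  obtain ⟨P, hP, q, hq, hk⟩ := h
  refine ⟨P, hP, q ≫ e.hom, epi_comp _ _, hk.of_iso (kernelCompMono q e.hom).symm⟩

/-- a finitely presented object is a cokernel of a morphism between members of `Pc` -/
lemma FP.exists_cokernel {M : A} (h : FP Pc M) :
    ∃ (P₁ P₀ : A) (_ : Pc P₁) (_ : Pc P₀) (ψ : P₁ ⟶ P₀), Nonempty (M ≅ cokernel ψ) := by
  obtain ⟨P₀, h₀, q, hq, P₁, h₁, r, hr⟩ := h
  refine ⟨P₁, P₀, h₁, h₀, r ≫ kernel.ι q, ?_⟩
  have hS : (ShortComplex.mk (kernel.ι q) q (kernel.condition q)).Exact :=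
    ShortComplex.exact_kernel q
  have hc : IsColimit (CokernelCofork.ofπ q (kernel.condition q)) := hS.gIsCokernel
  have i1 : cokernel (kernel.ι q) ≅ M :=
    IsColimit.coconePointUniqueUpToIso (colimit.isColimit _) hc
  exact ⟨i1.symm ≪≫ (cokernelEpiComp r (kernel.ι q)).symm⟩

end Groth.Agent.Helper3.TypeA.Abs
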