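import Mathlib
import Groth.Prelude.Def_ModSite
import Groth.Prelude.Def_CohCx
import Groth.Agent.Lib.Helper3.TypeA2
import Groth.Agent.Lib.Helper3.TypeA3

/-!
# Modules of type A on a ringed site: kernels (helper3)
-/
set_option autoImplicit false
universe u

open CategoryTheory Limits Opposite

namespace Groth.Agent.Helper3.TypeA

open Groth.Agent.Helper3.ModLim Groth.Agent.Helper3.QcSum

variable {C : Type u} [SmallCategory C] {J : GrothendieckTopology C}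
  (O : Sheaf J CommRingCat.{u}) (B : Set C)

/-- finite sums of free modules on members of `B` -/
def IsFinFree (M : ModSite.Mod O) : Prop :=
  ∃ (n : ℕ) (U : Fin n → C), (∀ i, U i ∈ B) ∧
    Nonempty (M ≅ ∐ fun i => ModSite.freeOn O (U i))

lemma isFinFree_of_cofan {ι : Type*} [Finite ι] (U : ι → C) (hU : ∀ i, U i ∈ B)
    (c : Cofan (fun i => ModSite.freeOn O (U i))) (hc : IsColimit c) : IsFinFree O B c.pt := by
  let e₀ : Fin (Nat.card ι) ≃ ι := (Finite.equivFin ι).symm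
  let i₀ : (∐ fun i => ModSite.freeOn O (U (e₀ i))) ≅ c.pt :=
    Sigma.reindex e₀ (fun i => ModSite.freeOn O (U i)) ≪≫
      IsColimit.coconePointUniqueUpToIso (coproductIsCoproduct _) hc
  exact ⟨_, fun i => U (e₀ i), fun _ => hU _, ⟨i₀.symm⟩⟩

lemma IsFinFree.of_iso {M N : ModSite.Mod O} (h : IsFinFree O B M) (e : M ≅ N) :
    IsFinFree O B N := by
  obtain ⟨n, U, hU, ⟨i⟩⟩ := h
  exact ⟨n, U, hU, ⟨e.symm ≪≫ i⟩⟩

lemma IsFinFree.biprod {M N : ModSite.Mod O} (hM : IsFinFree O B M) (hN : IsFinFree O B N) :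
    IsFinFree O B (M ⊞ N) := by
  obtain ⟨n, U, hU, ⟨i⟩⟩ := hM
  obtain ⟨m, V, hV, ⟨j⟩⟩ := hN
  let X : Fin n ⊕ Fin m → ModSite.Mod O := fun s => ModSite.freeOn O (Sum.elim U V s)
  have h1 : IsFinFree O B (sumCofan X).pt :=
    isFinFree_of_cofan O B (Sum.elim U V)
      (fun s => by cases s with
        | inl t => exact hU t
        | inr k => exact hV k) (sumCofan X) (sumCofanIsColimit X)
  exact h1.of_iso O B ((coprod.mapIso i j).symm ≪≫ (biprod.isoCoprod M N).symm)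

section

variable (hB₁ : ∀ X : C, ∃ (κ : Type u) (Y : κ → C) (g : ∀ k, Y k ⟶ X),
    Sieve.ofArrows Y g ∈ J X ∧ ∀ k, Y k ∈ B)
  (hB₂ : ∀ U ∈ B, CohCx.IsQcObject ((presheafToSheaf J (Type u)).obj (yoneda.obj U)))

include hB₁ hB₂ in
lemma hyp : Abs.Hyp (IsFinFree O B) where
  iso e h := h.of_iso O B e
  biprod h h' := h.biprod O B h'
  lift := by
    intro P M N hP e _ a
    obtain ⟨n, U, hU, ⟨i⟩⟩ := hP
    obtain ⟨T, hT, W, hW, γ, β, hγ, hβ⟩ := exists_refined_lift O B hB₁ hB₂ U hU e (i.inv ≫ a)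
    haveI := hT
    haveI := hγ
    refine ⟨_, isFinFree_of_cofan O B W hW _ (coproductIsCoproduct _), γ ≫ i.inv, β,
      epi_comp _ _, ?_⟩
    rw [hβ, Category.assoc]

end

lemma isTypeA_iff_fp (M : ModSite.Mod O) : IsTypeA O B M ↔ Abs.FP (IsFinFree O B) M := by
  constructor
  · rintro ⟨m, n, V, U, ψ, hV, hU, ⟨i⟩⟩
    have h1 : Abs.FP (IsFinFree O B) (cokernel ψ) :=
      Abs.fp_cokernel ⟨m, V, hV, ⟨Iso.refl _⟩⟩ ⟨n, U, hU, ⟨Iso.refl _⟩⟩ ψ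
    exact h1.of_iso i.symm
  · intro h
    obtain ⟨P₁, P₀, ⟨m, V, hV, ⟨i₁⟩⟩, ⟨n, U, hU, ⟨i₀⟩⟩, ψ, ⟨i⟩⟩ := h.exists_cokernel
    refine ⟨m, n, V, U, i₁.inv ≫ ψ ≫ i₀.hom, hV, hU,
      ⟨i ≪≫ cokernel.mapIso ψ (i₁.inv ≫ ψ ≫ i₀.hom) i₁ i₀ ?_⟩⟩
    rw [Iso.hom_inv_id_assoc]

section

variable (hB₁ : ∀ X : C, ∃ (κ : Type u) (Y : κ → C) (g : ∀ k, Y k ⟶ X),
    Sieve.ofArrows Y g ∈ J X ∧ ∀ k, Y k ∈ B)
  (hB₂ : ∀ U ∈ B, CohCx.IsQcObject ((presheafToSheaf J (Type u)).obj (yoneda.obj U)))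

include hB₁ hB₂ in
theorem isTypeA_kernel
    (hker : ∀ (m n : ℕ) (V : Fin m → C) (U : Fin n → C)
      (φ : (∐ fun j => ModSite.freeOn O (V j)) ⟶ ∐ fun i => ModSite.freeOn O (U i)),
      (∀ j, V j ∈ B) → (∀ i, U i ∈ B) → IsTypeA O B (kernel φ))
    {F G : ModSite.Mod O} (α : F ⟶ G) (hF : IsTypeA O B F) (hG : IsTypeA O B G) :
    IsTypeA O B (kernel α) := by
  rw [isTypeA_iff_fp] at hF hG ⊢
  refine Abs.fp_kernel (hyp O B hB₁ hB₂) ?_ hF hG α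
  rintro P P' ⟨m, V, hV, ⟨i⟩⟩ ⟨n, U, hU, ⟨i'⟩⟩ φ
  have h1 := hker m n V U (i.inv ≫ φ ≫ i'.hom) hV hU
  rw [isTypeA_iff_fp] at h1
  refine h1.fg.of_iso (kernel.mapIso (i.inv ≫ φ ≫ i'.hom) φ i.symm i'.symm ?_)
  simp

end

end Groth.Agent.Helper3.TypeA
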