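import Mathlib
import Groth.Prelude.Def_ModSite
import Groth.Prelude.Def_CohCx
import Groth.Agent.Lib.Helper3.TypeA4

/-!
# Modules of type A on a ringed site: extensions (helper3)
-/
set_option autoImplicit false
universe u

open CategoryTheory Limits Opposite

namespace Groth.Agent.Helper3.TypeA

open Groth.Agent.Helper3.ModLim Groth.Agent.Helper3.QcSum

variable {C : Type u} [SmallCategory C] {J : GrothendieckTopology C}
  (O : Sheaf J CommRingCat.{u})

lemma sec_frMap {U V : C} (f : V ⟶ U) :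
    sec O V _ (frMap O f) = (ModSite.freeOn O U).val.map f.op (univSec O U) := by
  rw [frMap, Equiv.apply_symm_apply]

lemma frMap_comp {U V W : C} (a : W ⟶ V) (b : V ⟶ U) :
    frMap O (a ≫ b) = frMap O a ≫ frMap O b := by
  apply (sec O W _).injective
  rw [sec_map_comp, sec_frMap, sec_frMap, op_comp, PresheafOfModules.map_comp_apply]

lemma map_comp_apply' (M : ModSite.Mod O) {X Y Z : C} (a : Z ⟶ Y) (b : Y ⟶ X)
    (s : M.val.obj (op X)) :
    M.val.map (a ≫ b).op s = M.val.map a.op (M.val.map b.op s) := by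
  rw [op_comp, PresheafOfModules.map_comp_apply]

/-- gluing of sections of a sheaf of modules along a covering family with pullbacks -/
lemma exists_glue [HasPullbacks C] (M : ModSite.Mod O) {U : C} {T : Type*} (W : T → C)
    (g : ∀ k, W k ⟶ U) (hcov : Sieve.ofArrows W g ∈ J U)
    (t : ∀ k, M.val.obj (op (W k)))
    (hcompat : ∀ k l, M.val.map (pullback.fst (g k) (g l)).op (t k) =
      M.val.map (pullback.snd (g k) (g l)).op (t l)) :
    ∃ s : M.val.obj (op U), ∀ k, M.val.map (g k).op s = t k := by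
  have hsh := (Presheaf.isSheaf_iff_isSheaf_forget J ((tAb O).obj M).obj
    (forget AddCommGrpCat.{u})).1 ((tAb O).obj M).property
  have h1 := hsh.isSheafFor (Sieve.ofArrows W g) hcov
  have h2 : Presieve.IsSheafFor (((tAb O).obj M).obj ⋙ forget AddCommGrpCat.{u})
      (Presieve.ofArrows W g) := (Presieve.isSheafFor_iff_generate _).2 h1
  obtain ⟨s, hs, -⟩ := (Presieve.isSheafFor_arrows_iff_pullbacks
    (((tAb O).obj M).obj ⋙ forget AddCommGrpCat.{u}) g).1 h2 t hcompat
  exact ⟨s, hs⟩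

section Gamma

variable {n : ℕ} (U : Fin n → C) (T : Fin n → Type u) (W : ∀ i, T i → C)
  (g : ∀ i k, W i k ⟶ U i)

/-- the family of free modules of the refinement -/
noncomputable abbrev famW : (Σ i, T i) → ModSite.Mod O := fun x => ModSite.freeOn O (W x.1 x.2)

variable [∀ i, Fintype (T i)]

/-- the refinement map -/
noncomputable def gam : (∐ famW O T W) ⟶ ∐ fun i => ModSite.freeOn O (U i) :=
  Sigma.desc (fun x => frMap O (g x.1 x.2) ≫ Sigma.ι (fun i => ModSite.freeOn O (U i)) x.1)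

lemma ι_gam (x : Σ i, T i) :
    Sigma.ι (famW O T W) x ≫ gam O U T W g =
      frMap O (g x.1 x.2) ≫ Sigma.ι (fun i => ModSite.freeOn O (U i)) x.1 :=
  Sigma.ι_desc _ _

lemma epi_gam (hcov : ∀ i, Sieve.ofArrows (W i) (g i) ∈ J (U i)) : Epi (gam O U T W g) := by
  constructor
  intro F φ φ' hφ
  apply Sigma.hom_ext
  intro i
  haveI := epi_desc_frMap O (U i) (W i) (g i) (hcov i)
  rw [← cancel_epi (Sigma.desc (fun k => frMap O (g i k)) :
    (∐ fun k => ModSite.freeOn O (W i k)) ⟶ ModSite.freeOn O (U i))]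
  apply Sigma.hom_ext
  intro k
  have h4 := congrArg (fun t => Sigma.ι (famW O T W) ⟨i, k⟩ ≫ t) hφ
  have h5 : (frMap O (g i k) ≫ Sigma.ι (fun i => ModSite.freeOn O (U i)) i) ≫ φ =
      (frMap O (g i k) ≫ Sigma.ι (fun i => ModSite.freeOn O (U i)) i) ≫ φ' := by
    have e1 := ι_gam O U T W g ⟨i, k⟩
    dsimp only at h4 e1
    rw [← Category.assoc, ← Category.assoc, e1] at h4
    exact h4
  rw [Sigma.ι_desc_assoc, Sigma.ι_desc_assoc]
  exact ((Category.assoc _ _ _).symm.trans h5).trans (Category.assoc _ _ _)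

variable [HasPullbacks C] (R : ∀ i, T i → T i → Type u) [∀ i k l, Fintype (R i k l)]
  (Y : ∀ i k l, R i k l → C) (y : ∀ i k l r, Y i k l r ⟶ pullback (g i k) (g i l))

/-- the family of free modules generating the relations -/
noncomputable abbrev famY : (Σ (i : Fin n) (k : T i) (l : T i), R i k l) → ModSite.Mod O := fun z =>
  ModSite.freeOn O (Y z.1 z.2.1 z.2.2.1 z.2.2.2)

/-- the relations -/
noncomputable def del : (∐ famY O T R Y) ⟶ ∐ famW O T W :=
  Sigma.desc (fun z =>
    frMap O (y z.1 z.2.1 z.2.2.1 z.2.2.2 ≫ pullback.fst _ _) ≫ Sigma.ι (famW O T W) ⟨z.1, z.2.1⟩ -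
    frMap O (y z.1 z.2.1 z.2.2.1 z.2.2.2 ≫ pullback.snd _ _) ≫
      Sigma.ι (famW O T W) ⟨z.1, z.2.2.1⟩)

lemma ι_del (i : Fin n) (k l : T i) (r : R i k l) :
    Sigma.ι (famY O T R Y) ⟨i, k, l, r⟩ ≫ del O U T W g R Y y =
      frMap O (y i k l r ≫ pullback.fst _ _) ≫ Sigma.ι (famW O T W) ⟨i, k⟩ -
      frMap O (y i k l r ≫ pullback.snd _ _) ≫ Sigma.ι (famW O T W) ⟨i, l⟩ :=
  Sigma.ι_desc _ _

lemma del_gam : del O U T W g R Y y ≫ gam O U T W g = 0 := by
  apply Sigma.hom_ext
  rintro ⟨i, k, l, r⟩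
  rw [← Category.assoc, ι_del, Preadditive.sub_comp, Category.assoc, Category.assoc, ι_gam, ι_gam,
    comp_zero, ← Category.assoc, ← Category.assoc, ← frMap_comp, ← frMap_comp, Category.assoc,
    Category.assoc, pullback.condition, sub_self]

/-- the Čech-type exactness: the refinement map is a cokernel of the relations -/
noncomputable def isColimitGam (hcov : ∀ i, Sieve.ofArrows (W i) (g i) ∈ J (U i))
    (hcovY : ∀ i k l, Sieve.ofArrows (Y i k l) (y i k l) ∈ J (pullback (g i k) (g i l))) :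
    IsColimit (CokernelCofork.ofπ (gam O U T W g) (del_gam O U T W g R Y y)) := by
  haveI := epi_gam O U T W g hcov
  refine CokernelCofork.IsColimit.ofπ' _ _ ?_
  intro M t ht
  have hcompat : ∀ (i : Fin n) (k l : T i),
      M.val.map (pullback.fst (g i k) (g i l)).op (sec O _ M (Sigma.ι (famW O T W) ⟨i, k⟩ ≫ t)) =
      M.val.map (pullback.snd (g i k) (g i l)).op
        (sec O _ M (Sigma.ι (famW O T W) ⟨i, l⟩ ≫ t)) := by
    intro i k l
    apply eq_of_locally_eq O M _ _ _ (hcovY i k l)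
    intro V f hf
    rw [Sieve.mem_ofArrows_iff] at hf
    obtain ⟨r, a, rfl⟩ := hf
    have h0 : Sigma.ι (famY O T R Y) ⟨i, k, l, r⟩ ≫ del O U T W g R Y y ≫ t = 0 := by
      rw [ht, comp_zero]
    rw [← Category.assoc, ι_del, Preadditive.sub_comp, sub_eq_zero, Category.assoc,
      Category.assoc] at h0
    have h1 := congrArg (sec O _ M) h0
    rw [sec_map_comp, sec_map_comp] at h1
    have e1 : ∀ {X' : C} (p : pullback (g i k) (g i l) ⟶ X') (x : M.val.obj (op X')),
        M.val.map (a ≫ y i k l r).op (M.val.map p.op x) =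
          M.val.map a.op (M.val.map (y i k l r ≫ p).op x) := by
      intro X' p x
      rw [map_comp_apply', map_comp_apply' O M (y i k l r) p]
    rw [e1, e1, h1]
  have hglue : ∀ i, ∃ s : M.val.obj (op (U i)), ∀ k,
      M.val.map (g i k).op s = sec O _ M (Sigma.ι (famW O T W) ⟨i, k⟩ ≫ t) :=
    fun i => exists_glue O M (W i) (g i) (hcov i) _ (hcompat i)
  choose s hs using hglue
  refine ⟨Sigma.desc (fun i => (sec O (U i) M).symm (s i)), ?_⟩
  apply Sigma.hom_ext
  rintro ⟨i, k⟩
  rw [← Category.assoc, ι_gam, Category.assoc, Sigma.ι_desc]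
  apply (sec O _ M).injective
  rw [sec_map_comp, Equiv.apply_symm_apply, hs]

end Gamma

end Groth.Agent.Helper3.TypeA
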