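import Mathlib
import Groth.Prelude.Def_ModSite
import Groth.Prelude.Def_CohCx
import Groth.Agent.Lib.Helper3.TypeA5

/-!
# Modules of type A on a ringed site: extensions, part 2 (helper3)
-/
set_option autoImplicit false
universe u

open CategoryTheory Limits Opposite

namespace Groth.Agent.Helper3.TypeA

open Groth.Agent.Helper3.ModLim Groth.Agent.Helper3.QcSum

variable {C : Type u} [SmallCategory C] {J : GrothendieckTopology C}
  (O : Sheaf J CommRingCat.{u}) (B : Set C)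

/-- a finite refinement of a finite family of objects -/
structure Refinement {n : ℕ} (U : Fin n → C) where
  T : Fin n → Type u
  fin : ∀ i, Fintype (T i)
  W : ∀ i, T i → C
  g : ∀ i k, W i k ⟶ U i

attribute [instance] Refinement.fin

section

variable (hB₁ : ∀ X : C, ∃ (κ : Type u) (Y : κ → C) (g : ∀ k, Y k ⟶ X),
    Sieve.ofArrows Y g ∈ J X ∧ ∀ k, Y k ∈ B)
  (hB₂ : ∀ U ∈ B, CohCx.IsQcObject ((presheafToSheaf J (Type u)).obj (yoneda.obj U)))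

include hB₁ hB₂ in
lemma exists_refinement_lift {n : ℕ} (U : Fin n → C) (hU : ∀ i, U i ∈ B) {M N : ModSite.Mod O}
    (e : M ⟶ N) [Epi e] (a : (∐ fun i => ModSite.freeOn O (U i)) ⟶ N) :
    ∃ ρ : Refinement U, (∀ i k, ρ.W i k ∈ B) ∧
      (∀ i, Sieve.ofArrows (ρ.W i) (ρ.g i) ∈ J (U i)) ∧
      ∃ β : (∐ famW O ρ.T ρ.W) ⟶ M, β ≫ e = gam O U ρ.T ρ.W ρ.g ≫ a := by
  have h1 : ∀ i, ∃ S ∈ J (U i), ∀ ⦃V : C⦄ (f : V ⟶ U i), S f →
      ∃ t : ModSite.freeOn O V ⟶ M,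
        t ≫ e = frMap O f ≫ Sigma.ι (fun i => ModSite.freeOn O (U i)) i ≫ a :=
    fun i => exists_local_lift_sec O e (Sigma.ι (fun i => ModSite.freeOn O (U i)) i ≫ a)
  choose S hS hlift using h1
  have h2 : ∀ i, ∃ (T : Type u) (_ : Fintype T) (W : T → C) (g : ∀ k, W k ⟶ U i),
      (∀ k, W k ∈ B) ∧ (∀ k, S i (g k)) ∧ Sieve.ofArrows W g ∈ J (U i) :=
    fun i => exists_finite_refinement B hB₁ (U i) (hB₂ _ (hU i)) (S i) (hS i)
  choose T hT W g hWB hgS hcov using h2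
  have h3 : ∀ (i : Fin n) (k : T i), ∃ t : ModSite.freeOn O (W i k) ⟶ M,
      t ≫ e = frMap O (g i k) ≫ Sigma.ι (fun i => ModSite.freeOn O (U i)) i ≫ a :=
    fun i k => hlift i (g i k) (hgS i k)
  choose b hb using h3
  refine ⟨⟨T, hT, W, g⟩, hWB, hcov, Sigma.desc (fun x => b x.1 x.2), ?_⟩
  apply Sigma.hom_ext
  intro x
  rw [Sigma.ι_desc_assoc, hb, ← Category.assoc (Sigma.ι _ x), ι_gam, Category.assoc]

variable [HasPullbacks C]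
  (hB₃ : ∀ (U U₁ U₂ : C) (f₁ : U₁ ⟶ U) (f₂ : U₂ ⟶ U), U ∈ B → U₁ ∈ B → U₂ ∈ B →
    CohCx.IsQcObject ((presheafToSheaf J (Type u)).obj (yoneda.obj (pullback f₁ f₂))))

include hB₁ hB₃ in
/-- the kernel of a refinement map is finitely generated -/
lemma fg_kernel_gam {n : ℕ} (U : Fin n → C) (hU : ∀ i, U i ∈ B) (ρ : Refinement U)
    (hW : ∀ i k, ρ.W i k ∈ B) (hcov : ∀ i, Sieve.ofArrows (ρ.W i) (ρ.g i) ∈ J (U i)) :
    Abs.FG (IsFinFree O B) (kernel (gam O U ρ.T ρ.W ρ.g)) := by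
  have h2 : ∀ (i : Fin n) (k l : ρ.T i), ∃ (R : Type u) (_ : Fintype R) (Y : R → C)
      (y : ∀ r, Y r ⟶ pullback (ρ.g i k) (ρ.g i l)),
      (∀ r, Y r ∈ B) ∧ (∀ r, (⊤ : Sieve _) (y r)) ∧ Sieve.ofArrows Y y ∈ J _ :=
    fun i k l => exists_finite_refinement B hB₁ _
      (hB₃ _ _ _ (ρ.g i k) (ρ.g i l) (hU i) (hW i k) (hW i l)) ⊤ (J.top_mem _)
  choose R hR Y y hYB _ hcovY using h2
  haveI : ∀ i k l, Fintype (R i k l) := hR
  have hex : (ShortComplex.mk (del O U ρ.T ρ.W ρ.g R Y y) (gam O U ρ.T ρ.W ρ.g)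
      (del_gam O U ρ.T ρ.W ρ.g R Y y)).Exact :=
    ShortComplex.exact_of_g_is_cokernel _ (isColimitGam O U ρ.T ρ.W ρ.g R Y y hcov hcovY)
  have hepi := hex.epi_kernelLift
  refine ⟨_, isFinFree_of_cofan O B (fun z : (Σ (i : Fin n) (k : ρ.T i) (l : ρ.T i), R i k l) =>
    Y z.1 z.2.1 z.2.2.1 z.2.2.2) (fun z => hYB _ _ _ _) _ (coproductIsCoproduct _), _, hepi⟩

include hB₁ hB₂ hB₃ in
lemma lift3 : Abs.Lift3 (IsFinFree O B) := by
  intro P M N hP e _ a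
  obtain ⟨n, U, hU, ⟨i⟩⟩ := hP
  obtain ⟨ρ, hW, hcov, β, hβ⟩ := exists_refinement_lift O B hB₁ hB₂ U hU e (i.inv ≫ a)
  haveI := epi_gam O U ρ.T ρ.W ρ.g hcov
  have hk := fg_kernel_gam O B hB₁ hB₃ U hU ρ hW hcov
  refine ⟨_, isFinFree_of_cofan O B (fun x : Σ i, ρ.T i => ρ.W x.1 x.2) (fun x => hW _ _) _
    (coproductIsCoproduct _), gam O U ρ.T ρ.W ρ.g ≫ i.inv, β, epi_comp _ _, ?_, ?_⟩
  · exact hk.of_iso (kernelCompMono (gam O U ρ.T ρ.W ρ.g) i.inv).symm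
  · rw [hβ, Category.assoc]

include hB₁ hB₂ hB₃ in
theorem isTypeA_ext (S : ShortComplex (ModSite.Mod O)) (hS : S.ShortExact)
    (h₁ : IsTypeA O B S.X₁) (h₃ : IsTypeA O B S.X₃) : IsTypeA O B S.X₂ := by
  rw [isTypeA_iff_fp] at h₁ h₃ ⊢
  exact Abs.fp_ext (hyp O B hB₁ hB₂) (lift3 O B hB₁ hB₂ hB₃) S hS h₁ h₃

end

end Groth.Agent.Helper3.TypeA
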