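import Mathlib
import Groth.Prelude.Def_ModSite
import Groth.Prelude.Def_CohCx
import Groth.Agent.Lib.Helper3.TypeA4
import Groth.Agent.Lib.Helper3.FiltCoker
import Groth.Agent.Lib.Helper3.QcSum5
import Groth.Agent.Lib.Helper3.CompDer3

/-!
# Every module is a filtered colimit of modules of type A (helper3)
-/
set_option autoImplicit false
universe u

open CategoryTheory Limits Opposite

namespace Groth.Agent.Helper3.TypeA

open Groth.Agent.Helper3.ModLim Groth.Agent.Helper3.QcSum Groth.Agent.Helper3.CompDer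

variable {C : Type u} [SmallCategory C] {J : GrothendieckTopology C}
  (O : Sheaf J CommRingCat.{u}) (B : Set C)

/-- the index set of the generators of `F` over members of `B` -/
abbrev GenIdx (F : ModSite.Mod O) : Type u := Σ U : {U : C // U ∈ B}, F.val.obj (op U.1)

/-- the free modules attached to the generators -/
noncomputable abbrev genP (F : ModSite.Mod O) : GenIdx O B F → ModSite.Mod O :=
  fun x => ModSite.freeOn O x.1.1

/-- the canonical map from the sum of the free modules on the generators -/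
noncomputable def genMap (F : ModSite.Mod O) : (∐ genP O B F) ⟶ F :=
  Sigma.desc (fun x => (sec O x.1.1 F).symm x.2)

lemma sec_ι_genMap (F : ModSite.Mod O) (x : GenIdx O B F) {G : ModSite.Mod O} (φ : F ⟶ G) :
    sec O x.1.1 G (Sigma.ι (genP O B F) x ≫ genMap O B F ≫ φ) = φ.val.app (op x.1.1) x.2 := by
  unfold genMap
  rw [Sigma.ι_desc_assoc, sec_comp, Equiv.apply_symm_apply]

section

variable (hB₁ : ∀ X : C, ∃ (κ : Type u) (Y : κ → C) (g : ∀ k, Y k ⟶ X),
    Sieve.ofArrows Y g ∈ J X ∧ ∀ k, Y k ∈ B)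

include hB₁ in
lemma epi_genMap (F : ModSite.Mod O) : Epi (genMap O B F) := by
  constructor
  intro G φ φ' h
  apply (SheafOfModules.fullyFaithfulForget (ModSite.ringSh O)).map_injective
  apply PresheafOfModules.hom_ext
  intro V
  apply ModuleCat.hom_ext
  apply LinearMap.ext
  intro s
  change φ.val.app V s = φ'.val.app V s
  obtain ⟨κ, Y, g, hcov, hY⟩ := hB₁ V.unop
  apply eq_of_locally_eq O G _ _ _ hcov
  intro W f hf
  rw [Sieve.mem_ofArrows_iff] at hf
  obtain ⟨k, a, rfl⟩ := hf
  have h1 : ∀ ψ : F ⟶ G, G.val.map (a ≫ g k).op (ψ.val.app V s) =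
      G.val.map a.op (ψ.val.app (op (Y k)) (F.val.map (g k).op s)) := by
    intro ψ
    rw [op_comp, PresheafOfModules.map_comp_apply]
    congr 1
    exact (PresheafOfModules.naturality_apply ψ.val (g k).op s).symm
  rw [h1, h1]
  congr 1
  have e1 := sec_ι_genMap O B F ⟨⟨Y k, hY k⟩, F.val.map (g k).op s⟩ φ
  have e2 := sec_ι_genMap O B F ⟨⟨Y k, hY k⟩, F.val.map (g k).op s⟩ φ'
  rw [h] at e1
  exact e1.symm.trans e2

variable (hB₂ : ∀ U ∈ B, CohCx.IsQcObject ((presheafToSheaf J (Type u)).obj (yoneda.obj U)))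

open Classical in
lemma finSupp_of_qc {V : C}
    (hqc : CohCx.IsQcObject ((presheafToSheaf J (Type u)).obj (yoneda.obj V)))
    {I : Type u} (P : I → ModSite.Mod O) (f : ModSite.freeOn O V ⟶ ∐ P) :
    FiltCoker.FinSupp P f := by
  obtain ⟨d, rfl⟩ := (h0_freeOn O V hqc P).2 f
  induction d using DirectSum.induction_on with
  | zero =>
    rw [map_zero]
    exact FiltCoker.finSupp_zero P
  | of i x =>
    rw [Φ_of]
    exact FiltCoker.finSupp_comp_ι P i x
  | add a b ha hb =>
    rw [map_add]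
    exact FiltCoker.finSupp_add P _ _ ha hb

include hB₁ hB₂ in
theorem exists_filtered_colimit (F : ModSite.Mod O) :
    ∃ (Λ : Type u) (_ : SmallCategory Λ) (_ : IsFiltered Λ) (D : Λ ⥤ ModSite.Mod O)
      (ι : D ⟶ (Functor.const Λ).obj F),
      (∀ l, IsTypeA O B (D.obj l)) ∧ Nonempty (IsColimit (Cocone.mk F ι)) := by
  haveI := epi_genMap O B hB₁ F
  let p := genMap O B F
  let K := kernel p
  haveI := epi_genMap O B hB₁ K
  let ψ : (∐ genP O B K) ⟶ ∐ genP O B F := genMap O B K ≫ kernel.ι p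
  have w : ψ ≫ p = 0 := by
    simp only [ψ, Category.assoc, kernel.condition, comp_zero]
  have hS : (ShortComplex.mk ψ p w).Exact := by
    rw [ShortComplex.exact_iff_exact_up_to_refinements]
    intro T x₂ hx₂
    dsimp at x₂ hx₂ ⊢
    obtain ⟨T', π, hπ, x₁, hx₁⟩ := surjective_up_to_refinements_of_epi (genMap O B K)
      (kernel.lift p x₂ hx₂)
    refine ⟨T', π, hπ, x₁, ?_⟩
    simp only [ψ]
    rw [← Category.assoc, ← hx₁, Category.assoc, kernel.lift_ι]
  haveI : Epi (ShortComplex.mk ψ p w).g := inferInstanceAs (Epi p)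
  have hp : IsColimit (CokernelCofork.ofπ p w) := hS.gIsCokernel
  have hfin : ∀ j, FiltCoker.FinSupp (genP O B F) (Sigma.ι (genP O B K) j ≫ ψ) :=
    fun j => finSupp_of_qc O (hB₂ _ j.1.2) _ _
  refine ⟨FiltCoker.Idx (genP O B F) (genP O B K) ψ, inferInstance, inferInstance,
    FiltCoker.D (genP O B F) (genP O B K) ψ, FiltCoker.coconeι p w, ?_,
    ⟨FiltCoker.isColimit p w hfin hp⟩⟩
  intro l
  exact isTypeA_of_cofan O B (fun i : l.1.1 => i.1.1.1) (fun k : l.1.2 => k.1.1.1)
    (fun i => i.1.1.2) (fun k => k.1.1.2) _ (coproductIsCoproduct _) _ (coproductIsCoproduct _)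
    (FiltCoker.psi l) _ (Iso.refl _)

end

end Groth.Agent.Helper3.TypeA
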