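import Mathlib

/-! Flatness over the fibre ring `k[X]` of `R[X]` over a maximal ideal. -/

set_option autoImplicit false
universe u
namespace Groth.Agent.Helper3.UInj

open TensorProduct Polynomial

section Fibre

variable (R : Type u) [CommRing R] (I : Ideal R) [I.IsMaximal]

theorem isDomain_fibre : IsDomain (R[X] ⧸ (Ideal.map C I : Ideal R[X])) := by
  letI : Field (R ⧸ I) := Ideal.Quotient.field I
  exact MulEquiv.isDomain ((R ⧸ I)[X]) (Ideal.polynomialQuotientEquivQuotientPolynomial I).symm.toMulEquiv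

theorem isPrincipalIdealRing_fibre : IsPrincipalIdealRing (R[X] ⧸ (Ideal.map C I : Ideal R[X])) := by
  letI : Field (R ⧸ I) := Ideal.Quotient.field I
  exact IsPrincipalIdealRing.of_surjective
    (Ideal.polynomialQuotientEquivQuotientPolynomial I).toRingHom
    (Ideal.polynomialQuotientEquivQuotientPolynomial I).surjective

variable (N : Type u) [AddCommGroup N] [Module R[X] N]

theorem flat_fibre
    (H : ∀ (b : R[X]) (n : N), b ∉ (Ideal.map C I : Ideal R[X]) →
       b • n ∈ (Ideal.map C I : Ideal R[X]) • (⊤ : Submodule R[X] N) →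
       n ∈ (Ideal.map C I : Ideal R[X]) • (⊤ : Submodule R[X] N)) :
    Module.Flat (R[X] ⧸ (Ideal.map C I : Ideal R[X]))
      ((R[X] ⧸ (Ideal.map C I : Ideal R[X])) ⊗[R[X]] N) := by
  haveI := isDomain_fibre R I
  haveI := isPrincipalIdealRing_fibre R I
  rw [Module.Flat.flat_iff_torsion_eq_bot_of_isBezout, Submodule.eq_bot_iff]
  intro x hx
  rw [Submodule.mem_torsion_iff] at hx
  obtain ⟨c, hc⟩ := hx
  obtain ⟨b, hb⟩ := Ideal.Quotient.mk_surjective (c : R[X] ⧸ (Ideal.map C I : Ideal R[X]))
  have hbI : b ∉ (Ideal.map C I : Ideal R[X]) := by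
    intro hmem
    have : (c : R[X] ⧸ (Ideal.map C I : Ideal R[X])) = 0 := by
      rw [← hb]
      exact Ideal.Quotient.eq_zero_iff_mem.2 hmem
    exact nonZeroDivisors.ne_zero c.2 this
  let E := TensorProduct.quotTensorEquivQuotSMul N (Ideal.map C I : Ideal R[X])
  obtain ⟨n, hn⟩ := Submodule.mkQ_surjective
    ((Ideal.map C I : Ideal R[X]) • (⊤ : Submodule R[X] N)) (E x)
  have h1 : b • x = 0 := by
    rw [← hc, Submonoid.smul_def, ← hb]
    exact (algebraMap_smul (R[X] ⧸ (Ideal.map C I : Ideal R[X])) b x).symm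
  have h2 : Submodule.Quotient.mk (p := (Ideal.map C I : Ideal R[X]) • (⊤ : Submodule R[X] N))
      (b • n) = 0 := by
    rw [Submodule.Quotient.mk_smul]
    have : Submodule.Quotient.mk (p := (Ideal.map C I : Ideal R[X]) • (⊤ : Submodule R[X] N)) n
        = E x := hn
    rw [this, ← map_smul, h1, map_zero]
  rw [Submodule.Quotient.mk_eq_zero] at h2
  have h3 := H b n hbI h2
  have h4 : E x = 0 := by
    rw [← hn]
    exact (Submodule.Quotient.mk_eq_zero _).2 h3
  exact E.injective (h4.trans (map_zero E).symm)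

end Fibre

end Groth.Agent.Helper3.UInj
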