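import Mathlib
import Groth.Prelude.Def_FlatCA
import Groth.Agent.Lib.Helper7.NzdFiber.FiberMod

/-! Polynomials not vanishing modulo the maximal ideal, evaluated at an element of the
maximal ideal acting injectively on the closed fibre, act injectively on the closed fibre. -/

set_option autoImplicit false
universe u
namespace Groth.Agent.Helper3.UInj

open TensorProduct Polynomial IsLocalRing

section Concrete

variable (R S : Type u) [CommRing R] [IsLocalRing R] [CommRing S] [IsLocalRing S] [Algebra R S]
  [IsLocalHom (algebraMap R S)]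
  (N : Type u) [AddCommGroup N] [Module S N] [Module R N] [IsScalarTower R S N]

omit [IsLocalRing S] [IsLocalHom (algebraMap R S)] in
theorem smul_mem_mN (t : S) (n : N) (hn : n ∈ (maximalIdeal R • ⊤ : Submodule R N)) :
    t • n ∈ (maximalIdeal R • ⊤ : Submodule R N) := by
  have hP : ∀ y : N, y ∈ (maximalIdeal R • ⊤ : Submodule R N) ↔
      y ∈ ((maximalIdeal R).map (algebraMap R S) • ⊤ : Submodule S N) := by
    intro y
    have := Ideal.smul_restrictScalars (maximalIdeal R) (⊤ : Submodule S N)
    rw [Submodule.restrictScalars_top] at this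
    rw [← this]
    rfl
  rw [hP] at hn ⊢
  exact Submodule.smul_mem _ t hn

theorem mem_mN_of_unit_coeff (s : S) (hs' : s ∈ maximalIdeal S) (b : R[X])
    (hb : b.coeff 0 ∉ maximalIdeal R) (n : N)
    (h : (aeval s b) • n ∈ (maximalIdeal R • ⊤ : Submodule R N)) :
    n ∈ (maximalIdeal R • ⊤ : Submodule R N) := by
  have hu : IsUnit (aeval s b) := by
    by_contra hnu
    have h1 : aeval s b ∈ maximalIdeal S := (mem_maximalIdeal _).2 hnu
    have h2 : aeval s b = aeval s (divX b) * s + algebraMap R S (b.coeff 0) := by
      conv_lhs => rw [← divX_mul_X_add b]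
      rw [map_add, map_mul, aeval_X, aeval_C]
    have h3 : algebraMap R S (b.coeff 0) ∈ maximalIdeal S := by
      have : algebraMap R S (b.coeff 0) = aeval s b - aeval s (divX b) * s := by
        rw [h2]; ring
      rw [this]
      exact Ideal.sub_mem _ h1 (Ideal.mul_mem_left _ _ hs')
    have h4 : IsUnit (b.coeff 0) := by
      by_contra h
      exact hb ((mem_maximalIdeal _).2 h)
    exact (mem_maximalIdeal _).1 h3 (h4.map (algebraMap R S))
  obtain ⟨w, hw⟩ := hu.exists_left_inv
  have := smul_mem_mN R S N w _ h
  rwa [smul_smul, hw, one_smul] at this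

theorem mem_mN_of_aeval_smul_mem (s : S) (hs : s ∈ FlatCA.nzdFiber R S N)
    (hs' : s ∈ maximalIdeal S) :
    ∀ (d : ℕ) (b : R[X]), b.natDegree ≤ d → b ∉ (Ideal.map C (maximalIdeal R) : Ideal R[X]) →
      ∀ n : N, (aeval s b) • n ∈ (maximalIdeal R • ⊤ : Submodule R N) →
      n ∈ (maximalIdeal R • ⊤ : Submodule R N) := by
  intro d
  induction d with
  | zero =>
    intro b hd hb n h
    refine mem_mN_of_unit_coeff R S N s hs' b ?_ n h
    intro hmem
    apply hb
    rw [eq_C_of_natDegree_le_zero hd]
    exact Ideal.mem_map_of_mem C hmem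
  | succ d ih =>
    intro b hd hb n h
    by_cases hc : b.coeff 0 ∈ maximalIdeal R
    · have h2 : aeval s b = s * aeval s (divX b) + algebraMap R S (b.coeff 0) := by
        conv_lhs => rw [← divX_mul_X_add b]
        rw [map_add, map_mul, aeval_X, aeval_C, mul_comm]
      rw [h2, add_smul, mul_smul, algebraMap_smul] at h
      have h3 : (b.coeff 0) • n ∈ (maximalIdeal R • ⊤ : Submodule R N) :=
        Submodule.smul_mem_smul hc Submodule.mem_top
      have h4 : s • (aeval s (divX b)) • n ∈ (maximalIdeal R • ⊤ : Submodule R N) := by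
        have := Submodule.sub_mem _ h h3
        rwa [add_sub_cancel_right] at this
      have h5 := Groth.Agent.Helper7.NzdFiber.mem_of_smul_mem_of_mem_nzdFiber R S N s hs _ h4
      refine ih (divX b) ?_ ?_ n h5
      · rw [natDegree_divX_eq_natDegree_tsub_one]
        omega
      · intro hmem
        apply hb
        rw [← divX_mul_X_add b]
        exact Ideal.add_mem _ (Ideal.mul_mem_right _ _ hmem) (Ideal.mem_map_of_mem C hc)
    · exact mem_mN_of_unit_coeff R S N s hs' b hc n h

end Concrete

end Groth.Agent.Helper3.UInj
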