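import Mathlib
import Groth.Prelude.Def_FlatCA
import Groth.Agent.Lib.Lead.CritFib14
import Groth.Agent.Lib.Helper3.UInj1
import Groth.Agent.Lib.Helper3.UInj2
import Groth.Agent.Lib.Helper3.UInj3
import Groth.Agent.Lib.Helper3.UInj4

/-! Universal injectivity of multiplication by an element acting injectively on the closed fibre,
for a finitely presented module flat over a local base (Raynaud–Gruson). -/

set_option autoImplicit false
set_option linter.style.haveILetI false
universe u
namespace Groth.Agent.Helper3.UInj

open TensorProduct Polynomial IsLocalRing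

section Wrapper

/-- the fibre criterion of flatness with an abstract localized module -/
theorem critere_ft_abstract (A B C M : Type u) [CommRing A] [CommRing B] [CommRing C] [Algebra A B]
    [Algebra B C] [Algebra A C] [IsScalarTower A B C] [AddCommGroup M] [Module C M]
    [Algebra.FiniteType A B] [Algebra.FinitePresentation A C] [Module.FinitePresentation C M]
    (p : Ideal A) [p.IsPrime] (q : Ideal C) [q.IsPrime] [q.LiesOver p]
    (N : Type u) [AddCommGroup N] [Module C N] [Module B N] [Module A N] [IsScalarTower B C N]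
    [IsScalarTower A C N]
    (ι : M →ₗ[C] N) [IsLocalizedModule q.primeCompl ι]
    (h1 : Module.Flat A N)
    (h2 : Module.Flat (B ⧸ p.map (algebraMap A B)) ((B ⧸ p.map (algebraMap A B)) ⊗[B] N)) :
    Module.Flat B N := by
  letI : Module B M := Module.compHom M (algebraMap B C)
  haveI : IsScalarTower B C M := IsScalarTower.of_compHom B C M
  letI : Module A M := Module.compHom M (algebraMap A C)
  haveI : IsScalarTower A C M := IsScalarTower.of_compHom A C M
  let e : LocalizedModule q.primeCompl M ≃ₗ[C] N := IsLocalizedModule.iso q.primeCompl ι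
  have h2c := Groth.Agent.Lead.CritFib.qflat_of_linearEquiv (p.map (algebraMap A B))
    (e.restrictScalars B).symm h2
  haveI := h1
  have h1c : Module.Flat A (LocalizedModule q.primeCompl M) :=
    Module.Flat.of_linearEquiv (e.restrictScalars A)
  have h3 := Groth.Agent.Lead.CritFib.critere_ft A B C M p q h1c h2c
  haveI := h3
  exact Module.Flat.of_linearEquiv (e.restrictScalars B).symm

end Wrapper

section Main

variable (R S : Type u) [CommRing R] [IsLocalRing R] [CommRing S] [IsLocalRing S] [Algebra R S]
  [IsLocalHom (algebraMap R S)]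
  (N : Type u) [AddCommGroup N] [Module S N] [Module R N] [IsScalarTower R S N]
  [Module.FinitePresentation S N] [Module.Flat R N]

/-- key case: the element comes from the finitely presented model and lies in the maximal
ideal -/
theorem univInj_lsmul_algebraMap (S₀ : Type u) [CommRing S₀] [Algebra R S₀] [Algebra S₀ S]
    [IsScalarTower R S₀ S] (Mon : Submonoid S₀) [Algebra.FinitePresentation R S₀]
    [IsLocalization Mon S] (s₀ : S₀) (hs : algebraMap S₀ S s₀ ∈ FlatCA.nzdFiber R S N)
    (hs' : algebraMap S₀ S s₀ ∈ maximalIdeal S) :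
    FlatCA.UnivInj R ((LinearMap.lsmul S N (algebraMap S₀ S s₀)).restrictScalars R) := by
  letI algB : Algebra R[X] S₀ := (aeval s₀ : R[X] →ₐ[R] S₀).toRingHom.toAlgebra
  have halgB : ∀ b : R[X], algebraMap R[X] S₀ b = aeval s₀ b := fun b => rfl
  haveI : IsScalarTower R R[X] S₀ := IsScalarTower.of_algebraMap_eq (fun r => by
    rw [halgB, AlgHom.commutes])
  letI : Module S₀ N := Module.compHom N (algebraMap S₀ S)
  haveI : IsScalarTower S₀ S N := IsScalarTower.of_compHom S₀ S N
  letI : Module R[X] N := Module.compHom N (algebraMap R[X] S₀)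
  haveI : IsScalarTower R[X] S₀ N := IsScalarTower.of_compHom R[X] S₀ N
  have hsmulB : ∀ (b : R[X]) (n : N), b • n = (aeval (algebraMap S₀ S s₀) b) • n := by
    intro b n
    show algebraMap S₀ S (algebraMap R[X] S₀ b) • n = _
    rw [halgB, ← aeval_algebraMap_apply]
  haveI : IsScalarTower R S₀ N := IsScalarTower.of_algebraMap_smul (fun r n => by
    show algebraMap S₀ S (algebraMap R S₀ r) • n = r • n
    rw [← IsScalarTower.algebraMap_apply R S₀ S, algebraMap_smul])
  haveI : IsScalarTower R R[X] N := IsScalarTower.of_algebraMap_smul (fun r n => by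
    rw [hsmulB, ← C_eq_algebraMap, aeval_C, algebraMap_smul])
  obtain ⟨N₀, _, _, _, ι, hι⟩ := exists_fp_model (S := S) Mon N
  set q₀ := (maximalIdeal S).comap (algebraMap S₀ S) with hq₀
  haveI : q₀.IsPrime := Ideal.comap_isPrime _ _
  haveI hloc : IsLocalization.AtPrime S q₀ := isLocalization_atPrime Mon
  haveI : IsLocalizedModule q₀.primeCompl ι :=
    (isLocalizedModule_iff_isBaseChange q₀.primeCompl S ι).2 hι
  haveI : q₀.LiesOver (maximalIdeal R) := ⟨by
    rw [Ideal.under_def, hq₀, Ideal.comap_comap, ← IsScalarTower.algebraMap_eq]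
    have hloc' : IsLocalHom (algebraMap R S) := inferInstance
    have h04 : (maximalIdeal S).comap (algebraMap R S) = maximalIdeal R :=
      ((local_hom_TFAE (algebraMap R S)).out 0 4).1 hloc'
    exact h04.symm⟩
  have hmem : ∀ y : N, y ∈ (Ideal.map C (maximalIdeal R) : Ideal R[X]) • (⊤ : Submodule R[X] N) ↔
      y ∈ (maximalIdeal R • ⊤ : Submodule R N) := by
    intro y
    have := Ideal.smul_restrictScalars (maximalIdeal R) (⊤ : Submodule R[X] N)
    rw [Submodule.restrictScalars_top, Polynomial.algebraMap_eq] at this
    rw [← this]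
    rfl
  have h2 : Module.Flat (R[X] ⧸ (maximalIdeal R).map (algebraMap R R[X]))
      ((R[X] ⧸ (maximalIdeal R).map (algebraMap R R[X])) ⊗[R[X]] N) := by
    rw [Polynomial.algebraMap_eq]
    refine flat_fibre R (maximalIdeal R) N (fun b n hb hbn => ?_)
    rw [hmem] at hbn ⊢
    rw [hsmulB] at hbn
    exact mem_mN_of_aeval_smul_mem R S N _ hs hs' b.natDegree b le_rfl hb n hbn
  have h3 : Module.Flat R[X] N :=
    critere_ft_abstract R R[X] S₀ N₀ (maximalIdeal R) q₀ N ι inferInstance h2
  haveI := h3
  intro Q _ _
  have h4 := lTensor_lsmul_X_injective R N Q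
  have h5 : (LinearMap.lsmul R[X] N (X : R[X])).restrictScalars R =
      (LinearMap.lsmul S N (algebraMap S₀ S s₀)).restrictScalars R := by
    refine LinearMap.ext fun n => ?_
    show (X : R[X]) • n = (algebraMap S₀ S s₀) • n
    rw [hsmulB, aeval_X]
  rwa [h5] at h4

end Main

end Groth.Agent.Helper3.UInj
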