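import Mathlib
import Groth.Prelude.Def_FlatCA
import Groth.Agent.Lib.Helper3.UInj5

/-! Universal injectivity of multiplication by elements acting injectively on the closed fibre
and of the localization at all of them (Raynaud–Gruson), essentially finitely presented case. -/

set_option autoImplicit false
set_option linter.style.haveILetI false
universe u
namespace Groth.Agent.Helper3.UInj

open TensorProduct Polynomial IsLocalRing

section Loc

variable (R S : Type u) [CommRing R] [CommRing S] [Algebra R S]
  (N : Type u) [AddCommGroup N] [Module S N] [Module R N] [IsScalarTower R S N]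

/-- if all elements of a multiplicative set act universally injectively, the localization map is
universally injective (proof pattern of helper7's `NzdFiber.univInj_mkLinearMap`) -/
theorem univInj_mkLinearMap_of_forall (T : Submonoid S)
    (hT : ∀ t ∈ T, FlatCA.UnivInj R ((LinearMap.lsmul S N t).restrictScalars R)) :
    FlatCA.UnivInj R ((LocalizedModule.mkLinearMap T N).restrictScalars R) := by
  intro Q _ _
  set g := LocalizedModule.mkLinearMap T N with hg
  rw [injective_iff_map_eq_zero]
  intro x hx
  have hnat : ∀ z : Q ⊗[R] N, AlgebraTensorModule.rTensor R Q g (TensorProduct.comm R Q N z) =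
      TensorProduct.comm R Q (LocalizedModule T N) ((g.restrictScalars R).lTensor Q z) := by
    intro z
    induction z using TensorProduct.induction_on with
    | zero => simp
    | tmul q n => simp
    | add a b ha hb => rw [map_add, map_add, ha, hb, map_add, map_add]
  have hnat2 : ∀ (t : S) (z : Q ⊗[R] N), t • (TensorProduct.comm R Q N z) =
      TensorProduct.comm R Q N (((LinearMap.lsmul S N t).restrictScalars R).lTensor Q z) := by
    intro t z
    induction z using TensorProduct.induction_on with
    | zero => simp
    | tmul q n =>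
      rw [TensorProduct.comm_tmul, TensorProduct.smul_tmul']
      rfl
    | add a b ha hb => rw [map_add, smul_add, ha, hb, map_add, map_add]
  have h1 : AlgebraTensorModule.rTensor R Q g (TensorProduct.comm R Q N x) = 0 := by
    rw [hnat, hx, map_zero]
  obtain ⟨t, ht⟩ := (IsLocalizedModule.eq_zero_iff T (AlgebraTensorModule.rTensor R Q g)).1 h1
  rw [Submonoid.smul_def, hnat2] at ht
  have h2 : ((LinearMap.lsmul S N (t : S)).restrictScalars R).lTensor Q x = 0 :=
    (TensorProduct.comm R Q N).injective (by rw [ht, map_zero])
  exact hT t t.2 Q (by rw [h2, map_zero])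

end Loc

section Main

variable (R S : Type u) [CommRing R] [IsLocalRing R] [CommRing S] [IsLocalRing S] [Algebra R S]
  [IsLocalHom (algebraMap R S)]
  (N : Type u) [AddCommGroup N] [Module S N] [Module R N] [IsScalarTower R S N]
  [Module.FinitePresentation S N] [Module.Flat R N]

theorem univInj_lsmul (hS : FlatCA.EssFinitePresentation R S) (s : S)
    (hs : s ∈ FlatCA.nzdFiber R S N) :
    FlatCA.UnivInj R ((LinearMap.lsmul S N s).restrictScalars R) := by
  obtain ⟨S₀, _, _, _, _, Mon, hfp, hloc⟩ := hS
  by_cases hu : IsUnit s
  · obtain ⟨w, hw⟩ := hu.exists_left_inv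
    intro Q _ _
    have hcomp : ((LinearMap.lsmul S N w).restrictScalars R) ∘ₗ
        ((LinearMap.lsmul S N s).restrictScalars R) = LinearMap.id := by
      refine LinearMap.ext fun n => ?_
      show w • s • n = n
      rw [smul_smul, hw, one_smul]
    have hcomp2 : (((LinearMap.lsmul S N w).restrictScalars R).lTensor Q) ∘ₗ
        (((LinearMap.lsmul S N s).restrictScalars R).lTensor Q) = LinearMap.id := by
      rw [← LinearMap.lTensor_comp, hcomp, LinearMap.lTensor_id]
    exact Function.LeftInverse.injective (fun z => LinearMap.congr_fun hcomp2 z)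
  · have hs' : s ∈ maximalIdeal S := (mem_maximalIdeal _).2 hu
    obtain ⟨s₀, u, rfl⟩ := IsLocalization.exists_mk'_eq Mon s
    have hmul : algebraMap S₀ S s₀ = algebraMap S₀ S u * IsLocalization.mk' S s₀ u := by
      rw [mul_comm, IsLocalization.mk'_spec]
    have huu : IsUnit (algebraMap S₀ S u) := IsLocalization.map_units S u
    have hu_nzd : algebraMap S₀ S u ∈ FlatCA.nzdFiber R S N := by
      obtain ⟨w, hw⟩ := huu.exists_left_inv
      refine mem_nonZeroSMulDivisors_iff.2 (fun x hx => ?_)
      have : w • (algebraMap S₀ S u) • x = 0 := by rw [hx, smul_zero]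
      rwa [smul_smul, hw, one_smul] at this
    have h1 : algebraMap S₀ S s₀ ∈ FlatCA.nzdFiber R S N := by
      rw [hmul]
      exact Submonoid.mul_mem _ hu_nzd hs
    have h2 : algebraMap S₀ S s₀ ∈ maximalIdeal S := by
      rw [hmul]
      exact Ideal.mul_mem_left _ _ hs'
    have h3 := univInj_lsmul_algebraMap R S N S₀ Mon s₀ h1 h2
    intro Q _ _
    have h4 := h3 Q
    have hcomp : ((LinearMap.lsmul S N (algebraMap S₀ S s₀)).restrictScalars R) =
        ((LinearMap.lsmul S N (algebraMap S₀ S u)).restrictScalars R) ∘ₗ
          ((LinearMap.lsmul S N (IsLocalization.mk' S s₀ u)).restrictScalars R) := by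
      refine LinearMap.ext fun n => ?_
      show (algebraMap S₀ S s₀) • n = (algebraMap S₀ S u) • (IsLocalization.mk' S s₀ u) • n
      rw [smul_smul, ← hmul]
    rw [hcomp, LinearMap.lTensor_comp] at h4
    exact Function.Injective.of_comp h4

theorem main_S1194 (hS : FlatCA.EssFinitePresentation R S) :
    (∀ s ∈ FlatCA.nzdFiber R S N,
      FlatCA.UnivInj R ((LinearMap.lsmul S N s).restrictScalars R)) ∧
    FlatCA.UnivInj R
      ((LocalizedModule.mkLinearMap (FlatCA.nzdFiber R S N) N).restrictScalars R) :=
  ⟨fun s hs => univInj_lsmul R S N hS s hs,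
    univInj_mkLinearMap_of_forall R S N _ (fun s hs => univInj_lsmul R S N hS s hs)⟩

end Main

end Groth.Agent.Helper3.UInj
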