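import Mathlib
import Groth.Prelude.Def_FlatCA
import Groth.Agent.Lib.Helper3.UInj6
import Groth.Agent.Lib.Helper7.NzdFiber.Primes

/-! Universal injectivity of `N → S' ⊗ N` for a flat algebra `S'` hitting the associated primes
of the closed fibre (Raynaud–Gruson). -/

set_option autoImplicit false
set_option linter.style.haveILetI false
universe u
namespace Groth.Agent.Helper3.UInj

open TensorProduct IsLocalRing

attribute [local instance] Algebra.TensorProduct.rightAlgebra

section Pure

variable {S S' : Type u} [CommRing S] [CommRing S'] [Algebra S S'] [Module.Flat S S']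
  (T : Submonoid S) (𝒜 : Set (Ideal S))
  (hA : ∀ (q : Ideal S) [q.IsPrime], Disjoint (q : Set S) (T : Set S) → ∃ q' ∈ 𝒜, q ≤ q')
  (hB : ∀ q ∈ 𝒜, ∃ q' : Ideal S', q'.IsPrime ∧ q'.comap (algebraMap S S') = q)
  (M : Type u) [AddCommGroup M] [Module S M]
  (hM : ∀ t ∈ T, ∀ x : M, t • x = 0 → x = 0)

include hA hB hM in
theorem mk_one_injective : Function.Injective (TensorProduct.mk S S' M 1) := by
  rw [injective_iff_map_eq_zero]
  intro x hx
  by_contra hx0
  set I : Ideal S := LinearMap.ker (LinearMap.toSpanSingleton S M x) with hI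
  have hdisj : Disjoint (I : Set S) (T : Set S) := by
    rw [Set.disjoint_left]
    intro t htI htT
    apply hx0
    refine hM t htT x ?_
    have : LinearMap.toSpanSingleton S M x t = 0 := htI
    simpa using this
  obtain ⟨q, hq, hIq, hqT⟩ := Ideal.exists_le_prime_disjoint I T hdisj
  obtain ⟨q₁, hq₁, hle⟩ := hA q hqT
  obtain ⟨q', hq', hcomap⟩ := hB q₁ hq₁
  let j : (S ⧸ I) →ₗ[S] M := Submodule.liftQ I (LinearMap.toSpanSingleton S M x) le_rfl
  have hj : Function.Injective j := by
    rw [← LinearMap.ker_eq_bot]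
    exact Submodule.ker_liftQ_eq_bot _ _ _ le_rfl
  have hj' : Function.Injective (j.lTensor S') :=
    Module.Flat.lTensor_preserves_injective_linearMap j hj
  have h1 : (1 : S') ⊗ₜ[S] (Ideal.Quotient.mk I 1) = 0 := by
    apply hj'
    rw [LinearMap.lTensor_tmul, map_zero]
    show (1 : S') ⊗ₜ[S] ((1 : S) • x) = 0
    rw [one_smul]
    exact hx
  have h2 := congr_arg (TensorProduct.tensorQuotEquivQuotSMul S' I) h1
  rw [map_zero, TensorProduct.tensorQuotEquivQuotSMul_tmul_mk, one_smul,
    Submodule.Quotient.mk_eq_zero, Ideal.smul_top_eq_map] at h2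
  have h3 : (1 : S') ∈ I.map (algebraMap S S') := h2
  have h4 : I.map (algebraMap S S') ≤ q' := by
    rw [Ideal.map_le_iff_le_comap, hcomap]
    exact hIq.trans hle
  exact hq'.ne_top ((Ideal.eq_top_iff_one _).2 (h4 h3))

end Pure

section Main

variable (R S S' : Type u) [CommRing R] [IsLocalRing R] [CommRing S] [IsLocalRing S]
  [CommRing S'] [Algebra R S] [IsLocalHom (algebraMap R S)] [Algebra S S'] [Algebra R S']
  [IsScalarTower R S S'] [Module.Flat S S']
  (N : Type u) [AddCommGroup N] [Module S N] [Module R N] [IsScalarTower R S N]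
  [Module.FinitePresentation S N] [Module.Flat R N]

omit [IsLocalRing S] [IsLocalHom (algebraMap R S)] in
/-- the closed fibre ring of an essentially finitely presented algebra is Noetherian -/
theorem isNoetherianRing_fiber (hS : FlatCA.EssFinitePresentation R S) :
    IsNoetherianRing ((maximalIdeal R).Fiber S) := by
  obtain ⟨S₀, _, _, _, _, Mon, hfp, hloc⟩ := hS
  haveI : Algebra.EssFiniteType S₀ S := Algebra.EssFiniteType.of_isLocalization S Mon
  haveI := hfp
  haveI : Algebra.FiniteType R S₀ := inferInstance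
  haveI : Algebra.EssFiniteType R S := Algebra.EssFiniteType.comp R S₀ S
  exact Algebra.EssFiniteType.isNoetherianRing (maximalIdeal R).ResidueField _

theorem main_S1196 (hS : FlatCA.EssFinitePresentation R S)
    (h : ∀ q ∈ associatedPrimes S (FlatCA.fiberMod (maximalIdeal R) S N),
      ∃ q' : Ideal S', q'.IsPrime ∧ q'.comap (algebraMap S S') = q) :
    FlatCA.UnivInj R ((TensorProduct.mk S S' N 1).restrictScalars R) := by
  haveI := isNoetherianRing_fiber R S hS
  haveI : Module.Finite ((maximalIdeal R).Fiber S) (FlatCA.fiberMod (maximalIdeal R) S N) :=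
    inferInstanceAs (Module.Finite ((maximalIdeal R).Fiber S) (((maximalIdeal R).Fiber S) ⊗[S] N))
  intro Q _ _
  have hM : ∀ t ∈ FlatCA.nzdFiber R S N, ∀ x : N ⊗[R] Q, t • x = 0 → x = 0 := by
    intro t ht x hx
    have h1 := univInj_lsmul R S N hS t ht Q
    have hnat2 : ∀ (z : Q ⊗[R] N), t • (TensorProduct.comm R Q N z) =
        TensorProduct.comm R Q N (((LinearMap.lsmul S N t).restrictScalars R).lTensor Q z) := by
      intro z
      induction z using TensorProduct.induction_on with
      | zero => simp
      | tmul q n =>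
        rw [TensorProduct.comm_tmul, TensorProduct.smul_tmul']
        rfl
      | add a b ha hb => rw [map_add, smul_add, ha, hb, map_add, map_add]
    obtain ⟨z, rfl⟩ := (TensorProduct.comm R Q N).surjective x
    rw [hnat2] at hx
    have h2 : ((LinearMap.lsmul S N t).restrictScalars R).lTensor Q z = 0 :=
      (TensorProduct.comm R Q N).injective (by rw [hx, map_zero])
    have h3 : z = 0 := h1 (by rw [h2, map_zero])
    rw [h3, map_zero]
  have hinj : Function.Injective (TensorProduct.mk S S' (N ⊗[R] Q) 1) :=
    mk_one_injective (FlatCA.nzdFiber R S N)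
      (associatedPrimes S (FlatCA.fiberMod (maximalIdeal R) S N))
      (fun q _ hq => (Groth.Agent.Helper7.NzdFiber.disjoint_iff R S N q).1 hq) h (N ⊗[R] Q) hM
  -- transport
  let e := TensorProduct.AlgebraTensorModule.assoc R S S S' N Q
  rw [injective_iff_map_eq_zero]
  intro z hz
  have hcomm : ∀ z : Q ⊗[R] N, e (TensorProduct.comm R Q (S' ⊗[S] N)
      ((((TensorProduct.mk S S' N 1).restrictScalars R).lTensor Q) z)) =
      TensorProduct.mk S S' (N ⊗[R] Q) 1 (TensorProduct.comm R Q N z) := by
    intro z
    induction z using TensorProduct.induction_on with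
    | zero => simp
    | tmul q n =>
      show e (((1 : S') ⊗ₜ[S] n) ⊗ₜ[R] q) = (1 : S') ⊗ₜ[S] (n ⊗ₜ[R] q)
      rfl
    | add a b ha hb => simp only [map_add, ha, hb]
  have h5 := hcomm z
  rw [hz, map_zero, map_zero] at h5
  have h6 := hinj (h5.symm.trans (map_zero _).symm)
  exact (TensorProduct.comm R Q N).injective (h6.trans (map_zero _).symm)

end Main

end Groth.Agent.Helper3.UInj
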