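import Mathlib
import Groth.Prelude.Def_FlatCA
import Groth.Agent.Lib.Helper3.UInj7
import Groth.Agent.Lib.Helper3.UInj8
import Groth.Agent.Lib.Helper8.UnivCpl3

/-! Universal injectivity of `N → S' ⊗ N` for a flat algebra `S'` hitting the associated points of
the fibres (Raynaud–Gruson), global finitely presented case. -/

set_option autoImplicit false
set_option linter.style.haveILetI false
set_option backward.isDefEq.respectTransparency.types false
set_option synthInstance.maxHeartbeats 400000
universe u
namespace Groth.Agent.Helper3.UInj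

open TensorProduct

attribute [local instance] Algebra.TensorProduct.rightAlgebra

section Pure2

variable {S S' : Type u} [CommRing S] [CommRing S'] [Algebra S S'] [Module.Flat S S']
  (M : Type u) [AddCommGroup M] [Module S M]
  (hG : ∀ x : M, x ≠ 0 → ∃ q₁ : Ideal S, LinearMap.ker (LinearMap.toSpanSingleton S M x) ≤ q₁ ∧
    ∃ q' : Ideal S', q'.IsPrime ∧ q'.comap (algebraMap S S') = q₁)

include hG in
theorem mk_one_injective' : Function.Injective (TensorProduct.mk S S' M 1) := by
  rw [injective_iff_map_eq_zero]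
  intro x hx
  by_contra hx0
  set I : Ideal S := LinearMap.ker (LinearMap.toSpanSingleton S M x) with hI
  obtain ⟨q₁, hIq, q', hq', hcomap⟩ := hG x hx0
  let j : (S ⧸ I) →ₗ[S] M := Submodule.liftQ I (LinearMap.toSpanSingleton S M x) le_rfl
  have hj : Function.Injective j := by
    rw [← LinearMap.ker_eq_bot]
    exact Submodule.ker_liftQ_eq_bot _ _ _ le_rfl
  have hj' : Function.Injective (j.lTensor S') :=
    Module.Flat.lTensor_preserves_injective_linearMap j hj
  have h1 : (1 : S') ⊗ₜ[S] (Ideal.Quotient.mk I 1) = 0 := by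
    apply hj'
    rw [LinearMap.lTensor_tmul, map_zero]
    show (1 : S') ⊗ₜ[S] ((1 : S) • x) = 0
    rw [one_smul]
    exact hx
  have h2 := congr_arg (TensorProduct.tensorQuotEquivQuotSMul S' I) h1
  rw [map_zero, TensorProduct.tensorQuotEquivQuotSMul_tmul_mk, one_smul,
    Submodule.Quotient.mk_eq_zero, Ideal.smul_top_eq_map] at h2
  have h3 : (1 : S') ∈ I.map (algebraMap S S') := h2
  have h4 : I.map (algebraMap S S') ≤ q' := by
    rw [Ideal.map_le_iff_le_comap, hcomap]
    exact hIq
  exact hq'.ne_top ((Ideal.eq_top_iff_one _).2 (h4 h3))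

end Pure2

section Fibre

variable {R S : Type u} [CommRing R] [CommRing S] [Algebra R S] (p : Ideal R) [p.IsPrime]
  (N : Type u) [AddCommGroup N] [Module S N] [Module R N] [IsScalarTower R S N]

theorem toFiberMod_eq_zero_iff_mem [Module.Flat R N] (n : N) :
    FlatCA.toFiberMod p S N n = 0 ↔ n ∈ p • (⊤ : Submodule R N) := by
  rw [Groth.Agent.Helper8.UnivCpl.toFiberMod_eq_zero_iff]
  constructor
  · intro h
    have h2 := congr_arg (TensorProduct.tensorQuotEquivQuotSMul N p) h
    rw [map_zero] at h2
    have h3 : TensorProduct.tensorQuotEquivQuotSMul N p (n ⊗ₜ[R] (Ideal.Quotient.mk p 1)) =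
        Submodule.Quotient.mk ((1 : R) • n) :=
      TensorProduct.tensorQuotEquivQuotSMul_tmul_mk p n 1
    rw [map_one] at h3
    rw [h3, one_smul, Submodule.Quotient.mk_eq_zero] at h2
    exact h2
  · intro h
    apply (TensorProduct.tensorQuotEquivQuotSMul N p).injective
    rw [map_zero]
    have h3 : TensorProduct.tensorQuotEquivQuotSMul N p (n ⊗ₜ[R] (Ideal.Quotient.mk p 1)) =
        Submodule.Quotient.mk ((1 : R) • n) :=
      TensorProduct.tensorQuotEquivQuotSMul_tmul_mk p n 1
    rw [map_one] at h3
    rw [h3, one_smul, Submodule.Quotient.mk_eq_zero]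
    exact h

theorem algebraMap_fiber_smul_tensor (s : S) (x : (p.Fiber S) ⊗[S] N) :
    (algebraMap S (p.Fiber S) s) • x = s • x := by
  induction x using TensorProduct.induction_on with
  | zero => rw [smul_zero, smul_zero]
  | tmul z n =>
    rw [TensorProduct.smul_tmul', TensorProduct.smul_tmul', smul_eq_mul, Algebra.smul_def]
  | add x y hx hy => rw [smul_add, smul_add, hx, hy]

theorem algebraMap_fiber_smul (s : S) (x : FlatCA.fiberMod p S N) :
    (algebraMap S (p.Fiber S) s) • x = s • x :=
  algebraMap_fiber_smul_tensor p N s x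

end Fibre

section Main

variable (R S : Type u) [CommRing R] [CommRing S] [Algebra R S] [Algebra.FinitePresentation R S]
  (N : Type u) [AddCommGroup N] [Module S N] [Module R N] [IsScalarTower R S N]
  [Module.FinitePresentation S N] [Module.Flat R N]

/-- a nonzero element of `N ⊗ Q` has annihilator inside a prime which is associated to a fibre -/
theorem exists_fibre_assoc (Q : Type u) [AddCommGroup Q] [Module R Q] (x : N ⊗[R] Q)
    (hx : x ≠ 0) :
    ∃ (p : Ideal R) (q₁ : Ideal S) (_ : p.IsPrime) (_ : q₁.IsPrime) (_ : q₁.LiesOver p),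
      LinearMap.ker (LinearMap.toSpanSingleton S (N ⊗[R] Q) x) ≤ q₁ ∧
      FlatCA.fiberIdeal p q₁ ∈ associatedPrimes (p.Fiber S) (FlatCA.fiberMod p S N) := by
  classical
  set I : Ideal S := LinearMap.ker (LinearMap.toSpanSingleton S (N ⊗[R] Q) x) with hI
  have hIne : I ≠ ⊤ := by
    intro h
    apply hx
    have : (1 : S) ∈ I := by rw [h]; exact Submodule.mem_top
    have h1 : LinearMap.toSpanSingleton S (N ⊗[R] Q) x 1 = 0 := this
    simpa using h1
  obtain ⟨q, hqmax, hIq⟩ := Ideal.exists_le_maximal I hIne
  haveI : q.IsPrime := hqmax.isPrime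
  set p : Ideal R := q.under R with hp
  haveI : p.IsPrime := inferInstanceAs (q.under R).IsPrime
  haveI : IsNoetherianRing (p.Fiber S) :=
    Algebra.FiniteType.isNoetherianRing p.ResidueField (p.ResidueField ⊗[R] S)
  haveI : Module.Finite (p.Fiber S) (FlatCA.fiberMod p S N) :=
    inferInstanceAs (Module.Finite (p.Fiber S) ((p.Fiber S) ⊗[S] N))
  -- every element of `I` is a zero divisor on the fibre module
  have hzd : ∀ s ∈ I, ∃ f : FlatCA.fiberMod p S N, f ≠ 0 ∧ s • f = 0 := by
    intro s hs
    by_contra hcon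
    push Not at hcon
    have hinj : ∀ f : FlatCA.fiberMod p S N, s • f = 0 → f = 0 := by
      intro f hf
      by_contra hf0
      exact hcon f hf0 hf
    have hfib : ∀ n : N, s • n ∈ (q.under R) • (⊤ : Submodule R N) →
        ∃ r : R, r ∉ q.under R ∧ r • n ∈ (q.under R) • (⊤ : Submodule R N) := by
      intro n hn
      refine ⟨1, fun h1 => (inferInstance : (q.under R).IsPrime).ne_top
        ((Ideal.eq_top_iff_one _).2 h1), ?_⟩
      rw [one_smul]
      have h1 : FlatCA.toFiberMod p S N (s • n) = 0 :=
        (toFiberMod_eq_zero_iff_mem p N (s • n)).2 hn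
      rw [map_smul] at h1
      exact (toFiberMod_eq_zero_iff_mem p N n).1 (hinj _ h1)
    have hinjQ := lTensor_smul_localized_injective R S N s q (hIq hs) hfib Q
    set g := LocalizedModule.mkLinearMap q.primeCompl N with hg
    have hnat2 : ∀ (z : Q ⊗[R] (LocalizedModule q.primeCompl N)),
        s • (TensorProduct.comm R Q (LocalizedModule q.primeCompl N) z) =
        TensorProduct.comm R Q (LocalizedModule q.primeCompl N)
          (((LinearMap.lsmul S (LocalizedModule q.primeCompl N) s).restrictScalars R).lTensor Q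
            z) := by
      intro z
      induction z using TensorProduct.induction_on with
      | zero => simp
      | tmul a n =>
        rw [TensorProduct.comm_tmul, TensorProduct.smul_tmul']
        rfl
      | add a b ha hb => rw [map_add, smul_add, ha, hb, map_add, map_add]
    have hGx : AlgebraTensorModule.rTensor R Q g x = 0 := by
      have h1 : s • (AlgebraTensorModule.rTensor R Q g x) = 0 := by
        rw [← map_smul]
        have : s • x = 0 := by
          have h2 : LinearMap.toSpanSingleton S (N ⊗[R] Q) x s = 0 := hs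
          simpa using h2
        rw [this, map_zero]
      obtain ⟨z, hz⟩ := (TensorProduct.comm R Q (LocalizedModule q.primeCompl N)).surjective
        (AlgebraTensorModule.rTensor R Q g x)
      rw [← hz, hnat2] at h1
      have h2 := (TensorProduct.comm R Q (LocalizedModule q.primeCompl N)).injective
        (h1.trans (map_zero _).symm)
      have h3 : z = 0 := hinjQ (h2.trans (map_zero _).symm)
      rw [← hz, h3, map_zero]
    obtain ⟨t, ht⟩ := (IsLocalizedModule.eq_zero_iff q.primeCompl
      (AlgebraTensorModule.rTensor R Q g)).1 hGx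
    have htI : (t : S) ∈ I := by
      show LinearMap.toSpanSingleton S (N ⊗[R] Q) x (t : S) = 0
      rw [Submonoid.smul_def] at ht
      simpa using ht
    exact t.2 (hIq htI)
  -- prime avoidance
  have hfin := associatedPrimes.finite (p.Fiber S) (FlatCA.fiberMod p S N)
  have hsub : (I : Set S) ⊆ ⋃ P ∈ (hfin.toFinset : Set (Ideal (p.Fiber S))),
      ((P.comap (algebraMap S (p.Fiber S)) : Ideal S) : Set S) := by
    intro s hs
    obtain ⟨f, hf0, hf⟩ := hzd s hs
    have h1 : algebraMap S (p.Fiber S) s ∈
        {r : p.Fiber S | ∃ x : FlatCA.fiberMod p S N, x ≠ 0 ∧ r • x = 0} :=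
      ⟨f, hf0, by rw [algebraMap_fiber_smul]; exact hf⟩
    rw [← biUnion_associatedPrimes_eq_zero_divisors] at h1
    simp only [Set.mem_iUnion] at h1 ⊢
    obtain ⟨P, hP, hsP⟩ := h1
    exact ⟨P, by simpa using hP, hsP⟩
  obtain ⟨P, hP, hle⟩ := (Ideal.subset_union_prime (R := S) (s := hfin.toFinset)
    (f := fun P => P.comap (algebraMap S (p.Fiber S))) ⊤ ⊤ (by
      intro P hP _ _
      have : P ∈ associatedPrimes (p.Fiber S) (FlatCA.fiberMod p S N) := by simpa using hP
      haveI := this.isPrime
      exact Ideal.comap_isPrime _ P)).1 hsub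
  have hPass : P ∈ associatedPrimes (p.Fiber S) (FlatCA.fiberMod p S N) := by simpa using hP
  haveI hPprime : P.IsPrime := hPass.isPrime
  set q₁ : Ideal S := P.comap (algebraMap S (p.Fiber S)) with hq₁
  haveI : q₁.IsPrime := Ideal.comap_isPrime _ P
  have hlies : q₁.LiesOver p := ⟨by
    have h1 : P.under R = p := (Ideal.over_def P p).symm
    rw [← h1, Ideal.under_def, Ideal.under_def, hq₁, Ideal.comap_comap,
      ← IsScalarTower.algebraMap_eq]⟩
  refine ⟨p, q₁, inferInstance, inferInstance, hlies, hle, ?_⟩
  have hPeq : P = FlatCA.fiberIdeal p q₁ :=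
    Groth.Agent.Helper8.UnivCpl.fiberIdeal_eq_of_forall p q₁ P (fun s => Iff.rfl)
  rw [← hPeq]
  exact hPass

variable (S' : Type u) [CommRing S'] [Algebra S S'] [Algebra R S'] [IsScalarTower R S S']
  [Module.Flat S S']

theorem main_S1195
    (h : ∀ (p : Ideal R) (q : Ideal S) [p.IsPrime] [q.IsPrime] [q.LiesOver p],
      FlatCA.fiberIdeal p q ∈ associatedPrimes (p.Fiber S) (FlatCA.fiberMod p S N) →
      ∃ q' : Ideal S', q'.IsPrime ∧ q'.comap (algebraMap S S') = q) :
    FlatCA.UnivInj R ((TensorProduct.mk S S' N 1).restrictScalars R) := by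
  intro Q _ _
  have hinj : Function.Injective (TensorProduct.mk S S' (N ⊗[R] Q) 1) := by
    refine mk_one_injective' (N ⊗[R] Q) (fun x hx => ?_)
    obtain ⟨p, q₁, _, _, _, hle, hass⟩ := exists_fibre_assoc R S N Q x hx
    exact ⟨q₁, hle, h p q₁ hass⟩
  let e := TensorProduct.AlgebraTensorModule.assoc R S S S' N Q
  rw [injective_iff_map_eq_zero]
  intro z hz
  have hcomm : ∀ z : Q ⊗[R] N, e (TensorProduct.comm R Q (S' ⊗[S] N)
      ((((TensorProduct.mk S S' N 1).restrictScalars R).lTensor Q) z)) =
      TensorProduct.mk S S' (N ⊗[R] Q) 1 (TensorProduct.comm R Q N z) := by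
    intro z
    induction z using TensorProduct.induction_on with
    | zero => simp
    | tmul q n =>
      show e (((1 : S') ⊗ₜ[S] n) ⊗ₜ[R] q) = (1 : S') ⊗ₜ[S] (n ⊗ₜ[R] q)
      rfl
    | add a b ha hb => simp only [map_add, ha, hb]
  have h5 := hcomm z
  rw [hz, map_zero, map_zero] at h5
  have h6 := hinj (h5.symm.trans (map_zero _).symm)
  exact (TensorProduct.comm R Q N).injective (h6.trans (map_zero _).symm)

end Main

end Groth.Agent.Helper3.UInj
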