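import Mathlib

/-!
# Smoothness along a section: extension of functionals to derivations (helper3)

`A` an `R`-algebra with an augmentation `ε`, `I = ker ε`, `J ≤ I` with `J ⊓ I² = I * J` and
`I / (J + I²)` projective over `R`.  Every `A`-linear map `J → K` into an `A`-algebra `K` killed by
`I` is the restriction of an `R`-derivation `A → K`.
-/

set_option autoImplicit false
universe u

namespace Groth.Agent.Helper3.USec

open TensorProduct

section Ext

variable {R A : Type u} [CommRing R] [CommRing A] [Algebra R A] (I J : Ideal A)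
  {K : Type u} [CommRing K] [Algebra A K]

/-- Extension to `J ⊔ I²`, zero on `I²`. -/
theorem exists_ext_sup (hK : ∀ a ∈ I, algebraMap A K a = 0)
    (h2 : J ⊓ I ^ 2 = I * J) (φ : ↥J →ₗ[A] K) :
    ∃ φt : ↥(J ⊔ I ^ 2) →ₗ[A] K,
      (∀ (x : A) (hx : x ∈ J) (hx' : x ∈ J ⊔ I ^ 2), φt ⟨x, hx'⟩ = φ ⟨x, hx⟩) ∧
      (∀ (x : A) (_ : x ∈ I ^ 2) (hx' : x ∈ J ⊔ I ^ 2), φt ⟨x, hx'⟩ = 0) := by
  have hle : I * J ≤ J := Ideal.mul_le_right
  have hzero : ∀ (x : A) (hx : x ∈ I * J), φ ⟨x, hle hx⟩ = 0 := by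
    intro x hx
    refine Submodule.mul_induction_on' (C := fun r hr => φ ⟨r, hle hr⟩ = 0) ?_ ?_ hx
    · intro a ha j hj
      have : (⟨a * j, hle (Ideal.mul_mem_mul ha hj)⟩ : ↥J) = a • (⟨j, hj⟩ : ↥J) :=
        Subtype.ext (by simp)
      rw [this, map_smul, Algebra.smul_def, hK a ha, zero_mul]
    · intro x hx y hy h1 h2
      have : (⟨x + y, hle (add_mem hx hy)⟩ : ↥J) = ⟨x, hle hx⟩ + ⟨y, hle hy⟩ := Subtype.ext rfl
      rw [this, map_add, h1, h2, add_zero]
  have hker : Submodule.comap J.subtype J ⊓ Submodule.comap J.subtype (I ^ 2) ≤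
      LinearMap.ker φ := by
    rintro ⟨x, hx⟩ ⟨-, hx2⟩
    have hx2' : x ∈ I ^ 2 := hx2
    have : x ∈ I * J := by rw [← h2]; exact ⟨hx, hx2'⟩
    exact hzero x this
  let φbar := Submodule.liftQ _ φ hker
  let e := LinearMap.quotientInfEquivSupQuotient J (I ^ 2)
  refine ⟨φbar ∘ₗ e.symm.toLinearMap ∘ₗ
    Submodule.mkQ (Submodule.comap (J ⊔ I ^ 2).subtype (I ^ 2)), ?_, ?_⟩
  · intro x hx hx'
    simp only [LinearMap.coe_comp, LinearEquiv.coe_coe, Function.comp_apply, Submodule.mkQ_apply]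
    rw [LinearMap.quotientInfEquivSupQuotient_symm_apply_left J (I ^ 2) ⟨x, hx'⟩ hx]
    rfl
  · intro x hx hx'
    simp only [LinearMap.coe_comp, LinearEquiv.coe_coe, Function.comp_apply, Submodule.mkQ_apply]
    rw [LinearMap.quotientInfEquivSupQuotient_symm_apply_right J (I ^ 2) (x := ⟨x, hx'⟩) hx]
    exact map_zero _

variable [Algebra R K] [IsScalarTower R A K]

/-- Extension to the whole ideal `I`: `R`-linear and zero on `I²`. -/
theorem exists_ext_ker (hK : ∀ a ∈ I, algebraMap A K a = 0)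
    (h2 : J ⊓ I ^ 2 = I * J)
    (h3 : Module.Projective R (↥I ⧸ Submodule.comap I.subtype (J ⊔ I ^ 2)))
    (φ : ↥J →ₗ[A] K) :
    ∃ φ' : ↥I →ₗ[R] K,
      (∀ (x : A) (hx : x ∈ J) (hx' : x ∈ I), φ' ⟨x, hx'⟩ = φ ⟨x, hx⟩) ∧
      (∀ (x : A) (_ : x ∈ I ^ 2) (hx' : x ∈ I), φ' ⟨x, hx'⟩ = 0) := by
  obtain ⟨φt, hφt1, hφt2⟩ := exists_ext_sup I J hK h2 φ
  let q : ↥I →ₗ[R] (↥I ⧸ Submodule.comap I.subtype (J ⊔ I ^ 2)) :=
    (Submodule.mkQ (Submodule.comap I.subtype (J ⊔ I ^ 2))).restrictScalars R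
  have hq : Function.Surjective q :=
    Submodule.mkQ_surjective (Submodule.comap I.subtype (J ⊔ I ^ 2))
  obtain ⟨σ, hσ⟩ := Module.projective_lifting_property q LinearMap.id hq
  let w : ↥I →ₗ[R] ↥I := LinearMap.id - σ ∘ₗ q
  have hqw : ∀ x, q (w x) = 0 := by
    intro x
    have h1 : q (σ (q x)) = q x := LinearMap.congr_fun hσ (q x)
    simp only [w, LinearMap.sub_apply, LinearMap.id_apply, LinearMap.comp_apply, map_sub, h1,
      sub_self]
  have hw : ∀ x, ((w x : ↥I) : A) ∈ J ⊔ I ^ 2 := by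
    intro x
    have h1 : (Submodule.Quotient.mk (w x) :
        ↥I ⧸ Submodule.comap I.subtype (J ⊔ I ^ 2)) = 0 := hqw x
    exact (Submodule.Quotient.mk_eq_zero (Submodule.comap I.subtype (J ⊔ I ^ 2))).mp h1
  have hw0 : ∀ x : ↥I, (x : A) ∈ J ⊔ I ^ 2 → w x = x := by
    intro x hx
    have : q x = 0 :=
      (Submodule.Quotient.mk_eq_zero (Submodule.comap I.subtype (J ⊔ I ^ 2))).mpr hx
    simp only [w, LinearMap.sub_apply, LinearMap.id_apply, LinearMap.comp_apply, this, map_zero,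
      sub_zero]
  obtain ⟨φ', hφ'⟩ : ∃ φ' : ↥I →ₗ[R] K, ∀ x, φ' x = φt ⟨(w x : A), hw x⟩ := ⟨
    { toFun := fun x => φt ⟨(w x : A), hw x⟩
      map_add' := by
        intro x y
        have : (⟨((w (x + y) : ↥I) : A), hw (x + y)⟩ : ↥(J ⊔ I ^ 2)) =
            ⟨(w x : A), hw x⟩ + ⟨(w y : A), hw y⟩ := by
          apply Subtype.ext
          show ((w (x + y) : ↥I) : A) = (w x : A) + (w y : A)
          rw [map_add]
          rfl
        rw [this, map_add]
      map_smul' := by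
        intro r x
        have : (⟨((w (r • x) : ↥I) : A), hw (r • x)⟩ : ↥(J ⊔ I ^ 2)) =
            algebraMap R A r • (⟨(w x : A), hw x⟩ : ↥(J ⊔ I ^ 2)) := by
          apply Subtype.ext
          show ((w (r • x) : ↥I) : A) = algebraMap R A r * (w x : A)
          rw [map_smul, Submodule.coe_smul_of_tower, Algebra.smul_def]
        rw [this, map_smul, algebraMap_smul, RingHom.id_apply] }, fun _ => rfl⟩
  refine ⟨φ', ?_, ?_⟩
  · intro x hx hx'
    have hxT : x ∈ J ⊔ I ^ 2 := Ideal.mem_sup_left hx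
    rw [hφ']
    have h1 : (⟨((w ⟨x, hx'⟩ : ↥I) : A), hw _⟩ : ↥(J ⊔ I ^ 2)) = ⟨x, hxT⟩ :=
      Subtype.ext (show ((w ⟨x, hx'⟩ : ↥I) : A) = x from congrArg Subtype.val (hw0 ⟨x, hx'⟩ hxT))
    rw [h1]
    exact hφt1 x hx hxT
  · intro x hx hx'
    have hxT : x ∈ J ⊔ I ^ 2 := Ideal.mem_sup_right hx
    rw [hφ']
    have h1 : (⟨((w ⟨x, hx'⟩ : ↥I) : A), hw _⟩ : ↥(J ⊔ I ^ 2)) = ⟨x, hxT⟩ :=
      Subtype.ext (show ((w ⟨x, hx'⟩ : ↥I) : A) = x from congrArg Subtype.val (hw0 ⟨x, hx'⟩ hxT))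
    rw [h1]
    exact hφt2 x hx hxT

end Ext

section Der

variable {R A : Type u} [CommRing R] [CommRing A] [Algebra R A] (ε : A →ₐ[R] R) (J : Ideal A)
  {K : Type u} [CommRing K] [Algebra A K] [Algebra R K] [IsScalarTower R A K]

/-- `a - ε a` as an element of the augmentation ideal. -/
noncomputable def delta : A →ₗ[R] ↥(RingHom.ker ε) where
  toFun a := ⟨a - algebraMap R A (ε a), by simp [RingHom.mem_ker]⟩
  map_add' a b := by
    apply Subtype.ext
    simp only [map_add, Submodule.coe_add]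
    ring
  map_smul' r a := by
    apply Subtype.ext
    simp only [RingHom.id_apply, Submodule.coe_smul_of_tower, map_mul,
      Algebra.smul_def, AlgHom.commutes, Algebra.algebraMap_self_apply]
    ring

theorem delta_coe (a : A) : ((delta ε a : ↥(RingHom.ker ε)) : A) =
    a - algebraMap R A (ε a) := rfl

/-- Every `A`-linear functional on `J` is the restriction of an `R`-derivation of `A`. -/
theorem exists_derivation (hK : ∀ a ∈ RingHom.ker ε, algebraMap A K a = 0)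
    (hJI : J ≤ RingHom.ker ε)
    (h2 : J ⊓ RingHom.ker ε ^ 2 = RingHom.ker ε * J)
    (h3 : Module.Projective R (↥(RingHom.ker ε) ⧸
      Submodule.comap (RingHom.ker ε).subtype (J ⊔ RingHom.ker ε ^ 2)))
    (φ : ↥J →ₗ[A] K) :
    ∃ D' : Derivation R A K, ∀ j : ↥J, D' (j : A) = φ j := by
  obtain ⟨φ', hφ1, hφ2⟩ := exists_ext_ker (RingHom.ker ε) J hK h2 h3 φ
  have hε : ∀ a : A, a - algebraMap R A (ε a) ∈ RingHom.ker ε :=
    fun a => (delta ε a).2
  have hAK : ∀ a : A, algebraMap A K a = algebraMap R K (ε a) := by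
    intro a
    have := hK _ (hε a)
    rw [map_sub, sub_eq_zero] at this
    rw [this, ← IsScalarTower.algebraMap_apply]
  let Dlin : A →ₗ[R] K := φ' ∘ₗ delta ε
  have hleib : ∀ a b : A, Dlin (a * b) = a • Dlin b + b • Dlin a := by
    intro a b
    have hmem : (a - algebraMap R A (ε a)) * (b - algebraMap R A (ε b)) ∈
        RingHom.ker ε ^ 2 := by
      rw [pow_two]
      exact Ideal.mul_mem_mul (hε a) (hε b)
    have hmem' : (a - algebraMap R A (ε a)) * (b - algebraMap R A (ε b)) ∈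
        RingHom.ker ε := Ideal.pow_le_self two_ne_zero hmem
    have hdec : delta ε (a * b) = ⟨_, hmem'⟩ + ε a • delta ε b + ε b • delta ε a := by
      apply Subtype.ext
      simp only [delta_coe, Submodule.coe_add, Submodule.coe_smul_of_tower, map_mul,
        Algebra.smul_def]
      ring
    show φ' (delta ε (a * b)) = a • φ' (delta ε b) + b • φ' (delta ε a)
    rw [hdec, map_add, map_add, map_smul, map_smul, hφ2 _ hmem hmem', zero_add,
      Algebra.smul_def, Algebra.smul_def, Algebra.smul_def, Algebra.smul_def, hAK a, hAK b]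
  refine ⟨Derivation.mk' Dlin hleib, ?_⟩
  rintro ⟨j, hj⟩
  show φ' (delta ε j) = _
  have hεj : ε j = 0 := hJI hj
  have : delta ε j = ⟨j, hJI hj⟩ := by
    apply Subtype.ext
    rw [delta_coe, hεj, map_zero, sub_zero]
  rw [this]
  exact hφ1 j hj (hJI hj)

end Der

end Groth.Agent.Helper3.USec
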