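import Mathlib

/-!
# Smoothness along a section: the Jacobian criterion at a localization (helper3)
-/

set_option autoImplicit false
universe u

namespace Groth.Agent.Helper3.USec

open TensorProduct KaehlerDifferential

section LocInj

variable {R A Ap S K : Type u} [CommRing R] [CommRing A] [CommRing Ap] [CommRing S] [Field K]
  [Algebra R A] [Algebra A Ap] [Algebra R Ap] [IsScalarTower R A Ap]
  (M : Submonoid A) [IsLocalization M Ap]
  [Algebra Ap S] [Algebra S K] [Algebra Ap K] [IsScalarTower Ap S K]
  [Algebra A K] [IsScalarTower A Ap K] [Algebra R K] [IsScalarTower R A K]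
  (J : Ideal A)

include M in
/-- If every `A`-linear functional `J → K` is the restriction of an `R`-derivation `A → K`, then the
base-changed cotangent map of `A_M → S` (with kernel `J A_M`) is injective. -/
theorem injective_cotangentComplexBaseChange
    (hker : RingHom.ker (algebraMap Ap S) = J.map (algebraMap A Ap))
    (hext : ∀ φ : ↥J →ₗ[A] K, ∃ D' : Derivation R A K, ∀ j : ↥J, D' (j : A) = φ j) :
    Function.Injective (cotangentComplexBaseChange R S Ap K) := by
  rw [injective_iff_map_eq_zero]
  intro x hx
  rw [← Module.forall_dual_apply_eq_zero_iff K]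
  intro f
  have hmemker : ∀ j : ↥J, algebraMap A Ap j ∈ RingHom.ker (algebraMap Ap S) := by
    intro j
    rw [hker]
    exact Ideal.mem_map_of_mem _ j.2
  have hApK : ∀ (c : Ap) (t : K ⊗[Ap] ↥(RingHom.ker (algebraMap Ap S))),
      f (c • t) = algebraMap Ap K c * f t := by
    intro c t
    rw [← algebraMap_smul K c t, map_smul, smul_eq_mul]
  let φ : ↥J →ₗ[A] K :=
    { toFun := fun j => f (1 ⊗ₜ ⟨algebraMap A Ap j, hmemker j⟩)
      map_add' := by
        intro j j'
        have : (⟨algebraMap A Ap ((j + j' : ↥J) : A), hmemker (j + j')⟩ :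
            ↥(RingHom.ker (algebraMap Ap S))) =
            ⟨algebraMap A Ap j, hmemker j⟩ + ⟨algebraMap A Ap j', hmemker j'⟩ :=
          Subtype.ext (by simp)
        rw [this, TensorProduct.tmul_add, map_add]
      map_smul' := by
        intro a j
        have : (⟨algebraMap A Ap ((a • j : ↥J) : A), hmemker (a • j)⟩ :
            ↥(RingHom.ker (algebraMap Ap S))) =
            algebraMap A Ap a • ⟨algebraMap A Ap j, hmemker j⟩ :=
          Subtype.ext (show algebraMap A Ap (a * (j : A)) =
            algebraMap A Ap a * algebraMap A Ap j from map_mul _ _ _)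
        rw [this, TensorProduct.tmul_smul, hApK, RingHom.id_apply, Algebra.smul_def,
          IsScalarTower.algebraMap_apply A Ap K] }
  obtain ⟨D', hD'⟩ := hext φ
  let ψ : Ω[A⁄R] →ₗ[A] K := D'.liftKaehlerDifferential
  have hunit : ∀ s : M, IsUnit ((algebraMap A (Module.End A K)) s) := by
    intro s
    rw [Module.End.isUnit_iff]
    have hu : IsUnit (algebraMap A K s) := by
      rw [IsScalarTower.algebraMap_apply A Ap K]
      exact (IsLocalization.map_units Ap s).map _
    constructor
    · intro k k' hkk'
      simp only [Module.algebraMap_end_apply, Algebra.smul_def] at hkk'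
      exact hu.mul_right_injective hkk'
    · intro k
      obtain ⟨v, hv⟩ := hu
      refine ⟨(v⁻¹ : Kˣ) * k, ?_⟩
      simp only [Module.algebraMap_end_apply, Algebra.smul_def, ← hv]
      rw [← mul_assoc, Units.mul_inv, one_mul]
  let ψl : Ω[Ap⁄R] →ₗ[Ap] K :=
    (IsLocalizedModule.lift M (KaehlerDifferential.map R R A Ap) ψ hunit).extendScalarsOfIsLocalization
      M Ap
  have hψl : ∀ a : A, ψl (D R Ap (algebraMap A Ap a)) = D' a := by
    intro a
    show IsLocalizedModule.lift M (KaehlerDifferential.map R R A Ap) ψ hunit _ = _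
    rw [← KaehlerDifferential.map_D R R A Ap, IsLocalizedModule.lift_apply]
    exact Derivation.liftKaehlerDifferential_comp_D D' a
  have hkey : ∀ b : ↥(RingHom.ker (algebraMap Ap S)), ψl (D R Ap b.1) = f (1 ⊗ₜ b) := by
    intro b
    have hb : b.1 ∈ J.map (algebraMap A Ap) := hker ▸ b.2
    obtain ⟨⟨j, s⟩, hjs⟩ := (IsLocalization.mem_map_algebraMap_iff M Ap).mp hb
    have hjs' : b.1 * algebraMap A Ap s = algebraMap A Ap j := hjs
    have hbK : algebraMap Ap K b.1 = 0 := by
      rw [IsScalarTower.algebraMap_apply Ap S K, (RingHom.mem_ker).mp b.2, map_zero]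
    have hu : algebraMap Ap K (algebraMap A Ap s) ≠ 0 :=
      ((IsLocalization.map_units Ap s).map _).ne_zero
    have h1 : ψl (D R Ap (b.1 * algebraMap A Ap s)) =
        algebraMap Ap K (algebraMap A Ap s) * ψl (D R Ap b.1) := by
      rw [Derivation.leibniz, map_add, map_smul, map_smul, Algebra.smul_def, Algebra.smul_def,
        hbK, zero_mul, zero_add]
    have h2 : ψl (D R Ap (b.1 * algebraMap A Ap s)) =
        algebraMap Ap K (algebraMap A Ap s) * f (1 ⊗ₜ b) := by
      rw [hjs', hψl, hD']
      show f (1 ⊗ₜ ⟨algebraMap A Ap j, hmemker j⟩) = _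
      have : (⟨algebraMap A Ap j, hmemker j⟩ : ↥(RingHom.ker (algebraMap Ap S))) =
          algebraMap A Ap s • b :=
        Subtype.ext (show algebraMap A Ap j = algebraMap A Ap s * b.1 from by
          rw [← hjs', mul_comm])
      rw [this, TensorProduct.tmul_smul, hApK]
    exact mul_left_cancel₀ hu (h1.symm.trans h2)
  let g : K ⊗[Ap] Ω[Ap⁄R] →ₗ[K] K := LinearMap.liftBaseChange K ψl
  have hgf : ∀ t, g (cotangentComplexBaseChange R S Ap K t) = f t := by
    intro t
    induction t using TensorProduct.induction_on with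
    | zero => simp
    | tmul c b =>
      rw [cotangentComplexBaseChange_tmul, map_smul, kerToTensor_apply]
      show c • g (1 ⊗ₜ D R Ap b.1) = _
      rw [LinearMap.liftBaseChange_tmul, one_smul, hkey b]
      have : c ⊗ₜ[Ap] b = c • ((1 : K) ⊗ₜ[Ap] b) := by
        rw [TensorProduct.smul_tmul', smul_eq_mul, mul_one]
      rw [this, map_smul]
    | add t t' ht ht' => rw [map_add, map_add, ht, ht', map_add]
  rw [← hgf x, hx, map_zero]

end LocInj

end Groth.Agent.Helper3.USec
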