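import Mathlib
import Groth.Agent.Lib.Helper3.USec1
import Groth.Agent.Lib.Helper3.USec2

/-!
# Smoothness along a section: main theorem (helper3)
-/

set_option autoImplicit false
universe u

namespace Groth.Agent.Helper3.USec

open TensorProduct KaehlerDifferential

theorem S19149_main (R A : Type u) [CommRing R] [CommRing A] [Algebra R A]
    [Algebra.Smooth R A] (ε : A →ₐ[R] R) (J : Ideal A) (hJI : J ≤ RingHom.ker ε)
    (h1 : J.FG)
    (h2 : J ⊓ RingHom.ker ε ^ 2 = RingHom.ker ε * J)
    (h3 : Module.Finite R (↥(RingHom.ker ε) ⧸ Submodule.comap (RingHom.ker ε).subtype (J ⊔ RingHom.ker ε ^ 2)) ∧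
      Module.Projective R (↥(RingHom.ker ε) ⧸ Submodule.comap (RingHom.ker ε).subtype (J ⊔ RingHom.ker ε ^ 2)))
    (P : Ideal (A ⧸ J)) [P.IsPrime] (hP : (RingHom.ker ε).map (Ideal.Quotient.mk J) ≤ P) :
    Algebra.IsSmoothAt R P := by
  let P' : Ideal A := P.comap (Ideal.Quotient.mk J)
  haveI : P'.IsPrime := Ideal.comap_isPrime _ P
  let g : Localization.AtPrime P' →+* Localization.AtPrime P :=
    Localization.localRingHom P' P (Ideal.Quotient.mk J) rfl
  letI : Algebra (Localization.AtPrime P') (Localization.AtPrime P) := g.toAlgebra
  have hg : ∀ a : A, g (algebraMap A (Localization.AtPrime P') a) =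
      algebraMap (A ⧸ J) (Localization.AtPrime P) (Ideal.Quotient.mk J a) :=
    fun a => Localization.localRingHom_to_map P' P (Ideal.Quotient.mk J) rfl a
  haveI : IsScalarTower R (Localization.AtPrime P') (Localization.AtPrime P) := by
    refine IsScalarTower.of_algebraMap_eq (fun r => ?_)
    show _ = g _
    rw [IsScalarTower.algebraMap_apply R A (Localization.AtPrime P'), hg,
      IsScalarTower.algebraMap_apply R (A ⧸ J) (Localization.AtPrime P)]
    rfl
  haveI : Algebra.FormallySmooth A (Localization.AtPrime P') :=
    Algebra.FormallySmooth.of_isLocalization P'.primeCompl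
  haveI : Algebra.FormallySmooth R (Localization.AtPrime P') :=
    Algebra.FormallySmooth.comp R A (Localization.AtPrime P')
  haveI : Module.Finite (Localization.AtPrime P') Ω[Localization.AtPrime P'⁄R] := inferInstance
  haveI : Module.Projective (Localization.AtPrime P') Ω[Localization.AtPrime P'⁄R] :=
    inferInstance
  haveI : Module.Free (Localization.AtPrime P') Ω[Localization.AtPrime P'⁄R] :=
    Module.free_of_flat_of_isLocalRing
  have hsurj : Function.Surjective
      (algebraMap (Localization.AtPrime P') (Localization.AtPrime P)) :=
    RingHom.surjective_localRingHom_of_surjective _ Ideal.Quotient.mk_surjective P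
  have hT : Submonoid.map (Ideal.Quotient.mk J) P'.primeCompl = P.primeCompl :=
    Submonoid.map_comap_eq_of_surjective Ideal.Quotient.mk_surjective P.primeCompl
  have hker : RingHom.ker (algebraMap (Localization.AtPrime P') (Localization.AtPrime P)) =
      J.map (algebraMap A (Localization.AtPrime P')) := by
    have := IsLocalization.ker_map (S := Localization.AtPrime P') (Localization.AtPrime P)
      (M := P'.primeCompl) (T := P.primeCompl) (Ideal.Quotient.mk J) hT
    rw [Ideal.mk_ker] at this
    exact this
  have hfg : (RingHom.ker (algebraMap (Localization.AtPrime P') (Localization.AtPrime P))).FG := by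
    rw [hker]
    exact h1.map _
  show Algebra.FormallySmooth R (Localization.AtPrime P)
  rw [Algebra.FormallySmooth.iff_injective_cotangentComplexBaseChange_residueField
    (P := Localization.AtPrime P') hsurj hfg]
  haveI j4 : IsScalarTower (Localization.AtPrime P') (Localization.AtPrime P)
      (IsLocalRing.ResidueField (Localization.AtPrime P)) := inferInstance
  haveI j5 : IsScalarTower A (A ⧸ J) (Localization.AtPrime P) := inferInstance
  haveI i3 : IsScalarTower R A (IsLocalRing.ResidueField (Localization.AtPrime P)) := inferInstance
  have hAK : ∀ a : A, algebraMap A (IsLocalRing.ResidueField (Localization.AtPrime P)) a =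
      IsLocalRing.residue (Localization.AtPrime P)
        (algebraMap (A ⧸ J) (Localization.AtPrime P) (Ideal.Quotient.mk J a)) := by
    intro a
    show IsLocalRing.residue (Localization.AtPrime P) (algebraMap A (Localization.AtPrime P) a) = _
    rw [IsScalarTower.algebraMap_apply A (A ⧸ J) (Localization.AtPrime P)]
    rfl
  haveI i4 : IsScalarTower A (Localization.AtPrime P')
      (IsLocalRing.ResidueField (Localization.AtPrime P)) := by
    refine IsScalarTower.of_algebraMap_eq (fun a => ?_)
    rw [hAK, IsScalarTower.algebraMap_apply (Localization.AtPrime P') (Localization.AtPrime P)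
      (IsLocalRing.ResidueField (Localization.AtPrime P))]
    show _ = IsLocalRing.residue (Localization.AtPrime P) (g _)
    rw [hg]
  have hK : ∀ a ∈ RingHom.ker ε,
      algebraMap A (IsLocalRing.ResidueField (Localization.AtPrime P)) a = 0 := by
    intro a ha
    rw [hAK, IsLocalRing.residue_eq_zero_iff, IsLocalization.AtPrime.to_map_mem_maximal_iff
      (Localization.AtPrime P) P]
    exact hP (Ideal.mem_map_of_mem _ ha)
  apply injective_cotangentComplexBaseChange (R := R) P'.primeCompl J hker
  intro φ
  exact exists_derivation ε J hK hJI h2 h3.2 φ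

end Groth.Agent.Helper3.USec
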