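import Mathlib

/-!
# Indecomposable injective objects of a Grothendieck abelian category are uniform
(helper library for S17646)
-/

universe w v u

namespace Groth.Agent.Lib.Helper3.UniformInj

open CategoryTheory CategoryTheory.Limits

variable {C : Type u} [Category.{v} C] [Abelian C]

section Basic

variable {E : C}

lemma arrow_eq_zero_of_eq_bot (X : Subobject E) (h : X = ⊥) : X.arrow = 0 := by
  subst h; exact Subobject.bot_arrow

lemma eq_bot_of_arrow_eq_zero (X : Subobject E) (h : X.arrow = 0) : X = ⊥ := by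
  rw [← Subobject.mk_arrow X, Subobject.mk_eq_bot_iff_zero]; exact h

lemma inf_eq_bot_of (X K : Subobject E)
    (h : ∀ {Z : C} (t : Z ⟶ E), X.Factors t → K.Factors t → t = 0) : X ⊓ K = ⊥ :=
  eq_bot_of_arrow_eq_zero _
    (h _ (Subobject.inf_arrow_factors_left X K) (Subobject.inf_arrow_factors_right X K))

lemma eq_zero_of_factors_of_inf_eq_bot (X K : Subobject E) (h : X ⊓ K = ⊥) {Z : C} (t : Z ⟶ E)
    (h1 : X.Factors t) (h2 : K.Factors t) : t = 0 := by
  have : (X ⊓ K).Factors t := (Subobject.inf_factors t).mpr ⟨h1, h2⟩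
  rw [h] at this
  exact (Subobject.bot_factors_iff_zero t).mp this

lemma factors_cokernel_zero (L : Subobject E) {Z : C} (t : Z ⟶ E)
    (h : t ≫ cokernel.π L.arrow = 0) : L.Factors t := by
  have := Abelian.monoLift_comp L.arrow t h
  rw [← this]; exact Subobject.factors_comp_arrow _

lemma factors_comp_cokernel (L : Subobject E) {Z : C} (t : Z ⟶ E) (h : L.Factors t) :
    t ≫ cokernel.π L.arrow = 0 := by
  rw [← Subobject.factorThru_arrow L t h, Category.assoc, cokernel.condition, comp_zero]

lemma mono_comp_cokernel_of_inf_eq_bot (K L : Subobject E) (h : K ⊓ L = ⊥) :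
    Mono (K.arrow ≫ cokernel.π L.arrow) := by
  refine Preadditive.mono_of_cancel_zero _ (fun {Z} z hz => ?_)
  have h1 : K.Factors (z ≫ K.arrow) := Subobject.factors_comp_arrow z
  have h2 : L.Factors (z ≫ K.arrow) :=
    factors_cokernel_zero L _ (by rw [Category.assoc]; exact hz)
  have := eq_zero_of_factors_of_inf_eq_bot K L h _ h1 h2
  exact zero_of_comp_mono K.arrow this

lemma inf_eq_bot_of_mono_comp_cokernel {M : C} (m : M ⟶ E) [Mono m] (L : Subobject E)
    (h : Mono (m ≫ cokernel.π L.arrow)) : Subobject.mk m ⊓ L = ⊥ := by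
  refine inf_eq_bot_of _ _ (fun {Z} t h1 h2 => ?_)
  have e1 := Subobject.factorThru_arrow _ t h1
  rw [← Subobject.underlyingIso_hom_comp_eq_mk] at e1
  have e2 := factors_comp_cokernel L t h2
  rw [← e1] at e2 ⊢
  simp only [Category.assoc] at e2
  have : (Subobject.mk m).factorThru t h1 ≫ (Subobject.underlyingIso m).hom = 0 :=
    zero_of_comp_mono (m ≫ cokernel.π L.arrow) (by simpa using e2)
  rw [← Category.assoc, this, zero_comp]

end Basic

section UC

variable [IsGrothendieckAbelian.{w} C] {E : C}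

attribute [local instance] IsFiltered.isConnected

lemma iSup_inf_eq_bot (A : Subobject E) {J : Type w} [SmallCategory J] [IsFiltered J]
    (S : J ⥤ Subobject E) (h : ∀ j, S.obj j ⊓ A = ⊥) : (⨆ j, S.obj j) ⊓ A = ⊥ := by
  let F : J ⥤ MonoOver E := S ⋙ Subobject.representative
  let G : J ⥤ C := F ⋙ MonoOver.forget _ ⋙ Over.forget _
  let f : colimit G ⟶ E := colimit.desc G (Cocone.mk E
      { app j := (F.obj j).obj.hom
        naturality {j j'} g := by simp [G, MonoOver.forget] })
  have hf : ∀ j, colimit.ι G j ≫ f = (F.obj j).obj.hom := fun j => by simp [f]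
  have := IsGrothendieckAbelian.mono_of_isColimit_monoOver F (colimit.isColimit G) f hf
  have hsup := IsGrothendieckAbelian.subobjectMk_of_isColimit_eq_iSup F (colimit.isColimit G) f hf
  have hS : ∀ j, Subobject.mk (F.obj j).obj.hom = S.obj j := fun j => Subobject.mk_arrow (S.obj j)
  simp only [hS] at hsup
  rw [← hsup]
  apply inf_eq_bot_of_mono_comp_cokernel
  let β : G ⟶ (Functor.const J).obj (cokernel A.arrow) :=
    { app j := (F.obj j).obj.hom ≫ cokernel.π A.arrow
      naturality {j j'} g := by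
        have := MonoOver.w (F.map g)
        simp only [Functor.const_obj_obj, Functor.const_obj_map, Category.comp_id]
        rw [← Category.assoc]
        exact congrArg (fun k => k ≫ cokernel.π A.arrow) this }
  have hβ : ∀ j, Mono (β.app j) := fun j =>
    mono_comp_cokernel_of_inf_eq_bot (S.obj j) A (h j)
  have := NatTrans.mono_of_mono_app β
  exact colim.map_mono' β (colimit.isColimit G) (isColimitConstCocone J _) (f ≫ cokernel.π A.arrow)
    (fun j => by
      change colimit.ι G j ≫ f ≫ _ = _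
      rw [← Category.assoc, hf]
      change (F.obj j).obj.hom ≫ cokernel.π A.arrow =
        ((F.obj j).obj.hom ≫ cokernel.π A.arrow) ≫ 𝟙 (cokernel A.arrow)
      rw [Category.comp_id])

/-- Index type (in the small universe) of a set of subobjects. -/
def ChainIdx (c : Set (Subobject E)) : Type w :=
  {j : Shrink.{w} (Subobject E) // (equivShrink (Subobject E)).symm j ∈ c}

noncomputable instance (c : Set (Subobject E)) : Preorder (ChainIdx.{w} c) :=
  Preorder.lift (fun j : ChainIdx.{w} c => (equivShrink (Subobject E)).symm j.1)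

lemma sSup_inf_eq_bot_of_chain (A : Subobject E) (c : Set (Subobject E))
    (hc : IsChain (· ≤ ·) c) (hne : c.Nonempty) (h : ∀ L ∈ c, L ⊓ A = ⊥) :
    sSup c ⊓ A = ⊥ := by
  obtain ⟨y, hy⟩ := hne
  have : Nonempty (ChainIdx.{w} c) :=
    ⟨⟨equivShrink (Subobject E) y, by simpa using hy⟩⟩
  have : IsDirected (ChainIdx.{w} c) (· ≤ ·) := ⟨fun a b => by
    rcases hc.total a.2 b.2 with h1 | h1
    · exact ⟨b, h1, le_refl _⟩
    · exact ⟨a, le_refl _, h1⟩⟩
  let Sf : ChainIdx.{w} c → Subobject E := fun j => (equivShrink (Subobject E)).symm j.1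
  have hmono : Monotone Sf := fun a b hab => hab
  have key := iSup_inf_eq_bot.{w} A hmono.functor (fun j => h _ j.2)
  have hsup : (⨆ j, hmono.functor.obj j) = sSup c := by
    apply le_antisymm
    · exact iSup_le (fun j => le_sSup j.2)
    · refine sSup_le (fun z hz => ?_)
      refine le_iSup_of_le (⟨equivShrink (Subobject E) z, by simpa using hz⟩ : ChainIdx.{w} c) ?_
      simp [Monotone.functor, Sf]
  rw [← hsup]
  exact key

lemma exists_max (A B : Subobject E) (h : B ⊓ A = ⊥) :
    ∃ L : Subobject E, B ≤ L ∧ L ⊓ A = ⊥ ∧ ∀ L', L ≤ L' → L' ⊓ A = ⊥ → L' = L := by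
  have ih : ∀ c ⊆ {L : Subobject E | L ⊓ A = ⊥}, IsChain (· ≤ ·) c → ∀ y ∈ c,
      ∃ ub ∈ {L : Subobject E | L ⊓ A = ⊥}, ∀ z ∈ c, z ≤ ub := by
    intro c hcS hc y hy
    exact ⟨sSup c, sSup_inf_eq_bot_of_chain.{w} A c hc ⟨y, hy⟩ (fun L hL => hcS hL),
      fun z hz => le_sSup hz⟩
  obtain ⟨m, hBm, hmax⟩ := zorn_le_nonempty₀ {L : Subobject E | L ⊓ A = ⊥} ih B h
  exact ⟨m, hBm, hmax.1, fun L' hle hL' => le_antisymm (hmax.2 hL' hle) hle⟩

theorem uniform (E : C) [Injective E]
    (hind : ∀ (A B : C), Nonempty (E ≅ A ⊞ B) → IsZero A ∨ IsZero B)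
    (A B : Subobject E) (hA : A ≠ ⊥) (hB : B ≠ ⊥) : A ⊓ B ≠ ⊥ := by
  intro hAB
  obtain ⟨L, hBL, hLA, hLmax⟩ := exists_max.{w} A B (by rwa [inf_comm])
  obtain ⟨K, hAK, hKL, hKmax⟩ := exists_max.{w} L A (by rwa [inf_comm])
  have hLmax' : ∀ L', L ≤ L' → L' ⊓ K = ⊥ → L' = L := fun L' hle h' =>
    hLmax L' hle (le_bot_iff.mp (h' ▸ inf_le_inf_left L' hAK))
  have hm : Mono (K.arrow ≫ cokernel.π L.arrow) := mono_comp_cokernel_of_inf_eq_bot K L hKL
  let g : cokernel L.arrow ⟶ E := Injective.factorThru K.arrow (K.arrow ≫ cokernel.π L.arrow)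
  have hg : (K.arrow ≫ cokernel.π L.arrow) ≫ g = K.arrow := Injective.comp_factorThru _ _
  let r : E ⟶ E := cokernel.π L.arrow ≫ g
  have r1 : L.arrow ≫ r = 0 := by
    simp only [r]; rw [← Category.assoc, cokernel.condition, zero_comp]
  have r2 : K.arrow ≫ r = K.arrow := by
    simp only [r]; rw [← Category.assoc]; exact hg
  have claim1 : ∀ {Z : C} (x : Z ⟶ E), x ≫ r ≫ r = 0 → x ≫ r = 0 := by
    intro Z x hx
    have hX : kernelSubobject (r ≫ r) = L := by
      apply hLmax'
      · exact le_kernelSubobject _ _ (by rw [← Category.assoc, r1, zero_comp])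
      · refine inf_eq_bot_of _ _ (fun {Z} t h1 h2 => ?_)
        have e1 : t ≫ r ≫ r = 0 := (kernelSubobject_factors_iff _ t).mp h1
        have e2 : t ≫ r = t := by
          rw [← Subobject.factorThru_arrow K t h2, Category.assoc, r2]
        rw [← Category.assoc, e2, e2] at e1; exact e1
    have : L.Factors x := by rw [← hX]; exact kernelSubobject_factors _ x hx
    rw [← Subobject.factorThru_arrow L x this, Category.assoc, r1, comp_zero]
  have hKM : K ≤ imageSubobject r :=
    Subobject.le_of_comm (K.arrow ≫ factorThruImageSubobject r) (by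
      rw [Category.assoc, imageSubobject_arrow_comp, r2])
  have hML : imageSubobject r ⊓ L = ⊥ := by
    refine inf_eq_bot_of _ _ (fun {Z} t h1 h2 => ?_)
    obtain ⟨Z', e, he, x, hx⟩ := surjective_up_to_refinements_of_epi
      (factorThruImageSubobject r) ((imageSubobject r).factorThru t h1)
    have e1 : e ≫ t = x ≫ r := by
      have := Subobject.factorThru_arrow (imageSubobject r) t h1
      calc e ≫ t = e ≫ (imageSubobject r).factorThru t h1 ≫ (imageSubobject r).arrow := by
            rw [this]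
        _ = x ≫ factorThruImageSubobject r ≫ (imageSubobject r).arrow := by
            rw [← Category.assoc, hx, Category.assoc]
        _ = x ≫ r := by rw [imageSubobject_arrow_comp]
    have e2 : t ≫ r = 0 := by
      rw [← Subobject.factorThru_arrow L t h2, Category.assoc, r1, comp_zero]
    have e3 : x ≫ r ≫ r = 0 := by
      rw [← Category.assoc, ← e1, Category.assoc, e2, comp_zero]
    have e4 : e ≫ t = 0 := by rw [e1]; exact claim1 x e3
    exact zero_of_epi_comp e e4
  have hMK : imageSubobject r = K := hKmax _ hKM hML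
  let r' : E ⟶ (K : C) := factorThruImageSubobject r ≫ Subobject.ofLE _ _ hMK.le
  have hr' : r' ≫ K.arrow = r := by
    simp only [r', Category.assoc, Subobject.ofLE_arrow, imageSubobject_arrow_comp]
  have hsec : K.arrow ≫ r' = 𝟙 _ := by
    rw [← cancel_mono K.arrow, Category.assoc, hr', r2, Category.id_comp]
  have : IsSplitEpi r' := IsSplitEpi.mk' ⟨K.arrow, hsec⟩
  have hb := isBilimitBinaryBiconeOfIsSplitEpiOfKernel (kernelIsKernel r')
  let iso : E ≅ kernel r' ⊞ (K : C) := biprod.uniqueUpToIso _ _ hb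
  rcases hind _ _ ⟨iso⟩ with h0 | h0
  · apply hB
    have hL0 : L.arrow = 0 := by
      have e1 : L.arrow ≫ r' = 0 := by
        apply zero_of_comp_mono K.arrow
        rw [Category.assoc, hr', r1]
      rw [← kernel.lift_ι r' L.arrow e1, h0.eq_of_tgt (kernel.lift r' L.arrow e1) 0, zero_comp]
    have : L = ⊥ := eq_bot_of_arrow_eq_zero L hL0
    exact le_bot_iff.mp (this ▸ hBL)
  · apply hA
    have hK0 : K.arrow = 0 := h0.eq_of_src _ _
    have : K = ⊥ := eq_bot_of_arrow_eq_zero K hK0
    exact le_bot_iff.mp (this ▸ hAK)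

end UC

end Groth.Agent.Lib.Helper3.UniformInj
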