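import Mathlib
import Groth.Prelude.Def_Wider
import Groth.Prelude.Def_DDual2
import Groth.Agent.Lib.Helper3.GorLocus
import Groth.Agent.Lib.Helper5.KProj.LTen
import Groth.Agent.Lib.Helper2.Alg.RankOne

/-!
# Uniqueness of dualizing complexes over a Noetherian ring with connected spectrum (helper3)

Two dualizing complexes differ by an invertible module and a shift.
-/

set_option autoImplicit false
universe u w₁ w₂ w₃ u₁ u₂ v₁ v₂
open CategoryTheory CategoryTheory.Limits DerivedCategory Pretriangulated Triangulated TensorProduct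

attribute [local instance] HasDerivedCategory.standard

namespace Groth.Agent.Helper3.UniqGlobal

open Groth.Agent.Helper3.BCAbs

/-! ### Free generators of Hom modules -/

/-- `γ` is an isomorphism freely generating the `B`-module `Z ⟶ T` -/
def IsGen (B : Type w₂) [CommRing B] {D : Type u₂} [Category.{v₂} D] [Preadditive D] [Linear B D]
    {Z T : D} (γ : Z ⟶ T) : Prop :=
  IsIso γ ∧ (∀ φ : Z ⟶ T, ∃ b : B, φ = b • γ) ∧ (∀ b : B, b • γ = 0 → b = 0)

lemma IsGen.comp_iso {B : Type w₂} [CommRing B] {D : Type u₂} [Category.{v₂} D] [Preadditive D]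
    [Linear B D] {Z T T' : D} {γ : Z ⟶ T} (h : IsGen B γ) (κ : T ≅ T') :
    IsGen B (γ ≫ κ.hom) := by
  obtain ⟨hiso, hgen, hfaith⟩ := h
  haveI := hiso
  refine ⟨inferInstance, fun φ => ?_, fun b hb => ?_⟩
  · obtain ⟨b, hb⟩ := hgen (φ ≫ κ.inv)
    refine ⟨b, ?_⟩
    calc φ = (φ ≫ κ.inv) ≫ κ.hom := by rw [Category.assoc, κ.inv_hom_id, Category.comp_id]
      _ = (b • γ) ≫ κ.hom := by rw [hb]
      _ = b • (γ ≫ κ.hom) := by rw [Linear.smul_comp]
  · apply hfaith
    have h1 : (b • (γ ≫ κ.hom)) ≫ κ.inv = 0 := by rw [hb, zero_comp]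
    rwa [Linear.smul_comp, Category.assoc, κ.hom_inv_id, Category.comp_id] at h1

/-! ### Abstract base change lemmas -/

section Abs

variable {A : Type w₁} {B : Type w₂} [CommRing A] [CommRing B] [Algebra A B]
  {C : Type u₁} [Category.{v₁} C] [Preadditive C] [Linear A C]
  {D : Type u₂} [Category.{v₂} D] [Preadditive D] [Linear B D]
  (G : C ⥤ D) [G.Additive] (hG : SemiLinear A B G)

lemma cmp_smul (X Y : C) (b : B) (z : B ⊗[A] (X ⟶ Y)) :
    cmp G hG X Y (b • z) = b • cmp G hG X Y z := by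
  induction z using TensorProduct.induction_on with
  | zero => rw [smul_zero, map_zero, smul_zero]
  | tmul b' φ => rw [TensorProduct.smul_tmul', cmp_tmul, cmp_tmul, smul_eq_mul, mul_smul]
  | add x y hx hy => rw [smul_add, map_add, hx, hy, map_add, smul_add]

theorem nonempty_equiv_of_isGen (X Y : C) (hbij : BijBC G hG X Y) (γ : G.obj X ⟶ G.obj Y)
    (hγ : IsGen B γ) : Nonempty ((B ⊗[A] (X ⟶ Y)) ≃ₗ[B] B) := by
  obtain ⟨-, hgen, hfaith⟩ := hγ
  obtain ⟨z₀, hz₀⟩ := hbij.2 γ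
  let f : B →ₗ[B] (B ⊗[A] (X ⟶ Y)) := LinearMap.toSpanSingleton B _ z₀
  have hf : Function.Bijective f := by
    constructor
    · rw [injective_iff_map_eq_zero]
      intro b hb
      have hb' : b • z₀ = 0 := hb
      apply hfaith
      rw [← hz₀, ← cmp_smul, hb', map_zero]
    · intro z
      obtain ⟨b, hb⟩ := hgen (cmp G hG X Y z)
      refine ⟨b, hbij.1 ?_⟩
      show cmp G hG X Y (b • z₀) = cmp G hG X Y z
      rw [cmp_smul, hz₀, hb]
  exact ⟨(LinearEquiv.ofBijective f hf).symm⟩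

section LocalD

variable [IsLocalRing B]
  {P : Type w₃} [AddCommGroup P] [Module A P]
  {Y Z T : C} (ε : P →ₗ[A] (Z ⟶ T)) (hε : Function.Surjective ε)
  {m : ℕ} (g : Fin m → P) (a : Fin m → (P →ₗ[A] A)) (hy : ∀ x : P, x = ∑ j, a j x • g j)
  (u : Fin m → (Y ⟶ Z)) (v : Fin m → (Z ⟶ Y))
  (hvu : ∀ j k, v k ≫ u j = a j (g k) • 𝟙 Z) (huv : ∀ j k, u j ≫ v k = a j (g k) • 𝟙 Y)
  (γ : G.obj Z ⟶ G.obj T) (hγ : IsGen B γ) (hsurj : SurjBC G hG Z T)

include hε hy hvu huv hγ hsurj in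
/-- the evaluation map of a rank one module of morphisms becomes an isomorphism after a local
base change -/
theorem isIso_map_ev : IsIso (G.map (∑ j, u j ≫ ε (g j))) := by
  obtain ⟨hiso, hgen, hfaith⟩ := hγ
  haveI := hiso
  choose c hc using fun j => hgen (G.map (ε (g j)))
  have L1 : ∀ x : P, G.map (ε x) = (∑ j, algebraMap A B (a j x) * c j) • γ := by
    intro x
    conv_lhs => rw [hy x]
    rw [map_sum, G.map_sum, Finset.sum_smul]
    refine Finset.sum_congr rfl fun j _ => ?_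
    rw [map_smul, hG, hc j, smul_smul]
  have D2 : ∀ l, ∑ j, algebraMap A B (a j (g l)) * c j = c l := by
    intro l
    have h1 := L1 (g l)
    rw [hc l] at h1
    have h2 : (∑ j, algebraMap A B (a j (g l)) * c j - c l) • γ = 0 := by
      rw [sub_smul, ← h1, sub_self]
    exact sub_eq_zero.1 (hfaith _ h2)
  obtain ⟨j₀, hj₀⟩ : ∃ j₀, IsUnit (c j₀) := by
    by_contra hne
    push Not at hne
    have hm : ∀ j, c j ∈ IsLocalRing.maximalIdeal B := fun j =>
      (IsLocalRing.mem_maximalIdeal _).2 (hne j)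
    have claim : ∀ z : B ⊗[A] (Z ⟶ T), ∃ b ∈ IsLocalRing.maximalIdeal B,
        cmp G hG Z T z = b • γ := by
      intro z
      induction z using TensorProduct.induction_on with
      | zero => exact ⟨0, Ideal.zero_mem _, by rw [map_zero, zero_smul]⟩
      | tmul b' φ =>
        obtain ⟨x, rfl⟩ := hε φ
        refine ⟨b' * ∑ j, algebraMap A B (a j x) * c j,
          Ideal.mul_mem_left _ _ (Ideal.sum_mem _ fun j _ => Ideal.mul_mem_left _ _ (hm j)), ?_⟩
        rw [cmp_tmul, L1 x, smul_smul]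
      | add z₁ z₂ h₁ h₂ =>
        obtain ⟨b₁, hb₁, e₁⟩ := h₁
        obtain ⟨b₂, hb₂, e₂⟩ := h₂
        exact ⟨b₁ + b₂, Ideal.add_mem _ hb₁ hb₂, by rw [map_add, e₁, e₂, add_smul]⟩
    obtain ⟨z, hz⟩ := hsurj γ
    obtain ⟨b, hb, e⟩ := claim z
    rw [hz] at e
    have h2 : (1 - b) • γ = 0 := by rw [sub_smul, one_smul, ← e, sub_self]
    have h3 : 1 - b = 0 := hfaith _ h2
    have h4 : (1 : B) ∈ IsLocalRing.maximalIdeal B := by
      rw [sub_eq_zero.1 h3]; exact hb
    exact (IsLocalRing.maximalIdeal B).ne_top_iff_one.1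
      (IsLocalRing.maximalIdeal.isMaximal B).ne_top h4
  obtain ⟨c', hc'⟩ := hj₀.exists_left_inv
  have hscal : ∑ j, (c j * c') * algebraMap A B (a j (g j₀)) = 1 := by
    calc ∑ j, (c j * c') * algebraMap A B (a j (g j₀))
        = c' * ∑ j, algebraMap A B (a j (g j₀)) * c j := by
          rw [Finset.mul_sum]
          exact Finset.sum_congr rfl fun j _ => by ring
      _ = 1 := by rw [D2 j₀, hc']
  have hscal' : ∑ j, (c' * c j) * algebraMap A B (a j (g j₀)) = 1 := by
    rw [← hscal]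
    exact Finset.sum_congr rfl fun j _ => by ring
  have hUV : (∑ j, c j • G.map (u j)) ≫ (c' • G.map (v j₀)) = 𝟙 _ := by
    rw [Preadditive.sum_comp]
    have h1 : ∀ j, (c j • G.map (u j)) ≫ (c' • G.map (v j₀)) =
        ((c j * c') * algebraMap A B (a j (g j₀))) • 𝟙 (G.obj Y) := by
      intro j
      rw [Linear.smul_comp, Linear.comp_smul, smul_smul, ← G.map_comp, huv j j₀, hG, G.map_id,
        smul_smul]
    simp_rw [h1]
    rw [← Finset.sum_smul, hscal, one_smul]
  have hVU : (c' • G.map (v j₀)) ≫ (∑ j, c j • G.map (u j)) = 𝟙 _ := by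
    rw [Preadditive.comp_sum]
    have h1 : ∀ j, (c' • G.map (v j₀)) ≫ (c j • G.map (u j)) =
        ((c' * c j) * algebraMap A B (a j (g j₀))) • 𝟙 (G.obj Z) := by
      intro j
      rw [Linear.smul_comp, Linear.comp_smul, smul_smul, ← G.map_comp, hvu j j₀, hG, G.map_id,
        smul_smul]
    simp_rw [h1]
    rw [← Finset.sum_smul, hscal', one_smul]
  haveI : IsIso (∑ j, c j • G.map (u j)) := ⟨⟨c' • G.map (v j₀), hUV, hVU⟩⟩
  have hfinal : G.map (∑ j, u j ≫ ε (g j)) = (∑ j, c j • G.map (u j)) ≫ γ := by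
    rw [G.map_sum, Preadditive.sum_comp]
    refine Finset.sum_congr rfl fun j _ => ?_
    rw [G.map_comp, hc j, Linear.comp_smul, Linear.smul_comp]
  rw [hfinal]
  infer_instance

end LocalD

end Abs

/-! ### Topology: a partition of a connected space into open sets -/

theorem exists_eq_univ_of_partition {X : Type*} [TopologicalSpace X] [ConnectedSpace X]
    {ι : Type*} (U : ι → Set X) (hopen : ∀ i, IsOpen (U i)) (hcover : ∀ x, ∃ i, x ∈ U i)
    (hdisj : ∀ x i j, x ∈ U i → x ∈ U j → i = j) : ∃ i, U i = Set.univ := by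
  obtain ⟨x₀⟩ := (inferInstance : Nonempty X)
  obtain ⟨i, hi⟩ := hcover x₀
  refine ⟨i, IsClopen.eq_univ ⟨?_, hopen i⟩ ⟨x₀, hi⟩⟩
  rw [← isOpen_compl_iff]
  have h : (U i)ᶜ = ⋃ j ∈ {j | j ≠ i}, U j := by
    ext x
    simp only [Set.mem_compl_iff, Set.mem_iUnion, Set.mem_setOf_eq, exists_prop]
    constructor
    · intro hx
      obtain ⟨j, hj⟩ := hcover x
      exact ⟨j, fun h => hx (h ▸ hj), hj⟩
    · rintro ⟨j, hji, hj⟩ hx
      exact hji (hdisj x j i hj hx)
  rw [h]
  exact isOpen_biUnion fun j _ => hopen j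

/-! ### The local structure -/

section LocalA

variable {B : Type u} [CommRing B] [IsLocalRing B] [IsNoetherianRing B]

theorem local_hom_structure (X X' : Dual.D B) (hX : Dual.IsDualizing B X)
    (hX' : Dual.IsDualizing B X') :
    ∃ n₀ : ℤ, (∀ n : ℤ, n ≠ n₀ → Subsingleton (X ⟶ X'⟦n⟧)) ∧
      ∃ γ : X ⟶ X'⟦n₀⟧, IsGen B γ := by
  obtain ⟨m, ⟨θ⟩⟩ := Groth.Agent.Helper3.Uniq.main_S1747 B X X' hX hX'
  refine ⟨-m, fun n hn => ?_, ?_⟩
  · haveI := hX.ext_self_subsingleton (m + n) (by omega)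
    exact (Iso.homCongr (Iso.refl X) ((shiftFunctor (Dual.D B) n).mapIso θ ≪≫
      ((shiftFunctorAdd' (Dual.D B) m n (m + n) rfl).app X).symm)).subsingleton
  · let γ : X ⟶ X'⟦-m⟧ := (shiftShiftNeg X m).inv ≫ (θ.inv)⟦-m⟧'
    haveI : IsIso γ := inferInstance
    refine ⟨γ, inferInstance, fun φ => ?_, fun b hb => ?_⟩
    · obtain ⟨b, hb⟩ := hX.toEnd_bijective.2 (φ ≫ inv γ)
      have hb' : b • 𝟙 X = φ ≫ inv γ := hb
      refine ⟨b, ?_⟩
      calc φ = (φ ≫ inv γ) ≫ γ := by rw [Category.assoc, IsIso.inv_hom_id, Category.comp_id]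
        _ = (b • 𝟙 X) ≫ γ := by rw [hb']
        _ = b • γ := by rw [Linear.smul_comp, Category.id_comp]
    · have h1 : b • 𝟙 X = (0 : B) • 𝟙 X := by
        rw [zero_smul]
        have h2 : (b • γ) ≫ inv γ = 0 := by rw [hb, zero_comp]
        rwa [Linear.smul_comp, IsIso.hom_inv_id] at h2
      exact hX.toEnd_bijective.1 h1

end LocalA

/-! ### Global structure of the Hom modules -/

section Global

open Groth.Agent.Helper3.DualCx Groth.Agent.Helper3.BCDer Groth.Agent.Helper3.BCDual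
  Groth.Agent.Helper3.GorLocus Groth.Agent.Helper5.FlatBC

variable {A : Type u} [CommRing A] [IsNoetherianRing A]

theorem exists_local_gen (B : Type u) [CommRing B] [Algebra A B] [Module.Flat A B] [IsLocalRing B]
    (S : Submonoid A) [IsLocalization S B] (ω ω' : Dual.D A) (hω : Dual.IsDualizing A ω)
    (hω' : Dual.IsDualizing A ω') :
    ∃ n₀ : ℤ, (∀ n : ℤ, n ≠ n₀ →
        Subsingleton ((G (A := A) B).obj ω ⟶ (G (A := A) B).obj (ω'⟦n⟧))) ∧
      ∃ γ : (G (A := A) B).obj ω ⟶ (G (A := A) B).obj (ω'⟦n₀⟧), IsGen B γ := by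
  haveI : IsNoetherianRing B := IsLocalization.isNoetherianRing S B inferInstance
  have h1 := isDualizing_G_of_isLocalization B S ω hω
  have h2 := isDualizing_G_of_isLocalization B S ω' hω'
  obtain ⟨n₀, hvan, γ, hγ⟩ := local_hom_structure _ _ h1 h2
  refine ⟨n₀, fun n hn => ?_, γ ≫ (GshiftIso B ω' n₀).inv, hγ.comp_iso (GshiftIso B ω' n₀).symm⟩
  haveI := hvan n hn
  exact (Iso.homCongr (Iso.refl _) (GshiftIso B ω' n)).subsingleton

theorem isOpen_rankOneLocus (N : Type u) [AddCommGroup N] [Module A N] [Module.Finite A N] :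
    IsOpen {p : PrimeSpectrum A | p ∈ Module.freeLocus A N ∧ Module.rankAtStalk N p = 1} := by
  haveI : Module.FinitePresentation A N := Module.finitePresentation_of_finite A _
  have hlc := Module.isLocallyConstant_rankAtStalk_freeLocus (R := A) (M := N)
  have hopen : IsOpen ((fun x : Module.freeLocus A N => Module.rankAtStalk N x.1) ⁻¹' {1}) :=
    hlc.isOpen_fiber 1
  have h2 := (Module.isOpen_freeLocus (R := A) (M := N)).isOpenMap_subtype_val _ hopen
  convert h2 using 1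
  ext p
  simp only [Set.mem_setOf_eq, Set.mem_image, Set.mem_preimage, Set.mem_singleton_iff,
    Subtype.exists, exists_and_right, exists_eq_right]
  constructor
  · rintro ⟨h, h'⟩
    exact ⟨h, h'⟩
  · rintro ⟨h, h'⟩
    exact ⟨h, h'⟩

theorem exists_rankOne_hom [ConnectedSpace (PrimeSpectrum A)] (ω ω' : Dual.D A)
    (hω : Dual.IsDualizing A ω) (hω' : Dual.IsDualizing A ω') :
    ∃ (n : ℤ) (P : ModuleCat.{u} A) (_ : Module.Finite A P) (_ : Module.Projective A P)
      (_ : P ≃ₗ[A] (ω ⟶ ω'⟦n⟧)),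
      (∀ q : PrimeSpectrum A, Module.rankAtStalk P q = 1) ∧
      ∀ p : PrimeSpectrum A, ∃ γ : (G (A := A) (Localization.AtPrime p.asIdeal)).obj ω ⟶
        (G (A := A) (Localization.AtPrime p.asIdeal)).obj (ω'⟦n⟧),
          IsGen (Localization.AtPrime p.asIdeal) γ := by
  classical
  have hfinL : ∀ n : ℤ, Module.Finite A (ω ⟶ ω'⟦n⟧) := fun n =>
    finite_hom hω' ω hω.finite_cohomology n
  haveI hsm : ∀ n : ℤ, Small.{u} (ω ⟶ ω'⟦n⟧) := fun n => by
    haveI := hfinL n
    exact Module.Finite.small.{u} A _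
  have hfinP : ∀ n : ℤ, Module.Finite A (Shrink.{u} (ω ⟶ ω'⟦n⟧)) := fun n => by
    haveI := hfinL n
    infer_instance
  have hbdd := bdd_of_isDualizing hω
  have hbdd' := bdd_of_isDualizing hω'
  have hbij : ∀ (p : PrimeSpectrum A) (n : ℤ),
      BijBC (G (A := A) (Localization.AtPrime p.asIdeal))
        (semiLinear_G (Localization.AtPrime p.asIdeal)) ω (ω'⟦n⟧) := fun p n =>
    bijBC_main (Localization.AtPrime p.asIdeal) ω (ω'⟦n⟧) hbdd hω.finite_cohomology
      (bdd_shift ω' n hbdd')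
  have hloc : ∀ p : PrimeSpectrum A, ∃ n₀ : ℤ, (∀ n : ℤ, n ≠ n₀ →
        Subsingleton ((G (A := A) (Localization.AtPrime p.asIdeal)).obj ω ⟶
          (G (A := A) (Localization.AtPrime p.asIdeal)).obj (ω'⟦n⟧))) ∧
      ∃ γ : (G (A := A) (Localization.AtPrime p.asIdeal)).obj ω ⟶
        (G (A := A) (Localization.AtPrime p.asIdeal)).obj (ω'⟦n₀⟧),
          IsGen (Localization.AtPrime p.asIdeal) γ := fun p =>
    exists_local_gen (Localization.AtPrime p.asIdeal) p.asIdeal.primeCompl ω ω' hω hω'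
  choose n₀ hvan hgen using hloc
  -- tensor equivalences with the small models
  have τ : ∀ (p : PrimeSpectrum A) (n : ℤ),
      (Localization.AtPrime p.asIdeal ⊗[A] Shrink.{u} (ω ⟶ ω'⟦n⟧))
        ≃ₗ[Localization.AtPrime p.asIdeal]
      (Localization.AtPrime p.asIdeal ⊗[A] (ω ⟶ ω'⟦n⟧)) := fun p n =>
    TensorProduct.AlgebraTensorModule.congr (LinearEquiv.refl _ _)
      (Shrink.linearEquiv A (ω ⟶ ω'⟦n⟧))
  let U : ℤ → Set (PrimeSpectrum A) := fun n =>
    {p | p ∈ Module.freeLocus A (Shrink.{u} (ω ⟶ ω'⟦n⟧)) ∧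
      Module.rankAtStalk (Shrink.{u} (ω ⟶ ω'⟦n⟧)) p = 1}
  have hU : ∀ n p, p ∈ U n ↔
      Nonempty ((Localization.AtPrime p.asIdeal ⊗[A] Shrink.{u} (ω ⟶ ω'⟦n⟧))
        ≃ₗ[Localization.AtPrime p.asIdeal] Localization.AtPrime p.asIdeal) := fun n p => by
    haveI := hfinP n
    exact (nonempty_tensor_equiv_iff p _).symm
  have hmem : ∀ p, p ∈ U (n₀ p) := fun p => by
    rw [hU]
    obtain ⟨γ, hγ⟩ := hgen p
    obtain ⟨e⟩ := nonempty_equiv_of_isGen _ _ ω (ω'⟦n₀ p⟧) (hbij p (n₀ p)) γ hγ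
    exact ⟨τ p (n₀ p) ≪≫ₗ e⟩
  have hnot : ∀ p n, n ≠ n₀ p → p ∉ U n := fun p n hn hp => by
    rw [hU] at hp
    obtain ⟨e⟩ := hp
    haveI := hvan p n hn
    haveI : Subsingleton (Localization.AtPrime p.asIdeal ⊗[A] (ω ⟶ ω'⟦n⟧)) :=
      (hbij p n).1.subsingleton
    haveI : Subsingleton (Localization.AtPrime p.asIdeal) :=
      ((τ p n).symm ≪≫ₗ e).symm.toEquiv.subsingleton
    exact not_subsingleton (Localization.AtPrime p.asIdeal) inferInstance
  obtain ⟨n₁, hn₁⟩ := exists_eq_univ_of_partition U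
    (fun n => by haveI := hfinP n; exact isOpen_rankOneLocus _)
    (fun p => ⟨n₀ p, hmem p⟩)
    (fun p i j hi hj => by
      by_contra hij
      by_cases h : i = n₀ p
      · exact hnot p j (fun h' => hij (h.trans h'.symm)) hj
      · exact hnot p i h hi)
  have hall : ∀ p, n₀ p = n₁ := fun p => by
    by_contra h
    exact hnot p n₁ (Ne.symm h) (hn₁ ▸ Set.mem_univ p)
  haveI := hfinP n₁
  haveI : Module.FinitePresentation A (Shrink.{u} (ω ⟶ ω'⟦n₁⟧)) :=
    Module.finitePresentation_of_finite A _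
  have hproj : Module.Projective A (Shrink.{u} (ω ⟶ ω'⟦n₁⟧)) := by
    rw [← Module.freeLocus_eq_univ_iff, Set.eq_univ_iff_forall]
    intro p
    have hp : p ∈ U n₁ := hn₁ ▸ Set.mem_univ p
    exact hp.1
  refine ⟨n₁, ModuleCat.of A (Shrink.{u} (ω ⟶ ω'⟦n₁⟧)), hfinP n₁, hproj,
    Shrink.linearEquiv A (ω ⟶ ω'⟦n₁⟧), fun q => ?_, fun p => ?_⟩
  · have hq : q ∈ U n₁ := hn₁ ▸ Set.mem_univ q
    exact hq.2
  · exact (hall p) ▸ hgen p

/-- a morphism of `D(A)` is an isomorphism if it is so after localizing at every prime -/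
theorem isIso_of_forall_G {X Y : Dual.D A} (φ : X ⟶ Y)
    (h : ∀ p : PrimeSpectrum A, IsIso ((G (A := A) (Localization.AtPrime p.asIdeal)).map φ)) :
    IsIso φ := by
  obtain ⟨C, m₂, m₃, hT⟩ := distinguished_cocone_triangle φ
  have hz : ∀ i : ℤ, IsZero ((homologyFunctor (ModuleCat.{u} A) i).obj C) := by
    intro i
    haveI : Subsingleton (Dual.HD A C i) := by
      rw [← Module.support_eq_empty_iff (R := A), Set.eq_empty_iff_forall_notMem]
      intro p
      rw [← subsingleton_tensor_iff]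
      have hGT := (G (A := A) (Localization.AtPrime p.asIdeal)).map_distinguished _ hT
      have hzC : IsZero ((G (A := A) (Localization.AtPrime p.asIdeal)).obj C) :=
        (Triangle.isZero₃_iff_isIso₁ _ hGT).2 (h p)
      have hzH : IsZero ((homologyFunctor (ModuleCat.{u} (Localization.AtPrime p.asIdeal)) i).obj
          ((G (A := A) (Localization.AtPrime p.asIdeal)).obj C)) :=
        Functor.map_isZero _ hzC
      have hzE := hzH.of_iso (homologyGIso (Localization.AtPrime p.asIdeal) C i).symm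
      have hs := ModuleCat.subsingleton_of_isZero hzE
      exact (eqvT (Localization.AtPrime p.asIdeal) (Dual.HD A C i)).toEquiv.subsingleton_congr.2 hs
    exact ModuleCat.isZero_of_subsingleton _
  haveI : C.IsGE 1 := (DerivedCategory.isGE_iff C 1).2 (fun i _ => hz i)
  haveI : C.IsLE 0 := (DerivedCategory.isLE_iff C 0).2 (fun i _ => hz i)
  have hC : IsZero C := (TStructure.t : TStructure (Dual.D A)).isZero C 0 1 (by omega)
  exact (Triangle.isZero₃_iff_isIso₁ _ hT).1 hC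

end Global

/-! ### The tensor functor at chain level -/

section Chain

open MonoidalCategory Groth.Agent.Helper5.FlatAcyc

variable {A : Type u} [CommRing A] (W : DRing.Cx A)

/-- functoriality of `W ⊗ M` in the module `M` -/
noncomputable def PhiMap {M N : ModuleCat.{u} A} (f : M ⟶ N) : (TM M).obj W ⟶ (TM N).obj W where
  f i := W.X i ◁ f
  comm' i j _ := whisker_exchange (W.d i j) f

lemma PhiMap_comp {M N K : ModuleCat.{u} A} (f : M ⟶ N) (g : N ⟶ K) :
    PhiMap W (f ≫ g) = PhiMap W f ≫ PhiMap W g := by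
  apply HomologicalComplex.hom_ext
  intro i
  exact MonoidalCategory.whiskerLeft_comp (W.X i) f g

lemma PhiMap_smul_id (M : ModuleCat.{u} A) (r : A) :
    PhiMap W (r • 𝟙 M) = r • 𝟙 ((TM M).obj W) := by
  apply HomologicalComplex.hom_ext
  intro i
  show W.X i ◁ (r • 𝟙 M) = r • 𝟙 (W.X i ⊗ M)
  rw [MonoidalLinear.whiskerLeft_smul, MonoidalCategory.whiskerLeft_id]

/-- `W ⊗ A ≅ W` -/
noncomputable def rhoW : (TM (𝟙_ (ModuleCat.{u} A))).obj W ≅ W :=
  HomologicalComplex.Hom.isoOfComponents (fun i => ρ_ (W.X i))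
    (fun i j _ => (rightUnitor_naturality (W.d i j)).symm)

end Chain

/-! ### The main theorem -/

section Main

open MonoidalCategory Groth.Agent.Helper5.FlatAcyc Groth.Agent.Lib.Helper5.KProj
  Groth.Agent.Helper3.DualCx Groth.Agent.Helper3.BCDer Groth.Agent.Helper3.BCDual

theorem main (A : Type u) [CommRing A] [IsNoetherianRing A]
    [ConnectedSpace (PrimeSpectrum A)] (ω ω' : Dual.D A) (hω : Dual.IsDualizing A ω)
    (hω' : Dual.IsDualizing A ω') :
    ∃ (P : ModuleCat.{u} A) (_ : Module.Invertible A P) (n : ℤ),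
      ∀ [DRing.HasLTensor A P], Nonempty (ω' ≅ ((DRing.LTensor A P).obj ω)⟦n⟧) := by
  obtain ⟨W, f, hW, hf⟩ := hasKProjRes_moduleCat A (Q.objPreimage ω)
  haveI := hW
  haveI : IsIso (Q.map f) := by rw [isIso_Q_map_iff_quasiIso]; exact hf
  let eW : Q.obj W ≅ ω := asIso (Q.map f) ≪≫ Q.objObjPreimageIso ω
  let Z : Dual.D A := Q.obj ((TM (𝟙_ (ModuleCat.{u} A))).obj W)
  let eZ : Z ≅ ω := Q.mapIso (rhoW W) ≪≫ eW
  have hZ : Dual.IsDualizing A Z := isDualizing_of_iso eZ.symm hω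
  obtain ⟨n, P, hfin, hproj, ε, hrank, hgen⟩ := exists_rankOne_hom Z ω' hZ hω'
  haveI := hfin
  haveI := hproj
  obtain ⟨m, s, g', -, -, hsg⟩ := Module.Finite.exists_comp_eq_id_of_projective A P
  let gk : Fin m → P := fun k => s (Pi.single k 1)
  let ak : Fin m → (P →ₗ[A] A) := fun k => (LinearMap.proj k) ∘ₗ g'
  have hy : ∀ y : P, y = ∑ k : Fin m, (ak k y) • gk k := by
    intro y
    conv_lhs => rw [← LinearMap.id_apply (R := A) y, ← hsg, LinearMap.comp_apply]
    conv_lhs => rw [← Finset.univ_sum_single (g' y)]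
    rw [map_sum]
    refine Finset.sum_congr rfl fun i _ => ?_
    rw [← map_smul]
    congr 1
    ext j
    simp [ak, Pi.single_apply]
  have hinv : Module.Invertible A P := Groth.Agent.Helper2.RankOne.invertible hrank
  refine ⟨P, hinv, -n, ?_⟩
  intro inst
  -- the maps
  let aM : ∀ j : Fin m, P ⟶ 𝟙_ (ModuleCat.{u} A) := fun j => ModuleCat.ofHom (ak j)
  let gM : ∀ k : Fin m, 𝟙_ (ModuleCat.{u} A) ⟶ P := fun k =>
    ModuleCat.ofHom (LinearMap.toSpanSingleton A P (gk k))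
  let Y : Dual.D A := Q.obj ((TM P).obj W)
  let uu : Fin m → (Y ⟶ Z) := fun j => Q.map (PhiMap W (aM j))
  let vv : Fin m → (Z ⟶ Y) := fun k => Q.map (PhiMap W (gM k))
  have hga : ∀ j k, gM k ≫ aM j = ak j (gk k) • 𝟙 _ := by
    intro j k
    apply ModuleCat.hom_ext
    apply LinearMap.ext_ring
    show ak j ((1 : A) • gk k) = ak j (gk k) • (1 : A)
    rw [one_smul, smul_eq_mul, mul_one]
  have hag : ∀ j k, aM j ≫ gM k = ak j (gk k) • 𝟙 _ := by
    intro j k
    apply ModuleCat.hom_ext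
    apply LinearMap.ext
    intro x
    show (ak j x) • gk k = ak j (gk k) • x
    exact Groth.Agent.Helper2.RankOne.apply_smul_comm hrank (ak j) (gk k) x
  have hvu : ∀ j k, vv k ≫ uu j = ak j (gk k) • 𝟙 Z := by
    intro j k
    show Q.map (PhiMap W (gM k)) ≫ Q.map (PhiMap W (aM j)) = _
    rw [← Q.map_comp, ← PhiMap_comp, hga, PhiMap_smul_id, Functor.map_smul,
      CategoryTheory.Functor.map_id]
  have huv : ∀ j k, uu j ≫ vv k = ak j (gk k) • 𝟙 Y := by
    intro j k
    show Q.map (PhiMap W (aM j)) ≫ Q.map (PhiMap W (gM k)) = _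
    rw [← Q.map_comp, ← PhiMap_comp, hag, PhiMap_smul_id, Functor.map_smul,
      CategoryTheory.Functor.map_id]
  let ev : Y ⟶ ω'⟦n⟧ := ∑ j, uu j ≫ ε (gk j)
  have hbddZ := bdd_of_isDualizing hZ
  have hbdd' := bdd_of_isDualizing hω'
  haveI : IsIso ev := by
    apply isIso_of_forall_G
    intro p
    obtain ⟨γ, hγ⟩ := hgen p
    exact isIso_map_ev (G (A := A) (Localization.AtPrime p.asIdeal))
      (semiLinear_G (Localization.AtPrime p.asIdeal)) ε.toLinearMap ε.surjective gk ak hy uu vv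
      hvu huv γ hγ
      (bijBC_main (Localization.AtPrime p.asIdeal) Z (ω'⟦n⟧) hbddZ hZ.finite_cohomology
        (bdd_shift ω' n hbdd')).2
  let e1 : (DRing.LTensor A P).obj ω ≅ Y :=
    (DRing.LTensor A P).mapIso eW.symm ≪≫ ltIso P W
  exact ⟨(shiftShiftNeg ω' n).symm ≪≫
    (shiftFunctor (Dual.D A) (-n)).mapIso ((asIso ev).symm ≪≫ e1.symm)⟩

end Main

end Groth.Agent.Helper3.UniqGlobal
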