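import Mathlib
import Groth.Agent.Lib.Helper3.RigPt5

/-!
# Unramified local homomorphisms and completions
-/

set_option autoImplicit false

namespace Groth.Agent.Helper3.UnrCpl

open IsLocalRing TensorProduct

universe u

section One

variable (B : Type u) [CommRing B] [IsLocalRing B] [IsNoetherianRing B]

/-- The residue field of the completion. -/
noncomputable def quotEquiv (J : Ideal (AdicCompletion (maximalIdeal B) B))
    (hJ : J = (maximalIdeal B).map (algebraMap B (AdicCompletion (maximalIdeal B) B))) :
    (AdicCompletion (maximalIdeal B) B ⧸ J) ≃ₐ[B] B ⧸ maximalIdeal B :=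
  (Ideal.quotientEquivAlgOfEq B (hJ.trans
    (AdicCompletion.ker_evalOneₐ_eq_map (maximalIdeal B)
      (maximalIdeal B).fg_of_isNoetherianRing).symm)).trans
    (Ideal.quotientKerAlgEquivOfSurjective
      (f := AdicCompletion.evalOneₐ (maximalIdeal B))
      (AdicCompletion.evalOneₐ_surjective (maximalIdeal B)))

/-- `B → B̂ / m` is surjective. -/
theorem algebraMap_quotient_surjective :
    Function.Surjective (algebraMap B (AdicCompletion (maximalIdeal B) B ⧸
      maximalIdeal (AdicCompletion (maximalIdeal B) B))) := by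
  intro z
  obtain ⟨y, rfl⟩ := Ideal.Quotient.mk_surjective z
  obtain ⟨b, hb⟩ := Ideal.Quotient.mk_surjective (AdicCompletion.evalOneₐ (maximalIdeal B) y)
  refine ⟨b, ?_⟩
  rw [IsScalarTower.algebraMap_apply B (AdicCompletion (maximalIdeal B) B), Ideal.Quotient.algebraMap_eq,
    Ideal.Quotient.eq, AdicCompletion.maximalIdeal_eq_map,
    ← AdicCompletion.ker_evalOneₐ_eq_map (maximalIdeal B) (maximalIdeal B).fg_of_isNoetherianRing,
    RingHom.mem_ker, map_sub]
  show AdicCompletion.evalOneₐ (maximalIdeal B) (algebraMap B _ b) -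
    AdicCompletion.evalOneₐ (maximalIdeal B) y = 0
  rw [← hb, sub_eq_zero]
  rfl

end One

end Groth.Agent.Helper3.UnrCpl
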