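import Mathlib
import Groth.Agent.Lib.Helper3.UnrCpl1
import Groth.Agent.Lib.Helper2.CompleteNoeth

/-!
# Unramified local homomorphisms and completions: the main equivalence
-/

set_option autoImplicit false

namespace Groth.Agent.Helper3.UnrCpl

open IsLocalRing TensorProduct

universe u

theorem isNoetherianRing_cpl (A : Type u) [CommRing A] [IsLocalRing A] [IsNoetherianRing A] :
    IsNoetherianRing (AdicCompletion (maximalIdeal A) A) :=
  Groth.Agent.Helper2.CompleteNoeth.isNoetherianRing_adicCompletion A (maximalIdeal A)
    (maximalIdeal A).fg_of_isNoetherianRing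

section Main

variable (A B : Type u) [CommRing A] [CommRing B]
    [IsLocalRing A] [IsLocalRing B] [IsNoetherianRing A] [IsNoetherianRing B] [Algebra A B]
    [IsLocalHom (algebraMap A B)]
    [Algebra (AdicCompletion (maximalIdeal A) A) (AdicCompletion (maximalIdeal B) B)]
    [IsScalarTower A (AdicCompletion (maximalIdeal A) A) (AdicCompletion (maximalIdeal B) B)]

/-- The ideal generated by the maximal ideal of `Â` in `B̂`. -/
theorem map_maximalIdeal_eq :
    (maximalIdeal (AdicCompletion (maximalIdeal A) A)).map
      (algebraMap (AdicCompletion (maximalIdeal A) A) (AdicCompletion (maximalIdeal B) B)) =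
    ((maximalIdeal A).map (algebraMap A B)).map
      (algebraMap B (AdicCompletion (maximalIdeal B) B)) := by
  rw [AdicCompletion.maximalIdeal_eq_map, Ideal.map_map, Ideal.map_map,
    ← IsScalarTower.algebraMap_eq, ← IsScalarTower.algebraMap_eq]

theorem map_maximalIdeal_le :
    (maximalIdeal (AdicCompletion (maximalIdeal A) A)).map
      (algebraMap (AdicCompletion (maximalIdeal A) A) (AdicCompletion (maximalIdeal B) B)) ≤
    maximalIdeal (AdicCompletion (maximalIdeal B) B) := by
  rw [map_maximalIdeal_eq, AdicCompletion.maximalIdeal_eq_map (R := B)]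
  apply Ideal.map_mono
  have hloc : IsLocalHom (algebraMap A B) := inferInstance
  exact ((IsLocalRing.local_hom_TFAE (algebraMap A B)).out 0 2).mp hloc

/-- Forward direction: an unramified local homomorphism has finite unramified completion. -/
theorem finite_and_unramified_of_unramified
    (hm : (maximalIdeal A).map (algebraMap A B) = maximalIdeal B)
    [Module.Finite (ResidueField A) (ResidueField B)]
    [Algebra.IsSeparable (ResidueField A) (ResidueField B)] :
    Module.Finite (AdicCompletion (maximalIdeal A) A) (AdicCompletion (maximalIdeal B) B) ∧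
    Algebra.FormallyUnramified (AdicCompletion (maximalIdeal A) A)
      (AdicCompletion (maximalIdeal B) B) := by
  haveI := isNoetherianRing_cpl A
  haveI := isNoetherianRing_cpl B
  haveI : IsAdicComplete (maximalIdeal (AdicCompletion (maximalIdeal A) A))
      (AdicCompletion (maximalIdeal A) A) :=
    AdicCompletion.isAdicComplete_of_fg (maximalIdeal A).fg_of_isNoetherianRing
  set J := (maximalIdeal (AdicCompletion (maximalIdeal A) A)).map
      (algebraMap (AdicCompletion (maximalIdeal A) A) (AdicCompletion (maximalIdeal B) B)) with hJ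
  have hJeq : J = (maximalIdeal B).map (algebraMap B (AdicCompletion (maximalIdeal B) B)) := by
    rw [hJ, map_maximalIdeal_eq, hm]
  have hjac : J ≤ (⊥ : Ideal (AdicCompletion (maximalIdeal B) B)).jacobson := by
    rw [IsLocalRing.jacobson_eq_maximalIdeal ⊥ bot_ne_top]
    exact map_maximalIdeal_le A B
  -- the residue field of `B` over `A`
  haveI hfuA : Algebra.FormallyUnramified A (ResidueField A) :=
    Algebra.FormallyUnramified.of_surjective (Algebra.ofId A (ResidueField A))
      IsLocalRing.residue_surjective
  haveI hfuAB : Algebra.FormallyUnramified (ResidueField A) (ResidueField B) :=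
    Algebra.FormallyUnramified.of_isSeparable _ _
  haveI hfu : Algebra.FormallyUnramified A (ResidueField B) :=
    Algebra.FormallyUnramified.comp A (ResidueField A) (ResidueField B)
  have hftA : Algebra.FiniteType A (ResidueField A) :=
    Algebra.FiniteType.of_surjective (Algebra.ofId A (ResidueField A))
      IsLocalRing.residue_surjective
  have hft : Algebra.FiniteType A (ResidueField B) :=
    Algebra.FiniteType.trans hftA (Module.Finite.finiteType _)
  let e : (AdicCompletion (maximalIdeal B) B ⧸ J) ≃ₐ[A] ResidueField B :=
    (quotEquiv B J hJeq).restrictScalars A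
  haveI : Algebra.FormallyUnramified A (AdicCompletion (maximalIdeal B) B ⧸ J) :=
    Algebra.FormallyUnramified.of_equiv e.symm
  haveI : Algebra.FiniteType A (AdicCompletion (maximalIdeal B) B ⧸ J) := hft.equiv e.symm
  haveI : Algebra.FormallyUnramified (AdicCompletion (maximalIdeal A) A)
      (AdicCompletion (maximalIdeal B) B ⧸ J) :=
    Algebra.FormallyUnramified.of_restrictScalars A _ _
  haveI : Algebra.FiniteType (AdicCompletion (maximalIdeal A) A)
      (AdicCompletion (maximalIdeal B) B ⧸ J) :=
    Algebra.FiniteType.of_restrictScalars_finiteType A _ _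
  exact Groth.Agent.Helper3.RigPt.finite_and_unramified_of_fibre (AdicCompletion (maximalIdeal A) A)
    (AdicCompletion (maximalIdeal B) B) hjac

/-- Backward direction. -/
theorem unramified_of_finiteType_of_formallyUnramified
    [Algebra.FiniteType (AdicCompletion (maximalIdeal A) A) (AdicCompletion (maximalIdeal B) B)]
    [Algebra.FormallyUnramified (AdicCompletion (maximalIdeal A) A)
      (AdicCompletion (maximalIdeal B) B)] :
    (maximalIdeal A).map (algebraMap A B) = maximalIdeal B ∧
      Module.Finite (ResidueField A) (ResidueField B) ∧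
      Algebra.IsSeparable (ResidueField A) (ResidueField B) := by
  haveI := isNoetherianRing_cpl A
  haveI := isNoetherianRing_cpl B
  set mA' := maximalIdeal (AdicCompletion (maximalIdeal A) A) with hmA'
  set J := mA'.map
      (algebraMap (AdicCompletion (maximalIdeal A) A) (AdicCompletion (maximalIdeal B) B)) with hJ
  have hJle : J ≤ maximalIdeal (AdicCompletion (maximalIdeal B) B) := map_maximalIdeal_le A B
  letI : Field (AdicCompletion (maximalIdeal A) A ⧸ mA') := Ideal.Quotient.field mA'
  -- the fibre `C = B̂ / J` over the residue field `k` of `Â`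
  haveI : Algebra.FormallyUnramified (AdicCompletion (maximalIdeal A) A ⧸ mA')
      (AdicCompletion (maximalIdeal B) B ⧸ J) :=
    Algebra.FormallyUnramified.of_restrictScalars (AdicCompletion (maximalIdeal A) A) _ _
  haveI : Algebra.FiniteType (AdicCompletion (maximalIdeal A) A ⧸ mA')
      (AdicCompletion (maximalIdeal B) B ⧸ J) :=
    Algebra.FiniteType.of_restrictScalars_finiteType (AdicCompletion (maximalIdeal A) A) _ _
  haveI hred : IsReduced (AdicCompletion (maximalIdeal B) B ⧸ J) :=
    Algebra.FormallyUnramified.isReduced_of_field (AdicCompletion (maximalIdeal A) A ⧸ mA') _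
  haveI hfin : Module.Finite (AdicCompletion (maximalIdeal A) A ⧸ mA')
      (AdicCompletion (maximalIdeal B) B ⧸ J) :=
    Algebra.FormallyUnramified.finite_of_free _ _
  haveI : IsArtinianRing (AdicCompletion (maximalIdeal B) B ⧸ J) :=
    IsArtinianRing.of_finite (AdicCompletion (maximalIdeal A) A ⧸ mA') _
  -- `J` is the maximal ideal
  have hJeq : J = maximalIdeal (AdicCompletion (maximalIdeal B) B) := by
    refine le_antisymm hJle ?_
    intro z hz
    obtain ⟨n, hn⟩ := IsArtinianRing.isNilpotent_jacobson_bot
      (R := AdicCompletion (maximalIdeal B) B ⧸ J)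
    have hzj : Ideal.Quotient.mk J z ∈
        (⊥ : Ideal (AdicCompletion (maximalIdeal B) B ⧸ J)).jacobson := by
      rw [Ideal.mem_jacobson_bot]
      intro y
      obtain ⟨y, rfl⟩ := Ideal.Quotient.mk_surjective y
      rw [← map_mul, ← map_one (Ideal.Quotient.mk J), ← map_add]
      apply IsUnit.map
      rw [← IsLocalRing.notMem_maximalIdeal]
      intro h1
      have h2 : z * y ∈ maximalIdeal (AdicCompletion (maximalIdeal B) B) :=
        Ideal.mul_mem_right _ _ hz
      have h3 := (Ideal.add_mem_iff_right _ h2).mp h1
      exact (IsLocalRing.notMem_maximalIdeal.mpr isUnit_one) h3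
    have h4 : Ideal.Quotient.mk J z ^ n ∈
        (⊥ : Ideal (AdicCompletion (maximalIdeal B) B ⧸ J)).jacobson ^ n :=
      Ideal.pow_mem_pow hzj n
    rw [hn] at h4
    have h5 : Ideal.Quotient.mk J z = 0 := IsNilpotent.eq_zero ⟨n, h4⟩
    exact Ideal.Quotient.eq_zero_iff_mem.mp h5
  have hJeq' : J = (maximalIdeal B).map (algebraMap B (AdicCompletion (maximalIdeal B) B)) := by
    rw [hJeq, AdicCompletion.maximalIdeal_eq_map]
  -- `m_A B = m_B`
  haveI : Module.FaithfullyFlat B (AdicCompletion (maximalIdeal B) B) :=
    Module.FaithfullyFlat.of_flat_of_isLocalHom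
  have hm : (maximalIdeal A).map (algebraMap A B) = maximalIdeal B := by
    have h1 := hJeq'
    rw [hJ, map_maximalIdeal_eq] at h1
    have h2 := congrArg (Ideal.comap (algebraMap B (AdicCompletion (maximalIdeal B) B))) h1
    rwa [Ideal.comap_map_eq_self_of_faithfullyFlat,
      Ideal.comap_map_eq_self_of_faithfullyFlat] at h2
  refine ⟨hm, ?_⟩
  -- the residue field extension
  have hsurj : Function.Surjective
      (algebraMap A (AdicCompletion (maximalIdeal A) A ⧸ mA')) :=
    algebraMap_quotient_surjective A
  haveI : Algebra.FormallyUnramified A (AdicCompletion (maximalIdeal A) A ⧸ mA') :=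
    Algebra.FormallyUnramified.of_surjective
      (Algebra.ofId A (AdicCompletion (maximalIdeal A) A ⧸ mA')) hsurj
  have hftk : Algebra.FiniteType A (AdicCompletion (maximalIdeal A) A ⧸ mA') :=
    Algebra.FiniteType.of_surjective
      (Algebra.ofId A (AdicCompletion (maximalIdeal A) A ⧸ mA')) hsurj
  haveI : IsScalarTower A (AdicCompletion (maximalIdeal A) A ⧸ mA')
      (AdicCompletion (maximalIdeal B) B ⧸ J) := by
    refine IsScalarTower.of_algebraMap_eq fun a => ?_
    rw [IsScalarTower.algebraMap_apply A (AdicCompletion (maximalIdeal A) A)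
      (AdicCompletion (maximalIdeal A) A ⧸ mA'),
      IsScalarTower.algebraMap_apply A (AdicCompletion (maximalIdeal B) B)
      (AdicCompletion (maximalIdeal B) B ⧸ J),
      IsScalarTower.algebraMap_apply A (AdicCompletion (maximalIdeal A) A)
      (AdicCompletion (maximalIdeal B) B)]
    rfl
  haveI hfuC : Algebra.FormallyUnramified A (AdicCompletion (maximalIdeal B) B ⧸ J) :=
    Algebra.FormallyUnramified.comp A (AdicCompletion (maximalIdeal A) A ⧸ mA') _
  have hftC : Algebra.FiniteType A (AdicCompletion (maximalIdeal B) B ⧸ J) :=
    Algebra.FiniteType.trans hftk inferInstance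
  let e : (AdicCompletion (maximalIdeal B) B ⧸ J) ≃ₐ[A] ResidueField B :=
    (quotEquiv B J hJeq').restrictScalars A
  haveI : Algebra.FormallyUnramified A (ResidueField B) := Algebra.FormallyUnramified.of_equiv e
  haveI : Algebra.FiniteType A (ResidueField B) := hftC.equiv e
  haveI : Algebra.FormallyUnramified (ResidueField A) (ResidueField B) :=
    Algebra.FormallyUnramified.of_restrictScalars A _ _
  haveI : Algebra.FiniteType (ResidueField A) (ResidueField B) :=
    Algebra.FiniteType.of_restrictScalars_finiteType A _ _
  exact ⟨Algebra.FormallyUnramified.finite_of_free _ _,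
    Algebra.FormallyUnramified.isSeparable _ _⟩

end Main

/-- **S9561**. -/
theorem main_S9561 (A B : Type u) [CommRing A] [CommRing B]
    [IsLocalRing A] [IsLocalRing B] [IsNoetherianRing A] [IsNoetherianRing B] [Algebra A B]
    [IsLocalHom (algebraMap A B)]
    (ψ : AdicCompletion (maximalIdeal A) A →+* AdicCompletion (maximalIdeal B) B)
    (hψ : ψ.comp (algebraMap A (AdicCompletion (maximalIdeal A) A)) =
      (algebraMap B (AdicCompletion (maximalIdeal B) B)).comp (algebraMap A B)) :
    ((maximalIdeal A).map (algebraMap A B) = maximalIdeal B ∧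
        Module.Finite (ResidueField A) (ResidueField B) ∧
        Algebra.IsSeparable (ResidueField A) (ResidueField B)) ↔
      (ψ.FiniteType ∧ ψ.FormallyUnramified) := by
  letI : Algebra (AdicCompletion (maximalIdeal A) A) (AdicCompletion (maximalIdeal B) B) :=
    ψ.toAlgebra
  haveI : IsScalarTower A (AdicCompletion (maximalIdeal A) A)
      (AdicCompletion (maximalIdeal B) B) := by
    refine IsScalarTower.of_algebraMap_eq (fun a => ?_)
    have := RingHom.congr_fun hψ a
    rw [IsScalarTower.algebraMap_apply A B (AdicCompletion (maximalIdeal B) B)]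
    exact this.symm
  constructor
  · rintro ⟨hm, hfin, hsep⟩
    obtain ⟨h1, h2⟩ := finite_and_unramified_of_unramified A B hm
    exact ⟨@Module.Finite.finiteType _ _ _ _ _ h1, h2⟩
  · rintro ⟨h1, h2⟩
    haveI : Algebra.FiniteType (AdicCompletion (maximalIdeal A) A)
        (AdicCompletion (maximalIdeal B) B) := h1
    haveI : Algebra.FormallyUnramified (AdicCompletion (maximalIdeal A) A)
        (AdicCompletion (maximalIdeal B) B) := h2
    exact unramified_of_finiteType_of_formallyUnramified A B

end Groth.Agent.Helper3.UnrCpl
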