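import Mathlib
import Groth.Agent.Lib.Helper3.UnrCpl2
import Groth.Agent.Lib.Helper7.ComplFlat.Main
import Groth.Agent.Lib.Helper6.FlatUnram.Ring

/-!
# Étale local homomorphisms and completions
-/

set_option autoImplicit false

namespace Groth.Agent.Helper3.UnrCpl

open IsLocalRing TensorProduct

universe u

/-- **S9562**. -/
theorem main_S9562 (A B : Type u) [CommRing A] [CommRing B]
    [IsLocalRing A] [IsLocalRing B] [IsNoetherianRing A] [IsNoetherianRing B] [Algebra A B]
    [IsLocalHom (algebraMap A B)]
    (ψ : AdicCompletion (maximalIdeal A) A →+* AdicCompletion (maximalIdeal B) B)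
    (hψ : ψ.comp (algebraMap A (AdicCompletion (maximalIdeal A) A)) =
      (algebraMap B (AdicCompletion (maximalIdeal B) B)).comp (algebraMap A B)) :
    ((Module.Flat A B ∧ (maximalIdeal A).map (algebraMap A B) = maximalIdeal B ∧
        Module.Finite (ResidueField A) (ResidueField B) ∧
        Algebra.IsSeparable (ResidueField A) (ResidueField B)) ↔ ψ.Etale) ∧
      (ψ.Etale →
        letI := ψ.toAlgebra
        ∃ n : ℕ, 0 < n ∧
          Nonempty ((Fin n → AdicCompletion (maximalIdeal A) A) ≃ₗ[AdicCompletion (maximalIdeal A) A]
            AdicCompletion (maximalIdeal B) B)) := by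
  have hflatiff := Groth.Agent.Helper7.ComplFlat.main A B ψ hψ
  letI : Algebra (AdicCompletion (maximalIdeal A) A) (AdicCompletion (maximalIdeal B) B) :=
    ψ.toAlgebra
  haveI : IsScalarTower A (AdicCompletion (maximalIdeal A) A)
      (AdicCompletion (maximalIdeal B) B) := by
    refine IsScalarTower.of_algebraMap_eq (fun a => ?_)
    have := RingHom.congr_fun hψ a
    rw [IsScalarTower.algebraMap_apply A B (AdicCompletion (maximalIdeal B) B)]
    exact this.symm
  haveI := isNoetherianRing_cpl A
  haveI := isNoetherianRing_cpl B
  have hψflat : ψ.Flat ↔ Module.Flat (AdicCompletion (maximalIdeal A) A)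
      (AdicCompletion (maximalIdeal B) B) := Iff.rfl
  have hfwd : (Module.Flat A B ∧ (maximalIdeal A).map (algebraMap A B) = maximalIdeal B ∧
        Module.Finite (ResidueField A) (ResidueField B) ∧
        Algebra.IsSeparable (ResidueField A) (ResidueField B)) →
      Algebra.Etale (AdicCompletion (maximalIdeal A) A) (AdicCompletion (maximalIdeal B) B) ∧
      Module.Finite (AdicCompletion (maximalIdeal A) A) (AdicCompletion (maximalIdeal B) B) ∧
      Module.Flat (AdicCompletion (maximalIdeal A) A) (AdicCompletion (maximalIdeal B) B) := by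
    rintro ⟨hfl, hm, hfin, hsep⟩
    obtain ⟨h1, h2⟩ := finite_and_unramified_of_unramified A B hm
    haveI := h1
    haveI := h2
    haveI hfl' : Module.Flat (AdicCompletion (maximalIdeal A) A)
        (AdicCompletion (maximalIdeal B) B) :=
      hψflat.mp (hflatiff.mpr ((RingHom.flat_algebraMap_iff).mpr hfl))
    haveI : Algebra.FiniteType (AdicCompletion (maximalIdeal A) A)
        (AdicCompletion (maximalIdeal B) B) := Module.Finite.finiteType _
    haveI : Algebra.FormallyEtale (AdicCompletion (maximalIdeal A) A)
        (AdicCompletion (maximalIdeal B) B) :=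
      Groth.Agent.Lib.Helper6.FlatUnram.formallyEtale_of_flat_of_formallyUnramified _ _
    haveI : Algebra.FinitePresentation (AdicCompletion (maximalIdeal A) A)
        (AdicCompletion (maximalIdeal B) B) :=
      Algebra.FinitePresentation.of_finiteType.mp inferInstance
    exact ⟨{}, h1, hfl'⟩
  have hbwd : Algebra.Etale (AdicCompletion (maximalIdeal A) A)
        (AdicCompletion (maximalIdeal B) B) →
      (Module.Flat A B ∧ (maximalIdeal A).map (algebraMap A B) = maximalIdeal B ∧
        Module.Finite (ResidueField A) (ResidueField B) ∧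
        Algebra.IsSeparable (ResidueField A) (ResidueField B)) := by
    intro het
    haveI := het
    haveI : Algebra.FiniteType (AdicCompletion (maximalIdeal A) A)
        (AdicCompletion (maximalIdeal B) B) := inferInstance
    have h1 := unramified_of_finiteType_of_formallyUnramified A B
    have hfl : Module.Flat (AdicCompletion (maximalIdeal A) A)
        (AdicCompletion (maximalIdeal B) B) := inferInstance
    exact ⟨(RingHom.flat_algebraMap_iff).mp (hflatiff.mp (hψflat.mpr hfl)), h1⟩
  refine ⟨⟨fun h => (hfwd h).1, hbwd⟩, ?_⟩
  intro het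
  obtain ⟨-, hfin, hfl⟩ := hfwd (hbwd het)
  haveI := hfin
  haveI := hfl
  haveI : Module.Free (AdicCompletion (maximalIdeal A) A) (AdicCompletion (maximalIdeal B) B) :=
    Module.free_of_flat_of_isLocalRing
  refine ⟨Module.finrank (AdicCompletion (maximalIdeal A) A) (AdicCompletion (maximalIdeal B) B),
    (Module.finrank_pos_iff_of_free _ _).mpr inferInstance, ?_⟩
  exact ⟨(Module.finBasis (AdicCompletion (maximalIdeal A) A)
    (AdicCompletion (maximalIdeal B) B)).equivFun.symm⟩

end Groth.Agent.Helper3.UnrCpl
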