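import Mathlib
import Groth.Prelude.Def_HTop

set_option autoImplicit false
open CategoryTheory CategoryTheory.Limits AlgebraicGeometry Opposite
universe w u

namespace H3VLim

section Ring

variable {V : Type u} [CommRing V] [IsDomain V] [ValuationRing V]
variable {A : Type u} [CommRing A]

/-- elements of the extended maximal ideal of a valuation ring are single multiples -/
theorem mem_map_maximalIdeal (ρ : V →+* A) {x : A}
    (hx : x ∈ Ideal.map ρ (IsLocalRing.maximalIdeal V)) :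
    ∃ m ∈ IsLocalRing.maximalIdeal V, ∃ a : A, x = ρ m * a := by
  unfold Ideal.map at hx
  induction hx using Submodule.span_induction with
  | mem x hx =>
    obtain ⟨m, hm, rfl⟩ := hx
    exact ⟨m, hm, 1, by simp⟩
  | zero => exact ⟨0, Ideal.zero_mem _, 0, by simp⟩
  | add x y _ _ hx hy =>
    obtain ⟨m₁, hm₁, a₁, rfl⟩ := hx
    obtain ⟨m₂, hm₂, a₂, rfl⟩ := hy
    rcases ValuationRing.dvd_total m₁ m₂ with ⟨d, rfl⟩ | ⟨d, rfl⟩
    · exact ⟨m₁, hm₁, a₁ + ρ d * a₂, by rw [map_mul]; ring⟩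
    · exact ⟨m₂, hm₂, ρ d * a₁ + a₂, by rw [map_mul]; ring⟩
  | smul r x _ hx =>
    obtain ⟨m, hm, a, rfl⟩ := hx
    exact ⟨m, hm, r * a, by rw [smul_eq_mul]; ring⟩

/-- the `V`-torsion ideal of `A` -/
def tors (ρ : V →+* A) : Ideal A where
  carrier := {a | ∃ c : V, c ≠ 0 ∧ ρ c * a = 0}
  zero_mem' := ⟨1, one_ne_zero, by simp⟩
  add_mem' := by
    rintro a b ⟨c, hc, h1⟩ ⟨d, hd, h2⟩
    refine ⟨c * d, mul_ne_zero hc hd, ?_⟩
    have e1 : ρ (c * d) * (a + b) = ρ d * (ρ c * a) + ρ c * (ρ d * b) := by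
      rw [map_mul]; ring
    rw [e1, h1, h2]; simp
  smul_mem' := by
    rintro r a ⟨c, hc, h⟩
    refine ⟨c, hc, ?_⟩
    rw [smul_eq_mul, mul_left_comm, h, mul_zero]

theorem stage_ne {W : Type u} [CommRing W] [IsDomain W]
    (ρ : V →+* A) (ψ : A →+* W) (hinj : Function.Injective (ψ.comp ρ))
    (hloc : IsLocalHom (ψ.comp ρ))
    (c : V) (hc : c ≠ 0) (m : V) (hm : m ∈ IsLocalRing.maximalIdeal V) (a : A) :
    ρ c * (1 - ρ m * a) ≠ 0 := by
  intro h0
  have h1 := congrArg ψ h0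
  rw [map_mul, map_sub, map_one, map_mul, map_zero] at h1
  have hc' : ψ (ρ c) ≠ 0 := by
    intro h
    exact hc (hinj (by rw [RingHom.comp_apply, h, map_zero]))
  have h2 : ψ (ρ m) * ψ a = 1 := by
    have := (mul_eq_zero.mp h1).resolve_left hc'
    exact (sub_eq_zero.mp this).symm
  have hu : IsUnit ((ψ.comp ρ) m) := IsUnit.of_mul_eq_one _ h2
  have := hloc.map_nonunit m hu
  exact (IsLocalRing.mem_maximalIdeal m).mp hm this

theorem exists_valuationRing (ρ : V →+* A)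
    (H : ∀ c : V, c ≠ 0 → ∀ m ∈ IsLocalRing.maximalIdeal V, ∀ a : A,
      ρ c * (1 - ρ m * a) ≠ 0) :
    ∃ (W : Type u) (_ : CommRing W) (_ : IsDomain W) (_ : ValuationRing W) (ψ : A →+* W),
      Function.Injective (ψ.comp ρ) ∧ IsLocalHom (ψ.comp ρ) := by
  classical
  have hne : tors ρ ⊔ Ideal.map ρ (IsLocalRing.maximalIdeal V) ≠ ⊤ := by
    intro htop
    have h1 : (1 : A) ∈ tors ρ ⊔ Ideal.map ρ (IsLocalRing.maximalIdeal V) := by
      rw [htop]; trivial
    obtain ⟨t, ht, x, hx, htx⟩ := Submodule.mem_sup.mp h1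
    obtain ⟨m, hm, a, rfl⟩ := mem_map_maximalIdeal ρ hx
    obtain ⟨c, hc, hct⟩ := ht
    apply H c hc m hm a
    have : t = 1 - ρ m * a := by rw [← htx]; ring
    rw [← this, hct]
  obtain ⟨q, hqmax, hq⟩ := Ideal.exists_le_maximal _ hne
  haveI hqprime : q.IsPrime := hqmax.isPrime
  let M : Submonoid A := q.primeCompl ⊔ Submonoid.map ρ (nonZeroDivisors V)
  have hdisj : Disjoint ((⊥ : Ideal A) : Set A) (M : Set A) := by
    rw [Set.disjoint_left]
    intro x hx hxM
    have hx0 : x = 0 := hx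
    obtain ⟨s, hs, z, hz, hsz⟩ := Submonoid.mem_sup.mp hxM
    obtain ⟨c, hc, rfl⟩ := Submonoid.mem_map.mp hz
    have hc0 : c ≠ 0 := nonZeroDivisors.ne_zero hc
    apply (Ideal.mem_primeCompl_iff.mp hs)
    apply hq
    apply Ideal.mem_sup_left
    exact ⟨c, hc0, by rw [mul_comm, hsz, hx0]⟩
  obtain ⟨q', hq'prime, -, hq'⟩ := Ideal.exists_le_prime_disjoint (⊥ : Ideal A) M hdisj
  haveI := hq'prime
  have hq'q : q' ≤ q := by
    intro a ha
    by_contra hna
    exact (Set.disjoint_left.mp hq') ha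
      (Submonoid.mem_sup_left (show a ∈ q.primeCompl from hna))
  have hVq' : ∀ c : V, c ≠ 0 → ρ c ∉ q' := by
    intro c hc hmem
    exact Set.disjoint_left.mp hq' hmem
      (Submonoid.mem_sup_right
        (Submonoid.mem_map_of_mem ρ (mem_nonZeroDivisors_of_ne_zero hc)))
  have hmq : ∀ m ∈ IsLocalRing.maximalIdeal V, ρ m ∈ q := fun m hm =>
    hq (Ideal.mem_sup_right (Ideal.mem_map_of_mem ρ hm))
  let K := q'.ResidueField
  let R := Localization.AtPrime q
  have hg : ∀ y : q.primeCompl, IsUnit (algebraMap A K y) := by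
    intro y
    rw [isUnit_iff_ne_zero]
    intro h0
    rw [Ideal.algebraMap_residueField_eq_zero] at h0
    exact y.2 (hq'q h0)
  let f : R →+* K := IsLocalization.lift (M := q.primeCompl) (S := R) hg
  have hf : ∀ a : A, f (algebraMap A R a) = algebraMap A K a := fun a =>
    IsLocalization.lift_eq hg a
  obtain ⟨B, hB, hlocB⟩ := IsLocalRing.exists_factor_valuationRing f
  let ψ : A →+* B := (f.codRestrict B.toSubring hB).comp (algebraMap A R)
  have hψ : ∀ a : A, ((ψ a : B) : K) = algebraMap A K a := fun a => hf a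
  refine ⟨B, inferInstance, inferInstance, inferInstance, ψ, ?_, ?_⟩
  · rw [injective_iff_map_eq_zero]
    intro c hc0
    by_contra hne
    apply hVq' c hne
    rw [← Ideal.algebraMap_residueField_eq_zero, ← hψ]
    have : ψ (ρ c) = 0 := hc0
    rw [this]; rfl
  · refine ⟨fun v hv => ?_⟩
    by_contra hnu
    have hm : v ∈ IsLocalRing.maximalIdeal V := (IsLocalRing.mem_maximalIdeal v).mpr hnu
    have h1 : IsUnit ((f.codRestrict B.toSubring hB) (algebraMap A R (ρ v))) := hv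
    have h2 : IsUnit (algebraMap A R (ρ v)) := hlocB.map_nonunit _ h1
    have h3 := (IsLocalization.AtPrime.isUnit_to_map_iff R q (ρ v)).mp h2
    exact h3 (hmq v hm)

end Ring

section Sch

theorem exists_lift_of_stages {I : Type u} [SmallCategory I] [IsCofiltered I]
    (D' : I ⥤ Scheme.{u}) (c' : Cone D') (hc' : IsLimit c') [∀ i, IsAffine (D'.obj i)]
    (V : CommRingCat.{u}) [IsDomain V] [ValuationRing V]
    (s : c'.pt ⟶ Spec V) (si : ∀ i, D'.obj i ⟶ Spec V)
    (hs : ∀ i, c'.π.app i ≫ si i = s)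
    (hsi : ∀ {i j : I} (f : i ⟶ j), D'.map f ≫ si j = si i)
    (H : ∀ i, ∃ (W : CommRingCat.{u}) (_ : IsDomain W) (_ : ValuationRing W) (φ : V ⟶ W),
        HTop.IsExtVal V W φ ∧ ∃ h : Spec W ⟶ D'.obj i, h ≫ si i = Spec.map φ) :
    ∃ (W : CommRingCat.{u}) (_ : IsDomain W) (_ : ValuationRing W) (φ : V ⟶ W),
        HTop.IsExtVal V W φ ∧ ∃ h : Spec W ⟶ c'.pt, h ≫ s = Spec.map φ := by
  haveI : IsAffine c'.pt := Scheme.isAffine_of_isLimit c' hc'
  let ρ : V ⟶ Γ(c'.pt, ⊤) := (Scheme.ΓSpecIso V).inv ≫ s.appTop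
  let ρi : ∀ i, V ⟶ Γ(D'.obj i, ⊤) := fun i => (Scheme.ΓSpecIso V).inv ≫ (si i).appTop
  have hρπ : ∀ i (x : V), (c'.π.app i).appTop.hom ((ρi i).hom x) = ρ.hom x := by
    intro i x
    have : ρi i ≫ (c'.π.app i).appTop = ρ := by
      simp only [ρi, ρ, Category.assoc, ← Scheme.Hom.comp_appTop, hs]
    rw [← this]; rfl
  have hρmap : ∀ {i j : I} (f : i ⟶ j) (x : V),
      (D'.map f).appTop.hom ((ρi j).hom x) = (ρi i).hom x := by
    intro i j f x
    have : ρi j ≫ (D'.map f).appTop = ρi i := by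
      simp only [ρi, Category.assoc, ← Scheme.Hom.comp_appTop, hsi]
    rw [← this]; rfl
  have hstage : ∀ i (c₀ : V), c₀ ≠ 0 → ∀ m ∈ IsLocalRing.maximalIdeal V,
      ∀ a : Γ(D'.obj i, ⊤), (ρi i).hom c₀ * (1 - (ρi i).hom m * a) ≠ 0 := by
    intro i c₀ hc₀ m hm a
    obtain ⟨W, hd, hv, φ, ⟨hinj, hloc⟩, h, hh⟩ := H i
    let ψ : Γ(D'.obj i, ⊤) ⟶ W := h.appTop ≫ (Scheme.ΓSpecIso W).hom
    have hψ : ρi i ≫ ψ = φ := by
      calc ρi i ≫ ψ
          = (Scheme.ΓSpecIso V).inv ≫ ((si i).appTop ≫ h.appTop) ≫ (Scheme.ΓSpecIso W).hom := by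
            simp only [ρi, ψ, Category.assoc]
        _ = (Scheme.ΓSpecIso V).inv ≫ (Spec.map φ).appTop ≫ (Scheme.ΓSpecIso W).hom := by
            rw [← Scheme.Hom.comp_appTop, hh]
        _ = φ := by rw [Scheme.ΓSpecIso_naturality, Iso.inv_hom_id_assoc]
    have hcomp : ψ.hom.comp (ρi i).hom = φ.hom := by rw [← CommRingCat.hom_comp, hψ]
    refine stage_ne (ρi i).hom ψ.hom ?_ ?_ c₀ hc₀ m hm a
    · rw [hcomp]; exact hinj
    · rw [hcomp]; exact hloc
  have hmain : ∀ c₀ : V, c₀ ≠ 0 → ∀ m ∈ IsLocalRing.maximalIdeal V, ∀ a : Γ(c'.pt, ⊤),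
      ρ.hom c₀ * (1 - ρ.hom m * a) ≠ 0 := by
    intro c₀ hc₀ m hm a h0
    obtain ⟨i, t, ht⟩ := exists_appTop_π_eq_of_isAffine_of_isLimit D' c' hc' a
    let e : Γ(D'.obj i, ⊤) := (ρi i).hom c₀ * (1 - (ρi i).hom m * t)
    have ht' : (c'.π.app i).appTop.hom t = a := ht
    have he : (c'.π.app i).appTop.hom e = 0 := by
      simp only [e, map_mul, map_sub, map_one, hρπ, ht']
      exact h0
    obtain ⟨j, f, hj⟩ := exists_appTop_map_eq_zero_of_isAffine_of_isLimit D' c' hc' i e he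
    have hj' : (D'.map f).appTop.hom e = 0 := hj
    simp only [e, map_mul, map_sub, map_one, hρmap] at hj'
    exact hstage j c₀ hc₀ m hm _ hj'
  obtain ⟨W₀, iW, iD, iV, ψ, hinj, hloc⟩ := exists_valuationRing ρ.hom hmain
  let W : CommRingCat.{u} := CommRingCat.of W₀
  let φ : V ⟶ W := ρ ≫ CommRingCat.ofHom ψ
  refine ⟨W, iD, iV, φ, ⟨hinj, hloc⟩, Spec.map (CommRingCat.ofHom ψ) ≫ c'.pt.isoSpec.inv, ?_⟩
  rw [Category.assoc, ← Scheme.isoSpec_inv_naturality, Scheme.isoSpec_Spec_inv,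
    ← Spec.map_comp, ← Spec.map_comp]

variable {Y : Scheme.{u}} [IsAffine Y] {I : Type u} [SmallCategory I] [IsCofiltered I]
  (D : I ⥤ Over Y) [∀ i, IsAffine (D.obj i).left] (c : Cone D)

/-- base-changed diagram -/
noncomputable abbrev bcD {T : Scheme.{u}} (g : T ⟶ Y) : I ⥤ Scheme.{u} :=
  (D ⋙ Over.pullback g) ⋙ Over.forget T

noncomputable abbrev bcC {T : Scheme.{u}} (g : T ⟶ Y) : Cone (bcD D g) :=
  (Over.forget T).mapCone ((Over.pullback g).mapCone c)

noncomputable def isLimitBcC (hc : IsLimit ((Over.forget Y).mapCone c))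
    {T : Scheme.{u}} (g : T ⟶ Y) : IsLimit (bcC D c g) := by
  have : IsConnected I := IsCofiltered.isConnected I
  have hc' : IsLimit c := isLimitOfReflects (Over.forget Y) hc
  exact isLimitOfPreserves (Over.forget T) (isLimitOfPreserves (Over.pullback g) hc')

variable {D c}

theorem hasValLift_of_stages (hc : IsLimit ((Over.forget Y).mapCone c))
    (H : ∀ i, HTop.HasValLift (PreZeroHypercover.singleton.{w} (D.obj i).hom)) :
    HTop.HasValLift (PreZeroHypercover.singleton.{w} c.pt.hom) := by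
  intro V _ _ g
  haveI : ∀ i, IsAffine ((bcD D g).obj i) := fun i => by
    show IsAffine (pullback (D.obj i).hom g)
    infer_instance
  let s : (bcC D c g).pt ⟶ Spec V := pullback.snd c.pt.hom g
  let si : ∀ i, (bcD D g).obj i ⟶ Spec V := fun i => pullback.snd (D.obj i).hom g
  obtain ⟨W, hd, hv, φ, hext, h, hh⟩ := exists_lift_of_stages (bcD D g) (bcC D c g)
    (isLimitBcC D c hc g) V s si
    (fun i => Over.w ((Over.pullback g).map (c.π.app i)))
    (fun {i j} f => Over.w ((Over.pullback g).map (D.map f)))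
    (fun i => by
      obtain ⟨W, hd, hv, φ, hext, j, g', hg'⟩ := H i V g
      let g'' : Spec W ⟶ (D.obj i).left := g'
      have hg'' : g'' ≫ (D.obj i).hom = Spec.map φ ≫ g := hg'
      exact ⟨W, hd, hv, φ, hext, pullback.lift g'' (Spec.map φ) hg'',
        pullback.lift_snd _ _ _⟩)
  let h' : Spec W ⟶ pullback c.pt.hom g := h
  have hh' : h' ≫ pullback.snd c.pt.hom g = Spec.map φ := hh
  refine ⟨W, hd, hv, φ, hext, PUnit.unit,
    (h' ≫ pullback.fst c.pt.hom g : Spec W ⟶ c.pt.left), ?_⟩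
  show (h' ≫ pullback.fst c.pt.hom g) ≫ c.pt.hom = Spec.map φ ≫ g
  rw [Category.assoc, pullback.condition, ← Category.assoc, hh']

theorem main (hc : IsLimit ((Over.forget Y).mapCone c)) :
    HTop.IsStandardV (PreZeroHypercover.singleton.{w} c.pt.hom) ↔
      ∀ i, HTop.IsStandardV (PreZeroHypercover.singleton.{w} (D.obj i).hom) := by
  constructor
  · intro h i
    refine ⟨inferInstance, ?_, ?_, ?_⟩
    · show Finite PUnit
      infer_instance
    · intro j
      show IsAffine (D.obj i).left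
      infer_instance
    · intro V _ _ g
      obtain ⟨W, hd, hv, φ, hext, j, g', hg'⟩ := h.lift V g
      let g'' : Spec W ⟶ c.pt.left := g'
      have hg'' : g'' ≫ c.pt.hom = Spec.map φ ≫ g := hg'
      refine ⟨W, hd, hv, φ, hext, PUnit.unit,
        (g'' ≫ (c.π.app i).left : Spec W ⟶ (D.obj i).left), ?_⟩
      show (g'' ≫ (c.π.app i).left) ≫ (D.obj i).hom = Spec.map φ ≫ g
      rw [Category.assoc, Over.w]
      exact hg''
  · intro h
    refine ⟨inferInstance, ?_, ?_, ?_⟩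
    · show Finite PUnit
      infer_instance
    · intro j
      show IsAffine c.pt.left
      haveI : ∀ i, IsAffine ((D ⋙ Over.forget Y).obj i) := fun i => by
        show IsAffine (D.obj i).left
        infer_instance
      exact Scheme.isAffine_of_isLimit _ hc
    · exact hasValLift_of_stages hc (fun i => (h i).lift)

end Sch

end H3VLim
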