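import Mathlib.CategoryTheory.Triangulated.TStructure.TruncLEGT
import Mathlib.CategoryTheory.Triangulated.TStructure.Heart
import Mathlib.CategoryTheory.Triangulated.Subcategory
import Mathlib.CategoryTheory.Triangulated.Functor
import Mathlib.CategoryTheory.Localization.Predicate
import Mathlib.CategoryTheory.Localization.CalculusOfFractions

/-!
# The t-structure induced on a Verdier quotient (BBD-style)

`C` triangulated with bounded t-structure `t`, `D` a triangulated subcategory closed under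
cohomology objects and whose heart part is closed under subobjects/quotients.
We show: for `X ≤ -1` and `s : X' ⟶ X` with cone in `D`, there is `w : X₃ ⟶ X'` with `X₃ ≤ -1`
and `w ≫ s` still in `D.trW`.  This gives Hom-vanishing in the localization.
-/

set_option autoImplicit false
universe v u v' u'
open CategoryTheory CategoryTheory.Limits CategoryTheory.Pretriangulated CategoryTheory.Triangulated

namespace Groth.Agent.Lib.Helper3.VerdT1

section

variable {C : Type u} [Category.{v} C] [Preadditive C] [HasZeroObject C] [HasShift C ℤ]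
    [∀ n : ℤ, (shiftFunctor C n).Additive] [Pretriangulated C] [IsTriangulated C]
    (t : TStructure C)
    (D : ObjectProperty C) [D.IsTriangulated] [D.IsClosedUnderIsomorphisms]

lemma truncGE_mem_aux (h1 : ∀ X : C, D X → ∀ n : ℤ, D ((t.truncGELE n n).obj X))
    (N : C) (hN : D N) (b : ℤ) (hb : t.IsLE N b) :
    ∀ (k : ℕ) (m : ℤ), b + 1 ≤ m + k → D ((t.truncGE m).obj N) := by
  intro k
  induction k with
  | zero =>
    intro m hm
    have : t.IsLE N (m - 1) := t.isLE_of_le N b (m - 1) (by lia)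
    exact D.prop_of_isZero (t.isZero_truncGE_obj_of_isLE (m - 1) m (by lia) N)
  | succ k ih =>
    intro m hm
    have h3 : D ((t.truncGE (m + 1)).obj N) := ih (m + 1) (by push_cast at hm ⊢; lia)
    have hT := t.triangleLEGE_distinguished m (m + 1) rfl ((t.truncGE m).obj N)
    have hiso : IsIso ((t.truncGE (m + 1)).map ((t.truncGEπ m).app N)) :=
      t.isIso_truncGE_map_truncGEπ_app (m + 1) m (by lia) N
    refine D.ext_of_isTriangulatedClosed₂ _ hT ?_ ?_
    · exact D.prop_of_iso ((t.truncGELEIsoLEGE m m).app N) (h1 N hN m)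
    · exact D.prop_of_iso (@asIso _ _ _ _ _ hiso) h3

lemma truncGE_mem (hb : ∀ X : C, t.bounded X)
    (h1 : ∀ X : C, D X → ∀ n : ℤ, D ((t.truncGELE n n).obj X))
    (N : C) (hN : D N) (m : ℤ) : D ((t.truncGE m).obj N) := by
  obtain ⟨b, hb'⟩ : t.minus N := ((ObjectProperty.prop_inf_iff _ _ _).1 (hb N)).2
  obtain ⟨k, hk⟩ : ∃ k : ℕ, b + 1 ≤ m + k := ⟨(b + 1 - m).toNat, by lia⟩
  exact truncGE_mem_aux t D h1 N hN b hb' k m hk

lemma truncLT_mem (hb : ∀ X : C, t.bounded X)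
    (h1 : ∀ X : C, D X → ∀ n : ℤ, D ((t.truncGELE n n).obj X))
    (N : C) (hN : D N) (m : ℤ) : D ((t.truncLT m).obj N) :=
  D.ext_of_isTriangulatedClosed₁ _ (t.triangleLTGE_distinguished m N) hN
    (truncGE_mem t D hb h1 N hN m)

/-- Key lemma: quotient in the heart. -/
lemma truncGE_zero_mem_of_triangle
    (h2 : ∀ (X Y Z : C) (f : X ⟶ Y) (g : Y ⟶ Z) (h : Z ⟶ X⟦(1 : ℤ)⟧),
      Triangle.mk f g h ∈ distTriang C → t.heart X → t.heart Y → t.heart Z → D Y → D X ∧ D Z)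
    (T : Triangle C) (hT : T ∈ distTriang C)
    (h₁ : t.IsLE T.obj₁ 0) (h₃ : t.IsLE T.obj₃ (-1)) (hD : D ((t.truncGE 0).obj T.obj₁)) :
    D ((t.truncGE 0).obj T.obj₂) := by
  have h₂ : t.IsLE T.obj₂ 0 := t.isLE₂ T hT 0 h₁ (t.isLE_of_le T.obj₃ (-1) 0)
  have epi : ∀ (W : C) (φ : (t.truncGE 0).obj T.obj₂ ⟶ W), t.IsGE W 0 →
      (t.truncGE 0).map T.mor₁ ≫ φ = 0 → φ = 0 := by
    intro W φ hW hφ
    have e1 : T.mor₁ ≫ (t.truncGEπ 0).app T.obj₂ ≫ φ = 0 := by
      have := (t.truncGEπ 0).naturality T.mor₁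
      dsimp at this
      rw [← Category.assoc, this, Category.assoc, hφ, comp_zero]
    obtain ⟨χ, hχ⟩ := Triangle.yoneda_exact₂ T hT _ e1
    have : χ = 0 := t.zero χ (-1) 0
    rw [this, comp_zero] at hχ
    exact t.from_truncGE_obj_ext (by rw [hχ, comp_zero])
  obtain ⟨K, g, h, hT'⟩ := distinguished_cocone_triangle ((t.truncGE 0).map T.mor₁)
  have hK1 : t.IsGE K (-1) :=
    t.isGE₂ _ (rot_of_distTriang _ hT') (-1)
      (t.isGE_of_ge ((t.truncGE 0).obj T.obj₂) (-1) 0)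
      (t.isGE_shift ((t.truncGE 0).obj T.obj₁) 0 1 (-1))
  have hK2 : t.IsLE K (-1) := by
    rw [t.isLE_iff_orthogonal (-1) 0 rfl]
    intro Y f hY
    have e1 : g ≫ f = 0 := epi _ (g ≫ f) hY (by
      rw [← Category.assoc]
      have : (t.truncGE 0).map T.mor₁ ≫ g = 0 := comp_distTriang_mor_zero₁₂ _ hT'
      rw [this, zero_comp])
    obtain ⟨f', hf'⟩ : ∃ f' : ((t.truncGE 0).obj T.obj₁)⟦(1 : ℤ)⟧ ⟶ Y, f = h ≫ f' :=
      Triangle.yoneda_exact₃ _ hT' f e1
    have : t.IsLE (((t.truncGE 0).obj T.obj₁)⟦(1 : ℤ)⟧) (-1) :=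
      t.isLE_shift ((t.truncGE 0).obj T.obj₁) 0 1 (-1)
    have : f' = 0 := t.zero_of_isLE_of_isGE f' (-1) 0 (by lia) this hY
    rw [hf', this, comp_zero]
  have hK : t.heart (K⟦(-1 : ℤ)⟧) := by
    rw [t.mem_heart_iff]
    exact ⟨t.isLE_shift K (-1) (-1) 0, t.isGE_shift K (-1) (-1) 0⟩
  have hB : t.heart ((t.truncGE 0).obj T.obj₁) := by
    rw [t.mem_heart_iff]
    exact ⟨inferInstance, inferInstance⟩
  have hZ : t.heart ((t.truncGE 0).obj T.obj₂) := by
    rw [t.mem_heart_iff]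
    exact ⟨inferInstance, inferInstance⟩
  exact (h2 (K⟦(-1 : ℤ)⟧) _ _ _ _ _ (inv_rot_of_distTriang _ hT') hK hB hZ hD).2

/-- Main lemma in `C`. -/
lemma exists_le_refinement (hb : ∀ X : C, t.bounded X)
    (h1 : ∀ X : C, D X → ∀ n : ℤ, D ((t.truncGELE n n).obj X))
    (h2 : ∀ (X Y Z : C) (f : X ⟶ Y) (g : Y ⟶ Z) (h : Z ⟶ X⟦(1 : ℤ)⟧),
      Triangle.mk f g h ∈ distTriang C → t.heart X → t.heart Y → t.heart Z → D Y → D X ∧ D Z)
    {X X' : C} (hX : t.IsLE X (-1)) (s : X' ⟶ X) (hs : D.trW s) :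
    ∃ (X₃ : C) (w : X₃ ⟶ X'), t.IsLE X₃ (-1) ∧ D.trW (w ≫ s) := by
  obtain ⟨N, a, b, hT, hN⟩ := (D.trW_iff s).1 hs
  have hN₀ : D ((t.truncLT 0).obj N) := truncLT_mem t D hb h1 N hN 0
  have ha₀ := t.liftTruncLT_ι a (-1) 0 (by lia)
  obtain ⟨X'', s'', c, hT''⟩ := distinguished_cocone_triangle₁ (t.liftTruncLT a (-1) 0 (by lia))
  have e1 : s'' ≫ a = 0 := by
    rw [← ha₀, ← Category.assoc]
    have : s'' ≫ t.liftTruncLT a (-1) 0 (by lia) = 0 := comp_distTriang_mor_zero₁₂ _ hT''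
    rw [this, zero_comp]
  obtain ⟨u, hu⟩ : ∃ u : X'' ⟶ X', s'' = u ≫ s := Triangle.coyoneda_exact₂ _ hT s'' e1
  have hN₀' : t.IsLE ((t.truncLT 0).obj N) (-1) := t.isLE_truncLT_obj N 0 (-1) (by lia)
  have hZ : D ((t.truncGE 0).obj X'') :=
    truncGE_zero_mem_of_triangle t D h2 _ (inv_rot_of_distTriang _ hT'')
      (t.isLE_shift ((t.truncLT 0).obj N) (-1) (-1) 0) hX
      (truncGE_mem t D hb h1 _ (D.le_shift (-1 : ℤ) _ hN₀) 0)
  have hj : D.trW ((t.truncLTι 0).app X'') :=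
    ObjectProperty.trW.mk D (t.triangleLTGE_distinguished 0 X'') hZ
  have hs'' : D.trW s'' := ObjectProperty.trW.mk D hT'' hN₀
  refine ⟨(t.truncLT 0).obj X'', (t.truncLTι 0).app X'' ≫ u,
    t.isLE_truncLT_obj X'' 0 (-1) (by lia), ?_⟩
  rw [Category.assoc, ← hu]
  exact MorphismProperty.comp_mem D.trW _ _ hj hs''

end

end Groth.Agent.Lib.Helper3.VerdT1
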