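import Groth.Agent.Lib.Helper3.VerdT1

/-!
# The t-structure induced on a Verdier quotient, part 2: the t-structure on `E`.
-/

set_option autoImplicit false
universe v u v' u'
open CategoryTheory CategoryTheory.Limits CategoryTheory.Pretriangulated CategoryTheory.Triangulated

namespace Groth.Agent.Lib.Helper3.VerdT2

open Groth.Agent.Lib.Helper3.VerdT1

section

variable {C : Type u} [Category.{v} C] [Preadditive C] [HasZeroObject C] [HasShift C ℤ]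
    [∀ n : ℤ, (shiftFunctor C n).Additive] [Pretriangulated C] [IsTriangulated C]
    (t : TStructure C)
    (D : ObjectProperty C) [D.IsTriangulated] [D.IsClosedUnderIsomorphisms]
    {E : Type u'} [Category.{v'} E] [Preadditive E] [HasZeroObject E] [HasShift E ℤ]
    [∀ n : ℤ, (shiftFunctor E n).Additive] [Pretriangulated E]
    (q : C ⥤ E) [q.CommShift ℤ] [q.IsTriangulated] [q.IsLocalization D.trW]

/-- Hom-vanishing in the localization. -/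
lemma map_eq_zero (hb : ∀ X : C, t.bounded X)
    (h1 : ∀ X : C, D X → ∀ n : ℤ, D ((t.truncGELE n n).obj X))
    (h2 : ∀ (X Y Z : C) (f : X ⟶ Y) (g : Y ⟶ Z) (h : Z ⟶ X⟦(1 : ℤ)⟧),
      Triangle.mk f g h ∈ distTriang C → t.heart X → t.heart Y → t.heart Z → D Y → D X ∧ D Z)
    {X Y : C} (hX : t.IsLE X (-1)) (hY : t.IsGE Y 0) (f : q.obj X ⟶ q.obj Y) : f = 0 := by
  obtain ⟨φ, rfl⟩ := Localization.exists_rightFraction q D.trW f
  obtain ⟨X₃, w, hX₃, hw⟩ := exists_le_refinement t D hb h1 h2 hX φ.s φ.hs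
  have : IsIso (q.map (w ≫ φ.s)) := Localization.inverts q D.trW _ hw
  rw [← cancel_epi (q.map (w ≫ φ.s)), comp_zero, q.map_comp, Category.assoc,
    MorphismProperty.RightFraction.map_s_comp_map, ← q.map_comp,
    t.zero_of_isLE_of_isGE (w ≫ φ.f) (-1) 0 (by lia) hX₃ hY, q.map_zero]

/-- The property of being `≤ n` in the quotient. -/
def leE (n : ℤ) : ObjectProperty E := fun Y => ∃ X : C, t.IsLE X n ∧ Nonempty (q.obj X ≅ Y)

/-- The property of being `≥ n` in the quotient. -/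
def geE (n : ℤ) : ObjectProperty E := fun Y => ∃ X : C, t.IsGE X n ∧ Nonempty (q.obj X ≅ Y)

include D in
lemma zero_of_leE_geE (hb : ∀ X : C, t.bounded X)
    (h1 : ∀ X : C, D X → ∀ n : ℤ, D ((t.truncGELE n n).obj X))
    (h2 : ∀ (X Y Z : C) (f : X ⟶ Y) (g : Y ⟶ Z) (h : Z ⟶ X⟦(1 : ℤ)⟧),
      Triangle.mk f g h ∈ distTriang C → t.heart X → t.heart Y → t.heart Z → D Y → D X ∧ D Z)
    {A B : E} (f : A ⟶ B) (hA : leE t q 0 A) (hB : geE t q 1 B) : f = 0 := by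
  obtain ⟨X, hX, ⟨i⟩⟩ := hA
  obtain ⟨Y, hY, ⟨j⟩⟩ := hB
  apply (shiftFunctor E (1 : ℤ)).map_injective
  rw [Functor.map_zero]
  let i' : q.obj (X⟦(1 : ℤ)⟧) ≅ A⟦(1 : ℤ)⟧ :=
    (q.commShiftIso (1 : ℤ)).app X ≪≫ (shiftFunctor E (1 : ℤ)).mapIso i
  let j' : q.obj (Y⟦(1 : ℤ)⟧) ≅ B⟦(1 : ℤ)⟧ :=
    (q.commShiftIso (1 : ℤ)).app Y ≪≫ (shiftFunctor E (1 : ℤ)).mapIso j
  have := map_eq_zero t D q hb h1 h2 (t.isLE_shift X 0 1 (-1)) (t.isGE_shift Y 1 1 0)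
    (i'.hom ≫ f⟦(1 : ℤ)⟧' ≫ j'.inv)
  rw [← cancel_epi i'.hom, ← cancel_mono j'.inv, Category.assoc, this, comp_zero, zero_comp]

/-- The induced t-structure on the Verdier quotient. -/
noncomputable def tE (hb : ∀ X : C, t.bounded X)
    (h1 : ∀ X : C, D X → ∀ n : ℤ, D ((t.truncGELE n n).obj X))
    (h2 : ∀ (X Y Z : C) (f : X ⟶ Y) (g : Y ⟶ Z) (h : Z ⟶ X⟦(1 : ℤ)⟧),
      Triangle.mk f g h ∈ distTriang C → t.heart X → t.heart Y → t.heart Z → D Y → D X ∧ D Z) :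
    TStructure E where
  le n := leE t q n
  ge n := geE t q n
  le_isClosedUnderIsomorphisms n := ⟨fun e ⟨X, hX, ⟨i⟩⟩ => ⟨X, hX, ⟨i ≪≫ e⟩⟩⟩
  ge_isClosedUnderIsomorphisms n := ⟨fun e ⟨X, hX, ⟨i⟩⟩ => ⟨X, hX, ⟨i ≪≫ e⟩⟩⟩
  le_shift n a n' h Y := by
    rintro ⟨X, hX, ⟨i⟩⟩
    exact ⟨X⟦a⟧, t.isLE_shift X n a n' h,
      ⟨(q.commShiftIso a).app X ≪≫ (shiftFunctor E a).mapIso i⟩⟩
  ge_shift n a n' h Y := by
    rintro ⟨X, hX, ⟨i⟩⟩
    exact ⟨X⟦a⟧, t.isGE_shift X n a n' h,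
      ⟨(q.commShiftIso a).app X ≪≫ (shiftFunctor E a).mapIso i⟩⟩
  zero' A B f hA hB := zero_of_leE_geE t D q hb h1 h2 f hA hB
  le_zero_le := fun Y ⟨X, hX, i⟩ => ⟨X, t.isLE_of_le X 0 1, i⟩
  ge_one_le := fun Y ⟨X, hX, i⟩ => ⟨X, t.isGE_of_ge X 0 1, i⟩
  exists_triangle_zero_one A := by
    have : q.EssSurj := Localization.essSurj q D.trW
    let X := q.objPreimage A
    let e : q.obj X ≅ A := q.objObjPreimageIso A
    have hT := q.map_distinguished _ (t.triangleLTGE_distinguished 1 X)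
    refine ⟨q.obj ((t.truncLT 1).obj X), q.obj ((t.truncGE 1).obj X),
      ⟨_, t.isLE_truncLT_obj X 1 0 (by lia), ⟨Iso.refl _⟩⟩,
      ⟨_, inferInstance, ⟨Iso.refl _⟩⟩,
      q.map ((t.truncLTι 1).app X) ≫ e.hom, e.inv ≫ q.map ((t.truncGEπ 1).app X),
      q.map ((t.truncGEδLT 1).app X) ≫ (q.commShiftIso (1 : ℤ)).hom.app ((t.truncLT 1).obj X), ?_⟩
    refine isomorphic_distinguished _ hT _ ?_
    refine Triangle.isoMk _ _ (Iso.refl _) e.symm (Iso.refl _) ?_ ?_ ?_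
    · change (q.map ((t.truncLTι 1).app X) ≫ e.hom) ≫ e.inv = 𝟙 _ ≫ q.map ((t.truncLTι 1).app X)
      rw [Category.assoc, e.hom_inv_id]
      exact (Category.comp_id _).trans (Category.id_comp _).symm
    · change (e.inv ≫ q.map ((t.truncGEπ 1).app X)) ≫ 𝟙 _ = e.inv ≫ q.map ((t.truncGEπ 1).app X)
      rw [Category.comp_id]
    · change (q.map ((t.truncGEδLT 1).app X) ≫
          (q.commShiftIso (1 : ℤ)).hom.app ((t.truncLT 1).obj X)) ≫ (𝟙 _)⟦(1 : ℤ)⟧' =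
        𝟙 _ ≫ (q.map ((t.truncGEδLT 1).app X) ≫
          (q.commShiftIso (1 : ℤ)).hom.app ((t.truncLT 1).obj X))
      rw [CategoryTheory.Functor.map_id]
      exact (Category.comp_id _).trans (Category.id_comp _).symm

end

end Groth.Agent.Lib.Helper3.VerdT2
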