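import Groth.Agent.Lib.Helper3.VerdT2

/-!
# The t-structure induced on a Verdier quotient, part 3: uniqueness.
-/

set_option autoImplicit false
universe v u v' u'
open CategoryTheory CategoryTheory.Limits CategoryTheory.Pretriangulated CategoryTheory.Triangulated

namespace Groth.Agent.Lib.Helper3.VerdT3

open Groth.Agent.Lib.Helper3.VerdT1 Groth.Agent.Lib.Helper3.VerdT2

section

variable {C : Type u} [Category.{v} C] [Preadditive C] [HasZeroObject C] [HasShift C ℤ]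
    [∀ n : ℤ, (shiftFunctor C n).Additive] [Pretriangulated C] [IsTriangulated C]
    (t : TStructure C)
    (D : ObjectProperty C) [D.IsTriangulated] [D.IsClosedUnderIsomorphisms]
    {E : Type u'} [Category.{v'} E] [Preadditive E] [HasZeroObject E] [HasShift E ℤ]
    [∀ n : ℤ, (shiftFunctor E n).Additive] [Pretriangulated E]
    (q : C ⥤ E) [q.CommShift ℤ] [q.IsTriangulated] [q.IsLocalization D.trW]

lemma tstructure_ext {t₁ t₂ : TStructure E} (hle : t₁.le = t₂.le) (hge : t₁.ge = t₂.ge) :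
    t₁ = t₂ := by
  cases t₁; cases t₂
  dsimp at hle hge
  subst hle hge
  rfl

include D in
lemma le_of_exact (t'' : TStructure E)
    (hle : ∀ (X : C) (n : ℤ), t.IsLE X n → t''.IsLE (q.obj X) n)
    (hge : ∀ (X : C) (n : ℤ), t.IsGE X n → t''.IsGE (q.obj X) n)
    (Y : E) (n : ℤ) (hY : t''.IsLE Y n) : leE t q n Y := by
  have : q.EssSurj := Localization.essSurj q D.trW
  let X := q.objPreimage Y
  let e : q.obj X ≅ Y := q.objObjPreimageIso Y
  have hT := q.map_distinguished _ (t.triangleLTGE_distinguished (n + 1) X)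
  have h₁ : t''.IsLE (q.obj ((t.truncLT (n + 1)).obj X)) n :=
    hle _ _ (t.isLE_truncLT_obj X (n + 1) n (by lia))
  have h₃ : t''.IsGE (q.obj ((t.truncGE (n + 1)).obj X)) (n + 1) := hge _ _ inferInstance
  have h₂ : t''.IsLE (q.obj X) n := t''.isLE_of_iso e.symm n
  have e2 : q.map ((t.truncGEπ (n + 1)).app X) = 0 :=
    t''.zero_of_isLE_of_isGE _ n (n + 1) (by lia) h₂ h₃
  obtain ⟨r, hr⟩ : ∃ r : (q.obj ((t.truncLT (n + 1)).obj X))⟦(1 : ℤ)⟧ ⟶
      q.obj ((t.truncGE (n + 1)).obj X), 𝟙 (q.obj ((t.truncGE (n + 1)).obj X)) =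
      (q.mapTriangle.obj ((t.triangleLTGE (n + 1)).obj X)).mor₃ ≫ r :=
    Triangle.yoneda_exact₃ _ hT (𝟙 (q.obj ((t.truncGE (n + 1)).obj X)))
      ((Category.comp_id _).trans e2)
  have hr0 : r = 0 := t''.zero_of_isLE_of_isGE r (n - 1) (n + 1) (by lia)
    (t''.isLE_shift _ n 1 (n - 1)) h₃
  have hz : IsZero (q.obj ((t.truncGE (n + 1)).obj X)) := by
    rw [IsZero.iff_id_eq_zero, hr, hr0]
    exact comp_zero
  have hiso : IsIso (q.map ((t.truncLTι (n + 1)).app X)) :=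
    (Triangle.isZero₃_iff_isIso₁ _ hT).1 hz
  exact ⟨(t.truncLT (n + 1)).obj X, t.isLE_truncLT_obj X (n + 1) n (by lia),
    ⟨@asIso _ _ _ _ _ hiso ≪≫ e⟩⟩

include D in
lemma ge_of_exact (t'' : TStructure E)
    (hle : ∀ (X : C) (n : ℤ), t.IsLE X n → t''.IsLE (q.obj X) n)
    (hge : ∀ (X : C) (n : ℤ), t.IsGE X n → t''.IsGE (q.obj X) n)
    (Y : E) (n : ℤ) (hY : t''.IsGE Y n) : geE t q n Y := by
  have : q.EssSurj := Localization.essSurj q D.trW
  let X := q.objPreimage Y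
  let e : q.obj X ≅ Y := q.objObjPreimageIso Y
  have hT := q.map_distinguished _ (t.triangleLTGE_distinguished n X)
  have h₁ : t''.IsLE (q.obj ((t.truncLT n).obj X)) (n - 1) :=
    hle _ _ (t.isLE_truncLT_obj X n (n - 1) (by lia))
  have h₃ : t''.IsGE (q.obj ((t.truncGE n).obj X)) n := hge _ _ inferInstance
  have h₂ : t''.IsGE (q.obj X) n := t''.isGE_of_iso e.symm n
  have e2 : q.map ((t.truncLTι n).app X) = 0 :=
    t''.zero_of_isLE_of_isGE _ (n - 1) n (by lia) h₁ h₂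
  obtain ⟨r, hr⟩ := Triangle.coyoneda_exact₂ _ (inv_rot_of_distTriang _ hT)
      (𝟙 (q.obj ((t.truncLT n).obj X))) ((Category.id_comp _).trans e2)
  have hr0 : r = 0 := t''.zero_of_isLE_of_isGE r (n - 1) (n + 1) (by lia) h₁
    (t''.isGE_shift (q.obj ((t.truncGE n).obj X)) n (-1) (n + 1))
  have hz : IsZero (q.obj ((t.truncLT n).obj X)) := by
    rw [IsZero.iff_id_eq_zero, hr, hr0]
    exact zero_comp
  have hiso : IsIso (q.map ((t.truncGEπ n).app X)) :=
    (Triangle.isZero₁_iff_isIso₂ _ hT).1 hz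
  exact ⟨(t.truncGE n).obj X, inferInstance, ⟨(@asIso _ _ _ _ _ hiso).symm ≪≫ e⟩⟩

end

end Groth.Agent.Lib.Helper3.VerdT3
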