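import Mathlib
import Groth.Prelude.Def_FlatCA

/-!
# Weakly associated primes and finite ring maps
-/

namespace Groth.Agent.Helper3.WAss

open FlatCA

universe u v

section MinPrime

variable {B : Type u} [CommRing B]

/-- If `t` is minimal over `J` and `x ∈ t`, some `y ∉ t` and power `x ^ n` have `y * x ^ n ∈ J`. -/
theorem exists_mul_pow_mem_of_mem_minimalPrimes {J t : Ideal B} (ht : t ∈ J.minimalPrimes)
    {x : B} (hx : x ∈ t) : ∃ y, y ∉ t ∧ ∃ n : ℕ, y * x ^ n ∈ J := by
  haveI := ht.1.1
  by_contra hcon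
  push Not at hcon
  let S : Submonoid B := t.primeCompl ⊔ Submonoid.powers x
  have hdisj : Disjoint (J : Set B) (S : Set B) := by
    rw [Set.disjoint_left]
    intro z hzJ hzS
    obtain ⟨y, hy, w, ⟨n, rfl⟩, rfl⟩ := Submonoid.mem_sup.mp hzS
    exact hcon y hy n hzJ
  obtain ⟨t', ht', hJt', hd⟩ := Ideal.exists_le_prime_disjoint J S hdisj
  have hle : t' ≤ t := by
    intro z hz
    by_contra hzt
    have hzS : z ∈ S := Submonoid.mem_sup_left (show z ∈ t.primeCompl from hzt)
    exact Set.disjoint_left.mp hd hz hzS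
  have heq : t ≤ t' := ht.2 ⟨ht', hJt'⟩ hle
  exact Set.disjoint_left.mp hd (heq hx)
    (Submonoid.mem_sup_right (Submonoid.mem_powers x))

end MinPrime

section Finite

variable {A : Type u} {B : Type u} [CommRing A] [CommRing B] [Algebra A B] [Module.Finite A B]
  {N : Type v} [AddCommGroup N] [Module B N] [Module A N] [IsScalarTower A B N]

/-- Stacks 05C? : for a finite ring map, weakly associated primes of a `B`-module contract to
weakly associated primes over `A`. -/
theorem comap_mem_weakAss_of_finite {t : Ideal B} (ht : t ∈ weakAss B N) :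
    t.comap (algebraMap A B) ∈ weakAss A N := by
  classical
  obtain ⟨m, hm⟩ := ht
  haveI htp : t.IsPrime := hm.1.1
  set J := (Submodule.span B {m}).annihilator with hJ
  set p := t.comap (algebraMap A B) with hp
  haveI : p.IsPrime := Ideal.comap_isPrime _ _
  haveI : Algebra.IsIntegral A B := Algebra.IsIntegral.of_finite A B
  have hfin : (p.primesOver B).Finite := Algebra.QuasiFinite.finite_primesOver p
  -- the other primes over `p`
  let others : Finset (Ideal B) := hfin.toFinset.erase t
  have hothers : ∀ Q ∈ others, Q.IsPrime ∧ Q.comap (algebraMap A B) = p ∧ Q ≠ t := by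
    intro Q hQ
    rw [Finset.mem_erase, Set.Finite.mem_toFinset] at hQ
    exact ⟨hQ.2.1, (hQ.2.2.over).symm, hQ.1⟩
  -- pick `x ∈ t` outside the other primes
  have hx : ∃ x ∈ t, ∀ Q ∈ others, x ∉ Q := by
    by_contra hcon
    push Not at hcon
    have hsub : (t : Set B) ⊆ ⋃ Q ∈ (others : Set (Ideal B)), (Q : Set B) := by
      intro x hx
      obtain ⟨Q, hQ, hxQ⟩ := hcon x hx
      exact Set.mem_biUnion hQ hxQ
    obtain ⟨Q, hQ, htQ⟩ := (Ideal.subset_union_prime (s := others) (f := id) t t
      (fun Q hQ _ _ => (hothers Q hQ).1)).mp hsub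
    have hQ' := hothers Q hQ
    haveI := hQ'.1
    replace htQ : t ≤ Q := htQ
    have : t = Q := by
      by_contra hne
      have hlt : t < Q := lt_of_le_of_ne htQ hne
      obtain ⟨z, hzQ, hzt⟩ := Set.exists_of_ssubset hlt
      have := Ideal.comap_lt_comap_of_integral_mem_sdiff (R := A) htQ
        (show z ∈ (Q : Set B) \ t from ⟨hzQ, hzt⟩) (Algebra.IsIntegral.isIntegral z)
      rw [hQ'.2.1] at this
      exact lt_irrefl _ this
    exact hQ'.2.2 this.symm
  obtain ⟨x, hxt, hxo⟩ := hx
  obtain ⟨y, hyt, n, hyx⟩ := exists_mul_pow_mem_of_mem_minimalPrimes hm hxt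
  have hyxm : (y * x ^ n) • m = 0 := (Submodule.mem_annihilator_span_singleton _ _).mp hyx
  refine ⟨y • m, ⟨‹p.IsPrime›, ?_⟩, ?_⟩
  · -- `Ann_A (y m) ≤ p`
    intro a ha
    have ha' : a • y • m = 0 := (Submodule.mem_annihilator_span_singleton _ _).mp ha
    have h1 : (algebraMap A B a * y) ∈ J := by
      rw [hJ, Submodule.mem_annihilator_span_singleton, mul_smul, algebraMap_smul]
      exact ha'
    have h2 : algebraMap A B a * y ∈ t := hm.1.2 h1
    exact (htp.mem_or_mem h2).resolve_right hyt
  · -- minimality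
    rintro p' ⟨hp', hle'⟩ hp'p
    intro f hf
    by_contra hfp'
    -- the ideal of elements killing `f ^ k • y • m` for some `k`
    let Jf : Ideal B :=
      { carrier := {b | ∃ k : ℕ, (b * algebraMap A B f ^ k) • y • m = 0}
        zero_mem' := ⟨0, by simp⟩
        add_mem' := by
          rintro b c ⟨k, hk⟩ ⟨l, hl⟩
          refine ⟨k + l, ?_⟩
          have h1 : (b * algebraMap A B f ^ (k + l)) • y • m = 0 := by
            rw [pow_add, ← mul_assoc, mul_comm, mul_smul, hk, smul_zero]
          have h2 : (c * algebraMap A B f ^ (k + l)) • y • m = 0 := by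
            rw [pow_add, mul_comm (algebraMap A B f ^ k), ← mul_assoc, mul_comm, mul_smul, hl,
              smul_zero]
          rw [add_mul, add_smul, h1, h2, add_zero]
        smul_mem' := by
          rintro c b ⟨k, hk⟩
          refine ⟨k, ?_⟩
          rw [smul_eq_mul, mul_assoc, mul_smul, hk, smul_zero] }
    have hJf_t : ¬ Jf ≤ t := by
      intro hle
      obtain ⟨y', hy't, k, hy'⟩ := exists_mul_pow_mem_of_mem_minimalPrimes hm
        (show algebraMap A B f ∈ t from hf)
      apply hy't
      apply hle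
      refine ⟨k, ?_⟩
      have : (y' * algebraMap A B f ^ k) • m = 0 :=
        (Submodule.mem_annihilator_span_singleton _ _).mp hy'
      rw [smul_comm, this, smul_zero]
    have hJf_o : ∀ Q ∈ others, ¬ Jf ≤ Q := by
      intro Q hQ hle
      haveI := (hothers Q hQ).1
      have : x ^ n ∈ Jf := by
        refine ⟨0, ?_⟩
        rw [pow_zero, mul_one, ← mul_smul, mul_comm]
        exact hyxm
      exact hxo Q hQ (Ideal.IsPrime.mem_of_pow_mem inferInstance n (hle this))
    have hnot : ¬ Jf.comap (algebraMap A B) ≤ p := by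
      intro hle
      obtain ⟨Q, hQJ, hQp, hQc⟩ := Ideal.exists_ideal_over_prime_of_isIntegral p Jf hle
      by_cases hQt : Q = t
      · exact hJf_t (hQt ▸ hQJ)
      · have hQo : Q ∈ others := by
          rw [Finset.mem_erase, Set.Finite.mem_toFinset]
          exact ⟨hQt, hQp, ⟨hQc.symm⟩⟩
        exact hJf_o Q hQo hQJ
    obtain ⟨s, hsJ, hsp⟩ := Set.not_subset.mp hnot
    obtain ⟨k, hk⟩ := hsJ
    have h1 : (s * f ^ k) ∈ (Submodule.span A {y • m}).annihilator := by
      rw [Submodule.mem_annihilator_span_singleton]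
      rw [← algebraMap_smul B (s * f ^ k) (y • m), map_mul, map_pow]
      exact hk
    have h2 := hle' h1
    rcases hp'.mem_or_mem h2 with h3 | h3
    · exact hsp (hp'p h3)
    · exact hfp' (hp'.mem_of_pow_mem k h3)

end Finite

end Groth.Agent.Helper3.WAss
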