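import Mathlib
import Groth.Agent.S9581
import Groth.Agent.Lib.Helper3.WAss1

/-!
# Weakly associated primes under finite flat base change
-/

namespace Groth.Agent.Helper3.WAss

open FlatCA TensorProduct

universe u

section Pi

variable {R : Type*} [CommRing R] {X : Type*} [AddCommGroup X] [Module R X]

theorem isAssociatedPrime_of_pi {P : Ideal R} :
    ∀ (n : ℕ), IsAssociatedPrime P (Fin n → X) → IsAssociatedPrime P X := by
  intro n
  induction n with
  | zero =>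
    intro h
    exact absurd h not_isAssociatedPrime_of_subsingleton
  | succ n ih =>
    intro h
    have e := Fin.consLinearEquiv R (fun _ : Fin (n + 1) => X)
    have h1 : IsAssociatedPrime P (X × (Fin n → X)) := (e.isAssociatedPrime_iff).mpr h
    have h2 : P ∈ associatedPrimes R (X × (Fin n → X)) := h1
    rw [associatedPrimes.prod] at h2
    rcases h2 with h3 | h3
    · exact h3
    · exact ih h3

end Pi

section FiniteFlat

variable {A B : Type u} [CommRing A] [CommRing B] [Algebra A B] [Module.Finite A B]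
  [Module.Flat A B] (M : Type u) [AddCommGroup M] [Module A M]

/-- `(B ⊗ M)_p ≅ (M_p)^n`. -/
theorem exists_localizedModule_tensor_equiv (p : Ideal A) [p.IsPrime] :
    ∃ n : ℕ, Nonempty (LocalizedModule p.primeCompl (B ⊗[A] M) ≃ₗ[Localization.AtPrime p]
      (Fin n → LocalizedModule p.primeCompl M)) := by
  set Ap := Localization.AtPrime p with hAp
  haveI : Module.Free Ap (Ap ⊗[A] B) := Module.free_of_flat_of_isLocalRing
  let n := Module.finrank Ap (Ap ⊗[A] B)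
  let eB : (Ap ⊗[A] B) ≃ₗ[Ap] (Fin n → Ap) := (Module.finBasis Ap (Ap ⊗[A] B)).equivFun
  let e1 : LocalizedModule p.primeCompl (B ⊗[A] M) ≃ₗ[Ap] Ap ⊗[A] (B ⊗[A] M) :=
    LocalizedModule.equivTensorProduct p.primeCompl (B ⊗[A] M)
  let e2 : (Ap ⊗[A] B) ⊗[A] M ≃ₗ[Ap] Ap ⊗[A] (B ⊗[A] M) :=
    AlgebraTensorModule.assoc A A Ap Ap B M
  let e3 : (Ap ⊗[A] B) ⊗[Ap] (Ap ⊗[A] M) ≃ₗ[Ap] (Ap ⊗[A] B) ⊗[A] M :=
    AlgebraTensorModule.cancelBaseChange A Ap Ap (Ap ⊗[A] B) M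
  let e4 : (Ap ⊗[A] B) ⊗[Ap] (Ap ⊗[A] M) ≃ₗ[Ap] (Ap ⊗[A] M) ⊗[Ap] (Fin n → Ap) :=
    (TensorProduct.congr eB (LinearEquiv.refl Ap (Ap ⊗[A] M))).trans (TensorProduct.comm Ap _ _)
  let e5 : (Ap ⊗[A] M) ⊗[Ap] (Fin n → Ap) ≃ₗ[Ap] (Fin n → Ap ⊗[A] M) :=
    TensorProduct.piScalarRight Ap Ap (Ap ⊗[A] M) (Fin n)
  let e6 : (Fin n → Ap ⊗[A] M) ≃ₗ[Ap] (Fin n → LocalizedModule p.primeCompl M) :=
    LinearEquiv.piCongrRight (fun _ => (LocalizedModule.equivTensorProduct p.primeCompl M).symm)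
  exact ⟨n, ⟨e1.trans (e2.symm.trans (e3.symm.trans (e4.trans (e5.trans e6))))⟩⟩

theorem mem_weakAss_of_mem_weakAss_tensor (p : Ideal A) [p.IsPrime]
    (h : p ∈ weakAss A (B ⊗[A] M)) : p ∈ weakAss A M := by
  rw [Groth.Agent.S9581.result] at h ⊢
  obtain ⟨n, ⟨e⟩⟩ := exists_localizedModule_tensor_equiv (B := B) M p
  exact isAssociatedPrime_of_pi n ((e.isAssociatedPrime_iff).mp h)

end FiniteFlat

end Groth.Agent.Helper3.WAss
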