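import Mathlib
import Groth.Agent.Lib.Helper3.WAss2

/-!
# S1232: weakly associated primes under finite flat base change
-/

namespace Groth.Agent.Helper3.WAss

open FlatCA TensorProduct

universe u

variable {A B : Type u} [CommRing A] [CommRing B] [Algebra A B]
  (M : Type u) [AddCommGroup M] [Module A M]

/-- For flat `B`, the annihilator of `1 ⊗ m` is contained in the extension of `Ann m`. -/
theorem ann_one_tmul_le [Module.Flat A B] (m : M) :
    (Submodule.span B {(1 : B) ⊗ₜ[A] m}).annihilator ≤
      ((Submodule.span A {m}).annihilator).map (algebraMap A B) := by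
  intro b hb
  rw [Submodule.mem_annihilator_span_singleton, smul_tmul', smul_eq_mul, mul_one] at hb
  set I := (Submodule.span A {m}).annihilator with hI
  let f : A →ₗ[A] M := LinearMap.toSpanSingleton A M m
  have hker : LinearMap.ker f = I := by
    ext a
    rw [LinearMap.mem_ker, LinearMap.toSpanSingleton_apply, hI,
      Submodule.mem_annihilator_span_singleton]
  have h1 : f.lTensor B (b ⊗ₜ[A] (1 : A)) = 0 := by
    rw [LinearMap.lTensor_tmul, LinearMap.toSpanSingleton_apply, one_smul]
    exact hb
  have hex := Module.Flat.lTensor_exact B (LinearMap.exact_subtype_ker_map f)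
  obtain ⟨z, hz⟩ := (hex _).mp h1
  have h2 : ∀ w : B ⊗[A] (LinearMap.ker f),
      TensorProduct.rid A B ((LinearMap.ker f).subtype.lTensor B w) ∈ I.map (algebraMap A B) := by
    intro w
    induction w using TensorProduct.induction_on with
    | zero => simp
    | tmul c a =>
      rw [LinearMap.lTensor_tmul, TensorProduct.rid_tmul, Submodule.subtype_apply,
        Algebra.smul_def]
      apply Ideal.mul_mem_right
      apply Ideal.mem_map_of_mem
      rw [← hker]
      exact a.2
    | add x y hx hy =>
      rw [map_add, map_add]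
      exact Ideal.add_mem _ hx hy
  have h3 := h2 z
  rw [hz, TensorProduct.rid_tmul, one_smul] at h3
  exact h3

theorem mem_weakAss_tensor_of_mem_weakAss [Module.Finite A B] [Module.Flat A B]
    (p : Ideal A) [p.IsPrime] (t : Ideal B) [t.IsPrime]
    [t.LiesOver p] (h : p ∈ weakAss A M) : t ∈ weakAss B (B ⊗[A] M) := by
  obtain ⟨m, hm⟩ := h
  haveI : Algebra.IsIntegral A B := Algebra.IsIntegral.of_finite A B
  have hpt : p = t.comap (algebraMap A B) := Ideal.LiesOver.over
  refine ⟨(1 : B) ⊗ₜ[A] m, ⟨inferInstance, ?_⟩, ?_⟩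
  · refine (ann_one_tmul_le M m).trans ?_
    rw [Ideal.map_le_iff_le_comap, ← hpt]
    exact hm.1.2
  · rintro t' ⟨ht', hJt'⟩ ht't
    have hI : (Submodule.span A {m}).annihilator ≤ t'.comap (algebraMap A B) := by
      intro a ha
      rw [Ideal.mem_comap]
      apply hJt'
      rw [Submodule.mem_annihilator_span_singleton] at ha ⊢
      rw [smul_tmul', smul_eq_mul, mul_one, Algebra.algebraMap_eq_smul_one, smul_tmul, ha,
        tmul_zero]
    have hle : t'.comap (algebraMap A B) ≤ p := by
      rw [hpt]; exact Ideal.comap_mono ht't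
    have hge : p ≤ t'.comap (algebraMap A B) :=
      hm.2 ⟨Ideal.comap_isPrime _ _, hI⟩ hle
    by_contra hnot
    have hlt : t' < t := lt_of_le_of_ne ht't (fun h => hnot (h ▸ le_rfl))
    obtain ⟨z, hzt, hzt'⟩ := Set.exists_of_ssubset hlt
    have := Ideal.comap_lt_comap_of_integral_mem_sdiff (R := A) ht't
      (show z ∈ (t : Set B) \ t' from ⟨hzt, hzt'⟩) (Algebra.IsIntegral.isIntegral z)
    rw [← hpt] at this
    exact absurd hge (not_le_of_gt this)

theorem main_S1232 [Module.Finite A B] [Module.Flat A B]
    (p : Ideal A) [p.IsPrime] (t : Ideal B) [t.IsPrime] [t.LiesOver p] :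
    t ∈ FlatCA.weakAss B (B ⊗[A] M) ↔ p ∈ FlatCA.weakAss A M := by
  constructor
  · intro h
    have h1 : t.comap (algebraMap A B) ∈ weakAss A (B ⊗[A] M) :=
      comap_mem_weakAss_of_finite (A := A) (B := B) h
    have hpt : p = t.comap (algebraMap A B) := Ideal.LiesOver.over
    rw [← hpt] at h1
    exact mem_weakAss_of_mem_weakAss_tensor (B := B) M p h1
  · exact mem_weakAss_tensor_of_mem_weakAss M p t

end Groth.Agent.Helper3.WAss
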