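import Mathlib
import Groth.Agent.Lib.Helper3.WAss3

/-!
# Weakly associated primes and localization (IsLocalizedModule form) (helper3)
-/

set_option autoImplicit false

namespace Groth.Agent.Helper3.WAss

open FlatCA TensorProduct

universe u

section Loc

variable {B B' : Type u} [CommRing B] [CommRing B'] [Algebra B B'] (S : Submonoid B)
  [IsLocalization S B']
  {N N' : Type u} [AddCommGroup N] [Module B N] [AddCommGroup N'] [Module B N'] [Module B' N']
  [IsScalarTower B B' N'] (φ : N →ₗ[B] N') [IsLocalizedModule S φ]

include S in
theorem mk'_smul_eq_zero_iff (b : B) (s : S) (n : N) :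
    (IsLocalization.mk' B' b s) • φ n = 0 ↔ ∃ t : S, ((t : B) * b) • n = 0 := by
  have hunit : IsUnit (algebraMap B B' (s : B)) := IsLocalization.map_units B' s
  have h1 : (IsLocalization.mk' B' b s) • φ n = 0 ↔ φ (b • n) = 0 := by
    constructor
    · intro h
      have h2 : algebraMap B B' (s : B) • ((IsLocalization.mk' B' b s) • φ n) = 0 := by
        rw [h, smul_zero]
      rw [smul_smul, mul_comm, IsLocalization.mk'_spec, algebraMap_smul, ← map_smul] at h2
      exact h2
    · intro h
      have h2 : algebraMap B B' (s : B) • ((IsLocalization.mk' B' b s) • φ n) = 0 := by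
        rw [smul_smul, mul_comm, IsLocalization.mk'_spec, algebraMap_smul, ← map_smul, h]
      obtain ⟨c, hc⟩ := hunit.exists_left_inv
      have h3 := congrArg (fun x => c • x) h2
      simp only [smul_zero] at h3
      rw [smul_smul, hc, one_smul] at h3
      exact h3
  rw [h1, IsLocalizedModule.eq_zero_iff S φ]
  constructor
  · rintro ⟨t, ht⟩
    refine ⟨t, ?_⟩
    rw [mul_smul]
    exact ht
  · rintro ⟨t, ht⟩
    refine ⟨t, ?_⟩
    rw [mul_smul] at ht
    exact ht

include S φ in
theorem mem_weakAss_localized_iff (u' : Ideal B') [u'.IsPrime] :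
    u' ∈ weakAss B' N' ↔ u'.comap (algebraMap B B') ∈ weakAss B N := by
  have hu := (IsLocalization.isPrime_iff_isPrime_disjoint S B' u').mp inferInstance
  have hmapu : (u'.comap (algebraMap B B')).map (algebraMap B B') = u' :=
    IsLocalization.map_under S B' u'
  constructor
  · rintro ⟨n', hn'⟩
    obtain ⟨⟨n, s⟩, hns⟩ := IsLocalizedModule.surj S φ n'
    have hns' : algebraMap B B' (s : B) • n' = φ n := by
      rw [algebraMap_smul]
      exact hns
    refine ⟨n, ⟨hu.1, ?_⟩, ?_⟩
    · intro b hb
      rw [Submodule.mem_annihilator_span_singleton] at hb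
      rw [Ideal.mem_comap]
      apply hn'.1.2
      rw [Submodule.mem_annihilator_span_singleton]
      have h1 : algebraMap B B' (s : B) • (algebraMap B B' b • n') = 0 := by
        rw [smul_comm, hns', algebraMap_smul, ← map_smul, hb, map_zero]
      obtain ⟨c, hc⟩ := (IsLocalization.map_units B' s).exists_left_inv
      have h3 := congrArg (fun x => c • x) h1
      simp only [smul_zero] at h3
      rw [smul_smul, hc, one_smul] at h3
      exact h3
    · rintro q ⟨hq, hIq⟩ hqu
      have hqd : Disjoint (S : Set B) (q : Set B) :=
        Set.disjoint_of_subset_right hqu hu.2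
      haveI : (q.map (algebraMap B B')).IsPrime :=
        IsLocalization.isPrime_of_isPrime_disjoint S B' q hq hqd
      have hle : (Submodule.span B' {n'}).annihilator ≤ q.map (algebraMap B B') := by
        intro b' hb'
        rw [Submodule.mem_annihilator_span_singleton] at hb'
        obtain ⟨b, s₁, rfl⟩ := IsLocalization.exists_mk'_eq S b'
        have h1 : (IsLocalization.mk' B' b s₁) • φ n = 0 := by
          rw [← hns', smul_comm, hb', smul_zero]
        obtain ⟨t, ht⟩ := (mk'_smul_eq_zero_iff S φ b s₁ n).mp h1
        have h2 : (t : B) * b ∈ q := hIq (by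
          rw [Submodule.mem_annihilator_span_singleton]; exact ht)
        have h3 : b ∈ q := by
          rcases hq.mem_or_mem h2 with h | h
          · exact absurd h (Set.disjoint_left.mp hqd t.2)
          · exact h
        rw [IsLocalization.mk'_mem_iff]
        exact Ideal.mem_map_of_mem _ h3
      have hmin := hn'.2 ⟨inferInstance, hle⟩ (by
        rw [← hmapu]; exact Ideal.map_mono hqu)
      have := Ideal.comap_mono (f := algebraMap B B') hmin
      exact this.trans (le_of_eq (IsLocalization.under_map_of_isPrime_disjoint S B' hq hqd))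
  · rintro ⟨n, hn⟩
    refine ⟨φ n, ⟨inferInstance, ?_⟩, ?_⟩
    · intro b' hb'
      rw [Submodule.mem_annihilator_span_singleton] at hb'
      obtain ⟨b, s₁, rfl⟩ := IsLocalization.exists_mk'_eq S b'
      obtain ⟨t, ht⟩ := (mk'_smul_eq_zero_iff S φ b s₁ n).mp hb'
      have h2 : (t : B) * b ∈ u'.comap (algebraMap B B') := hn.1.2 (by
        rw [Submodule.mem_annihilator_span_singleton]; exact ht)
      have h3 : b ∈ u'.comap (algebraMap B B') := by
        rcases hu.1.mem_or_mem h2 with h | h
        · exact absurd h (Set.disjoint_left.mp hu.2 t.2)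
        · exact h
      rw [IsLocalization.mk'_mem_iff]
      exact h3
    · rintro q' ⟨hq', hIq'⟩ hq'u
      have hq := (IsLocalization.isPrime_iff_isPrime_disjoint S B' q').mp hq'
      have hle : (Submodule.span B {n}).annihilator ≤ q'.comap (algebraMap B B') := by
        intro b hb
        rw [Submodule.mem_annihilator_span_singleton] at hb
        rw [Ideal.mem_comap]
        apply hIq'
        rw [Submodule.mem_annihilator_span_singleton, algebraMap_smul, ← map_smul, hb, map_zero]
      have hmin := hn.2 ⟨hq.1, hle⟩ (Ideal.comap_mono hq'u)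
      have := Ideal.map_mono (f := algebraMap B B') hmin
      rw [hmapu] at this
      exact this.trans (le_of_eq (IsLocalization.map_under S B' q'))

end Loc

end Groth.Agent.Helper3.WAss

namespace Groth.Agent.Helper3.WAss

open FlatCA TensorProduct

universe u

section LocTensor

variable {A B B' : Type u} [CommRing A] [CommRing B] [CommRing B'] [Algebra A B] [Algebra A B']
  [Algebra B B'] [IsScalarTower A B B'] (S : Submonoid B) [IsLocalization S B']
  (M : Type u) [AddCommGroup M] [Module A M]

include S in
theorem mem_weakAss_tensor_localization_iff (u' : Ideal B') [u'.IsPrime] :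
    u' ∈ weakAss B' (B' ⊗[A] M) ↔ u'.comap (algebraMap B B') ∈ weakAss B (B ⊗[A] M) := by
  haveI : IsLocalizedModule S (Algebra.linearMap B B') := inferInstance
  exact mem_weakAss_localized_iff S
    (AlgebraTensorModule.rTensor A M (Algebra.linearMap B B')) u'

end LocTensor

end Groth.Agent.Helper3.WAss
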