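import Mathlib
import Groth.Agent.Lib.Helper3.WAss4

/-!
# S1233: weakly associated primes under étale base change (helper3)
-/

set_option autoImplicit false

namespace Groth.Agent.Helper3.WAss

open FlatCA TensorProduct Polynomial

universe u

section Etale

variable {A B : Type u} [CommRing A] [CommRing B] [Algebra A B]
  (M : Type u) [AddCommGroup M] [Module A M]

/-- The standard étale case, through the finite free algebra `A[X]/f`. -/
theorem mem_weakAss_iff_of_isStandardEtale {Sf : Type u} [CommRing Sf] [Algebra A Sf]
    [Algebra.IsStandardEtale A Sf] (p : Ideal A) [p.IsPrime] (w : Ideal Sf) [w.IsPrime]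
    (hw : w.comap (algebraMap A Sf) = p) :
    w ∈ weakAss Sf (Sf ⊗[A] M) ↔ p ∈ weakAss A M := by
  let P : StandardEtalePresentation A Sf :=
    Algebra.IsStandardEtale.nonempty_standardEtalePresentation.some
  let C := AdjoinRoot P.f
  let g' : C := AdjoinRoot.mk P.f P.g
  let e : Sf ≃ₐ[A] Localization.Away g' := P.equivRing.trans P.P.equivAwayAdjoinRoot
  let ψ : C →+* Sf := (e.symm : Localization.Away g' →+* Sf).comp
    (algebraMap C (Localization.Away g'))
  letI : Algebra C Sf := ψ.toAlgebra
  let e' : Localization.Away g' ≃ₐ[C] Sf :=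
    { e.symm.toRingEquiv with commutes' := fun c => rfl }
  haveI : IsLocalization (Submonoid.powers g') Sf :=
    IsLocalization.isLocalization_of_algEquiv _ e'
  haveI : IsScalarTower A C Sf := by
    refine IsScalarTower.of_algebraMap_eq (fun a => ?_)
    show algebraMap A Sf a = e.symm (algebraMap C (Localization.Away g') (algebraMap A C a))
    rw [← IsScalarTower.algebraMap_apply A C (Localization.Away g'), e.symm.commutes]
  haveI : Module.Finite A C := P.monic_f.finite_adjoinRoot
  haveI : Module.Free A C := P.monic_f.free_adjoinRoot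
  let v : Ideal C := w.comap (algebraMap C Sf)
  haveI : v.IsPrime := Ideal.comap_isPrime _ w
  haveI : v.LiesOver p := by
    refine ⟨?_⟩
    show p = (w.comap (algebraMap C Sf)).comap (algebraMap A C)
    rw [Ideal.comap_comap, ← IsScalarTower.algebraMap_eq, hw]
  rw [mem_weakAss_tensor_localization_iff (A := A) (B := C) (B' := Sf) (Submonoid.powers g') M w]
  exact main_S1232 M p v

theorem main_S1233 [Algebra.Etale A B] (p : Ideal A) [p.IsPrime] (u : Ideal B) [u.IsPrime]
    [u.LiesOver p] :
    u ∈ weakAss B (B ⊗[A] M) ↔ p ∈ weakAss A M := by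
  haveI : Algebra.IsEtaleAt A u := inferInstance
  obtain ⟨f, hfu, hf⟩ := Algebra.IsEtaleAt.exists_isStandardEtale (R := A) u
  have hd : Disjoint (Submonoid.powers f : Set B) (u : Set B) :=
    (Ideal.disjoint_powers_iff_notMem_of_isPrime f).mpr hfu
  let w : Ideal (Localization.Away f) := u.map (algebraMap B (Localization.Away f))
  haveI : w.IsPrime :=
    IsLocalization.isPrime_of_isPrime_disjoint (Submonoid.powers f) _ u inferInstance hd
  have hwu : w.comap (algebraMap B (Localization.Away f)) = u :=
    IsLocalization.under_map_of_isPrime_disjoint (Submonoid.powers f) _ inferInstance hd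
  have hw : w.comap (algebraMap A (Localization.Away f)) = p := by
    rw [IsScalarTower.algebraMap_eq A B (Localization.Away f), ← Ideal.comap_comap, hwu]
    exact (Ideal.LiesOver.over (p := p) (P := u)).symm
  rw [← mem_weakAss_iff_of_isStandardEtale M p w hw,
    mem_weakAss_tensor_localization_iff (A := A) (B := B) (B' := Localization.Away f)
      (Submonoid.powers f) M w, hwu]

end Etale

end Groth.Agent.Helper3.WAss
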