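import Mathlib
import Groth.Prelude.Def_FlatCA
import Groth.Agent.Lib.Helper3.WAss4

/-!
# Weakly associated primes descend along base change by a field extension

`K/k` fields, `R` a `k`-algebra, `M` an `R`-module: if `q ⊂ R_K` is weakly associated to `M_K`
then `q ∩ R` is weakly associated to `M` (Stacks, Algebra, "weakly associated primes and field
extensions").  Plan: reduce to finitely generated `K/k` by going down for the flat map
`R_L → R_K`; a finitely generated extension is finite over a purely transcendental one; the finite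
case is `WAss.main_S1232`; the purely transcendental case is the key lemma below (a free algebra
whose fibre over `p` is a domain).
-/

set_option autoImplicit false
set_option linter.unusedVariables false
set_option linter.unusedSectionVars false
set_option linter.style.haveILetI false

namespace Groth.Agent.Helper3.WAssField

open FlatCA TensorProduct

universe u

section Basic

theorem weakAss_congr {B : Type u} [CommRing B] {N₁ N₂ : Type u} [AddCommGroup N₁] [Module B N₁]
    [AddCommGroup N₂] [Module B N₂] (e : N₁ ≃ₗ[B] N₂) : weakAss B N₁ = weakAss B N₂ := by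
  have key : ∀ {N₁ N₂ : Type u} [AddCommGroup N₁] [Module B N₁] [AddCommGroup N₂] [Module B N₂]
      (e : N₁ ≃ₗ[B] N₂), weakAss B N₁ ⊆ weakAss B N₂ := by
    intro N₁ N₂ _ _ _ _ e p hp
    obtain ⟨m, hm⟩ := hp
    refine ⟨e m, ?_⟩
    have : (Submodule.span B {e m}).annihilator = (Submodule.span B {m}).annihilator := by
      ext b
      rw [Submodule.mem_annihilator_span_singleton, Submodule.mem_annihilator_span_singleton,
        ← map_smul, EmbeddingLike.map_eq_zero_iff]
    rw [this]
    exact hm
  exact Set.Subset.antisymm (key e) (key e.symm)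

theorem mem_minimalPrimes_of_forall {A : Type u} [CommRing A] {I p : Ideal A} [hp : p.IsPrime]
    (hI : I ≤ p) (h : ∀ g ∈ p, ∃ s, s ∉ p ∧ ∃ n : ℕ, s * g ^ n ∈ I) : p ∈ I.minimalPrimes := by
  refine ⟨⟨hp, hI⟩, ?_⟩
  rintro p' ⟨hp', hIp'⟩ hp'p g hg
  obtain ⟨s, hs, n, hsn⟩ := h g hg
  rcases hp'.mem_or_mem (hIp' hsn) with h1 | h1
  · exact absurd (hp'p h1) hs
  · exact hp'.mem_of_pow_mem n h1

end Basic

section Key

variable {A B : Type u} [CommRing A] [CommRing B] [Algebra A B]

theorem lTensor_smul {N₁ N₂ : Type u} [AddCommGroup N₁] [Module A N₁] [AddCommGroup N₂]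
    [Module A N₂] (g : N₁ →ₗ[A] N₂) (y : B) (t : B ⊗[A] N₁) :
    g.lTensor B (y • t) = y • g.lTensor B t := by
  induction t using TensorProduct.induction_on with
  | zero => simp
  | tmul b n => simp [TensorProduct.smul_tmul']
  | add t₁ t₂ h₁ h₂ => rw [smul_add, map_add, h₁, h₂, map_add, smul_add]

theorem equivFinsupp_lTensor {ι : Type*} [DecidableEq ι] (b : Module.Basis ι A B)
    {N₁ N₂ : Type u} [AddCommGroup N₁] [Module A N₁] [AddCommGroup N₂] [Module A N₂]
    (g : N₁ →ₗ[A] N₂) (t : B ⊗[A] N₁) (i : ι) :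
    TensorProduct.equivFinsuppOfBasisLeft b (g.lTensor B t) i =
      g (TensorProduct.equivFinsuppOfBasisLeft b t i) := by
  induction t using TensorProduct.induction_on with
  | zero => simp
  | tmul x n => simp
  | add t₁ t₂ h₁ h₂ => simp only [map_add, Finsupp.add_apply, h₁, h₂]

/-- Key lemma: `B` free over `A`, the fibre `B ⊗ κ(p)` a domain; an element of `B` that is nonzero in
the fibre is a nonzerodivisor on `B ⊗ N` up to `p`-torsion. -/
theorem exists_smul_eq_zero [Module.Free A B] (N : Type u) [AddCommGroup N] [Module A N]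
    (p : Ideal A) [p.IsPrime] [IsDomain (B ⊗[A] p.ResidueField)]
    (y : B) (hy : y ⊗ₜ[A] (1 : p.ResidueField) ≠ 0) (z : B ⊗[A] N) (hyz : y • z = 0) :
    ∃ s : A, s ∉ p ∧ s • z = 0 := by
  classical
  by_contra hcon
  push Not at hcon
  let ι := Module.Free.ChooseBasisIndex A B
  let b : Module.Basis ι A B := Module.Free.chooseBasis A B
  let e := TensorProduct.equivFinsuppOfBasisLeft (N := N) b
  set c := e z with hc
  let M' : Submodule A N := Submodule.span A (Set.range c)
  haveI : Module.Finite A M' :=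
    Module.Finite.iff_fg.mpr (Submodule.fg_span (Finsupp.finite_range c))
  let c' : ι → M' := fun i => ⟨c i, Submodule.subset_span ⟨i, rfl⟩⟩
  let z' : B ⊗[A] M' := ∑ i ∈ c.support, b i ⊗ₜ[A] c' i
  have hz' : (M'.subtype).lTensor B z' = z := by
    have h1 : z = e.symm c := (e.symm_apply_apply z).symm
    have h2 : e.symm c = ∑ i ∈ c.support, b i ⊗ₜ[A] c i := by
      have h4 := TensorProduct.equivFinsuppOfBasisLeft_symm (N := N) b
      have h3 : e.symm c = (e.symm : _ →ₗ[A] _) c := rfl
      rw [h3, h4]
      simp only [Finsupp.lsum_apply, Finsupp.sum, TensorProduct.mk_apply]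
    rw [h1, h2, map_sum]
    refine Finset.sum_congr rfl (fun i _ => ?_)
    rw [LinearMap.lTensor_tmul]
    rfl
  have hyz' : y • z' = 0 := by
    apply Module.Flat.lTensor_preserves_injective_linearMap (M := B) M'.subtype
      M'.injective_subtype
    rw [lTensor_smul, hz', hyz, map_zero]
  have hsupp : (⟨p, inferInstance⟩ : PrimeSpectrum A) ∈ Module.support A M' := by
    rw [Module.mem_support_iff_of_finite]
    intro s hs
    by_contra hsp
    apply hcon s hsp
    apply e.injective
    rw [map_smul, map_zero]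
    ext i
    rw [Finsupp.smul_apply, Finsupp.zero_apply]
    have h1 := Module.mem_annihilator.mp hs (c' i)
    simpa using congrArg Subtype.val h1
  have hnt : Nontrivial (p.ResidueField ⊗[A] M') :=
    (Module.mem_support_iff_nontrivial_residueField_tensorProduct
      (⟨p, inferInstance⟩ : PrimeSpectrum A)).mp hsupp
  have hex : ∃ i, (1 : p.ResidueField) ⊗ₜ[A] c' i ≠ 0 := by
    by_contra hall
    push Not at hall
    have h1 : ∀ m : M', (1 : p.ResidueField) ⊗ₜ[A] m = 0 := by
      rintro ⟨m, hm⟩
      induction hm using Submodule.span_induction with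
      | mem x hx =>
        obtain ⟨i, rfl⟩ := hx
        exact hall i
      | zero =>
        show (1 : p.ResidueField) ⊗ₜ[A] (0 : M') = 0
        exact TensorProduct.tmul_zero _ _
      | add x y hx hy ihx ihy =>
        have h5 : (⟨x + y, Submodule.add_mem _ hx hy⟩ : M') = ⟨x, hx⟩ + ⟨y, hy⟩ := rfl
        rw [h5, TensorProduct.tmul_add, ihx, ihy, add_zero]
      | smul a x hx ihx =>
        have h5 : (⟨a • x, Submodule.smul_mem _ a hx⟩ : M') = a • ⟨x, hx⟩ := rfl
        rw [h5, TensorProduct.tmul_smul, ihx, smul_zero]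
    have h2 : ∀ t : p.ResidueField ⊗[A] M', t = 0 := by
      intro t
      induction t using TensorProduct.induction_on with
      | zero => rfl
      | tmul x m =>
        have h5 : x ⊗ₜ[A] m = x • ((1 : p.ResidueField) ⊗ₜ[A] m) := by
          rw [TensorProduct.smul_tmul', smul_eq_mul, mul_one]
        rw [h5, h1, smul_zero]
      | add t₁ t₂ h₁ h₂ => rw [h₁, h₂, add_zero]
    obtain ⟨t₁, t₂, hne⟩ := hnt.exists_pair_ne
    exact hne ((h2 t₁).trans (h2 t₂).symm)
  obtain ⟨i₀, hi₀⟩ := hex
  obtain ⟨lam, hlam⟩ := Module.Projective.exists_dual_ne_zero p.ResidueField hi₀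
  let h : M' →ₗ[A] p.ResidueField :=
    (lam.restrictScalars A).comp (TensorProduct.mk A p.ResidueField M' 1)
  have hh : h (c' i₀) ≠ 0 := hlam
  have hw0 : y • h.lTensor B z' = 0 := by rw [← lTensor_smul, hyz', map_zero]
  have hwne : h.lTensor B z' ≠ 0 := by
    intro hw'
    apply hh
    have h1 := equivFinsupp_lTensor b h z' i₀
    rw [hw', map_zero, Finsupp.zero_apply] at h1
    have h2 : TensorProduct.equivFinsuppOfBasisLeft b z' i₀ = c' i₀ := by
      apply Subtype.ext
      have h3 := equivFinsupp_lTensor b M'.subtype z' i₀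
      rw [hz'] at h3
      exact h3.symm
    rw [← h2]
    exact h1.symm
  have hmul : ∀ w : B ⊗[A] p.ResidueField, y • w = (y ⊗ₜ[A] (1 : p.ResidueField)) * w := by
    intro w
    induction w using TensorProduct.induction_on with
    | zero => simp
    | tmul x r =>
      rw [TensorProduct.smul_tmul', Algebra.TensorProduct.tmul_mul_tmul, one_mul, smul_eq_mul]
    | add a b ha hb => rw [smul_add, mul_add, ha, hb]
  rw [hmul] at hw0
  rcases mul_eq_zero.mp hw0 with h1 | h1
  · exact hy h1
  · exact hwne h1

/-- `B` free over `A`, `q` a prime of `B` over `p` such that the fibre `B ⊗ κ(p)` is a domain: if `q`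
is weakly associated to `B ⊗ N`, then `p` is weakly associated to `N`. -/
theorem comap_mem_weakAss_of_free [Module.Free A B] (N : Type u) [AddCommGroup N] [Module A N]
    (q : Ideal B) [q.IsPrime] [IsDomain (B ⊗[A] (q.comap (algebraMap A B)).ResidueField)]
    (hq : q ∈ weakAss B (B ⊗[A] N)) : q.comap (algebraMap A B) ∈ weakAss A N := by
  classical
  obtain ⟨z, hz⟩ := hq
  set p := q.comap (algebraMap A B) with hp
  haveI hpp : p.IsPrime := Ideal.comap_isPrime _ _
  let ι := Module.Free.ChooseBasisIndex A B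
  let b : Module.Basis ι A B := Module.Free.chooseBasis A B
  let e := TensorProduct.equivFinsuppOfBasisLeft (N := N) b
  set c := e z with hc
  let I : Ideal A := c.support.inf (fun i => (Submodule.span A {c i}).annihilator)
  have hsmul : ∀ (a : A) (t : B ⊗[A] N), a • t = 0 ↔ ∀ i, a • e t i = 0 := by
    intro a t
    constructor
    · intro h i
      have h1 : e (a • t) = 0 := by rw [h, map_zero]
      rw [map_smul] at h1
      have h2 := DFunLike.congr_fun h1 i
      simpa using h2
    · intro h
      apply e.injective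
      rw [map_smul, map_zero]
      ext i
      simpa using h i
  have hI : ∀ a : A, a ∈ I ↔ ∀ i, a • c i = 0 := by
    intro a
    rw [Submodule.mem_finsetInf]
    constructor
    · intro h i
      by_cases hi : i ∈ c.support
      · exact (Submodule.mem_annihilator_span_singleton _ _).mp (h i hi)
      · rw [Finsupp.notMem_support_iff.mp hi, smul_zero]
    · intro h i _
      exact (Submodule.mem_annihilator_span_singleton _ _).mpr (h i)
  have hIp : I ≤ p := by
    intro a ha
    have h1 : a • z = 0 := (hsmul a z).mpr ((hI a).mp ha)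
    have h2 : algebraMap A B a ∈ (Submodule.span B {z}).annihilator := by
      rw [Submodule.mem_annihilator_span_singleton, algebraMap_smul, h1]
    exact hz.1.2 h2
  have hkey : ∀ g ∈ p, ∃ s, s ∉ p ∧ ∃ n : ℕ, s * g ^ n ∈ I := by
    intro g hg
    obtain ⟨y, hyq, n, hyn⟩ :=
      Groth.Agent.Helper3.WAss.exists_mul_pow_mem_of_mem_minimalPrimes hz
        (x := algebraMap A B g) hg
    rw [Submodule.mem_annihilator_span_singleton, mul_smul, ← map_pow, algebraMap_smul] at hyn
    have hy1 : y ⊗ₜ[A] (1 : p.ResidueField) ≠ 0 := by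
      intro h0
      apply hyq
      have hcoord : ∀ i, b.repr y i ∈ p := by
        intro i
        have h1 := congrArg
          (fun t => TensorProduct.equivFinsuppOfBasisLeft (N := p.ResidueField) b t i) h0
        simp only [TensorProduct.equivFinsuppOfBasisLeft_apply_tmul_apply, map_zero,
          Finsupp.zero_apply] at h1
        rw [Algebra.smul_def, mul_one] at h1
        exact Ideal.algebraMap_residueField_eq_zero.mp h1
      rw [← b.linearCombination_repr y, Finsupp.linearCombination_apply, Finsupp.sum]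
      refine Ideal.sum_mem _ (fun i _ => ?_)
      rw [Algebra.smul_def]
      exact Ideal.mul_mem_right _ _ (hcoord i)
    obtain ⟨s, hs, hsz⟩ := exists_smul_eq_zero N p y hy1 (g ^ n • z) hyn
    refine ⟨s, hs, n, ?_⟩
    rw [hI]
    rw [← mul_smul] at hsz
    exact (hsmul _ z).mp hsz
  have hmin : p ∈ I.minimalPrimes := mem_minimalPrimes_of_forall hIp hkey
  obtain ⟨i, hi, hle⟩ := (Ideal.IsPrime.inf_le' hpp).mp hIp
  refine ⟨c i, ⟨⟨hpp, hle⟩, ?_⟩⟩
  rintro p' ⟨hp', hle'⟩ hp'p
  exact hmin.2 ⟨hp', (Finset.inf_le hi).trans hle'⟩ hp'p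

end Key

section Frac

attribute [local instance] Algebra.TensorProduct.rightAlgebra in
/-- `E ⊗_A S` is a domain when `E = Frac B` and `B ⊗_A S` is a domain (`S` flat over `A`); same
argument as `Groth.Agent.Helper8.UB.isDomain_tensor_of_isFractionRing`. -/
theorem isDomain_tensor_of_isFractionRing (A B E S : Type u) [CommRing A] [CommRing B] [IsDomain B]
    [Field E] [CommRing S] [Algebra A B] [Algebra A S] [Module.Flat A S] [Algebra B E]
    [IsFractionRing B E] [Algebra A E] [IsScalarTower A B E] [IsDomain (B ⊗[A] S)] :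
    IsDomain (E ⊗[A] S) := by
  haveI : IsLocalization (Algebra.algebraMapSubmonoid (B ⊗[A] S) (nonZeroDivisors B))
      (E ⊗[B] (B ⊗[A] S)) :=
    (Algebra.isLocalization_iff_isPushout (nonZeroDivisors B) E).mpr inferInstance
  have hM : Algebra.algebraMapSubmonoid (B ⊗[A] S) (nonZeroDivisors B) ≤
      nonZeroDivisors (B ⊗[A] S) := by
    rintro _ ⟨b, hb, rfl⟩
    have hinj : Function.Injective ((LinearMap.mulLeft A b).rTensor S) :=
      Module.Flat.rTensor_preserves_injective_linearMap _
        (mul_right_injective₀ (nonZeroDivisors.ne_zero hb))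
    have key : ∀ x : B ⊗[A] S, (LinearMap.mulLeft A b).rTensor S x =
        algebraMap B (B ⊗[A] S) b * x := by
      intro x
      induction x using TensorProduct.induction_on with
      | zero => simp
      | tmul c s => simp [Algebra.TensorProduct.algebraMap_apply]
      | add x y hx hy => rw [map_add, mul_add, hx, hy]
    rw [mem_nonZeroDivisors_iff_right]
    intro x hx
    apply hinj
    rw [map_zero, key, mul_comm]
    exact hx
  haveI : IsDomain (E ⊗[B] (B ⊗[A] S)) := IsLocalization.isDomain_of_le_nonZeroDivisors _ hM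
  exact (Algebra.TensorProduct.cancelBaseChange A B B E S).symm.toMulEquiv.isDomain _

end Frac

/-- The statement of S9592 for a fixed field extension. -/
def P (k K : Type u) [Field k] [Field K] [Algebra k K] : Prop :=
  ∀ {R : Type u} [CommRing R] [Algebra k R] (RK : Type u) [CommRing RK] [Algebra k RK]
    [Algebra K RK] [Algebra R RK] [IsScalarTower k K RK] [IsScalarTower k R RK]
    [Algebra.IsPushout k K R RK] (M : Type u) [AddCommGroup M] [Module R M] (MK : Type u)
    [AddCommGroup MK] [Module RK MK] [Module R MK] [IsScalarTower R RK MK] (f : M →ₗ[R] MK)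
    (_ : IsBaseChange RK f) (q : Ideal RK) [q.IsPrime],
    q ∈ weakAss RK MK → q.comap (algebraMap R RK) ∈ weakAss R M

section Cases

variable (k K : Type u) [Field k] [Field K] [Algebra k K]

theorem P_of_finite [Module.Finite k K] : P k K := by
  intro R _ _ RK _ _ _ _ _ _ _ M _ _ MK _ _ _ _ f hf q _ hq
  have h : Algebra.IsPushout k R K RK := Algebra.IsPushout.symm inferInstance
  haveI : Module.Free R RK := Module.Free.of_equiv h.out.equiv
  haveI : Module.Finite R RK := Module.Finite.equiv h.out.equiv
  haveI : q.LiesOver (q.comap (algebraMap R RK)) := ⟨rfl⟩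
  rw [← weakAss_congr hf.equiv] at hq
  exact (Groth.Agent.Helper3.WAss.main_S1232 M (q.comap (algebraMap R RK)) q).mp hq

theorem P_of_isFractionRing (D : Type u) [CommRing D] [IsDomain D] [Algebra k D] [Algebra D K]
    [IsScalarTower k D K] [IsFractionRing D K]
    (hD : ∀ (κ : Type u) [Field κ] [Algebra k κ], IsDomain (D ⊗[k] κ)) : P k K := by
  intro R _ _ RK _ _ _ _ _ _ _ M _ _ MK _ _ _ _ f hf q _ hq
  have h : Algebra.IsPushout k R K RK := Algebra.IsPushout.symm inferInstance
  haveI : Module.Free R RK := Module.Free.of_equiv h.out.equiv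
  haveI : IsDomain (RK ⊗[R] (q.comap (algebraMap R RK)).ResidueField) := by
    haveI := hD (q.comap (algebraMap R RK)).ResidueField
    haveI : IsDomain (K ⊗[k] (q.comap (algebraMap R RK)).ResidueField) :=
      isDomain_tensor_of_isFractionRing k D K _
    exact (Algebra.IsPushout.cancelBaseChangeAlg k K R RK
      (q.comap (algebraMap R RK)).ResidueField).toMulEquiv.isDomain _
  rw [← weakAss_congr hf.equiv] at hq
  exact comap_mem_weakAss_of_free M q hq

end Cases

section GoingDown

theorem comap_mem_minimalPrimes_of_flat {A B : Type u} [CommRing A] [CommRing B] [Algebra A B]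
    [Module.Flat A B] {N NB : Type u} [AddCommGroup N] [Module A N] [AddCommGroup NB]
    [Module B NB] [Module A NB] [IsScalarTower A B NB] (g : N →ₗ[A] NB) (hg : IsBaseChange B g)
    (z₀ : N) (q : Ideal B) [q.IsPrime]
    (hq : q ∈ (Submodule.span B {g z₀}).annihilator.minimalPrimes) :
    q.comap (algebraMap A B) ∈ (Submodule.span A {z₀}).annihilator.minimalPrimes := by
  set I := (Submodule.span A {z₀}).annihilator with hI
  set J := (Submodule.span B {g z₀}).annihilator with hJ
  have hJI : J ≤ I.map (algebraMap A B) := by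
    intro b hb
    rw [hJ, Submodule.mem_annihilator_span_singleton] at hb
    apply Groth.Agent.Helper3.WAss.ann_one_tmul_le N z₀
    rw [Submodule.mem_annihilator_span_singleton]
    apply hg.equiv.injective
    rw [map_smul, hg.equiv_tmul, one_smul, hb, map_zero]
  have hIp : I ≤ q.comap (algebraMap A B) := by
    intro a ha
    rw [hI, Submodule.mem_annihilator_span_singleton] at ha
    apply hq.1.2
    rw [hJ, Submodule.mem_annihilator_span_singleton, algebraMap_smul, ← map_smul, ha, map_zero]
  refine ⟨⟨inferInstance, hIp⟩, ?_⟩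
  rintro p' ⟨hp', hIp'⟩ hp'p
  haveI := hp'
  haveI : q.LiesOver (q.comap (algebraMap A B)) := ⟨rfl⟩
  obtain ⟨Q, hQq, hQ, hQo⟩ := Ideal.exists_ideal_le_liesOver_of_le (p := p')
    (q := q.comap (algebraMap A B)) q hp'p
  have hover : p' = Q.comap (algebraMap A B) := hQo.over
  have hJQ : J ≤ Q := by
    refine hJI.trans ?_
    rw [Ideal.map_le_iff_le_comap, ← hover]
    exact hIp'
  have hqQ : q ≤ Q := hq.2 ⟨hQ, hJQ⟩ hQq
  rw [hover]
  exact Ideal.comap_mono hqQ

end GoingDown

section Mid

attribute [local instance] Algebra.TensorProduct.rightAlgebra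

variable {k L K R RK M MK : Type u} [Field k] [Field L] [Field K] [Algebra k L] [Algebra L K]
  [Algebra k K] [IsScalarTower k L K] [CommRing R] [Algebra k R] [CommRing RK] [Algebra k RK]
  [Algebra K RK] [Algebra R RK] [IsScalarTower k K RK] [IsScalarTower k R RK]
  [AddCommGroup M] [Module R M] [AddCommGroup MK] [Module RK MK]
  [Module R MK] [IsScalarTower R RK MK]

variable (k L K R RK) in
/-- the canonical map `L ⊗ R → R_K` -/
noncomputable def midHom : L ⊗[k] R →ₐ[k] RK :=
  Algebra.TensorProduct.lift
    ((IsScalarTower.toAlgHom k K RK).comp (IsScalarTower.toAlgHom k L K))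
    (IsScalarTower.toAlgHom k R RK) (fun _ _ => Commute.all _ _)

theorem midHom_tmul (a : L) (r : R) :
    midHom k L K R RK (a ⊗ₜ[k] r) = algebraMap K RK (algebraMap L K a) * algebraMap R RK r := by
  rw [midHom, Algebra.TensorProduct.lift_tmul]
  rfl

/-- intermediate base change data for a tower `k ⊆ L ⊆ K` (continuation passing style) -/
theorem midData [Algebra.IsPushout k K R RK] (f : M →ₗ[R] MK) (hf : IsBaseChange RK f) {C : Prop}
    (hC : ∀ [Algebra L RK] [Algebra (L ⊗[k] R) RK] [IsScalarTower L K RK]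
      [IsScalarTower L (L ⊗[k] R) RK] [IsScalarTower R (L ⊗[k] R) RK]
      [Algebra.IsPushout L K (L ⊗[k] R) RK] [Module (L ⊗[k] R) MK]
      [IsScalarTower (L ⊗[k] R) RK MK] (g : (L ⊗[k] R) ⊗[R] M →ₗ[L ⊗[k] R] MK),
      IsBaseChange RK g → (∀ m, g (1 ⊗ₜ[R] m) = f m) → C) : C := by
  letI aL : Algebra L RK := ((algebraMap K RK).comp (algebraMap L K)).toAlgebra
  haveI tLK : IsScalarTower L K RK := IsScalarTower.of_algebraMap_eq (fun _ => rfl)
  letI aT : Algebra (L ⊗[k] R) RK := (midHom k L K R RK).toRingHom.toAlgebra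
  have hmid : ∀ c, algebraMap (L ⊗[k] R) RK c = midHom k L K R RK c := fun _ => rfl
  haveI t1 : IsScalarTower L (L ⊗[k] R) RK := IsScalarTower.of_algebraMap_eq (fun a => by
    rw [hmid, Algebra.TensorProduct.algebraMap_apply, midHom_tmul, map_one, mul_one]
    rfl)
  haveI t2 : IsScalarTower R (L ⊗[k] R) RK := IsScalarTower.of_algebraMap_eq (fun r => by
    rw [hmid]
    show algebraMap R RK r = midHom k L K R RK ((1 : L) ⊗ₜ[k] r)
    rw [midHom_tmul, map_one, map_one, one_mul])
  haveI t3 : IsScalarTower k (L ⊗[k] R) RK := IsScalarTower.of_algebraMap_eq (fun a =>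
    ((midHom k L K R RK).commutes a).symm)
  haveI po : Algebra.IsPushout L K (L ⊗[k] R) RK :=
    (Algebra.IsPushout.comp_iff k L R (S' := L ⊗[k] R) (T := K) (T' := RK)).mp inferInstance
  letI mT : Module (L ⊗[k] R) MK := Module.compHom MK (midHom k L K R RK).toRingHom
  haveI t5 : IsScalarTower (L ⊗[k] R) RK MK := IsScalarTower.of_algebraMap_smul (fun _ _ => rfl)
  haveI t6 : IsScalarTower R (L ⊗[k] R) MK := IsScalarTower.of_algebraMap_smul (fun r m => by
    show (midHom k L K R RK (algebraMap R (L ⊗[k] R) r)) • m = r • m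
    rw [← hmid, ← IsScalarTower.algebraMap_apply R (L ⊗[k] R) RK, algebraMap_smul])
  let g : (L ⊗[k] R) ⊗[R] M →ₗ[L ⊗[k] R] MK :=
    (TensorProduct.isBaseChange R M (L ⊗[k] R)).lift f
  have hgf : ∀ m, g (1 ⊗ₜ[R] m) = f m := fun m =>
    (TensorProduct.isBaseChange R M (L ⊗[k] R)).lift_eq f m
  have hg : IsBaseChange RK g := by
    refine IsBaseChange.of_comp (TensorProduct.isBaseChange R M (L ⊗[k] R)) ?_
    have h1 : (g.restrictScalars R) ∘ₗ (TensorProduct.mk R (L ⊗[k] R) M 1) = f :=
      LinearMap.ext hgf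
    rw [h1]
    exact hf
  exact hC g hg hgf

end Mid

section Trans

attribute [local instance] Algebra.TensorProduct.rightAlgebra

theorem P_trans (k L K : Type u) [Field k] [Field L] [Field K] [Algebra k L] [Algebra L K]
    [Algebra k K] [IsScalarTower k L K] (h1 : P k L) (h2 : P L K) : P k K := by
  intro R _ _ RK _ _ _ _ _ _ _ M _ _ MK _ _ _ _ f hf q _ hq
  refine midData (k := k) (L := L) (K := K) f hf ?_
  intro _ _ _ _ _ _ _ _ g hg hgf
  have hq' := h2 (R := L ⊗[k] R) RK ((L ⊗[k] R) ⊗[R] M) MK g hg q hq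
  have h3 := h1 (R := R) (L ⊗[k] R) M ((L ⊗[k] R) ⊗[R] M) (TensorProduct.mk R _ M 1)
    (TensorProduct.isBaseChange R M _) (q.comap (algebraMap (L ⊗[k] R) RK)) hq'
  rwa [Ideal.comap_comap, ← IsScalarTower.algebraMap_eq] at h3

/-- every element of `M_K` is a `K`-linear combination of elements of `M` -/
theorem exists_finsupp_eq {k K R RK M MK : Type u} [Field k] [Field K] [Algebra k K] [CommRing R]
    [Algebra k R] [CommRing RK] [Algebra k RK] [Algebra K RK] [Algebra R RK] [IsScalarTower k K RK]
    [IsScalarTower k R RK] [Algebra.IsPushout k K R RK] [AddCommGroup M] [Module R M]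
    [AddCommGroup MK] [Module RK MK] [Module R MK] [IsScalarTower R RK MK] (f : M →ₗ[R] MK)
    (hf : IsBaseChange RK f) (z : MK) :
    ∃ c : M →₀ K, z = c.sum (fun m a => algebraMap K RK a • f m) := by
  letI : Module K MK := Module.compHom MK (algebraMap K RK)
  have hsm : ∀ (a : K) (y : MK), a • y = algebraMap K RK a • y := fun _ _ => rfl
  let T : Submodule K MK := Submodule.span K (Set.range f)
  have hR : ∀ (r : R) (y : MK), y ∈ T → r • y ∈ T := by
    intro r y hy
    induction hy using Submodule.span_induction with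
    | mem x hx =>
      obtain ⟨m, rfl⟩ := hx
      rw [← map_smul]
      exact Submodule.subset_span ⟨_, rfl⟩
    | zero =>
      rw [smul_zero]
      exact T.zero_mem
    | add x y _ _ hx hy =>
      rw [smul_add]
      exact T.add_mem hx hy
    | smul a x _ hx =>
      have h5 : r • (a • x) = a • (r • x) := by
        show r • (algebraMap K RK a • x) = algebraMap K RK a • (r • x)
        rw [← algebraMap_smul RK r (algebraMap K RK a • x), ← algebraMap_smul RK r x, smul_smul,
          smul_smul, mul_comm]
      rw [h5]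
      exact T.smul_mem a hx
  have hRK : ∀ (c : RK) (y : MK), y ∈ T → c • y ∈ T := by
    intro c
    have h : Algebra.IsPushout k K R RK := inferInstance
    refine h.out.inductionOn c (fun c => ∀ y ∈ T, c • y ∈ T) ?_ ?_ ?_ ?_
    · intro y _
      rw [zero_smul]
      exact T.zero_mem
    · intro r y hy
      show (algebraMap R RK r) • y ∈ T
      rw [algebraMap_smul]
      exact hR r y hy
    · intro a c hc y hy
      have h5 : (a • c) • y = a • (c • y) := by
        show (a • c) • y = algebraMap K RK a • (c • y)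
        rw [Algebra.smul_def, mul_smul]
      rw [h5]
      exact T.smul_mem a (hc y hy)
    · intro c₁ c₂ h₁ h₂ y hy
      rw [add_smul]
      exact T.add_mem (h₁ y hy) (h₂ y hy)
  have htop : ∀ z : MK, z ∈ T := by
    intro z
    exact hf.inductionOn z (fun z => z ∈ T) T.zero_mem
      (fun m => Submodule.subset_span ⟨m, rfl⟩) (fun c y hy => hRK c y hy)
      (fun _ _ h₁ h₂ => T.add_mem h₁ h₂)
  obtain ⟨c, hc⟩ := Finsupp.mem_span_range_iff_exists_finsupp.mp (htop z)
  exact ⟨c, hc.symm⟩

theorem P_of_fg_aux (k L K : Type u) [Field k] [Field L] [Field K] [Algebra k L] [Algebra L K]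
    [Algebra k K] [IsScalarTower k L K] (hL : P k L)
    {R : Type u} [CommRing R] [Algebra k R] (RK : Type u) [CommRing RK] [Algebra k RK]
    [Algebra K RK] [Algebra R RK] [IsScalarTower k K RK] [IsScalarTower k R RK]
    [Algebra.IsPushout k K R RK] (M : Type u) [AddCommGroup M] [Module R M] (MK : Type u)
    [AddCommGroup MK] [Module RK MK] [Module R MK] [IsScalarTower R RK MK] (f : M →ₗ[R] MK)
    (hf : IsBaseChange RK f) (q : Ideal RK) [q.IsPrime] (s : Finset M) (a : M → L)
    (hz : q ∈ (Submodule.span RK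
      {∑ m ∈ s, algebraMap K RK (algebraMap L K (a m)) • f m}).annihilator.minimalPrimes) :
    q.comap (algebraMap R RK) ∈ weakAss R M := by
  refine midData (k := k) (L := L) (K := K) f hf ?_
  intro _ _ _ _ _ _ _ _ g hg hgf
  let z₀ : (L ⊗[k] R) ⊗[R] M := ∑ m ∈ s, ((a m) ⊗ₜ[k] (1 : R)) ⊗ₜ[R] m
  have hz₀ : g z₀ = ∑ m ∈ s, algebraMap K RK (algebraMap L K (a m)) • f m := by
    rw [map_sum]
    refine Finset.sum_congr rfl (fun m _ => ?_)
    have h1 : ((a m) ⊗ₜ[k] (1 : R)) ⊗ₜ[R] m =
        ((a m) ⊗ₜ[k] (1 : R)) • ((1 : L ⊗[k] R) ⊗ₜ[R] m) := by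
      rw [TensorProduct.smul_tmul', smul_eq_mul, mul_one]
    rw [h1, map_smul, hgf, ← algebraMap_smul RK ((a m) ⊗ₜ[k] (1 : R)) (f m)]
    congr 1
    have h2 : (a m) ⊗ₜ[k] (1 : R) = algebraMap L (L ⊗[k] R) (a m) := by
      rw [Algebra.TensorProduct.algebraMap_apply]
      rfl
    rw [h2, ← IsScalarTower.algebraMap_apply L (L ⊗[k] R) RK,
      IsScalarTower.algebraMap_apply L K RK]
  haveI : Module.Flat (L ⊗[k] R) RK := by
    have h' : Algebra.IsPushout L (L ⊗[k] R) K RK := Algebra.IsPushout.symm inferInstance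
    exact Module.Flat.isBaseChange L (L ⊗[k] R) K RK h'.out
  have hmin := comap_mem_minimalPrimes_of_flat g hg z₀ q (by rw [hz₀]; exact hz)
  have hq' : q.comap (algebraMap (L ⊗[k] R) RK) ∈ weakAss (L ⊗[k] R) ((L ⊗[k] R) ⊗[R] M) :=
    ⟨z₀, hmin⟩
  have h3 := hL (R := R) (L ⊗[k] R) M ((L ⊗[k] R) ⊗[R] M) (TensorProduct.mk R _ M 1)
    (TensorProduct.isBaseChange R M _) (q.comap (algebraMap (L ⊗[k] R) RK)) hq'
  rwa [Ideal.comap_comap, ← IsScalarTower.algebraMap_eq] at h3

theorem P_of_fg (k K : Type u) [Field k] [Field K] [Algebra k K]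
    (h : ∀ L : IntermediateField k K, L.FG → P k L) : P k K := by
  intro R _ _ RK _ _ _ _ _ _ _ M _ _ MK _ _ _ _ f hf q _ hq
  classical
  obtain ⟨z, hz⟩ := hq
  obtain ⟨c, hc⟩ := exists_finsupp_eq (k := k) (K := K) f hf z
  let L : IntermediateField k K :=
    IntermediateField.adjoin k ((c.support.image c : Finset K) : Set K)
  have hL : L.FG := IntermediateField.fg_adjoin_finset _
  have hmem : ∀ m, c m ∈ L := by
    intro m
    by_cases hm : m ∈ c.support
    · exact IntermediateField.subset_adjoin _ _
        (Finset.mem_coe.mpr (Finset.mem_image_of_mem c hm))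
    · rw [Finsupp.notMem_support_iff.mp hm]
      exact L.zero_mem
  have hPL : P k L := h L hL
  refine P_of_fg_aux k L K hPL RK M MK f hf q c.support (fun m => ⟨c m, hmem m⟩) ?_
  rw [hc] at hz
  exact hz

end Trans

section Final

theorem P_of_essFiniteType (k L : Type u) [Field k] [Field L] [Algebra k L]
    [Algebra.EssFiniteType k L] : P k L := by
  obtain ⟨ι, x, hx⟩ := exists_isTranscendenceBasis' k L
  let E : IntermediateField k L := IntermediateField.adjoin k (Set.range x)
  haveI : Algebra.IsAlgebraic (↥E) L := hx.isAlgebraic_field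
  haveI : Algebra.EssFiniteType (↥E) L := Algebra.EssFiniteType.of_comp k (↥E) L
  haveI : Module.Finite (↥E) L := Algebra.finite_of_essFiniteType_of_isAlgebraic
  have hE : P k (↥E) := by
    open scoped IntermediateField.algebraAdjoinAdjoin in
    refine P_of_isFractionRing _ _ (↥(Algebra.adjoin k (Set.range x))) ?_
    intro κ _ _
    let e1 := hx.1.aevalEquiv
    let e2 : (Algebra.adjoin k (Set.range x)) ⊗[k] κ ≃ₐ[k] MvPolynomial ι k ⊗[k] κ :=
      Algebra.TensorProduct.congr e1.symm AlgEquiv.refl
    let e3 := Algebra.TensorProduct.comm k (MvPolynomial ι k) κ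
    let e4 := MvPolynomial.algebraTensorAlgEquiv (σ := ι) k κ
    exact MulEquiv.isDomain (MvPolynomial ι κ)
      ((e2.toRingEquiv.trans e3.toRingEquiv).trans e4.toRingEquiv).toMulEquiv
  have hfin : P (↥E) L := P_of_finite _ _
  exact @P_trans k (↥E) L _ _ _ _ _ _ _ hE hfin

/-- S9592 -/
theorem main_S9592 {k K R : Type u} [Field k] [Field K] [Algebra k K] [CommRing R] [Algebra k R]
    (RK : Type u) [CommRing RK] [Algebra k RK] [Algebra K RK] [Algebra R RK] [IsScalarTower k K RK]
    [IsScalarTower k R RK] [Algebra.IsPushout k K R RK] (M : Type u) [AddCommGroup M] [Module R M]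
    (MK : Type u) [AddCommGroup MK] [Module RK MK] [Module R MK] [IsScalarTower R RK MK]
    (f : M →ₗ[R] MK) (hf : IsBaseChange RK f) (q : Ideal RK) [q.IsPrime]
    (hq : q ∈ FlatCA.weakAss RK MK) : q.comap (algebraMap R RK) ∈ FlatCA.weakAss R M := by
  have hP : P k K := P_of_fg k K (fun L hL => by
    haveI : Algebra.EssFiniteType k (↥L) := IntermediateField.essFiniteType_iff.mpr hL
    exact @P_of_essFiniteType k (↥L) _ _ _ _)
  exact hP RK M MK f hf q hq

end Final

end Groth.Agent.Helper3.WAssField
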