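import Mathlib
import Groth.Prelude.Def_CurvBase
import Groth.Agent.Lib.Helper3.WAssField1
import Groth.Agent.Lib.Helper5.Stalk.Pull
import Groth.Agent.Lib.Helper8.ExtScal

/-!
# Weakly associated points descend along base change by a field extension (S8900)
-/

set_option linter.style.haveILetI false
set_option linter.unusedVariables false
set_option linter.unusedSimpArgs false
set_option linter.unusedSectionVars false
set_option autoImplicit false
set_option backward.isDefEq.respectTransparency.types false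
set_option synthInstance.maxHeartbeats 400000
set_option maxHeartbeats 1600000
universe u

open CategoryTheory CategoryTheory.Limits AlgebraicGeometry TopologicalSpace Opposite TensorProduct

namespace Groth.Agent.Helper3.WAssField

open FlatCA
open Groth.Agent.Lib.Helper5.StalkAdj

section Local

theorem maximalIdeal_mem_weakAss_iff {A : Type u} [CommRing A] [IsLocalRing A] {M : Type u}
    [AddCommGroup M] [Module A M] :
    IsLocalRing.maximalIdeal A ∈ weakAss A M ↔
      ∃ m : M, Ideal.radical (LinearMap.ker (LinearMap.toSpanSingleton A M m)) =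
        IsLocalRing.maximalIdeal A := by
  have hker : ∀ m : M, LinearMap.ker (LinearMap.toSpanSingleton A M m) =
      (Submodule.span A {m}).annihilator := by
    intro m
    ext a
    rw [LinearMap.mem_ker, LinearMap.toSpanSingleton_apply,
      Submodule.mem_annihilator_span_singleton]
  constructor
  · rintro ⟨m, hm⟩
    refine ⟨m, ?_⟩
    rw [hker]
    apply le_antisymm
    · have h1 : (Submodule.span A {m}).annihilator ≤ IsLocalRing.maximalIdeal A := hm.1.2
      exact (Ideal.radical_mono h1).trans (Ideal.IsPrime.radical inferInstance).le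
    · rw [Ideal.radical_eq_sInf]
      apply le_sInf
      rintro p' ⟨hle, hp'⟩
      exact hm.2 ⟨hp', hle⟩ (IsLocalRing.le_maximalIdeal hp'.ne_top)
  · rintro ⟨m, hm⟩
    refine ⟨m, ⟨inferInstance, ?_⟩, ?_⟩
    · rw [← hm, hker]
      exact Ideal.le_radical
    · rintro p' ⟨hp', hle⟩ _
      rw [← hm, hker]
      exact (Ideal.radical_mono hle).trans (Ideal.IsPrime.radical hp').le

/-- ring level form of S8900: `A → B` is a localization of a base change `R → R'` by a field
extension -/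
theorem maximalIdeal_mem_weakAss_of_localization (k K : Type u) [Field k] [Field K] [Algebra k K]
    (R R' A B : Type u) [CommRing R] [CommRing R'] [CommRing A] [CommRing B]
    [Algebra k R] [Algebra k R'] [Algebra K R'] [Algebra R R'] [IsScalarTower k K R']
    [IsScalarTower k R R'] [Algebra.IsPushout k K R R']
    [Algebra R A] [Algebra R' B] [Algebra A B] [Algebra R B] [IsScalarTower R A B]
    [IsScalarTower R R' B] [IsLocalRing A] [IsLocalRing B] [IsLocalHom (algebraMap A B)]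
    (P : Ideal R) [P.IsPrime] [IsLocalization.AtPrime A P] (Q : Ideal R') [Q.IsPrime]
    [IsLocalization.AtPrime B Q] (M : Type u) [AddCommGroup M] [Module A M]
    (h : IsLocalRing.maximalIdeal B ∈ weakAss B (B ⊗[A] M)) :
    IsLocalRing.maximalIdeal A ∈ weakAss A M := by
  letI : Module R M := Module.compHom M (algebraMap R A)
  haveI : IsScalarTower R A M := IsScalarTower.of_algebraMap_smul (fun _ _ => rfl)
  haveI : TensorProduct.CompatibleSMul R A B M :=
    IsLocalization.tensorProduct_compatibleSMul P.primeCompl A B M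
  let e : B ⊗[A] M ≃ₗ[B] B ⊗[R] M := TensorProduct.equivOfCompatibleSMul R A B B M
  rw [weakAss_congr e] at h
  have h2 := (Groth.Agent.Helper3.WAss.mem_weakAss_tensor_localization_iff (A := R) (B := R')
    (B' := B) Q.primeCompl M (IsLocalRing.maximalIdeal B)).mp h
  have h3 := main_S9592 (k := k) (K := K) (R := R) R' M (R' ⊗[R] M) (TensorProduct.mk R R' M 1)
    (TensorProduct.isBaseChange R M R') _ h2
  haveI : IsLocalizedModule P.primeCompl (LinearMap.id : M →ₗ[R] M) :=
    isLocalizedModule_id P.primeCompl M A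
  rw [Groth.Agent.Helper3.WAss.mem_weakAss_localized_iff (B := R) (B' := A) P.primeCompl
    (LinearMap.id : M →ₗ[R] M)]
  have h4 : ((IsLocalRing.maximalIdeal B).comap (algebraMap R' B)).comap (algebraMap R R') =
      (IsLocalRing.maximalIdeal A).comap (algebraMap R A) := by
    rw [Ideal.comap_comap, ← IsScalarTower.algebraMap_eq R R' B, IsScalarTower.algebraMap_eq R A B,
      ← Ideal.comap_comap, IsLocalRing.maximalIdeal_comap]
  rw [← h4]
  exact h3

end Local

section Sections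

/-! The next three declarations are copied from `Groth.Agent.Lib.Helper4.BaseChgRing1`
(`alphaRing`, `alphaRing_appLE_gen`) and `Groth.Agent.Lib.Helper1.FBC3` (`isPushout_alphaRing`),
to keep the import closure of this file small. -/

/-- the structure map `A → Γ(X, W)` of a scheme over `Spec A` -/
noncomputable def alphaRing (A : Type u) [CommRing A] (X : Scheme.{u})
    [X.Over (Spec (CommRingCat.of A))] (W : X.Opens) : A →+* Γ(X, W) :=
  ((X ↘ Spec (CommRingCat.of A)).appLE ⊤ W le_top).hom.comp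
    (Scheme.ΓSpecIso (CommRingCat.of A)).inv.hom

lemma alphaRing_appLE_gen {A₁ A₂ : Type u} [CommRing A₁] [CommRing A₂] (φ : A₁ →+* A₂)
    {Y Z : Scheme.{u}} [Y.Over (Spec (CommRingCat.of A₁))] [Z.Over (Spec (CommRingCat.of A₂))]
    (k : Z ⟶ Y)
    (hk : k ≫ (Y ↘ Spec (CommRingCat.of A₁)) =
      (Z ↘ Spec (CommRingCat.of A₂)) ≫ Spec.map (CommRingCat.ofHom φ))
    (V : Y.Opens) (V' : Z.Opens) (e : V' ≤ k ⁻¹ᵁ V) (a : A₁) :
    (k.appLE V V' e).hom (alphaRing A₁ Y V a) = alphaRing A₂ Z V' (φ a) := by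
  unfold alphaRing
  change ((Scheme.ΓSpecIso (CommRingCat.of A₁)).inv ≫
    (Y ↘ Spec (CommRingCat.of A₁)).appLE ⊤ V le_top ≫ k.appLE V V' e).hom a =
    (CommRingCat.ofHom φ ≫ (Scheme.ΓSpecIso (CommRingCat.of A₂)).inv ≫
      (Z ↘ Spec (CommRingCat.of A₂)).appLE ⊤ V' le_top).hom a
  congr 2
  rw [Scheme.Hom.appLE_comp_appLE, Scheme.ΓSpecIso_inv_naturality_assoc]
  congr 1
  have key : ∀ (θ : Z ⟶ Spec (CommRingCat.of A₁))
      (hθ : θ = (Z ↘ Spec (CommRingCat.of A₂)) ≫ Spec.map (CommRingCat.ofHom φ))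
      (e' : V' ≤ θ ⁻¹ᵁ ⊤), θ.appLE ⊤ V' e' =
      (Spec.map (CommRingCat.ofHom φ)).appTop ≫
        (Z ↘ Spec (CommRingCat.of A₂)).appLE ⊤ V' le_top := by
    intro θ hθ e'
    subst hθ
    rw [Scheme.Hom.comp_appLE]
    rfl
  exact key _ hk _

theorem isPushout_alphaRing (A A' : Type u) [CommRing A] [CommRing A'] (φ : A →+* A')
    {X X' : Scheme.{u}} [X.Over (Spec (CommRingCat.of A))] [X'.Over (Spec (CommRingCat.of A'))]
    (g : X' ⟶ X)
    (hpb : IsPullback g (X' ↘ Spec (CommRingCat.of A')) (X ↘ Spec (CommRingCat.of A))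
      (Spec.map (CommRingCat.ofHom φ)))
    {W : X.Opens} (hW : IsAffineOpen W) {W' : X'.Opens} (hW' : W' = g ⁻¹ᵁ W) :
    IsPushout (CommRingCat.ofHom φ) (CommRingCat.ofHom (alphaRing A X W))
      (CommRingCat.ofHom (alphaRing A' X' W')) (g.appLE W W' (le_of_eq hW')) := by
  have hUY : W' = g ⁻¹ᵁ W ⊓ (X' ↘ Spec (CommRingCat.of A')) ⁻¹ᵁ ⊤ := by
    rw [hW']
    ext x
    simp
  have hUST : (⊤ : (Spec (CommRingCat.of A')).Opens) ≤
      (Spec.map (CommRingCat.ofHom φ)) ⁻¹ᵁ ⊤ := fun _ _ => trivial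
  have hUSX : W ≤ (X ↘ Spec (CommRingCat.of A)) ⁻¹ᵁ ⊤ := fun _ _ => trivial
  have h1 := (isIso_pushoutSection_iff hpb hUST hUSX hUY).1
    (isIso_pushoutSection_of_isAffineOpen hpb hUST hUSX hUY (isAffineOpen_top _)
      (isAffineOpen_top _) hW)
  refine h1.flip.of_iso (Scheme.ΓSpecIso (CommRingCat.of A)) (Scheme.ΓSpecIso (CommRingCat.of A'))
    (Iso.refl _) (Iso.refl _) ?_ ?_ ?_ ?_
  · exact Scheme.ΓSpecIso_naturality (CommRingCat.ofHom φ)
  · rw [Iso.refl_hom, Category.comp_id]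
    change _ = (Scheme.ΓSpecIso (CommRingCat.of A)).hom ≫
      ((Scheme.ΓSpecIso (CommRingCat.of A)).inv ≫ (X ↘ Spec (CommRingCat.of A)).appLE ⊤ W le_top)
    rw [Iso.hom_inv_id_assoc]
  · rw [Iso.refl_hom, Category.comp_id]
    change _ = (Scheme.ΓSpecIso (CommRingCat.of A')).hom ≫
      ((Scheme.ΓSpecIso (CommRingCat.of A')).inv ≫
        (X' ↘ Spec (CommRingCat.of A')).appLE ⊤ W' le_top)
    rw [Iso.hom_inv_id_assoc]
  · rw [Iso.refl_hom, Category.comp_id, Iso.refl_hom, Category.id_comp]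

end Sections

theorem main_S8900 (k : Type u) [Field k] (K : Type u) [Field K] [Algebra k K] (X : Scheme.{u})
    [X.Over (Spec (CommRingCat.of k))] (F : X.Modules) (y : ↥(Curv2.bc k X K))
    (hy : Curv2.IsWeakAssPoint ((Scheme.Modules.pullback (Curv2.bcFst k X K)).obj F) y) :
    Curv2.IsWeakAssPoint F (Curv2.bcFst k X K y) := by
  letI ov : (Curv2.bc k X K).Over (Spec (CommRingCat.of K)) := ⟨Curv2.bcSnd k X K⟩
  let g : Curv2.bc k X K ⟶ X := Curv2.bcFst k X K
  obtain ⟨_, ⟨W, hW, rfl⟩, hxW, -⟩ :=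
    X.isBasis_affineOpens.exists_subset_of_mem_open (Set.mem_univ (g y)) isOpen_univ
  haveI : IsAffineHom g := MorphismProperty.pullback_fst (P := @IsAffineHom) _ _ inferInstance
  have hW' : IsAffineOpen (g ⁻¹ᵁ W) := hW.preimage g
  have hyW' : y ∈ g ⁻¹ᵁ W := hxW
  have hpb : IsPullback g ((Curv2.bc k X K) ↘ Spec (CommRingCat.of K))
      (X ↘ Spec (CommRingCat.of k)) (Spec.map (CommRingCat.ofHom (algebraMap k K))) :=
    IsPullback.of_hasPullback _ _
  have hpo := isPushout_alphaRing k K (algebraMap k K) g hpb hW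
    (rfl : g ⁻¹ᵁ W = g ⁻¹ᵁ W)
  -- section-level algebra structures
  letI a1 : Algebra k Γ(X, W) := (alphaRing k X W).toAlgebra
  letI a2 : Algebra K Γ(Curv2.bc k X K, g ⁻¹ᵁ W) :=
    (alphaRing K (Curv2.bc k X K) (g ⁻¹ᵁ W)).toAlgebra
  letI a3 : Algebra Γ(X, W) Γ(Curv2.bc k X K, g ⁻¹ᵁ W) :=
    (g.appLE W (g ⁻¹ᵁ W) le_rfl).hom.toAlgebra
  letI a4 : Algebra k Γ(Curv2.bc k X K, g ⁻¹ᵁ W) :=
    ((algebraMap Γ(X, W) Γ(Curv2.bc k X K, g ⁻¹ᵁ W)).comp (algebraMap k Γ(X, W))).toAlgebra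
  haveI t1 : IsScalarTower k Γ(X, W) Γ(Curv2.bc k X K, g ⁻¹ᵁ W) :=
    IsScalarTower.of_algebraMap_eq (fun _ => rfl)
  haveI t2 : IsScalarTower k K Γ(Curv2.bc k X K, g ⁻¹ᵁ W) :=
    IsScalarTower.of_algebraMap_eq (fun a =>
      alphaRing_appLE_gen (algebraMap k K) g hpb.w W (g ⁻¹ᵁ W) le_rfl a)
  haveI po : Algebra.IsPushout k K Γ(X, W) Γ(Curv2.bc k X K, g ⁻¹ᵁ W) :=
    CommRingCat.isPushout_iff_isPushout.mp hpo
  -- stalk-level algebra structures
  letI b1 : Algebra Γ(X, W) (X.presheaf.stalk (g y)) :=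
    (X.presheaf.germ W (g y) hxW).hom.toAlgebra
  letI b2 : Algebra Γ(Curv2.bc k X K, g ⁻¹ᵁ W) ((Curv2.bc k X K).presheaf.stalk y) :=
    ((Curv2.bc k X K).presheaf.germ (g ⁻¹ᵁ W) y hyW').hom.toAlgebra
  letI b3 : Algebra (X.presheaf.stalk (g y)) ((Curv2.bc k X K).presheaf.stalk y) :=
    (g.stalkMap y).hom.toAlgebra
  letI b4 : Algebra Γ(X, W) ((Curv2.bc k X K).presheaf.stalk y) :=
    ((algebraMap (X.presheaf.stalk (g y)) ((Curv2.bc k X K).presheaf.stalk y)).comp
      (algebraMap Γ(X, W) (X.presheaf.stalk (g y)))).toAlgebra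
  haveI s1 : IsScalarTower Γ(X, W) (X.presheaf.stalk (g y))
      ((Curv2.bc k X K).presheaf.stalk y) := IsScalarTower.of_algebraMap_eq (fun _ => rfl)
  haveI s2 : IsScalarTower Γ(X, W) Γ(Curv2.bc k X K, g ⁻¹ᵁ W)
      ((Curv2.bc k X K).presheaf.stalk y) := IsScalarTower.of_algebraMap_eq (fun r => by
    show (g.stalkMap y).hom ((X.presheaf.germ W (g y) hxW).hom r) =
      ((Curv2.bc k X K).presheaf.germ (g ⁻¹ᵁ W) y hyW').hom
        ((g.appLE W (g ⁻¹ᵁ W) le_rfl).hom r)
    have h := Scheme.Hom.germ_stalkMap g W y hxW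
    rw [Scheme.Hom.app_eq_appLE] at h
    exact congrArg (fun φ => φ.hom r) h)
  haveI l1 : IsLocalization.AtPrime (X.presheaf.stalk (g y))
      (hW.primeIdealOf ⟨g y, hxW⟩).asIdeal := hW.isLocalization_stalk ⟨g y, hxW⟩
  haveI l2 : IsLocalization.AtPrime ((Curv2.bc k X K).presheaf.stalk y)
      (hW'.primeIdealOf ⟨y, hyW'⟩).asIdeal := hW'.isLocalization_stalk ⟨y, hyW'⟩
  haveI hloc : IsLocalHom (algebraMap (X.presheaf.stalk (g y))
      ((Curv2.bc k X K).presheaf.stalk y)) :=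
    (inferInstance : IsLocalHom (g.stalkMap y).hom)
  -- the stalk of the pullback
  let Gp := (Scheme.Modules.pullback g).obj F
  let e1 : (Gp.presheaf.stalk y) ≃ₗ[(Curv2.bc k X K).presheaf.stalk y]
      ((ModuleCat.extendScalars.{u, u, u} (g.stalkMap y).hom).obj
        ((stalkSh X (g y)).obj F)) := ((stalkPullbackIso g y).app F).toLinearEquiv
  let e2 : ((ModuleCat.extendScalars.{u, u, u} (g.stalkMap y).hom).obj
      ((stalkSh X (g y)).obj F)) ≃ₗ[(Curv2.bc k X K).presheaf.stalk y]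
      (((Curv2.bc k X K).presheaf.stalk y) ⊗[X.presheaf.stalk (g y)]
        (F.presheaf.stalk (g y))) :=
    Groth.Agent.Helper8.extScalEquiv (R := X.presheaf.stalk (g y))
      (S := (Curv2.bc k X K).presheaf.stalk y) ((stalkSh X (g y)).obj F)
  let e := e1 ≪≫ₗ e2
  have h1 : IsLocalRing.maximalIdeal ((Curv2.bc k X K).presheaf.stalk y) ∈
      weakAss ((Curv2.bc k X K).presheaf.stalk y) (Gp.presheaf.stalk y) :=
    maximalIdeal_mem_weakAss_iff.mpr hy
  rw [weakAss_congr e] at h1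
  have h2 := maximalIdeal_mem_weakAss_of_localization k K Γ(X, W) Γ(Curv2.bc k X K, g ⁻¹ᵁ W)
    (X.presheaf.stalk (g y)) ((Curv2.bc k X K).presheaf.stalk y)
    (hW.primeIdealOf ⟨g y, hxW⟩).asIdeal (hW'.primeIdealOf ⟨y, hyW'⟩).asIdeal
    (F.presheaf.stalk (g y)) h1
  exact maximalIdeal_mem_weakAss_iff.mp h2

end Groth.Agent.Helper3.WAssField
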