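import Mathlib

/-!
# Finiteness of the relative algebraic closure in a finitely generated field extension
(helper library for S7200)
-/

set_option autoImplicit false
universe u

namespace Groth.Agent.Lib.Helper3.ZMFinite

open IntermediateField

section LD

open scoped IntermediateField.algebraAdjoinAdjoin

/-- An algebraic intermediate field `M0` of `M / N` is linearly disjoint from the purely
transcendental subextension generated by an algebraically independent set `B`: families of `M0`
which are linearly independent over `N` stay so over `N(B)`. -/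
theorem linearIndependent_adjoin_of_algebraic
    {N M : Type*} [Field N] [Field M] [Algebra N M]
    (M0 : IntermediateField N M) [Algebra.IsAlgebraic N M0]
    {B : Set M} (hB : AlgebraicIndependent N ((↑) : B → M))
    {ι : Type*} (v : ι → M0) (hv : LinearIndependent N v) :
    LinearIndependent (IntermediateField.adjoin N B) (fun i => ((v i : M0) : M)) := by
  classical
  have hB0 : AlgebraicIndependent M0 ((↑) : B → M) := hB.extendScalars M0
  rw [linearIndependent_iff']
  intro t c hc i hi
  obtain ⟨b, hb⟩ := IsLocalization.exist_integer_multiples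
    (nonZeroDivisors (Algebra.adjoin N B)) t c
  have hb' : ∀ i ∈ t, ∃ a : Algebra.adjoin N B,
      algebraMap (Algebra.adjoin N B) (IntermediateField.adjoin N B) a =
        (b : Algebra.adjoin N B) • c i := fun i hi => hb i hi
  choose! a ha using hb'
  have hA : ∀ x : Algebra.adjoin N B, ∃ P : MvPolynomial B N,
      MvPolynomial.aeval ((↑) : B → M) P = (x : M) := by
    intro x
    have hx : (x : M) ∈ (MvPolynomial.aeval ((↑) : B → M) : MvPolynomial B N →ₐ[N] M).range := by
      rw [← Algebra.adjoin_range_eq_range_aeval, Subtype.range_coe]
      exact x.2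
    exact hx
  choose P hP using hA
  have hval : ∀ i ∈ t, ((a i : Algebra.adjoin N B) : M) =
      ((b : Algebra.adjoin N B) : M) * ((c i : IntermediateField.adjoin N B) : M) := by
    intro i hi
    have h1 : ((algebraMap (Algebra.adjoin N B) (IntermediateField.adjoin N B) (a i) :
        IntermediateField.adjoin N B) : M) =
        ((((b : Algebra.adjoin N B) • c i : IntermediateField.adjoin N B)) : M) :=
      congrArg Subtype.val (ha i hi)
    rw [Algebra.smul_def] at h1
    exact h1
  have hrel : ∑ i ∈ t, ((a i : Algebra.adjoin N B) : M) * ((v i : M0) : M) = 0 := by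
    have h2 : ∑ i ∈ t, ((a i : Algebra.adjoin N B) : M) * ((v i : M0) : M) =
        ((b : Algebra.adjoin N B) : M) * ∑ i ∈ t, c i • ((v i : M0) : M) := by
      rw [Finset.mul_sum]
      refine Finset.sum_congr rfl fun i hi => ?_
      rw [hval i hi, mul_assoc]
      rfl
    rw [h2, hc, mul_zero]
  have hG : MvPolynomial.aeval ((↑) : B → M)
      (∑ i ∈ t, MvPolynomial.C (v i) * MvPolynomial.map (algebraMap N M0) (P (a i))) = 0 := by
    rw [map_sum, ← hrel]
    refine Finset.sum_congr rfl fun i _ => ?_
    rw [map_mul, MvPolynomial.aeval_C, MvPolynomial.aeval_map_algebraMap, hP, mul_comm]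
    rfl
  have hG0 : (∑ i ∈ t, MvPolynomial.C (v i) * MvPolynomial.map (algebraMap N M0) (P (a i))) = 0 :=
    hB0 (by rw [hG, map_zero])
  have hcoef : ∀ m, ∑ i ∈ t, ((P (a i)).coeff m) • v i = 0 := by
    intro m
    have h3 := congrArg (MvPolynomial.coeff m) hG0
    rw [MvPolynomial.coeff_sum, MvPolynomial.coeff_zero] at h3
    rw [← h3]
    refine Finset.sum_congr rfl fun i _ => ?_
    rw [MvPolynomial.coeff_C_mul, MvPolynomial.coeff_map, Algebra.smul_def, mul_comm]
  have hP0 : ∀ j ∈ t, P (a j) = 0 := by
    intro j hj
    ext m
    rw [MvPolynomial.coeff_zero]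
    exact linearIndependent_iff'.mp hv t (fun i => (P (a i)).coeff m) (hcoef m) j hj
  have ha0 : ((a i : Algebra.adjoin N B) : M) = 0 := by
    rw [← hP, hP0 i hi, map_zero]
  have hbc : ((b : Algebra.adjoin N B) : M) * ((c i : IntermediateField.adjoin N B) : M) = 0 := by
    rw [← hval i hi, ha0]
  have hb0 : ((b : Algebra.adjoin N B) : M) ≠ 0 := by
    intro h0
    exact nonZeroDivisors.coe_ne_zero b (Subtype.ext h0)
  have hci : ((c i : IntermediateField.adjoin N B) : M) = 0 :=
    (mul_eq_zero.mp hbc).resolve_left hb0
  exact Subtype.ext hci

end LD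

/-- In a finitely generated field extension `M / N`, every algebraic intermediate field is
finite over `N`. -/
theorem finiteDimensional_of_fg {N M : Type u} [Field N] [Field M] [Algebra N M]
    (hfg : (⊤ : IntermediateField N M).FG) (M0 : IntermediateField N M)
    [Algebra.IsAlgebraic N M0] : FiniteDimensional N M0 := by
  classical
  obtain ⟨S, hS⟩ := hfg
  haveI halg : Algebra.IsAlgebraic (Algebra.adjoin N (S : Set M)) M := by
    constructor
    intro z
    have hz : z ∈ IntermediateField.adjoin N (S : Set M) := by
      rw [hS]
      trivial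
    obtain ⟨r, hr, s, hs, rfl⟩ := IntermediateField.mem_adjoin_iff_div.mp hz
    by_cases hs0 : s = 0
    · rw [hs0, div_zero]
      exact isAlgebraic_zero
    · refine ⟨Polynomial.C (⟨s, hs⟩ : Algebra.adjoin N (S : Set M)) * Polynomial.X -
        Polynomial.C (⟨r, hr⟩ : Algebra.adjoin N (S : Set M)), ?_, ?_⟩
      · intro h0
        have h1 : (Polynomial.C (⟨s, hs⟩ : Algebra.adjoin N (S : Set M)) * Polynomial.X -
            Polynomial.C (⟨r, hr⟩ : Algebra.adjoin N (S : Set M))).coeff 1 = ⟨s, hs⟩ := by
          simp
        rw [h0, Polynomial.coeff_zero] at h1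
        exact hs0 (congrArg Subtype.val h1.symm)
      · rw [map_sub, map_mul, Polynomial.aeval_C, Polynomial.aeval_C, Polynomial.aeval_X]
        show s * (r / s) - r = 0
        rw [mul_div_cancel₀ _ hs0, sub_self]
  obtain ⟨B, hBS, hB⟩ := exists_isTranscendenceBasis_subset (R := N) (S : Set M)
  haveI halgB : Algebra.IsAlgebraic (IntermediateField.adjoin N B) M := by
    have h := hB.isAlgebraic_field
    rwa [Subtype.range_coe] at h
  haveI hfd : FiniteDimensional (IntermediateField.adjoin N B) M := by
    have htop : IntermediateField.adjoin (IntermediateField.adjoin N B) (S : Set M) = ⊤ := by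
      rw [eq_top_iff]
      intro z _
      have hz : z ∈ IntermediateField.adjoin N (S : Set M) := by
        rw [hS]
        trivial
      have hle : IntermediateField.adjoin N (S : Set M) ≤
          (IntermediateField.adjoin (IntermediateField.adjoin N B) (S : Set M)).restrictScalars N :=
        IntermediateField.adjoin_le_iff.mpr (fun s hs => IntermediateField.subset_adjoin _ _ hs)
      exact hle hz
    have h1 : FiniteDimensional (IntermediateField.adjoin N B)
        (IntermediateField.adjoin (IntermediateField.adjoin N B) (S : Set M)) :=
      IntermediateField.finiteDimensional_adjoin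
        (fun x _ => (Algebra.IsAlgebraic.isAlgebraic x).isIntegral)
    rw [htop] at h1
    exact (IntermediateField.topEquiv (F := IntermediateField.adjoin N B)
      (E := M)).toLinearEquiv.finiteDimensional
  have hB' : AlgebraicIndependent N ((↑) : B → M) := hB.1
  have hle : Module.rank N M0 ≤ (Module.finrank (IntermediateField.adjoin N B) M : ℕ) := by
    apply rank_le
    intro s hs
    have hli := linearIndependent_adjoin_of_algebraic M0 hB' (fun i : s => (i : M0)) hs
    have := hli.fintype_card_le_finrank
    rwa [Fintype.card_coe] at this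
  exact Module.rank_lt_aleph0_iff.mp (lt_of_le_of_lt hle (Cardinal.natCast_lt_aleph0))

/-- the separable closure in a finitely generated extension is finite -/
theorem finiteDimensional_separableClosure_of_fg {N M : Type u} [Field N] [Field M] [Algebra N M]
    (hfg : (⊤ : IntermediateField N M).FG) : FiniteDimensional N (separableClosure N M) :=
  finiteDimensional_of_fg hfg (separableClosure N M)

/-- finite generation passes to a bigger base field -/
theorem fg_top_of_tower {k M : Type*} [Field k] [Field M] [Algebra k M]
    (hfg : (⊤ : IntermediateField k M).FG) (N : IntermediateField k M) :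
    (⊤ : IntermediateField N M).FG := by
  obtain ⟨S, hS⟩ := hfg
  refine ⟨S, ?_⟩
  rw [eq_top_iff]
  intro z _
  have hz : z ∈ IntermediateField.adjoin k (S : Set M) := by
    rw [hS]
    trivial
  have hle : IntermediateField.adjoin k (S : Set M) ≤
      (IntermediateField.adjoin N (S : Set M)).restrictScalars k :=
    IntermediateField.adjoin_le_iff.mpr (fun s hs => IntermediateField.subset_adjoin _ _ hs)
  exact hle hz

end Groth.Agent.Lib.Helper3.ZMFinite
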