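import Mathlib

/-!
# Separable closedness and purely transcendental extensions (helper library for S7200)

* `isSeparable_transfer`: transfer of separability of an element along a ring endomorphism
  of the ambient field, between two subfields given by abstract field embeddings.
* `mem_adjoin_of_isSeparable`: if `k` is separably closed in `F` and `y` is algebraically
  independent over `F`, then `k(y)` is separably closed in `F(y)`.
-/

set_option autoImplicit false
universe u

namespace Groth.Agent.Lib.Helper3.ZMSepP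

open Polynomial IntermediateField

/-- transfer of separability along a ring endomorphism of the ambient field -/
theorem isSeparable_transfer {E₁ E₂ Ω : Type*} [Field E₁] [Field E₂] [Field Ω]
    [Algebra E₁ Ω] [Algebra E₂ Ω] (σ : Ω →+* Ω)
    (h : ∀ e₁ : E₁, ∃ e₂ : E₂, algebraMap E₂ Ω e₂ = σ (algebraMap E₁ Ω e₁))
    {β : Ω} (hβ : IsSeparable E₁ β) : IsSeparable E₂ (σ β) := by
  have hPsep : ((minpoly E₁ β).map (σ.comp (algebraMap E₁ Ω))).Separable :=
    Polynomial.Separable.map hβ
  have hPeval : ((minpoly E₁ β).map (σ.comp (algebraMap E₁ Ω))).eval (σ β) = 0 := by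
    rw [Polynomial.eval_map, ← Polynomial.hom_eval₂, ← Polynomial.aeval_def, minpoly.aeval,
      map_zero]
  have hPlift : (minpoly E₁ β).map (σ.comp (algebraMap E₁ Ω)) ∈
      Polynomial.lifts (algebraMap E₂ Ω) := by
    rw [Polynomial.lifts_iff_coeff_lifts]
    intro n
    rw [Polynomial.coeff_map]
    obtain ⟨e₂, he₂⟩ := h ((minpoly E₁ β).coeff n)
    exact ⟨e₂, he₂⟩
  obtain ⟨p₂, hp₂⟩ := (Polynomial.mem_lifts _).mp hPlift
  have hp₂sep : p₂.Separable := by
    rw [← Polynomial.separable_map (algebraMap E₂ Ω), hp₂]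
    exact hPsep
  have hp₂eval : Polynomial.aeval (σ β) p₂ = 0 := by
    rw [Polynomial.aeval_def, ← Polynomial.eval_map, hp₂]
    exact hPeval
  exact hp₂sep.of_dvd (minpoly.dvd E₂ (σ β) hp₂eval)

section P

open scoped IntermediateField.algebraAdjoinAdjoin

attribute [local instance] MvPolynomial.algebraMvPolynomial

variable {k F Ω : Type*} [Field k] [Field F] [Field Ω] [Algebra k F] [Algebra F Ω] [Algebra k Ω]
  [IsScalarTower k F Ω] {ι : Type*} (y : ι → Ω)

local notation "𝔼" => (IntermediateField.adjoin k (Set.range y))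
local notation "𝔸" => (Algebra.adjoin k (Set.range y))

/-- If `k` is separably closed in `F` and `y` is algebraically independent over `F`, then
`k(y)` is separably closed in `F(y)`. -/
theorem mem_adjoin_of_isSeparable (hy : AlgebraicIndependent F y)
    (hsc : ∀ z : F, IsSeparable k z → z ∈ (algebraMap k F).range)
    (β : Ω) (hβ : β ∈ IntermediateField.adjoin F (Set.range y))
    (hsep : IsSeparable 𝔼 β) : β ∈ 𝔼 := by
  classical
  obtain ⟨q, hq⟩ := ExpChar.exists k
  haveI : ExpChar 𝔼 q := expChar_of_injective_algebraMap (algebraMap k 𝔼).injective q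
  -- Step 1: integral elements of `F` are purely inseparable over `k`
  have hpi : ∀ z : F, IsIntegral k z → ∃ n : ℕ, z ^ q ^ n ∈ (algebraMap k F).range := by
    intro z hz
    obtain ⟨g, h1, n, h2⟩ := (minpoly.irreducible hz).hasSeparableContraction q
    refine ⟨n, hsc _ (h1.of_dvd (minpoly.dvd k _ ?_))⟩
    simpa only [Polynomial.expand_aeval, minpoly.aeval] using
      congr_arg (Polynomial.aeval z) h2
  -- Step 2: it suffices to show that `β` is purely inseparable over `k(y)`
  suffices hpc : β ∈ perfectClosure 𝔼 Ω by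
    have h2 : β ∈ separableClosure 𝔼 Ω := mem_separableClosure_iff.mpr hsep
    have h3 : β ∈ separableClosure 𝔼 Ω ⊓ perfectClosure 𝔼 Ω :=
      IntermediateField.mem_inf.mpr ⟨h2, hpc⟩
    rw [separableClosure_inf_perfectClosure, IntermediateField.mem_bot] at h3
    obtain ⟨e, he⟩ := h3
    rw [← he]
    exact e.2
  -- Step 3: an integral multiple
  have hint : IsIntegral 𝔼 β := hsep.isIntegral
  obtain ⟨m, hm⟩ := IsIntegral.exists_multiple_integral_of_isLocalization
    (nonZeroDivisors 𝔸) β hint
  have hm0 : ((m : 𝔸) : Ω) ≠ 0 := by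
    intro h0
    exact nonZeroDivisors.coe_ne_zero m (Subtype.ext h0)
  have hmE : ((m : 𝔸) : Ω) ∈ 𝔼 := IntermediateField.algebra_adjoin_le_adjoin k _ (m : 𝔸).2
  obtain ⟨b, hb⟩ : ∃ b : Ω, b = ((m : 𝔸) : Ω) * β := ⟨_, rfl⟩
  have hbint : IsIntegral 𝔸 b := by
    have : m • β = b := by
      rw [hb, Submonoid.smul_def, Algebra.smul_def]
      rfl
    rw [← this]
    exact hm
  -- Step 4: a monic polynomial over `k[y]`
  let φk : MvPolynomial ι k →+* Ω := (MvPolynomial.aeval y : MvPolynomial ι k →ₐ[k] Ω).toRingHom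
  obtain ⟨p, hpm, hp0⟩ := hbint
  have hlift : p.map (algebraMap 𝔸 Ω) ∈ Polynomial.lifts φk := by
    rw [Polynomial.lifts_iff_coeff_lifts]
    intro n
    rw [Polynomial.coeff_map]
    have hc : ∀ w : 𝔸, ∃ r : MvPolynomial ι k, φk r = (w : Ω) := by
      intro w
      have hw : (w : Ω) ∈ (MvPolynomial.aeval y : MvPolynomial ι k →ₐ[k] Ω).range := by
        rw [← Algebra.adjoin_range_eq_range_aeval]
        exact w.2
      exact hw
    exact hc _
  obtain ⟨qq, hqmap, -, hqm⟩ := Polynomial.lifts_and_natDegree_eq_and_monic hlift (hpm.map _)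
  have hq0 : qq.eval₂ φk b = 0 := by
    rw [← Polynomial.eval_map, hqmap, Polynomial.eval_map]
    exact hp0
  -- Step 5: pass to `F[y]`
  let φF : MvPolynomial ι F →+* Ω := (MvPolynomial.aeval y : MvPolynomial ι F →ₐ[F] Ω).toRingHom
  have hφFinj : Function.Injective φF := hy
  let μ : MvPolynomial ι k →+* MvPolynomial ι F := MvPolynomial.map (algebraMap k F)
  have hφμ : φF.comp μ = φk := by
    apply MvPolynomial.ringHom_ext
    · intro c
      show MvPolynomial.aeval y (MvPolynomial.map (algebraMap k F) (MvPolynomial.C c)) =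
        MvPolynomial.aeval y (MvPolynomial.C c)
      rw [MvPolynomial.map_C, MvPolynomial.aeval_C, MvPolynomial.aeval_C,
        ← IsScalarTower.algebraMap_apply]
    · intro i
      show MvPolynomial.aeval y (MvPolynomial.map (algebraMap k F) (MvPolynomial.X i)) =
        MvPolynomial.aeval y (MvPolynomial.X i)
      rw [MvPolynomial.map_X, MvPolynomial.aeval_X, MvPolynomial.aeval_X]
  have hbF : b ∈ IntermediateField.adjoin F (Set.range y) := by
    rw [hb]
    refine mul_mem ?_ hβ
    have h1 : 𝔸 ≤ ((IntermediateField.adjoin F (Set.range y)).toSubalgebra.restrictScalars k) :=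
      Algebra.adjoin_le (fun z hz => IntermediateField.subset_adjoin F _ hz)
    exact h1 (m : 𝔸).2
  obtain ⟨Pn, Pd, hPQ⟩ := (IntermediateField.mem_adjoin_range_iff F y b).mp hbF
  let Φ : FractionRing (MvPolynomial ι F) →+* Ω := IsFractionRing.lift (g := φF) hφFinj
  have hΦ : ∀ r : MvPolynomial ι F,
      Φ (algebraMap (MvPolynomial ι F) (FractionRing (MvPolynomial ι F)) r) = φF r :=
    fun r => IsFractionRing.lift_algebraMap hφFinj r
  obtain ⟨b', hb'def⟩ : ∃ b' : FractionRing (MvPolynomial ι F),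
      b' = algebraMap (MvPolynomial ι F) (FractionRing (MvPolynomial ι F)) Pn /
        algebraMap (MvPolynomial ι F) (FractionRing (MvPolynomial ι F)) Pd := ⟨_, rfl⟩
  have hb' : Φ b' = b := by
    rw [hb'def, map_div₀, hΦ, hΦ, hPQ]
    rfl
  have hcomp : Φ.comp ((algebraMap (MvPolynomial ι F) (FractionRing (MvPolynomial ι F))).comp μ)
      = φk := by
    rw [← RingHom.comp_assoc,
      show Φ.comp (algebraMap (MvPolynomial ι F) (FractionRing (MvPolynomial ι F))) = φF from
        RingHom.ext hΦ, hφμ]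
  have h4' : qq.eval₂
      ((algebraMap (MvPolynomial ι F) (FractionRing (MvPolynomial ι F))).comp μ) b' = 0 := by
    apply Φ.injective
    rw [Polynomial.hom_eval₂, map_zero, hb', hcomp]
    exact hq0
  have h4 : IsIntegral (MvPolynomial ι F) b' := by
    refine ⟨qq.map μ, hqm.map μ, ?_⟩
    rw [Polynomial.eval₂_map]
    exact h4'
  obtain ⟨f, hf⟩ := IsIntegrallyClosed.isIntegral_iff.mp h4
  have h5 : IsIntegral (MvPolynomial ι k) f := by
    refine ⟨qq, hqm, ?_⟩
    apply IsFractionRing.injective (MvPolynomial ι F) (FractionRing (MvPolynomial ι F))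
    rw [Polynomial.hom_eval₂, map_zero, hf]
    exact h4'
  have hfint : ∀ n, IsIntegral k (f.coeff n) := MvPolynomial.isIntegral_iff_isIntegral_coeff.mp h5
  have hbf : b = φF f := by rw [← hb', ← hf, hΦ]
  -- Step 6: `b` is purely inseparable over `k(y)`
  have hbpc : b ∈ perfectClosure 𝔼 Ω := by
    rw [hbf]
    show MvPolynomial.aeval y f ∈ perfectClosure 𝔼 Ω
    rw [MvPolynomial.aeval_def, MvPolynomial.eval₂_eq]
    refine sum_mem fun d _ => mul_mem ?_ (prod_mem fun i _ => pow_mem ?_ _)
    · obtain ⟨n, c, hc⟩ := hpi (f.coeff d) (hfint d)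
      rw [mem_perfectClosure_iff_pow_mem q]
      refine ⟨n, ⟨algebraMap k 𝔼 c, ?_⟩⟩
      rw [← map_pow, ← hc, ← IsScalarTower.algebraMap_apply k 𝔼 Ω,
        ← IsScalarTower.algebraMap_apply k F Ω]
    · exact (perfectClosure 𝔼 Ω).algebraMap_mem
        ⟨y i, IntermediateField.subset_adjoin k _ ⟨i, rfl⟩⟩
  have hβb : β = ((m : 𝔸) : Ω)⁻¹ * b := by
    rw [hb, ← mul_assoc, inv_mul_cancel₀ hm0, one_mul]
  rw [hβb]
  refine mul_mem (inv_mem ?_) hbpc
  exact (perfectClosure 𝔼 Ω).algebraMap_mem ⟨_, hmE⟩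

end P

end Groth.Agent.Lib.Helper3.ZMSepP
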