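import Mathlib
import Groth.Agent.Lib.Helper3.ZMSepP
import Groth.Agent.Lib.Helper3.ZMFinite

/-!
# The Zariski–Matsusaka pigeonhole argument (helper library for S7200)

Let `k' = k(X)` be separably closed in `M`, with `ξ, u ∈ M` algebraically independent over `k'`
and `M / k` finitely generated.  If infinitely many `a ∈ k'` admit a `k`-automorphism of `M`
preserving `k'` and sending `ξ` to `ξ + a u`, then `k'(ξ)` is separably closed in `M`.
-/

set_option autoImplicit false
universe u

namespace Groth.Agent.Lib.Helper3.ZMCore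

open IntermediateField
open Groth.Agent.Lib.Helper3.ZMSepP Groth.Agent.Lib.Helper3.ZMFinite

/-- transfer of algebraicity between two subfields given by abstract embeddings -/
theorem isAlgebraic_transfer {E₁ E₂ M : Type*} [Field E₁] [Field E₂] [Field M]
    [Algebra E₁ M] [Algebra E₂ M]
    (h : ∀ e₁ : E₁, ∃ e₂ : E₂, algebraMap E₂ M e₂ = algebraMap E₁ M e₁)
    {x : M} (hx : IsAlgebraic E₁ x) : IsAlgebraic E₂ x := by
  rw [isAlgebraic_iff_isIntegral] at hx ⊢
  obtain ⟨p, hpm, hp0⟩ := hx
  have hlift : p.map (algebraMap E₁ M) ∈ Polynomial.lifts (algebraMap E₂ M) := by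
    rw [Polynomial.lifts_iff_coeff_lifts]
    intro n
    rw [Polynomial.coeff_map]
    obtain ⟨e₂, he₂⟩ := h (p.coeff n)
    exact ⟨e₂, he₂⟩
  obtain ⟨q, hq, -, hqm⟩ := Polynomial.lifts_and_natDegree_eq_and_monic hlift (hpm.map _)
  refine ⟨q, hqm, ?_⟩
  rw [← Polynomial.eval_map, hq, Polynomial.eval_map]
  exact hp0

/-- membership in an iterated adjunction -/
theorem mem_adjoin_adjoin_iff {k M : Type*} [Field k] [Field M] [Algebra k M] (X T : Set M)
    (z : M) : z ∈ adjoin (adjoin k X) T ↔ z ∈ adjoin k (X ∪ T) := by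
  rw [← adjoin_adjoin_left k X T]
  rfl

/-- images of generators control the image of an adjunction -/
theorem map_mem_of_forall_mem {k M : Type*} [Field k] [Field M] [Algebra k M]
    (f : M →ₐ[k] M) (S : Set M) (T : IntermediateField k M) (h : ∀ w ∈ S, f w ∈ T) :
    ∀ z ∈ adjoin k S, f z ∈ T := by
  intro z hz
  have h1 : (adjoin k S).map f ≤ T := by
    rw [adjoin_map, adjoin_le_iff]
    rintro _ ⟨w, hw, rfl⟩
    exact h w hw
  have hz' : f z ∈ (adjoin k S).map f := ⟨z, hz, rfl⟩
  exact h1 hz'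

section LinearChange

open MvPolynomial

/-- an invertible linear change of two algebraically independent elements -/
theorem algebraicIndependent_linear_change {K0 M : Type*} [Field K0] [Field M] [Algebra K0 M]
    (s u : M) (h : AlgebraicIndependent K0 ![s, u]) (a b : K0) (hab : a ≠ b) :
    AlgebraicIndependent K0 ![s + algebraMap K0 M a * u, s + algebraMap K0 M b * u] := by
  have hne : b - a ≠ 0 := sub_ne_zero.mpr (Ne.symm hab)
  obtain ⟨c, hc⟩ : ∃ c : K0, c * (b - a) = 1 := ⟨(b - a)⁻¹, inv_mul_cancel₀ hne⟩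
  let f : Fin 2 → MvPolynomial (Fin 2) K0 := ![X 0 + C a * X 1, X 0 + C b * X 1]
  let f' : Fin 2 → MvPolynomial (Fin 2) K0 :=
    ![C c * (C b * X 0 - C a * X 1), C c * (X 1 - X 0)]
  let τ : MvPolynomial (Fin 2) K0 →ₐ[K0] MvPolynomial (Fin 2) K0 := aeval f
  let τ' : MvPolynomial (Fin 2) K0 →ₐ[K0] MvPolynomial (Fin 2) K0 := aeval f'
  have hτ0 : τ (X 0) = X 0 + C a * X 1 := by
    show aeval f (X 0) = _
    rw [aeval_X]
    rfl
  have hτ1 : τ (X 1) = X 0 + C b * X 1 := by
    show aeval f (X 1) = _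
    rw [aeval_X]
    rfl
  have hτ'0 : τ' (X 0) = C c * (C b * X 0 - C a * X 1) := by
    show aeval f' (X 0) = _
    rw [aeval_X]
    rfl
  have hτ'1 : τ' (X 1) = C c * (X 1 - X 0) := by
    show aeval f' (X 1) = _
    rw [aeval_X]
    rfl
  have hτ'C : ∀ r : K0, τ' (C r) = C r := by
    intro r
    show aeval f' (C r) = _
    rw [aeval_C]
    rfl
  have hCc : (C c : MvPolynomial (Fin 2) K0) * (C b - C a) = 1 := by
    rw [← C_sub, ← C_mul, hc, C_1]
  have hcomp : τ'.comp τ = AlgHom.id K0 (MvPolynomial (Fin 2) K0) := by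
    apply MvPolynomial.algHom_ext
    intro i
    fin_cases i
    · show τ' (τ (X 0)) = X 0
      rw [hτ0, map_add, map_mul, hτ'0, hτ'1, hτ'C]
      linear_combination (X 0 : MvPolynomial (Fin 2) K0) * hCc
    · show τ' (τ (X 1)) = X 1
      rw [hτ1, map_add, map_mul, hτ'0, hτ'1, hτ'C]
      linear_combination (X 1 : MvPolynomial (Fin 2) K0) * hCc
  have hτinj : Function.Injective τ := by
    intro p q hpq
    have := congrArg τ' hpq
    have hp : τ' (τ p) = p := by
      rw [← AlgHom.comp_apply, hcomp]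
      rfl
    have hq : τ' (τ q) = q := by
      rw [← AlgHom.comp_apply, hcomp]
      rfl
    rw [hp, hq] at this
    exact this
  have hf : AlgebraicIndependent K0 f := by
    have h1 := (MvPolynomial.algebraicIndependent_X (Fin 2) K0).map' hτinj
    have h2 : (τ ∘ (X : Fin 2 → MvPolynomial (Fin 2) K0)) = f := by
      funext i
      show aeval f (X i) = f i
      rw [aeval_X]
    rw [h2] at h1
    exact h1
  have h3 := h.aeval_of_algebraicIndependent hf
  have h4 : (fun i => aeval ![s, u] (f i)) =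
      ![s + algebraMap K0 M a * u, s + algebraMap K0 M b * u] := by
    funext i
    fin_cases i
    · show aeval ![s, u] (X 0 + C a * X 1) = s + algebraMap K0 M a * u
      rw [map_add, map_mul, aeval_X, aeval_X, aeval_C]
      rfl
    · show aeval ![s, u] (X 0 + C b * X 1) = s + algebraMap K0 M b * u
      rw [map_add, map_mul, aeval_X, aeval_X, aeval_C]
      rfl
  rw [h4] at h3
  exact h3

end LinearChange

section Tower

open scoped IntermediateField.algebraAdjoinAdjoin

/-- If `s, t` are algebraically independent over `K0` and `F` consists of elements algebraic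
over `K0(s)`, then `t` is transcendental over `F`. -/
theorem algebraicIndependent_of_algebraic {K0 M : Type*} [Field K0] [Field M] [Algebra K0 M]
    (s t : M) (hst : AlgebraicIndependent K0 ![s, t]) (F : IntermediateField K0 M)
    (hF : ∀ z ∈ F, IsAlgebraic (IntermediateField.adjoin K0 {s}) z) :
    AlgebraicIndependent F (fun _ : Unit => t) := by
  have h1 : Transcendental (Algebra.adjoin K0 (![s, t] '' {0})) (![s, t] 1) :=
    hst.transcendental_adjoin (s := {0}) (i := 1) (by simp)
  have himg : (![s, t] '' {0} : Set M) = {s} := by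
    rw [Set.image_singleton]
    rfl
  rw [himg] at h1
  have h1' : Transcendental (Algebra.adjoin K0 ({s} : Set M)) t := h1
  have h2 : Transcendental (IntermediateField.adjoin K0 ({s} : Set M)) t := fun halg =>
    h1' ((IsFractionRing.isAlgebraic_iff (Algebra.adjoin K0 ({s} : Set M))
      (IntermediateField.adjoin K0 ({s} : Set M)) M).mpr halg)
  have h3 : AlgebraicIndependent (IntermediateField.adjoin K0 ({s} : Set M))
      (fun _ : Unit => t) := algebraicIndependent_unique_type_iff.mpr h2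
  have h4 := h3.algebraicClosure
  have h5 : Transcendental (algebraicClosure (IntermediateField.adjoin K0 ({s} : Set M)) M) t :=
    algebraicIndependent_unique_type_iff.mp h4
  refine algebraicIndependent_unique_type_iff.mpr (fun halg => h5 ?_)
  exact isAlgebraic_transfer
    (fun e₁ => ⟨⟨e₁, mem_algebraicClosure_iff.mpr (hF e₁ e₁.2)⟩, rfl⟩) halg

end Tower

section ZM

variable {k M : Type u} [Field k] [Field M] [Algebra k M] (X : Set M) (ξ u : M)

local notation "𝔎" => (IntermediateField.adjoin k X)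
local notation "𝔑" => (IntermediateField.adjoin k (X ∪ insert ξ (singleton u)))
local notation "𝔏[" a "]" => (IntermediateField.adjoin k (X ∪ {ξ + a * u}))

/-- **Zariski–Matsusaka**: the pigeonhole argument. -/
theorem zariski_matsusaka
    (hsc : ∀ α : M, IsSeparable 𝔎 α → α ∈ 𝔎)
    (hind : AlgebraicIndependent 𝔎 ![ξ, u])
    (hfg : (⊤ : IntermediateField k M).FG)
    (A : Set M) (hA : A.Infinite) (hAk : A ⊆ 𝔎)
    (σ : M → (M ≃ₐ[k] M))
    (hσ1 : ∀ a ∈ A, ∀ z ∈ X, σ a z ∈ 𝔎)
    (hσ2 : ∀ a ∈ A, ∀ z ∈ X, (σ a).symm z ∈ 𝔎)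
    (hσξ : ∀ a ∈ A, σ a ξ = ξ + a * u)
    (α : M) (hα : IsSeparable (IntermediateField.adjoin k (X ∪ {ξ})) α) :
    α ∈ IntermediateField.adjoin k (X ∪ {ξ}) := by
  classical
  by_contra hαn
  have hKle : ∀ T : Set M, 𝔎 ≤ IntermediateField.adjoin k (X ∪ T) := fun T =>
    adjoin.mono k _ _ Set.subset_union_left
  -- (Z1) the automorphism `σ a` maps `k'(ξ)` onto `k'(ξ + a u)`
  have hZ1a : ∀ a ∈ A, ∀ z ∈ IntermediateField.adjoin k (X ∪ {ξ}), σ a z ∈ 𝔏[a] := by
    intro a ha
    apply map_mem_of_forall_mem (σ a : M →ₐ[k] M)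
    rintro w (hw | hw)
    · exact hKle _ (hσ1 a ha w hw)
    · rw [Set.mem_singleton_iff] at hw
      rw [hw]
      show σ a ξ ∈ _
      rw [hσξ a ha]
      exact subset_adjoin k _ (Or.inr rfl)
  have hZ1b : ∀ a ∈ A, ∀ z ∈ 𝔏[a], (σ a).symm z ∈ IntermediateField.adjoin k (X ∪ {ξ}) := by
    intro a ha
    apply map_mem_of_forall_mem ((σ a).symm : M →ₐ[k] M)
    rintro w (hw | hw)
    · exact hKle _ (hσ2 a ha w hw)
    · rw [Set.mem_singleton_iff] at hw
      rw [hw]
      show (σ a).symm (ξ + a * u) ∈ _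
      rw [← hσξ a ha, AlgEquiv.symm_apply_apply]
      exact subset_adjoin k _ (Or.inr rfl)
  -- (Z2) the conjugates of `α`
  have hsepa : ∀ a ∈ A, IsSeparable 𝔏[a] (σ a α) := by
    intro a ha
    exact isSeparable_transfer ((σ a : M ≃ₐ[k] M) : M →+* M)
      (fun e₁ => ⟨⟨σ a e₁, hZ1a a ha e₁ e₁.2⟩, rfl⟩) hα
  have hnota : ∀ a ∈ A, σ a α ∉ 𝔏[a] := by
    intro a ha hmem
    apply hαn
    have h1 := hZ1b a ha _ hmem
    rwa [AlgEquiv.symm_apply_apply] at h1
  -- (Z3) finiteness and the pigeonhole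
  have hLN : ∀ a ∈ A, 𝔏[a] ≤ 𝔑 := by
    intro a ha
    rw [adjoin_le_iff]
    rintro w (hw | hw)
    · exact subset_adjoin k _ (Or.inl hw)
    · rw [Set.mem_singleton_iff] at hw
      rw [hw]
      have hξ : ξ ∈ 𝔑 := subset_adjoin k _ (Or.inr (Or.inl rfl))
      have hu : u ∈ 𝔑 := subset_adjoin k _ (Or.inr (Or.inr rfl))
      have haN : a ∈ 𝔑 := hKle _ (hAk ha)
      exact add_mem hξ (mul_mem haN hu)
  haveI hfin : FiniteDimensional 𝔑 (separableClosure 𝔑 M) :=
    finiteDimensional_separableClosure_of_fg (fg_top_of_tower hfg 𝔑)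
  haveI : Finite (IntermediateField 𝔑 (separableClosure 𝔑 M)) :=
    Field.finite_intermediateField_of_exists_primitive_element 𝔑 (separableClosure 𝔑 M)
      (Field.exists_primitive_element 𝔑 (separableClosure 𝔑 M))
  have hmemsc : ∀ a : A, σ a α ∈ separableClosure 𝔑 M := by
    intro a
    rw [mem_separableClosure_iff]
    exact isSeparable_transfer (RingHom.id M)
      (fun e₁ => ⟨⟨e₁, hLN a a.2 e₁.2⟩, rfl⟩) (hsepa a a.2)
  haveI : Infinite A := hA.to_subtype
  obtain ⟨a, b, hab, hM⟩ := Finite.exists_ne_map_eq_of_infinite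
    (fun a : A => IntermediateField.adjoin 𝔑
      {(⟨σ a α, hmemsc a⟩ : separableClosure 𝔑 M)})
  have hb_mem : σ b α ∈ IntermediateField.adjoin 𝔑 {σ a α} := by
    have h1 : (⟨σ b α, hmemsc b⟩ : separableClosure 𝔑 M) ∈
        IntermediateField.adjoin 𝔑 {(⟨σ a α, hmemsc a⟩ : separableClosure 𝔑 M)} := by
      rw [hM]
      exact mem_adjoin_simple_self _ _
    have h2 : (separableClosure 𝔑 M).val ⟨σ b α, hmemsc b⟩ ∈
        (IntermediateField.adjoin 𝔑 {(⟨σ a α, hmemsc a⟩ : separableClosure 𝔑 M)}).map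
          (separableClosure 𝔑 M).val := ⟨_, h1, rfl⟩
    rw [adjoin_map, Set.image_singleton] at h2
    exact h2
  have hb_mem' : σ b α ∈ IntermediateField.adjoin k (X ∪ {ξ, u} ∪ {σ a α}) := by
    have h3 : σ b α ∈ (IntermediateField.adjoin 𝔑 {σ a α}).restrictScalars k := hb_mem
    rwa [adjoin_adjoin_left] at h3
  -- (Z4) change of generators
  have hne : (a : M) - b ≠ 0 := sub_ne_zero.mpr (fun h => hab (Subtype.ext h))
  have hb_mem'' : σ b α ∈
      IntermediateField.adjoin k (X ∪ ({ξ + a * u, σ a α} ∪ {ξ + b * u})) := by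
    have hle : IntermediateField.adjoin k (X ∪ {ξ, u} ∪ {σ a α}) ≤
        IntermediateField.adjoin k (X ∪ ({ξ + a * u, σ a α} ∪ {ξ + b * u})) := by
      rw [adjoin_le_iff]
      have hXT : ∀ w ∈ X, w ∈ IntermediateField.adjoin k
          (X ∪ ({ξ + a * u, σ a α} ∪ {ξ + b * u})) := fun w hw => subset_adjoin k _ (Or.inl hw)
      have haT : (a : M) ∈ IntermediateField.adjoin k
          (X ∪ ({ξ + a * u, σ a α} ∪ {ξ + b * u})) := hKle _ (hAk a.2)
      have hbT : (b : M) ∈ IntermediateField.adjoin k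
          (X ∪ ({ξ + a * u, σ a α} ∪ {ξ + b * u})) := hKle _ (hAk b.2)
      have htaT : ξ + a * u ∈ IntermediateField.adjoin k
          (X ∪ ({ξ + a * u, σ a α} ∪ {ξ + b * u})) :=
        subset_adjoin k _ (Or.inr (Or.inl (Or.inl rfl)))
      have htbT : ξ + b * u ∈ IntermediateField.adjoin k
          (X ∪ ({ξ + a * u, σ a α} ∪ {ξ + b * u})) :=
        subset_adjoin k _ (Or.inr (Or.inr rfl))
      have hαT : σ a α ∈ IntermediateField.adjoin k
          (X ∪ ({ξ + a * u, σ a α} ∪ {ξ + b * u})) :=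
        subset_adjoin k _ (Or.inr (Or.inl (Or.inr rfl)))
      have huT : u ∈ IntermediateField.adjoin k
          (X ∪ ({ξ + a * u, σ a α} ∪ {ξ + b * u})) := by
        have hu : u = ((a : M) - b)⁻¹ * ((ξ + a * u) - (ξ + b * u)) := by
          rw [eq_inv_mul_iff_mul_eq₀ hne]
          ring
        have h := mul_mem (inv_mem (sub_mem haT hbT)) (sub_mem htaT htbT)
        rw [← hu] at h
        exact h
      have hξT : ξ ∈ IntermediateField.adjoin k
          (X ∪ ({ξ + a * u, σ a α} ∪ {ξ + b * u})) := by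
        have hξ : ξ = (ξ + a * u) - a * u := by ring
        have h := sub_mem htaT (mul_mem haT huT)
        rw [← hξ] at h
        exact h
      rintro w ((hw | hw | hw) | hw)
      · exact hXT w hw
      · rw [hw]
        exact hξT
      · rw [Set.mem_singleton_iff] at hw
        rw [hw]
        exact huT
      · rw [Set.mem_singleton_iff] at hw
        rw [hw]
        exact hαT
    exact hle hb_mem'
  -- (Z5) apply the purely transcendental lemma over `F = k'(ξ + a u, σ_a α)`
  have hαa_alg : IsAlgebraic (IntermediateField.adjoin 𝔎 {ξ + (a : M) * u}) (σ a α) := by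
    have h1 : IsAlgebraic 𝔏[(a : M)] (σ a α) := (hsepa a a.2).isIntegral.isAlgebraic
    exact isAlgebraic_transfer
      (fun e₁ => ⟨⟨e₁, (mem_adjoin_adjoin_iff X _ _).mpr e₁.2⟩, rfl⟩) h1
  have hFalg : ∀ z ∈ IntermediateField.adjoin 𝔎 {ξ + (a : M) * u, σ a α},
      IsAlgebraic (IntermediateField.adjoin 𝔎 {ξ + (a : M) * u}) z := by
    have hle : IntermediateField.adjoin 𝔎 {ξ + (a : M) * u, σ a α} ≤
        (algebraicClosure (IntermediateField.adjoin 𝔎 {ξ + (a : M) * u}) M).restrictScalars 𝔎 := by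
      rw [adjoin_le_iff]
      rintro w (hw | hw)
      · rw [hw]
        exact mem_algebraicClosure_iff.mpr (isAlgebraic_algebraMap
          (⟨ξ + (a : M) * u, mem_adjoin_simple_self 𝔎 _⟩ :
            IntermediateField.adjoin 𝔎 {ξ + (a : M) * u}))
      · rw [Set.mem_singleton_iff] at hw
        rw [hw]
        exact mem_algebraicClosure_iff.mpr hαa_alg
    intro z hz
    exact mem_algebraicClosure_iff.mp (hle hz)
  have hab' : (⟨(a : M), hAk a.2⟩ : 𝔎) ≠ ⟨(b : M), hAk b.2⟩ := fun h =>
    hab (Subtype.ext (show (a : M) = (b : M) from congrArg (fun z : 𝔎 => (z : M)) h))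
  have hind_ab : AlgebraicIndependent 𝔎 ![ξ + (a : M) * u, ξ + (b : M) * u] :=
    algebraicIndependent_linear_change ξ u hind ⟨(a : M), hAk a.2⟩ ⟨(b : M), hAk b.2⟩ hab'
  have hy : AlgebraicIndependent (IntermediateField.adjoin 𝔎 {ξ + (a : M) * u, σ a α})
      (fun _ : Unit => ξ + (b : M) * u) :=
    algebraicIndependent_of_algebraic _ _ hind_ab _ hFalg
  have hscF : ∀ z : IntermediateField.adjoin 𝔎 {ξ + (a : M) * u, σ a α},
      IsSeparable 𝔎 z → z ∈ (algebraMap 𝔎
        (IntermediateField.adjoin 𝔎 {ξ + (a : M) * u, σ a α})).range := by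
    intro z hz
    have hmin := minpoly.algebraMap_eq (A := 𝔎)
      (algebraMap (IntermediateField.adjoin 𝔎 {ξ + (a : M) * u, σ a α}) M).injective z
    have h1 : IsSeparable 𝔎 (z : M) := by
      show (minpoly 𝔎 (algebraMap (IntermediateField.adjoin 𝔎 {ξ + (a : M) * u, σ a α})
        M z)).Separable
      rw [hmin]
      exact hz
    have hmem : (z : M) ∈ 𝔎 := hsc _ h1
    exact ⟨⟨(z : M), hmem⟩, Subtype.ext rfl⟩
  have hβ : σ b α ∈ IntermediateField.adjoin
      (IntermediateField.adjoin 𝔎 {ξ + (a : M) * u, σ a α})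
      (Set.range (fun _ : Unit => ξ + (b : M) * u)) := by
    rw [Set.range_const]
    have h1 : σ b α ∈ ((IntermediateField.adjoin
        (IntermediateField.adjoin 𝔎 {ξ + (a : M) * u, σ a α})
        {ξ + (b : M) * u}).restrictScalars 𝔎).restrictScalars k := by
      rw [adjoin_adjoin_left, adjoin_adjoin_left]
      exact hb_mem''
    exact h1
  have hsepb : IsSeparable (IntermediateField.adjoin 𝔎
      (Set.range (fun _ : Unit => ξ + (b : M) * u))) (σ b α) := by
    refine isSeparable_transfer (RingHom.id M) (fun e₁ => ⟨⟨e₁, ?_⟩, rfl⟩) (hsepa b b.2)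
    rw [Set.range_const]
    exact (mem_adjoin_adjoin_iff X _ _).mpr e₁.2
  have hfinal := mem_adjoin_of_isSeparable (k := 𝔎)
    (F := IntermediateField.adjoin 𝔎 {ξ + (a : M) * u, σ a α})
    (fun _ : Unit => ξ + (b : M) * u) hy hscF (σ b α) hβ hsepb
  rw [Set.range_const] at hfinal
  exact hnota b b.2 ((mem_adjoin_adjoin_iff X _ _).mp hfinal)

end ZM

end Groth.Agent.Lib.Helper3.ZMCore
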