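import Mathlib
import Groth.Agent.Lib.Helper4.GI2Alg2
import Groth.Agent.Lib.Helper4.GI2Field1

/-!
# Geometric irreducibility of field extensions and separable closedness
(helper library for S7200)

For a field extension `M / L`: `Spec M → Spec L` is geometrically irreducible if and only if
`L` is separably closed in `M`.
-/

set_option autoImplicit false
universe u

namespace Groth.Agent.Lib.Helper3.ZMGeomIrr

open TensorProduct Polynomial
open Groth.Agent.Lib.Helper4.GI2Alg1 Groth.Agent.Lib.Helper4.GI2Alg2
  Groth.Agent.Lib.Helper4.GIDom1 Groth.Agent.Lib.Helper4.GI2Field1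

/-! ### geometrically irreducible ⇒ separably closed -/

theorem mem_range_of_geomIrrAlg {k K : Type u} [Field k] [Field K] [Algebra k K]
    (h : GeomIrrAlg k K) (α : K) (hα : IsSeparable k α) : α ∈ (algebraMap k K).range := by
  let E : IntermediateField k K := IntermediateField.adjoin k {α}
  haveI hfd0 : FiniteDimensional k E := IntermediateField.adjoin.finiteDimensional hα.isIntegral
  haveI hfd : FiniteDimensional k (IF E) := IF.finiteDimensional E
  haveI hsepE0 : Algebra.IsSeparable k E :=
    (IntermediateField.isSeparable_adjoin_simple_iff_isSeparable k K).mpr hα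
  haveI hsepE : Algebra.IsSeparable k (IF E) := hsepE0
  haveI h1 : IrreducibleSpace (PrimeSpectrum (IF E ⊗[k] K)) := h (IF E)
  haveI h2 : IrreducibleSpace (PrimeSpectrum (K ⊗[k] IF E)) :=
    irreducibleSpace_of_ringEquiv (Algebra.TensorProduct.comm k (IF E) K).toRingEquiv
  haveI : Algebra.FormallyUnramified k (IF E) := Algebra.FormallyUnramified.of_isSeparable k (IF E)
  haveI hred : IsReduced (K ⊗[k] IF E) :=
    Algebra.FormallyUnramified.isReduced_of_field K (K ⊗[k] IF E)
  have hprime : (nilradical (K ⊗[k] IF E)).IsPrime :=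
    PrimeSpectrum.irreducibleSpace_iff_isPrime_nilradical.mp h2
  have hnzd : ∀ x y : K ⊗[k] IF E, x * y = 0 → x = 0 ∨ y = 0 := by
    intro x y hxy
    have hmem : x * y ∈ nilradical (K ⊗[k] IF E) := by
      rw [hxy]
      exact Ideal.zero_mem _
    rcases hprime.mem_or_mem hmem with hx | hy
    · exact Or.inl (IsNilpotent.eq_zero (mem_nilradical.mp hx))
    · exact Or.inr (IsNilpotent.eq_zero (mem_nilradical.mp hy))
  let μ' : K ⊗[k] IF E →ₐ[K] K :=
    Algebra.TensorProduct.lift (AlgHom.id K K) (IsScalarTower.toAlgHom k (IF E) K)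
      (fun _ _ => Commute.all _ _)
  haveI : Nontrivial (K ⊗[k] IF E) := μ'.toRingHom.domain_nontrivial
  haveI : NoZeroDivisors (K ⊗[k] IF E) := ⟨fun {x y} hxy => hnzd x y hxy⟩
  haveI : IsDomain (K ⊗[k] IF E) := NoZeroDivisors.to_isDomain (K ⊗[k] IF E)
  have hF : IsField (K ⊗[k] IF E) :=
    (Algebra.IsIntegral.isField_iff_isField (R := K) (S := K ⊗[k] IF E)
      (algebraMap K (K ⊗[k] IF E)).injective).mp (Field.toIsField K)
  have hinj : Function.Injective μ' := by
    rw [injective_iff_map_eq_zero]
    intro x hx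
    by_contra hne
    obtain ⟨y, hy⟩ := hF.mul_inv_cancel hne
    have h1 : μ' (x * y) = 1 := (congrArg μ' hy).trans (map_one μ')
    have h2 : μ' (x * y) = 0 := by
      rw [map_mul, hx, zero_mul]
    exact zero_ne_one (h2.symm.trans h1)
  have hrank : Module.finrank K (K ⊗[k] IF E) ≤ Module.finrank K K :=
    LinearMap.finrank_le_finrank_of_injective (f := μ'.toLinearMap) hinj
  rw [Module.finrank_baseChange, Module.finrank_self] at hrank
  have hpos : 0 < Module.finrank k (IF E) := Module.finrank_pos
  have h1' : Module.finrank k (IF E) = 1 := le_antisymm hrank hpos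
  have h1'' : Module.finrank k E = 1 := h1'
  have hbot : E = ⊥ := IntermediateField.finrank_eq_one_iff.mp h1''
  have hαE : α ∈ E := IntermediateField.mem_adjoin_simple_self k α
  rw [hbot, IntermediateField.mem_bot] at hαE
  obtain ⟨c, hc⟩ := hαE
  exact ⟨c, hc⟩

/-! ### separably closed ⇒ geometrically irreducible -/

theorem isSeparable_coeff_of_dvd {L M : Type*} [Field L] [Field M] [Algebra L M]
    (f : L[X]) (hf : f.Separable) (g : M[X]) (hg : g.Monic)
    (hdvd : g ∣ f.map (algebraMap L M)) (i : ℕ) : IsSeparable L (g.coeff i) := by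
  let Cl := AlgebraicClosure M
  have hsplit : (g.map (algebraMap M Cl)).Splits := IsAlgClosed.splits _
  have hmonic : (g.map (algebraMap M Cl)).Monic := hg.map _
  have hprod := hsplit.eq_prod_roots_of_monic hmonic
  have hroots : ∀ r ∈ (g.map (algebraMap M Cl)).roots, r ∈ separableClosure L Cl := by
    intro r hr
    have hr0 : (g.map (algebraMap M Cl)).IsRoot r := (Polynomial.mem_roots'.mp hr).2
    have hfr : Polynomial.aeval r f = 0 := by
      obtain ⟨h', hh'⟩ := hdvd
      have hmm : (f.map (algebraMap L M)).map (algebraMap M Cl) =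
          g.map (algebraMap M Cl) * h'.map (algebraMap M Cl) := by
        rw [hh', Polynomial.map_mul]
      rw [Polynomial.aeval_def, ← Polynomial.eval_map, IsScalarTower.algebraMap_eq L M Cl,
        ← Polynomial.map_map, hmm, Polynomial.eval_mul, hr0.eq_zero, zero_mul]
    exact mem_separableClosure_iff.mpr (hf.of_dvd (minpoly.dvd L r hfr))
  have hlift : g.map (algebraMap M Cl) ∈
      Polynomial.lifts (algebraMap (separableClosure L Cl) Cl) := by
    rw [hprod]
    refine Subsemiring.multiset_prod_mem _ _ ?_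
    intro t ht
    obtain ⟨r, hr, rfl⟩ := Multiset.mem_map.mp ht
    rw [Polynomial.mem_lifts]
    refine ⟨X - C ⟨r, hroots r hr⟩, ?_⟩
    rw [Polynomial.map_sub, Polynomial.map_X, Polynomial.map_C]
    rfl
  obtain ⟨s, hs⟩ := (Polynomial.lifts_iff_coeff_lifts _).mp hlift i
  rw [Polynomial.coeff_map] at hs
  have hsepC : IsSeparable L (algebraMap M Cl (g.coeff i)) := by
    rw [← hs]
    exact mem_separableClosure_iff.mp s.2
  have hmin := minpoly.algebraMap_eq (A := L) (algebraMap M Cl).injective (g.coeff i)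
  show (minpoly L (g.coeff i)).Separable
  rw [← hmin]
  exact hsepC

theorem irreducible_map_of_sepClosed {L M : Type*} [Field L] [Field M] [Algebra L M]
    (hsc : ∀ α : M, IsSeparable L α → α ∈ (algebraMap L M).range)
    (f : L[X]) (hfm : f.Monic) (hfi : Irreducible f) (hfs : f.Separable) :
    Irreducible (f.map (algebraMap L M)) := by
  have hFm : (f.map (algebraMap L M)).Monic := hfm.map _
  rw [hFm.irreducible_iff_natDegree]
  have hf' := (hfm.irreducible_iff_natDegree).mp hfi
  refine ⟨?_, ?_⟩
  · intro h1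
    apply hf'.1
    exact Polynomial.map_injective _ (algebraMap L M).injective (by rw [h1, Polynomial.map_one])
  · intro g h hg hh hgh
    have key : ∀ g' : M[X], g'.Monic → g' ∣ f.map (algebraMap L M) →
        ∃ g₀ : L[X], g₀.map (algebraMap L M) = g' ∧ g₀.natDegree = g'.natDegree ∧ g₀.Monic := by
      intro g' hg' hdvd
      apply Polynomial.lifts_and_natDegree_eq_and_monic _ hg'
      rw [Polynomial.lifts_iff_coeff_lifts]
      intro n
      obtain ⟨c, hc⟩ := hsc _ (isSeparable_coeff_of_dvd f hfs g' hg' hdvd n)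
      exact ⟨c, hc⟩
    obtain ⟨g₀, hg₀, hg₀d, hg₀m⟩ := key g hg ⟨h, hgh.symm⟩
    obtain ⟨h₀, hh₀, hh₀d, hh₀m⟩ := key h hh ⟨g, by rw [mul_comm]; exact hgh.symm⟩
    have hprod : g₀ * h₀ = f := by
      apply Polynomial.map_injective _ (algebraMap L M).injective
      rw [Polynomial.map_mul, hg₀, hh₀, hgh]
    rcases hf'.2 g₀ h₀ hg₀m hh₀m hprod with h0 | h0
    · left
      rw [← hg₀d]
      exact h0
    · right
      rw [← hh₀d]
      exact h0

theorem isDomain_tensor_of_sepClosed {L M : Type u} [Field L] [Field M] [Algebra L M]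
    (hsc : ∀ α : M, IsSeparable L α → α ∈ (algebraMap L M).range)
    (E' : Type u) [Field E'] [Algebra L E'] [FiniteDimensional L E'] [Algebra.IsSeparable L E'] :
    IsDomain (E' ⊗[L] M) := by
  obtain ⟨θ, hθ⟩ := Field.exists_primitive_element L E'
  have hint : IsIntegral L θ := Algebra.IsIntegral.isIntegral θ
  have hfirr : Irreducible ((minpoly L θ).map (algebraMap L M)) :=
    irreducible_map_of_sepClosed hsc (minpoly L θ) (minpoly.monic hint) (minpoly.irreducible hint)
      (Algebra.IsSeparable.isSeparable L θ)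
  let e1 : AdjoinRoot (minpoly L θ) ≃ₐ[L] E' :=
    (IntermediateField.adjoinRootEquivAdjoin L hint).trans
      ((IntermediateField.equivOfEq hθ).trans IntermediateField.topEquiv)
  let q : (M ⊗[L] L)[X] :=
    (minpoly L θ).map (Algebra.TensorProduct.includeRight : L →ₐ[L] M ⊗[L] L).toRingHom
  let e2 : M ⊗[L] AdjoinRoot (minpoly L θ) ≃ₐ[M] AdjoinRoot q :=
    AdjoinRoot.tensorAlgEquiv (minpoly L θ) q rfl
  let ρ : (M ⊗[L] L)[X] ≃+* M[X] :=
    Polynomial.mapEquiv (Algebra.TensorProduct.rid L M M).toRingEquiv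
  have hρq : ρ q = (minpoly L θ).map (algebraMap L M) := by
    show Polynomial.map _ (Polynomial.map _ (minpoly L θ)) = _
    rw [Polynomial.map_map]
    congr 1
    ext c
    simp [Algebra.algebraMap_eq_smul_one]
  have hqprime : Prime q := by
    have hiff := MulEquiv.prime_iff (M := (M ⊗[L] L)[X]) (N := M[X]) (p := q) ρ.toMulEquiv
    refine hiff.mp ?_
    show Prime (ρ q)
    rw [hρq]
    exact hfirr.prime
  haveI : IsDomain (AdjoinRoot q) := AdjoinRoot.isDomain_of_prime hqprime
  let e3 : E' ⊗[L] M ≃ₐ[L] M ⊗[L] E' := Algebra.TensorProduct.comm L E' M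
  let e4 : M ⊗[L] E' ≃ₐ[L] M ⊗[L] AdjoinRoot (minpoly L θ) :=
    Algebra.TensorProduct.congr (AlgEquiv.refl : M ≃ₐ[L] M) e1.symm
  exact MulEquiv.isDomain (AdjoinRoot q)
    (e3.toMulEquiv.trans (e4.toMulEquiv.trans e2.toMulEquiv))

theorem geomIrrAlg_of_sepClosed {L M : Type u} [Field L] [Field M] [Algebra L M]
    (hsc : ∀ α : M, IsSeparable L α → α ∈ (algebraMap L M).range) : GeomIrrAlg L M := by
  classical
  apply GeomIrrAlg.descend (k' := SeparableClosure L)
  have hfin : ∀ E : IntermediateField L (SeparableClosure L), FiniteDimensional L E →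
      IsDomain (IF E ⊗[L] M) := by
    intro E hE
    haveI : FiniteDimensional L (IF E) := hE
    haveI : Algebra.IsSeparable L (IF E) := inferInstanceAs (Algebra.IsSeparable L E)
    exact isDomain_tensor_of_sepClosed hsc (IF E)
  haveI : Nontrivial (SeparableClosure L ⊗[L] M) := by
    haveI := hfin ⊥ inferInstance
    exact (jA_injective (K := L) (SeparableClosure L) M
      (IF (⊥ : IntermediateField L (SeparableClosure L)))).nontrivial
  haveI : NoZeroDivisors (SeparableClosure L ⊗[L] M) := by
    refine ⟨fun {x y} hxy => ?_⟩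
    obtain ⟨E, hE, hmem⟩ :=
      exists_finite_forall_mem_range (K := L) (SeparableClosure L) M {x, y}
    haveI := hfin E hE
    obtain ⟨x', hx'⟩ := (AlgHom.mem_range _).mp (hmem x (by simp))
    obtain ⟨y', hy'⟩ := (AlgHom.mem_range _).mp (hmem y (by simp))
    have h0 : jA (SeparableClosure L) M (IF E) (x' * y') = 0 := by
      rw [map_mul, hx', hy', hxy]
    have h1 : x' * y' = 0 :=
      jA_injective (SeparableClosure L) M (IF E) (by rw [h0, map_zero])
    rcases mul_eq_zero.mp h1 with h | h
    · left
      rw [← hx', h, map_zero]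
    · right
      rw [← hy', h, map_zero]
  haveI : IsDomain (SeparableClosure L ⊗[L] M) := NoZeroDivisors.to_isDomain (SeparableClosure L ⊗[L] M)
  exact geomIrrAlg_of_isSepClosed (SeparableClosure L) _

/-! ### scheme-level statements -/

open AlgebraicGeometry CategoryTheory in
theorem geometricallyIrreducible_of_sepClosed {L M : Type u} [Field L] [Field M] [Algebra L M]
    (hsc : ∀ α : M, IsSeparable L α → α ∈ (algebraMap L M).range) :
    GeometricallyIrreducible (Spec.map (CommRingCat.ofHom (algebraMap L M))) :=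
  (geomIrrAlg_iff L M).mp (geomIrrAlg_of_sepClosed hsc)

open AlgebraicGeometry CategoryTheory in
theorem mem_range_of_geometricallyIrreducible {k K : Type u} [Field k] [Field K] [Algebra k K]
    [h : GeometricallyIrreducible (Spec.map (CommRingCat.ofHom (algebraMap k K)))]
    (α : K) (hα : IsSeparable k α) : α ∈ (algebraMap k K).range :=
  mem_range_of_geomIrrAlg ((geomIrrAlg_iff k K).mpr h) α hα

end Groth.Agent.Lib.Helper3.ZMGeomIrr
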