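import Mathlib
import Groth.Agent.Lib.Helper3.ZMSepP
import Groth.Agent.Lib.Helper3.ZMGeomIrr
import Groth.Agent.Lib.Helper3.ZMFinite
import Groth.Agent.Lib.Helper3.ZMCore

/-!
# Bertini irreducibility for the generic linear section: the field-theoretic core
(helper library for S7200)
-/

set_option autoImplicit false
universe u

namespace Groth.Agent.Lib.Helper3.ZMMain

open IntermediateField
open Groth.Agent.Lib.Helper3

section Auto

open MvPolynomial

variable {K : Type u} [Field K] {n : ℕ} (cK : Fin n → K)

/-- the substitution `x_i ↦ x_i + c_i * pw` -/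
noncomputable def transl (pw : MvPolynomial (Fin n) K) :
    MvPolynomial (Fin n) K →ₐ[K] MvPolynomial (Fin n) K :=
  aeval (fun i => X i + C (cK i) * pw)

theorem transl_X (pw : MvPolynomial (Fin n) K) (i : Fin n) :
    transl cK pw (X i) = X i + C (cK i) * pw := by
  unfold transl
  rw [aeval_X]

theorem transl_C (pw : MvPolynomial (Fin n) K) (r : K) : transl cK pw (C r) = C r := by
  unfold transl
  rw [aeval_C, MvPolynomial.algebraMap_eq]

/-- the linear form `c_{i0} x_{j0} - c_{j0} x_{i0}` -/
noncomputable def lin (i0 j0 : Fin n) : MvPolynomial (Fin n) K :=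
  C (cK i0) * X j0 - C (cK j0) * X i0

theorem transl_lin (pw : MvPolynomial (Fin n) K) (i0 j0 : Fin n) :
    transl cK pw (lin cK i0 j0) = lin cK i0 j0 := by
  unfold lin
  rw [map_sub, map_mul, map_mul, transl_X, transl_X, transl_C, transl_C]
  ring

theorem transl_pow_lin (pw : MvPolynomial (Fin n) K) (i0 j0 : Fin n) (j : ℕ) :
    transl cK pw ((lin cK i0 j0) ^ j) = (lin cK i0 j0) ^ j := by
  rw [map_pow, transl_lin]

theorem transl_comp (p q : MvPolynomial (Fin n) K) (hq : transl cK q p = p) :
    (transl cK q).comp (transl cK p) = transl cK (q + p) := by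
  apply MvPolynomial.algHom_ext
  intro i
  rw [AlgHom.comp_apply, transl_X, map_add, map_mul, transl_X, transl_C, hq, transl_X]
  ring

theorem transl_zero : transl cK (0 : MvPolynomial (Fin n) K) = AlgHom.id K _ := by
  apply MvPolynomial.algHom_ext
  intro i
  rw [transl_X, mul_zero, add_zero, AlgHom.id_apply]

/-- the automorphism `x_i ↦ x_i + c_i ℓ^j` -/
noncomputable def translEquiv (i0 j0 : Fin n) (j : ℕ) :
    MvPolynomial (Fin n) K ≃ₐ[K] MvPolynomial (Fin n) K :=
  AlgEquiv.ofAlgHom (transl cK ((lin cK i0 j0) ^ j)) (transl cK (-(lin cK i0 j0) ^ j))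
    (by
      rw [transl_comp cK _ _ (by rw [map_neg, transl_pow_lin]), add_neg_cancel, transl_zero])
    (by
      rw [transl_comp cK _ _ (transl_pow_lin cK _ i0 j0 j), neg_add_cancel, transl_zero])

theorem translEquiv_X (i0 j0 : Fin n) (j : ℕ) (i : Fin n) :
    translEquiv cK i0 j0 j (X i) = X i + C (cK i) * (lin cK i0 j0) ^ j :=
  transl_X cK _ i

theorem translEquiv_symm_X (i0 j0 : Fin n) (j : ℕ) (i : Fin n) :
    (translEquiv cK i0 j0 j).symm (X i) = X i + C (cK i) * (-(lin cK i0 j0) ^ j) :=
  transl_X cK _ i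

theorem lin_pow_injective (i0 j0 : Fin n) (hij : j0 ≠ i0) (h0 : cK i0 ≠ 0) :
    Function.Injective (fun j : ℕ => (lin cK i0 j0) ^ j) := by
  let ev : MvPolynomial (Fin n) K →ₐ[K] Polynomial K :=
    aeval (fun i => if i = j0 then Polynomial.C (cK i0)⁻¹ * Polynomial.X else 0)
  have hev : ev (lin cK i0 j0) = Polynomial.X := by
    unfold lin
    rw [map_sub, map_mul, map_mul]
    show aeval _ (C (cK i0)) * aeval _ (X j0) - aeval _ (C (cK j0)) * aeval _ (X i0) = _
    rw [aeval_X, aeval_X, aeval_C, if_pos rfl, if_neg (Ne.symm hij), mul_zero, sub_zero,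
      ← Polynomial.C_eq_algebraMap, ← mul_assoc, ← Polynomial.C_mul, mul_inv_cancel₀ h0,
      Polynomial.C_1, one_mul]
  intro a b hab
  have hab' : (lin cK i0 j0) ^ a = (lin cK i0 j0) ^ b := hab
  have h := congrArg ev hab'
  rw [map_pow, map_pow, hev] at h
  have h2 := congrArg Polynomial.natDegree h
  rwa [Polynomial.natDegree_X_pow, Polynomial.natDegree_X_pow] at h2

end Auto

section Frac

variable {k K : Type u} [Field k] [Field K] [Algebra k K] (n : ℕ)

theorem algebraicIndependent_X_frac :
    AlgebraicIndependent K (fun i : Fin n => algebraMap (MvPolynomial (Fin n) K)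
      (FractionRing (MvPolynomial (Fin n) K)) (MvPolynomial.X i)) :=
  (MvPolynomial.algebraicIndependent_X (Fin n) K).map'
    (f := IsScalarTower.toAlgHom K (MvPolynomial (Fin n) K)
      (FractionRing (MvPolynomial (Fin n) K)))
    (IsFractionRing.injective (MvPolynomial (Fin n) K) (FractionRing (MvPolynomial (Fin n) K)))

theorem algebraMap_eq_aeval (p : MvPolynomial (Fin n) K) :
    algebraMap (MvPolynomial (Fin n) K) (FractionRing (MvPolynomial (Fin n) K)) p =
      MvPolynomial.aeval (fun i : Fin n => algebraMap (MvPolynomial (Fin n) K)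
        (FractionRing (MvPolynomial (Fin n) K)) (MvPolynomial.X i)) p := by
  have h := MvPolynomial.aeval_unique (IsScalarTower.toAlgHom K (MvPolynomial (Fin n) K)
    (FractionRing (MvPolynomial (Fin n) K)))
  exact congrArg (fun φ => φ p) h

theorem mem_adjoin_X_frac (β : FractionRing (MvPolynomial (Fin n) K)) :
    β ∈ IntermediateField.adjoin K (Set.range (fun i : Fin n =>
      algebraMap (MvPolynomial (Fin n) K) (FractionRing (MvPolynomial (Fin n) K))
        (MvPolynomial.X i))) := by
  obtain ⟨r, s, -, rfl⟩ := IsFractionRing.div_surjective (MvPolynomial (Fin n) K) β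
  rw [IntermediateField.mem_adjoin_range_iff]
  exact ⟨r, s, by rw [algebraMap_eq_aeval (K := K) n r, algebraMap_eq_aeval (K := K) n s]⟩

theorem fg_frac (hfg : (⊤ : IntermediateField k K).FG) :
    (⊤ : IntermediateField k (FractionRing (MvPolynomial (Fin n) K))).FG := by
  classical
  obtain ⟨S, hS⟩ := hfg
  refine ⟨S.image (algebraMap K (FractionRing (MvPolynomial (Fin n) K))) ∪
    Finset.univ.image (fun i : Fin n => algebraMap (MvPolynomial (Fin n) K)
      (FractionRing (MvPolynomial (Fin n) K)) (MvPolynomial.X i)), ?_⟩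
  have hcoe : ((S.image (algebraMap K (FractionRing (MvPolynomial (Fin n) K))) ∪
      Finset.univ.image (fun i : Fin n => algebraMap (MvPolynomial (Fin n) K)
        (FractionRing (MvPolynomial (Fin n) K)) (MvPolynomial.X i)) :
        Finset (FractionRing (MvPolynomial (Fin n) K))) :
        Set (FractionRing (MvPolynomial (Fin n) K))) =
      algebraMap K (FractionRing (MvPolynomial (Fin n) K)) '' (S : Set K) ∪
        Set.range (fun i : Fin n => algebraMap (MvPolynomial (Fin n) K)
          (FractionRing (MvPolynomial (Fin n) K)) (MvPolynomial.X i)) := by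
    rw [Finset.coe_union, Finset.coe_image, Finset.coe_image, Finset.coe_univ, Set.image_univ]
  rw [hcoe, eq_top_iff]
  intro β _
  have hK : ∀ r : K, algebraMap K (FractionRing (MvPolynomial (Fin n) K)) r ∈
      IntermediateField.adjoin k
        (algebraMap K (FractionRing (MvPolynomial (Fin n) K)) '' (S : Set K) ∪
        Set.range (fun i : Fin n => algebraMap (MvPolynomial (Fin n) K)
          (FractionRing (MvPolynomial (Fin n) K)) (MvPolynomial.X i))) := by
    have hle : (⊤ : IntermediateField k K) ≤
        (IntermediateField.adjoin k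
          (algebraMap K (FractionRing (MvPolynomial (Fin n) K)) '' (S : Set K) ∪
          Set.range (fun i : Fin n => algebraMap (MvPolynomial (Fin n) K)
            (FractionRing (MvPolynomial (Fin n) K)) (MvPolynomial.X i)))).comap
          (IsScalarTower.toAlgHom k K (FractionRing (MvPolynomial (Fin n) K))) := by
      rw [← hS, adjoin_le_iff]
      intro s hs
      exact subset_adjoin k _ (Or.inl ⟨s, hs, rfl⟩)
    intro r
    exact hle IntermediateField.mem_top
  have hX : ∀ i : Fin n, algebraMap (MvPolynomial (Fin n) K)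
      (FractionRing (MvPolynomial (Fin n) K)) (MvPolynomial.X i) ∈
      IntermediateField.adjoin k
        (algebraMap K (FractionRing (MvPolynomial (Fin n) K)) '' (S : Set K) ∪
        Set.range (fun i : Fin n => algebraMap (MvPolynomial (Fin n) K)
          (FractionRing (MvPolynomial (Fin n) K)) (MvPolynomial.X i))) :=
    fun i => subset_adjoin k _ (Or.inr ⟨i, rfl⟩)
  have hpoly : ∀ p : MvPolynomial (Fin n) K,
      MvPolynomial.aeval (fun i : Fin n => algebraMap (MvPolynomial (Fin n) K)
        (FractionRing (MvPolynomial (Fin n) K)) (MvPolynomial.X i)) p ∈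
      IntermediateField.adjoin k
        (algebraMap K (FractionRing (MvPolynomial (Fin n) K)) '' (S : Set K) ∪
        Set.range (fun i : Fin n => algebraMap (MvPolynomial (Fin n) K)
          (FractionRing (MvPolynomial (Fin n) K)) (MvPolynomial.X i))) := by
    intro p
    rw [MvPolynomial.aeval_def, MvPolynomial.eval₂_eq]
    exact sum_mem fun d _ => mul_mem (hK _) (prod_mem fun i _ => pow_mem (hX i) _)
  obtain ⟨r, s, hrs⟩ := (IntermediateField.mem_adjoin_range_iff K _ β).mp
    (mem_adjoin_X_frac (K := K) n β)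
  rw [hrs]
  exact div_mem (hpoly r) (hpoly s)

end Frac

section Pair

open scoped IntermediateField.algebraAdjoinAdjoin

theorem algebraicIndependent_pair {k Q : Type*} [Field k] [Field Q] [Algebra k Q] {ι : Type*}
    (x : ι → Q) (ξ u : Q) (hind : AlgebraicIndependent k (Sum.elim x ![ξ, u])) :
    AlgebraicIndependent (IntermediateField.adjoin k (Set.range x)) ![ξ, u] := by
  have h1 : AlgebraicIndependent k (Sum.elim ![ξ, u] x) := by
    have h0 := hind.comp Sum.swap Sum.swap_leftInverse.injective
    have h2 : (Sum.elim x ![ξ, u]) ∘ Sum.swap = Sum.elim ![ξ, u] x := by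
      funext s
      rcases s with s | s <;> rfl
    rwa [h2] at h0
  have h3 := (AlgebraicIndependent.sumElim_iff.mp h1).2
  exact h3.extendScalars (IntermediateField.adjoin k (Set.range x))

end Pair

section Main

open MvPolynomial

/-- The field-theoretic core of Bertini's irreducibility theorem for the generic linear
section. -/
theorem main {k K : Type u} [Field k] [Field K] [Algebra k K]
    (hfg : (⊤ : IntermediateField k K).FG)
    [AlgebraicGeometry.GeometricallyIrreducible
      (AlgebraicGeometry.Spec.map (CommRingCat.ofHom (algebraMap k K)))]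
    (m : ℕ) (g : Fin (m + 1) → K) (c : Fin (m + 1) → k)
    (x : Fin (m + 1) → FractionRing (MvPolynomial (Fin (m + 1)) K))
    (ξ u : FractionRing (MvPolynomial (Fin (m + 1)) K))
    (hx : x = fun i => algebraMap (MvPolynomial (Fin (m + 1)) K)
      (FractionRing (MvPolynomial (Fin (m + 1)) K)) (MvPolynomial.X i))
    (hξ : ξ = ∑ i, algebraMap K (FractionRing (MvPolynomial (Fin (m + 1)) K)) (g i) * x i)
    (hu : u = algebraMap K (FractionRing (MvPolynomial (Fin (m + 1)) K)) (∑ i, c i • g i))
    (hind : AlgebraicIndependent k (Sum.elim x ![ξ, u])) :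
    AlgebraicGeometry.GeometricallyIrreducible (AlgebraicGeometry.Spec.map (CommRingCat.ofHom
      (algebraMap ↥(IntermediateField.adjoin k (Set.range x ∪ {ξ}))
        (FractionRing (MvPolynomial (Fin (m + 1)) K))))) := by
  classical
  -- `k` is separably closed in `K`, hence `k(x)` is separably closed in `K(x)`
  have hscK : ∀ α : K, IsSeparable k α → α ∈ (algebraMap k K).range := fun α hα =>
    ZMGeomIrr.mem_range_of_geometricallyIrreducible α hα
  have hxind : AlgebraicIndependent K x := by
    rw [hx]
    exact algebraicIndependent_X_frac (m + 1)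
  have htop : ∀ β : FractionRing (MvPolynomial (Fin (m + 1)) K),
      β ∈ IntermediateField.adjoin K (Set.range x) := by
    rw [hx]
    exact mem_adjoin_X_frac (m + 1)
  have hscKp : ∀ α : FractionRing (MvPolynomial (Fin (m + 1)) K),
      IsSeparable (IntermediateField.adjoin k (Set.range x)) α →
        α ∈ IntermediateField.adjoin k (Set.range x) := fun α hα =>
    ZMSepP.mem_adjoin_of_isSeparable x hxind hscK α (htop α) hα
  have hind' := algebraicIndependent_pair x ξ u hind
  have hfgQ := fg_frac (k := k) (K := K) (m + 1) hfg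
  -- `c ≠ 0`
  have hu0 : u ≠ 0 := hind.ne_zero (Sum.inr 1)
  obtain ⟨i0, hi0⟩ : ∃ i0, c i0 ≠ 0 := by
    by_contra hcon
    push Not at hcon
    apply hu0
    rw [hu]
    have h0 : ∑ i, c i • g i = 0 := Finset.sum_eq_zero (fun i _ => by rw [hcon i, zero_smul])
    rw [h0, map_zero]
  -- there are at least two variables
  obtain ⟨j0, hj0⟩ : ∃ j0, j0 ≠ i0 := by
    by_contra hcon
    push Not at hcon
    haveI : Subsingleton (Fin (m + 1)) := ⟨fun a b => (hcon a).trans (hcon b).symm⟩
    have hξ' : ξ = algebraMap K (FractionRing (MvPolynomial (Fin (m + 1)) K)) (g i0) * x i0 := by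
      rw [hξ]
      exact Fintype.sum_subsingleton _ i0
    have hu' : u = algebraMap k (FractionRing (MvPolynomial (Fin (m + 1)) K)) (c i0) *
        algebraMap K (FractionRing (MvPolynomial (Fin (m + 1)) K)) (g i0) := by
      rw [hu, Fintype.sum_subsingleton _ i0, Algebra.smul_def, map_mul,
        ← IsScalarTower.algebraMap_apply]
    have hp0 : MvPolynomial.aeval (Sum.elim x ![ξ, u])
        (C (c i0) * X (Sum.inr 0) - X (Sum.inl i0) * X (Sum.inr 1) :
          MvPolynomial (Fin (m + 1) ⊕ Fin 2) k) = 0 := by
      rw [map_sub, map_mul, map_mul, aeval_C, aeval_X, aeval_X, aeval_X]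
      show algebraMap k (FractionRing (MvPolynomial (Fin (m + 1)) K)) (c i0) * ξ - x i0 * u = 0
      rw [hξ', hu']
      ring
    have hpz : (C (c i0) * X (Sum.inr 0) - X (Sum.inl i0) * X (Sum.inr 1) :
          MvPolynomial (Fin (m + 1) ⊕ Fin 2) k) = 0 := hind (by rw [hp0, map_zero])
    have hev : MvPolynomial.eval (Sum.elim (fun _ : Fin (m + 1) => (0 : k)) ![1, 0])
        (C (c i0) * X (Sum.inr 0) - X (Sum.inl i0) * X (Sum.inr 1) :
          MvPolynomial (Fin (m + 1) ⊕ Fin 2) k) = c i0 := by
      rw [map_sub, map_mul, map_mul, eval_C, eval_X, eval_X, eval_X]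
      show c i0 * 1 - 0 * 0 = c i0
      ring
    rw [hpz, map_zero] at hev
    exact hi0 hev.symm
  -- the automorphisms
  have hcK0 : algebraMap k K (c i0) ≠ 0 := (map_ne_zero (algebraMap k K)).mpr hi0
  have hCc : ∀ i, algebraMap (MvPolynomial (Fin (m + 1)) K)
      (FractionRing (MvPolynomial (Fin (m + 1)) K)) (C (algebraMap k K (c i))) =
      algebraMap k (FractionRing (MvPolynomial (Fin (m + 1)) K)) (c i) := by
    intro i
    rw [← MvPolynomial.algebraMap_eq, ← IsScalarTower.algebraMap_apply K
      (MvPolynomial (Fin (m + 1)) K) (FractionRing (MvPolynomial (Fin (m + 1)) K)),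
      ← IsScalarTower.algebraMap_apply k K (FractionRing (MvPolynomial (Fin (m + 1)) K))]
  obtain ⟨aj, haj⟩ : ∃ aj : ℕ → FractionRing (MvPolynomial (Fin (m + 1)) K),
      aj = fun j => algebraMap (MvPolynomial (Fin (m + 1)) K)
        (FractionRing (MvPolynomial (Fin (m + 1)) K))
        ((lin (fun i => algebraMap k K (c i)) i0 j0) ^ j) := ⟨_, rfl⟩
  have hajinj : Function.Injective aj := by
    rw [haj]
    exact (IsFractionRing.injective (MvPolynomial (Fin (m + 1)) K)
      (FractionRing (MvPolynomial (Fin (m + 1)) K))).comp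
      (lin_pow_injective (fun i => algebraMap k K (c i)) i0 j0 hj0 hcK0)
  have hAinf : (Set.range aj).Infinite := Set.infinite_range_of_injective hajinj
  have hxmem : ∀ i, x i ∈ IntermediateField.adjoin k (Set.range x) := fun i =>
    subset_adjoin k _ ⟨i, rfl⟩
  have hajmem : ∀ j, aj j ∈ IntermediateField.adjoin k (Set.range x) := by
    intro j
    rw [haj]
    show algebraMap (MvPolynomial (Fin (m + 1)) K) (FractionRing (MvPolynomial (Fin (m + 1)) K))
      ((lin (fun i => algebraMap k K (c i)) i0 j0) ^ j) ∈ _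
    rw [map_pow]
    refine pow_mem ?_ j
    unfold lin
    rw [map_sub, map_mul, map_mul, hCc, hCc]
    have hxi : ∀ i, algebraMap (MvPolynomial (Fin (m + 1)) K)
        (FractionRing (MvPolynomial (Fin (m + 1)) K)) (X i) = x i := by
      intro i
      rw [hx]
    rw [hxi, hxi]
    exact sub_mem (mul_mem (IntermediateField.algebraMap_mem _ _) (hxmem j0)) (mul_mem (IntermediateField.algebraMap_mem _ _) (hxmem i0))
  obtain ⟨σj, hσj⟩ : ∃ σj : ℕ → (FractionRing (MvPolynomial (Fin (m + 1)) K) ≃ₐ[k]
      FractionRing (MvPolynomial (Fin (m + 1)) K)),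
      σj = fun j => (IsFractionRing.algEquivOfAlgEquiv
        (K := FractionRing (MvPolynomial (Fin (m + 1)) K))
        (L := FractionRing (MvPolynomial (Fin (m + 1)) K))
        (translEquiv (fun i => algebraMap k K (c i)) i0 j0 j)).restrictScalars k := ⟨_, rfl⟩
  have hσx : ∀ j i, σj j (x i) =
      x i + algebraMap k (FractionRing (MvPolynomial (Fin (m + 1)) K)) (c i) * aj j := by
    intro j i
    rw [hσj, haj, hx]
    show IsFractionRing.algEquivOfAlgEquiv
      (translEquiv (fun i => algebraMap k K (c i)) i0 j0 j)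
      (algebraMap (MvPolynomial (Fin (m + 1)) K) (FractionRing (MvPolynomial (Fin (m + 1)) K))
        (X i)) = _
    rw [IsFractionRing.algEquivOfAlgEquiv_algebraMap, translEquiv_X, map_add, map_mul, hCc]
  have hσsx : ∀ j i, (σj j).symm (x i) =
      x i - algebraMap k (FractionRing (MvPolynomial (Fin (m + 1)) K)) (c i) * aj j := by
    intro j i
    rw [hσj, haj, hx]
    show IsFractionRing.algEquivOfAlgEquiv
      (translEquiv (fun i => algebraMap k K (c i)) i0 j0 j).symm
      (algebraMap (MvPolynomial (Fin (m + 1)) K) (FractionRing (MvPolynomial (Fin (m + 1)) K))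
        (X i)) = _
    rw [IsFractionRing.algEquivOfAlgEquiv_algebraMap, translEquiv_symm_X, map_add, map_mul, hCc,
      map_neg, mul_neg, ← sub_eq_add_neg]
  have hσK : ∀ j (r : K), σj j (algebraMap K (FractionRing (MvPolynomial (Fin (m + 1)) K)) r) =
      algebraMap K (FractionRing (MvPolynomial (Fin (m + 1)) K)) r := by
    intro j r
    rw [hσj]
    exact (IsFractionRing.algEquivOfAlgEquiv
      (K := FractionRing (MvPolynomial (Fin (m + 1)) K))
      (L := FractionRing (MvPolynomial (Fin (m + 1)) K))
      (translEquiv (fun i => algebraMap k K (c i)) i0 j0 j)).commutes r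
  have huexp : u = ∑ i, algebraMap k (FractionRing (MvPolynomial (Fin (m + 1)) K)) (c i) *
      algebraMap K (FractionRing (MvPolynomial (Fin (m + 1)) K)) (g i) := by
    rw [hu, map_sum]
    refine Finset.sum_congr rfl fun i _ => ?_
    rw [Algebra.smul_def, map_mul, ← IsScalarTower.algebraMap_apply k K
      (FractionRing (MvPolynomial (Fin (m + 1)) K))]
  have hσξ : ∀ j, σj j ξ = ξ + aj j * u := by
    intro j
    rw [hξ, map_sum, huexp, Finset.mul_sum, ← Finset.sum_add_distrib]
    refine Finset.sum_congr rfl fun i _ => ?_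
    rw [map_mul, hσK, hσx]
    ring
  -- the family of automorphisms indexed by elements of the ambient field
  let σ' : FractionRing (MvPolynomial (Fin (m + 1)) K) →
      (FractionRing (MvPolynomial (Fin (m + 1)) K) ≃ₐ[k]
        FractionRing (MvPolynomial (Fin (m + 1)) K)) := fun a =>
    if h : ∃ j, aj j = a then σj (Classical.choose h) else AlgEquiv.refl
  have hσ' : ∀ a ∈ Set.range aj, ∃ j, aj j = a ∧ σ' a = σj j := by
    rintro a ⟨j, rfl⟩
    have hex : ∃ j', aj j' = aj j := ⟨j, rfl⟩
    exact ⟨Classical.choose hex, Classical.choose_spec hex, dif_pos hex⟩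
  -- conclusion
  apply ZMGeomIrr.geometricallyIrreducible_of_sepClosed
  intro α hα
  have hmem := ZMCore.zariski_matsusaka (Set.range x) ξ u hscKp hind' hfgQ (Set.range aj) hAinf
    (by
      rintro _ ⟨j, rfl⟩
      exact hajmem j)
    σ'
    (by
      rintro a ha _ ⟨i, rfl⟩
      obtain ⟨j, hja, hσa⟩ := hσ' a ha
      rw [hσa, hσx]
      exact add_mem (hxmem i) (mul_mem (IntermediateField.algebraMap_mem _ _) (hajmem j)))
    (by
      rintro a ha _ ⟨i, rfl⟩
      obtain ⟨j, hja, hσa⟩ := hσ' a ha
      rw [hσa, hσsx]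
      exact sub_mem (hxmem i) (mul_mem (IntermediateField.algebraMap_mem _ _) (hajmem j)))
    (by
      intro a ha
      obtain ⟨j, hja, hσa⟩ := hσ' a ha
      rw [hσa, hσξ, hja])
    α hα
  exact ⟨⟨α, hmem⟩, rfl⟩

end Main

end Groth.Agent.Lib.Helper3.ZMMain
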