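import Mathlib

/-!
# Zig-zag filtration on the cohomology of an augmented double complex of abelian groups

`Dbl` is an augmented double complex of abelian groups, indexed by (column, total degree).
Given a presentation of a group `H` as the cohomology of the augmentation column, we define the
filtration `G p` of `H` by the classes admitting a zig-zag of length `p`, and show that its graded
pieces are subquotients of any group `T` presented as the `E₂`-term.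
-/

set_option autoImplicit false
universe u

namespace Groth.Agent.Helper3.ZZ

/-- an augmented double complex of abelian groups, indexed by (column, total degree) -/
structure Dbl where
  A : ℤ → Type u
  X : ℕ → ℤ → Type u
  [instA : ∀ i, AddCommGroup (A i)]
  [instX : ∀ p i, AddCommGroup (X p i)]
  dA : ∀ i, A i →+ A (i + 1)
  dv : ∀ p i, X p i →+ X p (i + 1)
  dh : ∀ p i, X p i →+ X (p + 1) (i + 1)
  ε : ∀ i, A i →+ X 0 i
  dv_dv : ∀ p i (x : X p i), dv p (i + 1) (dv p i x) = 0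
  dh_dh : ∀ p i (x : X p i), dh (p + 1) (i + 1) (dh p i x) = 0
  dv_dh : ∀ p i (x : X p i), dh p (i + 1) (dv p i x) = dv (p + 1) (i + 1) (dh p i x)
  ε_dA : ∀ i (s : A i), ε (i + 1) (dA i s) = dv 0 i (ε i s)
  dh_ε : ∀ i (s : A i), dh 0 i (ε i s) = 0

attribute [instance] Dbl.instA Dbl.instX

section Lin

/-- two quotients of a module presented by the same kernel are isomorphic -/
theorem subquot_iso {R M H T : Type*} [Ring R] [AddCommGroup M] [Module R M] [AddCommGroup H]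
    [Module R H] [AddCommGroup T] [Module R T]
    (f : M →ₗ[R] H) (g : M →ₗ[R] T) (G' : Submodule R H) (S : Submodule R T)
    (h : G'.comap f = S.comap g) :
    Nonempty ((↥(LinearMap.range f) ⧸ G'.comap (LinearMap.range f).subtype) ≃ₗ[R]
      (↥(LinearMap.range g) ⧸ S.comap (LinearMap.range g).subtype)) := by
  let F : M →ₗ[R] (↥(LinearMap.range f) ⧸ G'.comap (LinearMap.range f).subtype) :=
    (Submodule.mkQ (G'.comap (LinearMap.range f).subtype)).comp f.rangeRestrict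
  let Gm : M →ₗ[R] (↥(LinearMap.range g) ⧸ S.comap (LinearMap.range g).subtype) :=
    (Submodule.mkQ (S.comap (LinearMap.range g).subtype)).comp g.rangeRestrict
  have hF : Function.Surjective F :=
    (Submodule.mkQ_surjective _).comp f.surjective_rangeRestrict
  have hG : Function.Surjective Gm :=
    (Submodule.mkQ_surjective _).comp g.surjective_rangeRestrict
  have kF : LinearMap.ker F = G'.comap f := by
    ext x
    simp only [F, LinearMap.mem_ker, LinearMap.comp_apply, Submodule.mkQ_apply,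
      Submodule.Quotient.mk_eq_zero, Submodule.mem_comap, Submodule.subtype_apply]
    rfl
  have kG : LinearMap.ker Gm = S.comap g := by
    ext x
    simp only [Gm, LinearMap.mem_ker, LinearMap.comp_apply, Submodule.mkQ_apply,
      Submodule.Quotient.mk_eq_zero, Submodule.mem_comap, Submodule.subtype_apply]
    rfl
  exact ⟨(F.quotKerEquivOfSurjective hF).symm ≪≫ₗ
    Submodule.quotEquivOfEq _ _ (by rw [kF, kG, h]) ≪≫ₗ Gm.quotKerEquivOfSurjective hG⟩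

end Lin

variable (D : Dbl.{u}) (i₀ : ℤ)

/-- `R p s z`: `z` is a stage-`p` representative of `s` -/
def R : (p : ℕ) → D.A (i₀ + 1 + 1) → D.X p (i₀ + 1 + 1) → Prop
  | 0, s, z => z = D.ε (i₀ + 1 + 1) s
  | p + 1, s, z' => ∃ v : D.X p (i₀ + 1), R p s (D.dv p (i₀ + 1) v) ∧ D.dh p (i₀ + 1) v = z'

/-- boundaries coming from the previous column -/
def Bw : (p : ℕ) → D.X p (i₀ + 1 + 1) → Prop
  | 0, b => b = 0
  | p + 1, b => ∃ w : D.X p (i₀ + 1), D.dv p (i₀ + 1) w = 0 ∧ D.dh p (i₀ + 1) w = b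

variable {D i₀}

lemma R_zero_iff (s : D.A (i₀ + 1 + 1)) (z : D.X 0 (i₀ + 1 + 1)) :
    R D i₀ 0 s z ↔ z = D.ε (i₀ + 1 + 1) s := Iff.rfl

lemma R_succ_iff (p : ℕ) (s : D.A (i₀ + 1 + 1)) (z' : D.X (p + 1) (i₀ + 1 + 1)) :
    R D i₀ (p + 1) s z' ↔
      ∃ v : D.X p (i₀ + 1), R D i₀ p s (D.dv p (i₀ + 1) v) ∧ D.dh p (i₀ + 1) v = z' := Iff.rfl

lemma R_zero' : ∀ p : ℕ, R D i₀ p 0 0
  | 0 => by rw [R_zero_iff, map_zero]
  | p + 1 => ⟨0, by rw [map_zero]; exact R_zero' p, map_zero _⟩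

lemma R_add : ∀ (p : ℕ) {s s' : D.A (i₀ + 1 + 1)} {z z' : D.X p (i₀ + 1 + 1)},
    R D i₀ p s z → R D i₀ p s' z' → R D i₀ p (s + s') (z + z')
  | 0, s, s', z, z', h, h' => by
      rw [R_zero_iff] at h h' ⊢
      rw [h, h', map_add]
  | p + 1, s, s', z, z', ⟨v, hv, e⟩, ⟨v', hv', e'⟩ =>
      ⟨v + v', by rw [map_add]; exact R_add p hv hv', by rw [map_add, e, e']⟩

lemma R_neg : ∀ (p : ℕ) {s : D.A (i₀ + 1 + 1)} {z : D.X p (i₀ + 1 + 1)},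
    R D i₀ p s z → R D i₀ p (-s) (-z)
  | 0, s, z, h => by
      rw [R_zero_iff] at h ⊢
      rw [h, map_neg]
  | p + 1, s, z, ⟨v, hv, e⟩ => ⟨-v, by rw [map_neg]; exact R_neg p hv, by rw [map_neg, e]⟩

lemma R_sub (p : ℕ) {s s' : D.A (i₀ + 1 + 1)} {z z' : D.X p (i₀ + 1 + 1)}
    (h : R D i₀ p s z) (h' : R D i₀ p s' z') : R D i₀ p (s - s') (z - z') := by
  rw [sub_eq_add_neg, sub_eq_add_neg]
  exact R_add p h (R_neg p h')

lemma R_closed : ∀ (p : ℕ) {s : D.A (i₀ + 1 + 1)} {z : D.X p (i₀ + 1 + 1)},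
    D.dA (i₀ + 1 + 1) s = 0 → R D i₀ p s z →
      D.dv p (i₀ + 1 + 1) z = 0 ∧ D.dh p (i₀ + 1 + 1) z = 0
  | 0, s, z, hs, h => by
      rw [R_zero_iff] at h
      subst h
      exact ⟨by rw [← D.ε_dA, hs, map_zero], D.dh_ε _ _⟩
  | p + 1, s, z, hs, ⟨v, hv, e⟩ => by
      subst e
      exact ⟨by rw [← D.dv_dh, (R_closed p hs hv).2], D.dh_dh _ _ _⟩

lemma R_cob : ∀ (p : ℕ) (r : D.A (i₀ + 1)) {y : D.X (p + 1) (i₀ + 1 + 1)},
    R D i₀ (p + 1) (D.dA (i₀ + 1) r) y → R D i₀ (p + 1) 0 y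
  | 0, r, y, ⟨v, hv, e⟩ => by
      rw [R_zero_iff] at hv
      refine ⟨v - D.ε (i₀ + 1) r, ?_, ?_⟩
      · rw [R_zero_iff, map_sub, hv, D.ε_dA, sub_self, map_zero]
      · rw [map_sub, D.dh_ε, sub_zero, e]
  | p + 1, r, y, ⟨v, hv, e⟩ => ⟨v, R_cob p r hv, e⟩

lemma R_of_Bw : ∀ (p : ℕ) {b : D.X p (i₀ + 1 + 1)}, Bw D i₀ p b → R D i₀ p 0 b
  | 0, b, h => by
      rw [show b = 0 from h]
      exact R_zero' 0
  | p + 1, b, ⟨w, hw, e⟩ => ⟨w, by rw [hw]; exact R_zero' p, e⟩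

variable (D i₀)

/-- bi-cocycles in column `p` -/
def Zp (p : ℕ) : AddSubgroup (D.X p (i₀ + 1 + 1)) :=
  (D.dv p (i₀ + 1 + 1)).ker ⊓ (D.dh p (i₀ + 1 + 1)).ker

/-- pairs (cocycle, stage-`p` representative) -/
def RR (p : ℕ) : AddSubgroup (D.A (i₀ + 1 + 1) × D.X p (i₀ + 1 + 1)) where
  carrier := {x | D.dA (i₀ + 1 + 1) x.1 = 0 ∧ R D i₀ p x.1 x.2}
  zero_mem' := ⟨map_zero _, R_zero' p⟩
  add_mem' := fun {a b} ha hb =>
    ⟨by rw [Prod.fst_add, map_add, ha.1, hb.1, add_zero], R_add p ha.2 hb.2⟩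
  neg_mem' := fun {a} ha => ⟨by rw [Prod.fst_neg, map_neg, ha.1, neg_zero], R_neg p ha.2⟩

/-- a presentation of `H` as the cohomology of the augmentation column in degree `i₀ + 2` -/
structure Pres (H : Type u) [AddCommGroup H] where
  cls : (D.dA (i₀ + 1 + 1)).ker →+ H
  surj : Function.Surjective cls
  ker_iff : ∀ s, cls s = 0 ↔ ∃ r, D.dA (i₀ + 1) r = s.1

variable {D i₀}
variable {H : Type u} [AddCommGroup H] (P : Pres D i₀ H)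

/-- the class of the cocycle of a pair -/
def fAdd (p : ℕ) : ↥(RR D i₀ p) →+ H :=
  P.cls.comp (AddMonoidHom.codRestrict ((AddMonoidHom.fst _ _).comp (RR D i₀ p).subtype)
    (D.dA (i₀ + 1 + 1)).ker (fun x => AddMonoidHom.mem_ker.2 x.2.1))

lemma fAdd_apply (p : ℕ) (x : ↥(RR D i₀ p)) :
    fAdd P p x = P.cls ⟨x.1.1, AddMonoidHom.mem_ker.2 x.2.1⟩ := rfl

/-- the zig-zag filtration -/
def G (p : ℕ) : Submodule ℤ H := LinearMap.range (fAdd P p).toIntLinearMap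

lemma mem_G (p : ℕ) (ξ : H) : ξ ∈ G P p ↔ ∃ x : ↥(RR D i₀ p), fAdd P p x = ξ := Iff.rfl

theorem G_succ_le (p : ℕ) : G P (p + 1) ≤ G P p := by
  rintro ξ ⟨x, rfl⟩
  obtain ⟨v, hv, -⟩ := x.2.2
  exact ⟨⟨(x.1.1, D.dv p (i₀ + 1) v), ⟨x.2.1, hv⟩⟩, rfl⟩

theorem G_antitone : Antitone (G P) := antitone_nat_of_succ_le (G_succ_le P)

theorem G_zero : G P 0 = ⊤ := by
  rw [eq_top_iff]
  rintro ξ -
  obtain ⟨s, rfl⟩ := P.surj ξ
  exact ⟨⟨(s.1, D.ε (i₀ + 1 + 1) s.1), ⟨AddMonoidHom.mem_ker.1 s.2, rfl⟩⟩, rfl⟩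

theorem mem_G_one (ξ : H) : ξ ∈ G P 1 ↔
    ∃ s : (D.dA (i₀ + 1 + 1)).ker, P.cls s = ξ ∧
      ∃ v : D.X 0 (i₀ + 1), D.dv 0 (i₀ + 1) v = D.ε (i₀ + 1 + 1) s.1 := by
  constructor
  · rintro ⟨x, rfl⟩
    obtain ⟨v, hv, -⟩ := x.2.2
    exact ⟨⟨x.1.1, AddMonoidHom.mem_ker.2 x.2.1⟩, rfl, v, hv⟩
  · rintro ⟨s, rfl, v, hv⟩
    exact ⟨⟨(s.1, D.dh 0 (i₀ + 1) v), ⟨AddMonoidHom.mem_ker.1 s.2, ⟨v, hv, rfl⟩⟩⟩, rfl⟩

section Vanish

variable (hε : ∀ s : D.A (i₀ + 1 + 1), D.ε (i₀ + 1 + 1) s = 0 → s = 0)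
  (ex0 : ∀ x : D.X 0 (i₀ + 1), D.dh 0 (i₀ + 1) x = 0 → ∃ r, D.ε (i₀ + 1) r = x)
  (ex : ∀ (p : ℕ) (x : D.X (p + 1) (i₀ + 1)), D.dh (p + 1) (i₀ + 1) x = 0 →
    ∃ y : D.X p i₀, D.dh p i₀ y = x)

include hε ex0 ex in
lemma staircase : ∀ (p : ℕ) (s : D.A (i₀ + 1 + 1)) (v : D.X p (i₀ + 1)),
    R D i₀ p s (D.dv p (i₀ + 1) v) → D.dh p (i₀ + 1) v = 0 → ∃ r, D.dA (i₀ + 1) r = s
  | 0, s, v, hR, hv => by
      rw [R_zero_iff] at hR
      obtain ⟨r, rfl⟩ := ex0 v hv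
      refine ⟨r, ?_⟩
      have : D.ε (i₀ + 1 + 1) (D.dA (i₀ + 1) r - s) = 0 := by
        rw [map_sub, D.ε_dA, hR, sub_self]
      exact sub_eq_zero.1 (hε _ this)
  | p + 1, s, v', ⟨v, hv, e⟩, hv' => by
      obtain ⟨u, rfl⟩ := ex p v' hv'
      refine staircase p s (v - D.dv p i₀ u) ?_ ?_
      · rw [map_sub, D.dv_dv, sub_zero]
        exact hv
      · rw [map_sub, e, D.dv_dh, sub_self]

include hε ex0 ex in
theorem G_eq_bot (N : ℕ) (van : ∀ v : D.X N (i₀ + 1), v = 0) : G P (N + 1) = ⊥ := by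
  rw [eq_bot_iff]
  rintro ξ ⟨x, rfl⟩
  obtain ⟨v, hv, -⟩ := x.2.2
  obtain ⟨r, hr⟩ := staircase hε ex0 ex N x.1.1 v hv (by rw [van v, map_zero])
  rw [Submodule.mem_bot]
  change fAdd P (N + 1) x = 0
  rw [fAdd_apply]
  exact (P.ker_iff _).2 ⟨r, hr⟩

end Vanish

section Gr

variable (p : ℕ) {T : Type u} [AddCommGroup T] (τ : ↥(Zp D i₀ p) →+ T)

/-- the class of the representative of a pair -/
def gAdd : ↥(RR D i₀ p) →+ T :=
  τ.comp (AddMonoidHom.codRestrict ((AddMonoidHom.snd _ _).comp (RR D i₀ p).subtype)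
    (Zp D i₀ p) (fun x => ⟨AddMonoidHom.mem_ker.2 (R_closed p x.2.1 x.2.2).1,
      AddMonoidHom.mem_ker.2 (R_closed p x.2.1 x.2.2).2⟩))

lemma mem_Zp_of_R {s : D.A (i₀ + 1 + 1)} {z : D.X p (i₀ + 1 + 1)}
    (hs : D.dA (i₀ + 1 + 1) s = 0) (h : R D i₀ p s z) : z ∈ Zp D i₀ p :=
  ⟨AddMonoidHom.mem_ker.2 (R_closed p hs h).1, AddMonoidHom.mem_ker.2 (R_closed p hs h).2⟩

lemma gAdd_apply (x : ↥(RR D i₀ p)) :
    gAdd p τ x = τ ⟨x.1.2, mem_Zp_of_R p x.2.1 x.2.2⟩ := rfl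

lemma key_fwd : ∀ (p : ℕ) (τ : ↥(Zp D i₀ p) →+ T)
    (_ : ∀ (v : D.X p (i₀ + 1)) (h : D.dv p (i₀ + 1) v ∈ Zp D i₀ p), τ ⟨_, h⟩ = 0)
    (x : ↥(RR D i₀ p)) (x' : ↥(RR D i₀ (p + 1))) (_ : fAdd P (p + 1) x' = fAdd P p x),
    ∃ x₀ : ↥(RR D i₀ p), x₀.1.1 = 0 ∧ gAdd p τ x₀ = gAdd p τ x
  | 0, τ, τ1, x, x', hx' => by
      rw [fAdd_apply, fAdd_apply] at hx'
      obtain ⟨v, hv, -⟩ := x'.2.2
      have h0 : P.cls (⟨x.1.1, AddMonoidHom.mem_ker.2 x.2.1⟩ -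
          ⟨x'.1.1, AddMonoidHom.mem_ker.2 x'.2.1⟩) = 0 := by
        rw [map_sub, hx', sub_self]
      obtain ⟨r, hr⟩ := (P.ker_iff _).1 h0
      have hr' : D.dA (i₀ + 1) r = x.1.1 - x'.1.1 := hr
      have hR := R_sub 0 x.2.2 hv
      rw [← hr', R_zero_iff, D.ε_dA] at hR
      refine ⟨0, rfl, ?_⟩
      rw [map_zero, gAdd_apply]
      have hz : x.1.2 = D.dv 0 (i₀ + 1) (v + D.ε (i₀ + 1) r) := by
        rw [map_add, ← hR, add_sub_cancel]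
      have hmem : D.dv 0 (i₀ + 1) (v + D.ε (i₀ + 1) r) ∈ Zp D i₀ 0 := by
        rw [← hz]
        exact mem_Zp_of_R 0 x.2.1 x.2.2
      have := τ1 (v + D.ε (i₀ + 1) r) hmem
      rw [← this]
      congr 1
      exact Subtype.ext hz.symm
  | p' + 1, τ, τ1, x, x', hx' => by
      rw [fAdd_apply, fAdd_apply] at hx'
      obtain ⟨v, hv, -⟩ := x'.2.2
      have h0 : P.cls (⟨x.1.1, AddMonoidHom.mem_ker.2 x.2.1⟩ -
          ⟨x'.1.1, AddMonoidHom.mem_ker.2 x'.2.1⟩) = 0 := by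
        rw [map_sub, hx', sub_self]
      obtain ⟨r, hr⟩ := (P.ker_iff _).1 h0
      have hr' : D.dA (i₀ + 1) r = x.1.1 - x'.1.1 := hr
      have hR := R_sub (p' + 1) x.2.2 hv
      rw [← hr'] at hR
      have hvZ : D.dv (p' + 1) (i₀ + 1) v ∈ Zp D i₀ (p' + 1) := mem_Zp_of_R (p' + 1) x'.2.1 hv
      have hR' := R_cob p' r hR
      refine ⟨⟨(0, x.1.2 - D.dv (p' + 1) (i₀ + 1) v), ⟨map_zero _, hR'⟩⟩, rfl, ?_⟩
      rw [gAdd_apply, gAdd_apply]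
      have e : (⟨x.1.2 - D.dv (p' + 1) (i₀ + 1) v,
          mem_Zp_of_R (p' + 1) (map_zero _) hR'⟩ : ↥(Zp D i₀ (p' + 1))) =
          ⟨x.1.2, mem_Zp_of_R (p' + 1) x.2.1 x.2.2⟩ - ⟨D.dv (p' + 1) (i₀ + 1) v, hvZ⟩ := rfl
      rw [e, map_sub, τ1 v hvZ, sub_zero]

/-- the graded pieces of the zig-zag filtration are subquotients of `T` -/
theorem gr_iso
    (τ1 : ∀ (v : D.X p (i₀ + 1)) (h : D.dv p (i₀ + 1) v ∈ Zp D i₀ p), τ ⟨_, h⟩ = 0)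
    (τ2 : ∀ z : ↥(Zp D i₀ p), τ z = 0 →
      ∃ (b : D.X p (i₀ + 1 + 1)) (v : D.X p (i₀ + 1)), Bw D i₀ p b ∧ z.1 = b + D.dv p (i₀ + 1) v) :
    ∃ S S' : Submodule ℤ T, S ≤ S' ∧
      Nonempty ((↥(G P p) ⧸ (G P (p + 1)).comap (G P p).subtype) ≃ₗ[ℤ]
        (↥S' ⧸ S.comap S'.subtype)) := by
  let f := (fAdd P p).toIntLinearMap
  let g := (gAdd p τ).toIntLinearMap
  let R0 : Submodule ℤ ↥(RR D i₀ p) :=
    LinearMap.ker ((AddMonoidHom.fst _ _).comp (RR D i₀ p).subtype).toIntLinearMap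
  have hR0 : ∀ x : ↥(RR D i₀ p), x ∈ R0 ↔ x.1.1 = 0 := fun x => Iff.rfl
  refine ⟨Submodule.map g R0, LinearMap.range g, LinearMap.map_le_range, ?_⟩
  refine subquot_iso f g (G P (p + 1)) (Submodule.map g R0) ?_
  ext x
  rw [Submodule.mem_comap, Submodule.mem_comap, Submodule.mem_map]
  constructor
  · rintro ⟨x', hx'⟩
    obtain ⟨x₀, h1, h2⟩ := key_fwd P p τ τ1 x x' hx'
    exact ⟨x₀, (hR0 x₀).2 h1, h2⟩
  · rintro ⟨x₀, hx₀, hg⟩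
    rw [hR0] at hx₀
    change gAdd p τ x₀ = gAdd p τ x at hg
    rw [gAdd_apply, gAdd_apply] at hg
    have hR₀ := x₀.2.2
    rw [hx₀] at hR₀
    have hR := R_sub p x.2.2 hR₀
    rw [sub_zero] at hR
    have hτ : τ ⟨x.1.2 - x₀.1.2, mem_Zp_of_R p x.2.1 hR⟩ = 0 := by
      have e : (⟨x.1.2 - x₀.1.2, mem_Zp_of_R p x.2.1 hR⟩ : ↥(Zp D i₀ p)) =
          ⟨x.1.2, mem_Zp_of_R p x.2.1 x.2.2⟩ - ⟨x₀.1.2, mem_Zp_of_R p x₀.2.1 x₀.2.2⟩ := rfl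
      rw [e, map_sub, hg, sub_self]
    obtain ⟨b, v, hb, hz⟩ := τ2 _ hτ
    have hR2 := R_sub p hR (R_of_Bw p hb)
    rw [sub_zero] at hR2
    have hz' : x.1.2 - x₀.1.2 - b = D.dv p (i₀ + 1) v := by
      change x.1.2 - x₀.1.2 = b + D.dv p (i₀ + 1) v at hz
      rw [hz, add_sub_cancel_left]
    rw [hz'] at hR2
    exact ⟨⟨(x.1.1, D.dh p (i₀ + 1) v), ⟨x.2.1, ⟨v, hR2, rfl⟩⟩⟩, rfl⟩

end Gr

end Groth.Agent.Helper3.ZZ
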